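import Groth.Agent.ZetaAn.RingBound

/-! Points of arithmetic schemes with values in finite fields. -/

set_option autoImplicit false
set_option linter.style.haveILetI false

universe u

open CategoryTheory AlgebraicGeometry TopologicalSpace

namespace Groth.ZetaAn

lemma ringKrullDim_le_of_isAffineOpen {X : Scheme.{u}} {U : X.Opens} (hU : IsAffineOpen U)
    {r : ℕ} (hr : topologicalKrullDim X ≤ r) : ringKrullDim Γ(X, U) ≤ r := by
  rw [← PrimeSpectrum.topologicalKrullDim_eq_ringKrullDim]
  exact le_trans hU.fromSpec.isOpenEmbedding.isInducing.topologicalKrullDim_le hr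

lemma finiteType_sections {X : Scheme.{u}}
    (f : X ⟶ Spec (CommRingCat.of (ULift.{u} ℤ))) [LocallyOfFiniteType f] {U : X.Opens}
    (hU : IsAffineOpen U) : Algebra.FiniteType ℤ Γ(X, U) := by
  have h1 : (f.appLE ⊤ U le_top).hom.FiniteType :=
    LocallyOfFiniteType.finiteType_appLE f (isAffineOpen_top _) hU le_top
  let e : ℤ ≃+* Γ(Spec (CommRingCat.of (ULift.{u} ℤ)), ⊤) :=
    (ULift.ringEquiv.{0, u}.symm).trans
      (Scheme.ΓSpecIso (CommRingCat.of (ULift.{u} ℤ))).symm.commRingCatIsoToRingEquiv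
  have h2 := h1.comp (RingHom.FiniteType.of_surjective e.toRingHom e.surjective)
  rw [RingHom.ext_int (RingHom.comp _ e.toRingHom) (algebraMap ℤ Γ(X, U))] at h2
  exact RingHom.finiteType_algebraMap.1 h2

/-- Points of a scheme of finite type over `ℤ` of dimension at most `r` in finite fields. -/
theorem exists_pts_bound {X : Scheme.{u}}
    (f : X ⟶ Spec (CommRingCat.of (ULift.{u} ℤ))) [LocallyOfFiniteType f] [QuasiCompact f] (r : ℕ)
    (hr : topologicalKrullDim X ≤ r) :
    ∃ c M : ℕ, 0 < M ∧ ∀ (F : Type u) [Field F] [Finite F],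
      Finite (Spec (CommRingCat.of F) ⟶ X) ∧
      Nat.card (Spec (CommRingCat.of F) ⟶ X) ≤ c * Nat.card F ^ r ∧
      ((M : F) ≠ 0 →
        Nat.card (Spec (CommRingCat.of F) ⟶ X) * Nat.card F ≤ c * Nat.card F ^ r) := by
  classical
  have hcpt : IsCompact (Set.univ : Set X) := by
    have := f.isCompact_preimage (U := ⊤) (by
      rw [Opens.coe_top]; exact isCompact_univ)
    simpa using this
  have hloc : ∀ x : X, ∃ U : X.Opens, IsAffineOpen U ∧ x ∈ U := by
    intro x
    obtain ⟨_, ⟨U, hU, rfl⟩, hxU, -⟩ :=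
      X.isBasis_affineOpens.exists_subset_of_mem_open (Set.mem_univ x) isOpen_univ
    exact ⟨U, hU, hxU⟩
  choose W hW hxW using hloc
  obtain ⟨t, ht⟩ := hcpt.elim_finite_subcover (fun x => ((W x : X.Opens) : Set X)) (fun x => (W x).2)
    (fun x _ => Set.mem_iUnion.2 ⟨x, hxW x⟩)
  have hA : ∀ i : t, ∃ c M : ℕ, 0 < M ∧ ∀ (F : Type u) [Field F] [Finite F],
      Finite (Γ(X, W i) →+* F) ∧ Nat.card (Γ(X, W i) →+* F) ≤ c * Nat.card F ^ r ∧
        ((M : F) ≠ 0 → Nat.card (Γ(X, W i) →+* F) * Nat.card F ≤ c * Nat.card F ^ r) := fun i => by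
    haveI := finiteType_sections f (hW i)
    exact exists_ring_bound _ r (ringKrullDim_le_of_isAffineOpen (hW i) hr)
  choose c M hM hb using hA
  refine ⟨∑ i, c i, ∏ i, M i, Finset.prod_pos fun i _ => hM i, fun F _ _ => ?_⟩
  haveI := fun i => (hb i F).1
  let Φ : (Σ i : t, Γ(X, W i) →+* F) → (Spec (CommRingCat.of F) ⟶ X) := fun q =>
    Spec.map (CommRingCat.ofHom q.2) ≫ (hW q.1).fromSpec
  have hΦ : Function.Surjective Φ := by
    intro s
    obtain ⟨x, hxt, hx⟩ := Set.mem_iUnion₂.1 (ht (Set.mem_univ (s (IsLocalRing.closedPoint F))))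
    have hrange : Set.range s.base ⊆ Set.range (hW x).fromSpec.base := by
      rintro _ ⟨p, rfl⟩
      rw [(hW x).range_fromSpec, Subsingleton.elim p (IsLocalRing.closedPoint F)]
      exact hx
    refine ⟨⟨⟨x, hxt⟩, (Spec.preimage (IsOpenImmersion.lift (hW x).fromSpec s hrange)).hom⟩, ?_⟩
    simp only [Φ, CommRingCat.ofHom_hom, Spec.map_preimage]
    exact IsOpenImmersion.lift_fac _ _ _
  have hcard := Nat.card_le_card_of_surjective Φ hΦ
  rw [Nat.card_sigma] at hcard
  refine ⟨Finite.of_surjective Φ hΦ, hcard.trans ?_, fun hne => ?_⟩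
  · rw [Finset.sum_mul]
    exact Finset.sum_le_sum fun i _ => (hb i F).2.1
  · rw [Nat.cast_prod, Finset.prod_ne_zero_iff] at hne
    refine (Nat.mul_le_mul_right _ hcard).trans ?_
    rw [Finset.sum_mul, Finset.sum_mul]
    exact Finset.sum_le_sum fun i _ => (hb i F).2.2 (hne i (Finset.mem_univ i))

end Groth.ZetaAn

namespace Groth.ZetaAn

/-- The map from the spectrum of a finite field to the base. -/
noncomputable def toIntBase (k : Type u) [Field k] :
    Spec (CommRingCat.of k) ⟶ Spec (CommRingCat.of (ULift.{u} ℤ)) :=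
  Spec.map (CommRingCat.ofHom ((Int.castRingHom k).comp ULift.ringEquiv.{0, u}.toRingHom))

instance (k : Type u) [Field k] [Finite k] : LocallyOfFiniteType (toIntBase k) := by
  rw [toIntBase, HasRingHomProperty.Spec_iff (P := @LocallyOfFiniteType)]
  refine RingHom.FiniteType.comp ?_ (RingHom.FiniteType.of_surjective _ (RingEquiv.surjective _))
  have h : Module.Finite ℤ k := Module.Finite.of_finite
  haveI := h
  exact RingHom.finiteType_algebraMap.2 (inferInstance : Algebra.FiniteType ℤ k)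

end Groth.ZetaAn
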