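import Groth.Agent.Misc10.Weil.FrobPts
import Groth.Agent.ZetaAn.SchemeBound
import Groth.Prelude.Def_SgaExt
import Mathlib.FieldTheory.Finite.GaloisField

/-! Rational points over a finite extension are counted by closed points. -/

set_option autoImplicit false
set_option linter.style.haveILetI false

universe u

open AlgebraicGeometry CategoryTheory

namespace Groth.ZetaAn

variable {k : Type u} [Field k] [Finite k] {X : Scheme.{u}} (f : X ⟶ Spec (CommRingCat.of k))
  [LocallyOfFiniteType f]

include f in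
/-- Finitely many points in a finite field. -/
theorem finite_pts [QuasiCompact f] (F : Type u) [Field F] [Finite F] :
    Finite (Spec (CommRingCat.of F) ⟶ X) := by
  classical
  haveI : CompactSpace X := QuasiCompact.compactSpace_of_compactSpace f
  have hfin : ∀ U : X.affineOpens, Finite (Γ(X, U) →+* F) := by
    intro U
    haveI := finiteType_sections (f ≫ toIntBase k) U.2
    obtain ⟨n, a, ha⟩ := exists_fin_generators Γ(X, U.1)
    refine Finite.of_injective (fun φ : Γ(X, U) →+* F => fun i => φ (a i)) fun φ ψ h => ?_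
    exact RingHom.eq_of_eqOn_set_top fun x _ => RingHom.eqOn_set_closure
      (s := Set.range a) (by rintro _ ⟨i, rfl⟩; exact congrFun h i) (ha ▸ Subring.mem_top x)
  have hloc : ∀ x : X, ∃ U : X.affineOpens, x ∈ U.1 := fun x => by
    obtain ⟨_, ⟨U, hU, rfl⟩, hxU, -⟩ :=
      X.isBasis_affineOpens.exists_subset_of_mem_open (Set.mem_univ x) isOpen_univ
    exact ⟨⟨U, hU⟩, hxU⟩
  choose W hW using hloc
  obtain ⟨t, ht⟩ := (isCompact_univ (X := X)).elim_finite_subcover (fun x => ((W x).1 : Set X))
    (fun x => (W x).1.2) (fun x _ => Set.mem_iUnion.2 ⟨x, hW x⟩)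
  haveI := fun x : t => hfin (W x)
  refine Finite.of_surjective (fun p : Σ x : t, (Γ(X, (W x).1) →+* F) =>
    Spec.map (CommRingCat.ofHom p.2) ≫ (W p.1).2.fromSpec) fun g => ?_
  obtain ⟨x, hx, hgx⟩ := Set.mem_iUnion₂.1 (ht (Set.mem_univ (g (IsLocalRing.closedPoint F))))
  haveI := (W x).2.isOpenImmersion_fromSpec
  have hsub : Set.range g ⊆ Set.range (W x).2.fromSpec := by
    rw [(W x).2.range_fromSpec]
    rintro _ ⟨p, rfl⟩
    rwa [show p = IsLocalRing.closedPoint F from Subsingleton.elim _ _]
  let φ : CommRingCat.of Γ(X, (W x).1) ⟶ CommRingCat.of F :=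
    Spec.preimage (IsOpenImmersion.lift (W x).2.fromSpec g hsub)
  refine ⟨⟨⟨x, hx⟩, φ.hom⟩, ?_⟩
  show Spec.map φ ≫ _ = g
  rw [Spec.map_preimage]
  exact IsOpenImmersion.lift_fac _ _ _

theorem pointCount_eq_nPts [QuasiCompact f] (k' : Type u) [Field k'] [Algebra k k'] [Finite k'] :
    SgaExt.pointCount f k' = Zeta.nPts f (Module.finrank k k') := by
  classical
  haveI : Module.Finite k k' := Module.Finite.of_finite
  set m := Module.finrank k k' with hm'
  have hm : m ≠ 0 := Module.finrank_pos.ne'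
  let C := {x : X // IsClosed ({x} : Set X) ∧ EGA4loc.residueDegree f x ∣ m}
  let E : X → Type u := fun x => {ι : X.residueField x ⟶ CommRingCat.of k' //
    (∀ c, ι.hom (Groth.Variety2.Dim.resHom f x c) = algebraMap k k' c)}
  have key : ∀ (x : X), E x → IsClosed ({x} : Set X) ∧ EGA4loc.residueDegree f x ∣ m := by
    intro x ι
    have hQ : ∀ b, ι.1.hom b ^ Nat.card k' = ι.1.hom b := fun b => by
      haveI := Fintype.ofFinite k'
      rw [Nat.card_eq_fintype_card]
      exact FiniteField.pow_card _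
    refine ⟨(Groth.Misc10.FrobPts.finite_of_fixed f x ι.1.hom Finite.one_lt_card hQ).2, ?_⟩
    letI := (Groth.Variety2.Dim.resHom f x).toAlgebra
    letI : Algebra (X.residueField x) k' := ι.1.hom.toAlgebra
    haveI : IsScalarTower k (X.residueField x) k' :=
      IsScalarTower.of_algebraMap_eq fun c => (ι.2 c).symm
    rw [Groth.Misc10.FrobPts.residueDegree_eq_finrank]
    exact ⟨Module.finrank (X.residueField x) k', (Module.finrank_mul_finrank k (X.residueField x) k').symm⟩
  have hcard : ∀ x : C, Finite (E x.1) ∧ Nat.card (E x.1) = EGA4loc.residueDegree f x.1 := by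
    intro x
    letI := (Groth.Variety2.Dim.resHom f x.1).toAlgebra
    haveI := Groth.Misc10.FrobPts.finite_residueField_of_isClosed f x.2.1
    haveI : Module.Finite k (X.residueField x.1) := Module.Finite.of_finite
    let e : E x.1 ≃ (X.residueField x.1 →ₐ[k] k') :=
      { toFun := fun ι => AlgHom.mk ι.1.hom ι.2
        invFun := fun g => ⟨CommRingCat.ofHom g.toRingHom, g.commutes⟩
        left_inv := fun _ => rfl
        right_inv := fun _ => rfl }
    refine ⟨Finite.of_equiv _ e.symm, ?_⟩
    have hdvd := x.2.2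
    rw [Groth.Misc10.FrobPts.residueDegree_eq_finrank] at hdvd ⊢
    rw [Nat.card_congr e]
    refine le_antisymm (card_algHom_le_finrank k _ k') ?_
    obtain ⟨ι₀⟩ := FiniteField.nonempty_algHom_of_finrank_dvd (F := k) (K := X.residueField x.1) (L := k') hdvd
    rw [← IsGalois.card_aut_eq_finrank k (X.residueField x.1)]
    exact Nat.card_le_card_of_injective (fun σ : X.residueField x.1 ≃ₐ[k] X.residueField x.1 => ι₀.comp σ.toAlgHom)
      fun σ τ h => AlgEquiv.ext fun b => ι₀.toRingHom.injective (DFunLike.congr_fun h b)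
  have hmem : ∀ (x : X) (ι : X.residueField x ⟶ CommRingCat.of k'),
      (Spec.map ι ≫ X.fromSpecResidueField x) ≫ f = Spec.map (CommRingCat.ofHom (algebraMap k k')) ↔
        ∀ c, ι.hom (Groth.Variety2.Dim.resHom f x c) = algebraMap k k' c := by
    intro x ι
    rw [Category.assoc, ← Groth.Variety2.Dim.resHom_spec, ← Spec.map_comp, Spec.map_inj]
    exact ⟨fun h c => congrArg (fun g : CommRingCat.of k ⟶ CommRingCat.of k' => g c) h,
      fun h => CommRingCat.hom_ext (RingHom.ext h)⟩
  let e : { g : Spec (CommRingCat.of k') ⟶ X //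
      g ≫ f = Spec.map (CommRingCat.ofHom (algebraMap k k')) } ≃ Σ x : C, E x.1 :=
    { toFun := fun s =>
        have h := (hmem (Scheme.SpecToEquivOfField k' X s.1).1 (Scheme.SpecToEquivOfField k' X s.1).2).1 (by
          have := (Scheme.SpecToEquivOfField k' X).symm_apply_apply s.1
          rw [show Spec.map (Scheme.SpecToEquivOfField k' X s.1).2 ≫ X.fromSpecResidueField _ = s.1 from this]
          exact s.2)
        ⟨⟨_, key _ ⟨_, h⟩⟩, ⟨_, h⟩⟩
      invFun := fun p => ⟨(Scheme.SpecToEquivOfField k' X).symm ⟨p.1.1, p.2.1⟩, (hmem _ _).2 p.2.2⟩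
      left_inv := fun s => Subtype.ext ((Scheme.SpecToEquivOfField k' X).symm_apply_apply s.1)
      right_inv := fun p => by
        have h := (Scheme.SpecToEquivOfField k' X).apply_symm_apply ⟨p.1.1, p.2.1⟩
        have : ∀ (a b : Σ x : C, E x.1), (⟨a.1.1, a.2.1⟩ : Σ x : X, X.residueField x ⟶ CommRingCat.of k') = ⟨b.1.1, b.2.1⟩ → a = b := by
          rintro ⟨⟨a, ha⟩, ⟨i, hi⟩⟩ ⟨⟨b, hb⟩, ⟨j, hj⟩⟩ h
          simp only [Sigma.mk.injEq] at h
          obtain ⟨rfl, h⟩ := h
          cases h
          rfl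
        exact this _ _ h }
  rw [SgaExt.pointCount, Nat.card_congr e]
  rcases finite_or_infinite C with hC | hC
  · letI := Fintype.ofFinite C
    haveI := fun x : C => (hcard x).1
    rw [Nat.card_sigma, Zeta.nPts]
    simp only [(hcard _).2]
    rw [← Finset.sum_fiberwise_of_maps_to (g := fun x : C => EGA4loc.residueDegree f x.1) (t := m.divisors)
      fun x _ => Nat.mem_divisors.2 ⟨x.2.2, hm⟩]
    refine Finset.sum_congr rfl fun d hd => ?_
    rw [Finset.sum_congr rfl fun x hx => (Finset.mem_filter.1 hx).2, Finset.sum_const, smul_eq_mul, mul_comm]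
    congr 1
    rw [Zeta.degCount, ← Nat.card_eq_finsetCard]
    exact Nat.card_congr
      { toFun := fun x => ⟨x.1.1, x.1.2.1, (Finset.mem_filter.1 x.2).2⟩
        invFun := fun x => ⟨⟨x.1, x.2.1, by rw [x.2.2]; exact (Nat.mem_divisors.1 hd).1⟩, Finset.mem_filter.2 ⟨Finset.mem_univ _, x.2.2⟩⟩
        left_inv := fun _ => rfl
        right_inv := fun _ => rfl }
  · -- impossible for a scheme of finite type
    exfalso
    haveI := finite_pts f k'
    haveI : Finite (Σ x : C, E x.1) := Finite.of_equiv _ e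
    have hne : ∀ x : C, Nonempty (E x.1) := fun x => by
      haveI := Groth.Misc10.FrobPts.finite_residueField_of_isClosed f x.2.1
      refine (Nat.card_pos_iff.1 ((hcard x).2 ▸ Nat.pos_of_ne_zero fun h => hm ?_)).1
      exact Nat.eq_zero_of_zero_dvd (h ▸ x.2.2)
    haveI : Finite C := Finite.of_surjective (fun p : Σ x : C, E x.1 => p.1) fun x => ⟨⟨x, (hne x).some⟩, rfl⟩
    exact not_finite C

end Groth.ZetaAn
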