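import Mathlib
import Groth.Agent.S9612

/-! Points of finitely generated rings with values in finite fields: bounds by the dimension. -/

set_option autoImplicit false
set_option linter.style.haveILetI false

open MvPolynomial

namespace Groth.ZetaAn

/-- If every finite subset has at most `n` elements the type is finite with at most `n` elements. -/
lemma finite_and_card_le {α : Type*} (n : ℕ) (h : ∀ s : Finset α, s.card ≤ n) :
    Finite α ∧ Nat.card α ≤ n := by
  have hfin : Finite α := by
    by_contra hinf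
    rw [not_finite_iff_infinite] at hinf
    obtain ⟨s, hs⟩ := Infinite.exists_subset_card_eq α (n + 1)
    exact absurd (h s) (by omega)
  refine ⟨hfin, ?_⟩
  haveI := Fintype.ofFinite α
  simpa [Nat.card_eq_fintype_card] using h Finset.univ

/-- If the generators of a ring satisfy equations over `s` elements with leading coefficient `M`,
then the maps to a finite field in which `M` is invertible are few. -/
lemma card_ringHom_le {A : Type*} [CommRing A] {s n : ℕ} (η : Fin s → A) (a : Fin n → A)
    (hgen : Subring.closure (Set.range a) = ⊤) (M : ℕ) (d : Fin n → ℕ)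
    (c : ∀ j, Fin (d j) → MvPolynomial (Fin s) ℤ)
    (hrel : ∀ j, (M : A) * a j ^ d j + ∑ i, aeval η (c j i) * a j ^ (i : ℕ) = 0)
    (F : Type*) [Field F] [Finite F] :
    Finite {φ : A →+* F // (M : F) ≠ 0} ∧
      Nat.card {φ : A →+* F // (M : F) ≠ 0} ≤ (∏ j, d j) * Nat.card F ^ s := by
  classical
  haveI := Fintype.ofFinite F
  refine finite_and_card_le _ fun S => ?_
  rcases S.eq_empty_or_nonempty with rfl | ⟨⟨_, hM⟩, -⟩
  · simp
  let P : (Fin s → F) → ∀ j, Polynomial F := fun v j =>
    Polynomial.C (M : F) * Polynomial.X ^ d j +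
      ∑ i : Fin (d j), Polynomial.C (aeval v (c j i)) * Polynomial.X ^ (i : ℕ)
  have hlow : ∀ (v : Fin s → F) (j : Fin n), (∑ i : Fin (d j),
      Polynomial.C (aeval v (c j i)) * Polynomial.X ^ (i : ℕ)).degree < (d j : WithBot ℕ) := by
    intro v j
    refine lt_of_le_of_lt (Polynomial.degree_sum_le _ _) ?_
    refine (Finset.sup_lt_iff (WithBot.bot_lt_coe (d j))).2 fun i _ => ?_
    exact lt_of_le_of_lt (Polynomial.degree_C_mul_X_pow_le _ _) (WithBot.coe_lt_coe.2 i.2)
  have hdeg : ∀ (v : Fin s → F) (j : Fin n), (P v j).degree = (d j : WithBot ℕ) := fun v j => by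
    rw [Polynomial.degree_add_eq_left_of_degree_lt, Polynomial.degree_C_mul_X_pow _ hM]
    rw [Polynomial.degree_C_mul_X_pow _ hM]
    exact hlow v j
  have hne : ∀ (v : Fin s → F) (j : Fin n), P v j ≠ 0 := fun v j h => by
    have := hdeg v j
    rw [h, Polynomial.degree_zero] at this
    exact WithBot.bot_ne_coe this
  let T : (Fin s → F) → Finset (Fin n → F) := fun v => Fintype.piFinset fun j => (P v j).roots.toFinset
  have hT : ∀ v, (T v).card ≤ ∏ j, d j := fun v => by
    rw [Fintype.card_piFinset]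
    refine Finset.prod_le_prod' fun j _ => ?_
    refine le_trans (Multiset.toFinset_card_le _) ?_
    have := Polynomial.card_roots (hne v j)
    rw [hdeg v j] at this
    exact_mod_cast this
  let g : {φ : A →+* F // (M : F) ≠ 0} → (Fin s → F) × (Fin n → F) :=
    fun φ => (φ.1 ∘ η, φ.1 ∘ a)
  have hg : Function.Injective g := by
    intro φ ψ h
    apply Subtype.ext
    have h2 : Set.EqOn φ.1 ψ.1 (Set.range a) := by
      rintro _ ⟨j, rfl⟩
      exact congrFun (congrArg Prod.snd h) j
    ext x
    exact RingHom.eqOn_set_closure h2 (hgen ▸ Subring.mem_top x)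
  have hmem : ∀ φ ∈ S, g φ ∈ (Finset.univ ×ˢ Finset.univ).filter fun q => q.2 ∈ T q.1 := by
    intro φ _
    rw [Finset.mem_filter]
    refine ⟨by simp, Fintype.mem_piFinset.2 fun j => ?_⟩
    rw [Multiset.mem_toFinset, Polynomial.mem_roots (hne _ j)]
    have hev : ∀ q : MvPolynomial (Fin s) ℤ, aeval (φ.1 ∘ η) q = φ.1 (aeval η q) := fun q => by
      have := MvPolynomial.comp_aeval η φ.1.toIntAlgHom
      exact (AlgHom.congr_fun this q).symm
    have := congrArg φ.1 (hrel j)
    simp only [map_add, map_mul, map_pow, map_natCast, map_sum, map_zero] at this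
    simp only [Polynomial.IsRoot.def, P, g, Polynomial.eval_add, Polynomial.eval_mul,
      Polynomial.eval_C, Polynomial.eval_pow, Polynomial.eval_X, Polynomial.eval_finsetSum, hev]
    exact this
  calc S.card ≤ ((Finset.univ ×ˢ Finset.univ).filter fun q : (Fin s → F) × (Fin n → F) =>
        q.2 ∈ T q.1).card := Finset.card_le_card_of_injOn g hmem hg.injOn
    _ ≤ ∑ v, (T v).card := by
        refine le_trans (le_of_eq ?_) (le_of_eq (Finset.card_sigma Finset.univ T))
        exact Finset.card_bij (fun q _ => ⟨q.1, q.2⟩)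
          (fun q hq => by simpa using (Finset.mem_filter.1 hq).2)
          (fun q _ q' _ h => by
            injection h with h1 h2
            exact Prod.ext h1 h2)
          (fun ⟨v, w⟩ hvw => ⟨(v, w), by simpa using hvw, rfl⟩)
    _ ≤ ∑ _v : Fin s → F, ∏ j, d j := Finset.sum_le_sum fun v _ => hT v
    _ = (∏ j, d j) * Nat.card F ^ s := by
        simp [Nat.card_eq_fintype_card, mul_comm]

/-- Clearing denominators in a polynomial over a fraction field. -/
lemma exists_int_smul_eq_map {σ K : Type*} [Field K] [CharZero K] [Algebra ℚ K]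
    (h : Function.Surjective (algebraMap ℚ K)) (p : MvPolynomial σ K) :
    ∃ (m : ℕ) (q : MvPolynomial σ ℤ), 0 < m ∧
      MvPolynomial.map (Int.castRingHom K) q = (m : MvPolynomial σ K) * p := by
  induction p using MvPolynomial.induction_on with
  | C x =>
    obtain ⟨r, rfl⟩ := h x
    refine ⟨r.den, C r.num, r.den_pos, ?_⟩
    rw [map_C, ← map_natCast (C : K →+* MvPolynomial σ K), ← C_mul, ← map_natCast (algebraMap ℚ K),
      ← map_mul, mul_comm, Rat.mul_den_eq_num]
    simp
  | add p q hp hq =>
    obtain ⟨m, a, hm, ha⟩ := hp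
    obtain ⟨m', b, hm', hb⟩ := hq
    refine ⟨m * m', (m' : MvPolynomial σ ℤ) * a + (m : MvPolynomial σ ℤ) * b, mul_pos hm hm', ?_⟩
    rw [map_add, map_mul, map_mul, map_natCast, map_natCast, ha, hb]
    push_cast
    ring
  | mul_X p i hp =>
    obtain ⟨m, a, hm, ha⟩ := hp
    exact ⟨m, a * X i, hm, by rw [map_mul, map_X, ha, mul_assoc]⟩

/-- The dimension of the source of an injective integral map from a polynomial ring is a lower
bound for the length of chains of primes. -/
lemma exists_chain_of_integral_polynomial {k B : Type*} [Field k] [CommRing B] {s : ℕ}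
    (g : MvPolynomial (Fin s) k →+* B) (hinj : Function.Injective g) (hint : g.IsIntegral) :
    ∃ l : LTSeries (PrimeSpectrum B), l.length = s := by
  letI := g.toAlgebra
  haveI : Algebra.IsIntegral (MvPolynomial (Fin s) k) B := ⟨hint⟩
  obtain ⟨l, hl⟩ : ∃ l : LTSeries (PrimeSpectrum (MvPolynomial (Fin s) k)), l.length = s := by
    refine Order.le_krullDim_iff.1 (le_of_eq ?_)
    have := MvPolynomial.ringKrullDim_of_isNoetherianRing (R := k) (ι := Fin s)
    rw [ringKrullDim_eq_zero_of_field, zero_add, Nat.card_fin] at this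
    exact this.symm
  obtain ⟨P, -, hP, hPl⟩ := Ideal.exists_ideal_over_prime_of_isIntegral (S := B) l.head.asIdeal
    (⊥ : Ideal B) (by
      rw [← RingHom.ker_eq_comap_bot, RingHom.algebraMap_toAlgebra,
        (RingHom.injective_iff_ker_eq_bot _).1 hinj]
      exact bot_le)
  haveI := hP
  haveI : P.LiesOver l.head.asIdeal := ⟨hPl.symm⟩
  obtain ⟨L, hL, -⟩ := Ideal.exists_ltSeries_of_hasGoingUp l P
  exact ⟨L, hL.trans hl⟩

/-- A field finitely generated as a ring has positive characteristic. -/
lemma exists_natCast_eq_zero_of_finiteType (K : Type*) [Field K] [Algebra.FiniteType ℤ K] :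
    ∃ p : ℕ, 0 < p ∧ (p : K) = 0 := by
  by_contra hcon
  push Not at hcon
  have hinj : Function.Injective (algebraMap ℤ K) := by
    rw [injective_iff_map_eq_zero]
    intro z hz
    by_contra hz0
    refine hcon z.natAbs (Int.natAbs_pos.2 hz0) ?_
    rcases Int.natAbs_eq z with h | h
    · rw [h] at hz; simpa using hz
    · rw [h] at hz; simpa using hz
  haveI : IsJacobsonRing ℤ := Groth.Agent.S9612.result (S := ℤ)
  haveI := finite_of_finite_type_of_isJacobsonRing ℤ K
  exact Int.not_isField (isField_of_isIntegral_of_isField hinj (Field.toIsField K))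

/-- Points of a finitely generated `K`-algebra relations over Noether coordinates, lifted to `ℤ`. -/
lemma exists_relations {A K Q : Type*} [CommRing A] [Field K] [CommRing Q] [Algebra K Q]
    [Algebra.FiniteType K Q] (π : A →+* Q)
    (hpoly : ∀ {s : ℕ} (p : MvPolynomial (Fin s) K), ∃ (m : ℕ) (q : MvPolynomial (Fin s) ℤ),
      0 < m ∧ (m : K) ≠ 0 ∧ MvPolynomial.map (Int.castRingHom K) q = (m : MvPolynomial (Fin s) K) * p)
    (hlift : ∀ z : Q, ∃ (m : ℕ) (x : A), 0 < m ∧ (m : K) ≠ 0 ∧ π x = (m : Q) * z)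
    {n : ℕ} (a : Fin n → A) [Nontrivial Q] :
    ∃ (s : ℕ) (g : MvPolynomial (Fin s) K →+* Q), Function.Injective g ∧ g.IsIntegral ∧
      ∃ (η : Fin s → A) (d : Fin n → ℕ) (c : ∀ j, Fin (d j) → MvPolynomial (Fin s) ℤ) (M : ℕ),
        0 < M ∧ (M : K) ≠ 0 ∧
          ∀ j, π ((M : A) * a j ^ d j + ∑ i, aeval η (c j i) * a j ^ (i : ℕ)) = 0 := by
  classical
  obtain ⟨s, g₀, hinj, hfin⟩ := exists_finite_inj_algHom_of_fg K Q
  choose m η hm hmK hη using fun i => hlift (g₀ (X i))
  let e : MvPolynomial (Fin s) K →ₐ[K] MvPolynomial (Fin s) K :=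
    aeval fun i => C (m i : K) * X i
  let e' : MvPolynomial (Fin s) K →ₐ[K] MvPolynomial (Fin s) K :=
    aeval fun i => C ((m i : K)⁻¹) * X i
  have hee : e.comp e' = AlgHom.id K _ := algHom_ext fun i => by
    simp only [e, e', AlgHom.comp_apply, aeval_X, map_mul, AlgHom.id_apply]
    rw [← algebraMap_eq, AlgHom.commutes, algebraMap_eq, ← mul_assoc, ← C_mul,
      inv_mul_cancel₀ (hmK i), C_1, one_mul]
  have hee' : e'.comp e = AlgHom.id K _ := algHom_ext fun i => by
    simp only [e, e', AlgHom.comp_apply, aeval_X, map_mul, AlgHom.id_apply]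
    rw [← algebraMap_eq, AlgHom.commutes, algebraMap_eq, ← mul_assoc, ← C_mul,
      mul_inv_cancel₀ (hmK i), C_1, one_mul]
  let ee := AlgEquiv.ofAlgHom e e' hee hee'
  let g := g₀.comp ee.toAlgHom
  have hgint : g.toRingHom.IsIntegral :=
    RingHom.IsIntegral.trans _ _ (RingHom.isIntegral_of_surjective _ ee.surjective)
      (RingHom.Finite.to_isIntegral hfin)
  refine ⟨s, g.toRingHom, hinj.comp ee.injective, hgint, η, ?_⟩
  have hgη : ∀ q : MvPolynomial (Fin s) ℤ,
      g (MvPolynomial.map (Int.castRingHom K) q) = π (aeval η q) := by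
    intro q
    refine RingHom.congr_fun (f := g.toRingHom.comp (MvPolynomial.map (Int.castRingHom K)))
      (g := π.comp (aeval η).toRingHom) (MvPolynomial.ringHom_ext (fun z => ?_) fun i => ?_) q
    · simp
    · change g (MvPolynomial.map (Int.castRingHom K) (X i)) = π (aeval η (X i))
      rw [map_X, aeval_X, hη]
      change g₀ (e (X i)) = _
      simp [e]
  have hj : ∀ j, ∃ (d : ℕ) (c : Fin d → MvPolynomial (Fin s) ℤ) (M : ℕ), 0 < M ∧ (M : K) ≠ 0 ∧
      π ((M : A) * a j ^ d + ∑ i, aeval η (c i) * a j ^ (i : ℕ)) = 0 := by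
    intro j
    obtain ⟨P, hP, hPe⟩ := hgint (π (a j))
    choose μ q hμ hμK hq using fun i : Fin P.natDegree => hpoly (P.coeff i)
    refine ⟨P.natDegree, fun i => (((∏ l ∈ Finset.univ.erase i, μ l : ℕ)) : MvPolynomial (Fin s) ℤ)
      * q i, ∏ i, μ i, Finset.prod_pos fun i _ => hμ i, ?_, ?_⟩
    · rw [Nat.cast_prod]
      exact Finset.prod_ne_zero_iff.2 fun i _ => hμK i
    have h0 : (π (a j)) ^ P.natDegree +
        ∑ i : Fin P.natDegree, g (P.coeff i) * π (a j) ^ (i : ℕ) = 0 := by
      rw [Polynomial.eval₂_eq_sum_range, Finset.sum_range_succ, Finset.sum_range,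
        Polynomial.Monic.coeff_natDegree hP, map_one, one_mul, add_comm] at hPe
      exact hPe
    have key : ∀ i : Fin P.natDegree,
        π (aeval η ((((∏ l ∈ Finset.univ.erase i, μ l : ℕ)) : MvPolynomial (Fin s) ℤ) * q i)) =
          ((∏ l, μ l : ℕ) : Q) * g (P.coeff i) := by
      intro i
      rw [map_mul, map_natCast, map_mul, map_natCast, ← hgη, hq, map_mul, map_natCast,
        ← mul_assoc, ← Nat.cast_mul, Finset.prod_erase_mul _ _ (Finset.mem_univ i)]
    rw [map_add, map_mul, map_natCast, map_pow, map_sum]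
    simp only [map_mul π, key, map_pow, mul_assoc]
    rw [← Finset.mul_sum, ← mul_add, h0, mul_zero]
  choose d c M hM hMK hrel using hj
  refine ⟨d, fun j i => ((∏ l ∈ Finset.univ.erase j, M l : ℕ) : MvPolynomial (Fin s) ℤ) * c j i,
    ∏ j, M j, Finset.prod_pos fun j _ => hM j, ?_, fun j => ?_⟩
  · rw [Nat.cast_prod]
    exact Finset.prod_ne_zero_iff.2 fun j _ => hMK j
  have h := congrArg (fun x => ((∏ l ∈ Finset.univ.erase j, M l : ℕ) : Q) * x) (hrel j)
  simp only [mul_zero] at h
  rw [← h, ← map_natCast π, ← map_mul, mul_add, ← mul_assoc, ← Nat.cast_mul,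
    Finset.prod_erase_mul _ _ (Finset.mem_univ j), Finset.mul_sum]
  simp [mul_assoc]

end Groth.ZetaAn
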