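import Mathlib.Topology.Constructible
import Mathlib.Topology.NoetherianSpace
import Mathlib.Topology.Sober
import Mathlib.Topology.Sets.Closeds

/-! Generic points inside constructible sets. -/

set_option autoImplicit false

open Set TopologicalSpace Topology

namespace Groth.ZetaAn

variable {α : Type*} [TopologicalSpace α]

lemma isConstructible_near {T : Set α} (hT : IsConstructible T) (η : α) :
    (η ∈ T → ∃ U, IsOpen U ∧ η ∈ U ∧ U ∩ closure {η} ⊆ T) ∧
      (η ∉ T → ∃ U, IsOpen U ∧ η ∈ U ∧ U ∩ closure {η} ⊆ Tᶜ) := by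
  induction hT using IsConstructible.empty_union_induction with
  | open_retrocompact U hU _ =>
    refine ⟨fun h => ⟨U, hU, h, inter_subset_left⟩, fun h => ⟨univ, isOpen_univ, trivial, ?_⟩⟩
    rintro y ⟨-, hy⟩ hyU
    exact h ((specializes_iff_mem_closure.2 hy).mem_open hU hyU)
  | union s hs t ht h1 h2 =>
    refine ⟨?_, fun h => ?_⟩
    · rintro (h | h)
      · obtain ⟨U, hU, hη, hsub⟩ := h1.1 h
        exact ⟨U, hU, hη, hsub.trans subset_union_left⟩
      · obtain ⟨U, hU, hη, hsub⟩ := h2.1 h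
        exact ⟨U, hU, hη, hsub.trans subset_union_right⟩
    · rw [mem_union, not_or] at h
      obtain ⟨U, hU, hUη, hUs⟩ := h1.2 h.1
      obtain ⟨V, hV, hVη, hVt⟩ := h2.2 h.2
      refine ⟨U ∩ V, hU.inter hV, ⟨hUη, hVη⟩, fun y hy => ?_⟩
      rw [compl_union]
      exact ⟨hUs ⟨hy.1.1, hy.2⟩, hVt ⟨hy.1.2, hy.2⟩⟩
  | compl s hs h =>
    refine ⟨h.2, fun h' => ?_⟩
    rw [compl_compl]
    exact h.1 (by simpa using h')

lemma exists_specializes_of_mem_closure [NoetherianSpace α] [QuasiSober α] {T : Set α}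
    (hT : IsConstructible T) {p : α} (hp : p ∈ closure T) :
    ∃ η ∈ T, η ⤳ p := by
  obtain ⟨C, hC, hmin⟩ := (wellFounded_lt (α := Closeds α)).has_min
    {C | p ∈ closure (T ∩ C)} ⟨⊤, by simpa using hp⟩
  have hpC : p ∈ (C : Set α) := (closure_mono inter_subset_right).trans C.2.closure_subset hC
  have hirr : IsIrreducible (C : Set α) := by
    refine ⟨⟨p, hpC⟩, isPreirreducible_iff_isClosed_union_isClosed.2 fun z₁ z₂ h₁ h₂ h => ?_⟩
    by_contra hcon
    rw [not_or] at hcon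
    have hsplit : p ∈ closure (T ∩ (C ∩ z₁)) ∪ closure (T ∩ (C ∩ z₂)) := by
      rw [← closure_union, ← inter_union_distrib_left, ← inter_union_distrib_left,
        inter_eq_left.2 h]
      exact hC
    rcases hsplit with h' | h'
    · refine hmin ⟨C ∩ z₁, C.2.inter h₁⟩ h' ⟨inter_subset_left, fun hle => hcon.1 ?_⟩
      exact fun y hy => (hle hy).2
    · refine hmin ⟨C ∩ z₂, C.2.inter h₂⟩ h' ⟨inter_subset_left, fun hle => hcon.2 ?_⟩
      exact fun y hy => (hle hy).2
  obtain ⟨η, hη⟩ := QuasiSober.sober hirr C.2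
  refine ⟨η, ?_, hη.specializes hpC⟩
  by_contra hηT
  obtain ⟨U, hU, hηU, hsub⟩ := (isConstructible_near hT η).2 hηT
  rw [hη.def] at hsub
  have h1 : T ∩ (C : Set α) ⊆ T ∩ ((C : Set α) \ U) := fun y hy =>
    ⟨hy.1, hy.2, fun hyU => hsub ⟨hyU, hy.2⟩ hy.1⟩
  refine hmin ⟨(C : Set α) \ U, C.2.sdiff hU⟩ (closure_mono h1 hC) ⟨sdiff_subset, fun hle => ?_⟩
  exact (hle hη.mem).2 hηU

end Groth.ZetaAn
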