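import Groth.Agent.Inter.Surface
import Groth.Agent.Inter.Push
import Groth.Agent.EulerDeg.CartierDegree
import Groth.Agent.VarietyBC.GlobalField
import Groth.Agent.VarietyBC.CurveProj
import Groth.Agent.PicAux.EffCartierSection
import Groth.Agent.PicAux.PicLaw
import Groth.Agent.CurveDiv.HilbProper
import Groth.Agent.FBaseGeom.Prod
import Groth.Agent.AdicLinTop.Thickenings
import Groth.Agent.S15990
import Groth.Agent.S1582
import Groth.Agent.S4428
import Groth.Agent.S4381
import Groth.Prelude.Def_Curve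

/-!
# Intersection numbers on a product of two curves

For curves `C₁ × pt` and `pt × C₂` on `S = C₁ × C₂` the intersection pairing is given by degrees of
restrictions; the Hodge index theorem then gives the inequality of Castelnuovo and Severi.
-/

set_option autoImplicit false

universe u

open CategoryTheory CategoryTheory.Limits AlgebraicGeometry TopologicalSpace

namespace Groth.ZetaAn.ProdCurves

open Groth.PicAux Groth.Inter

theorem isIso_unitToPush {X Y : Scheme.{u}} (e : X ⟶ Y) [IsIso e] : IsIso (ClSub.unitToPush e) := by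
  refine Groth.CohTwo.isIso_of_app_bijective _ fun U => ?_
  exact ConcreteCategory.bijective_of_isIso (e.app U)

theorem quotMod_ker_iso {C S : Scheme.{u}} (i : C ⟶ S) [IsClosedImmersion i] :
    Nonempty (ClSub.quotMod i.ker ≅ (Coh.push i).obj (Coh.structureModule C)) := by
  have := isIso_unitToPush i.toImage
  exact ⟨(Scheme.Modules.pushforward i.ker.subschemeι).mapIso (asIso (ClSub.unitToPush i.toImage)) ≪≫
    (Scheme.Modules.pushforwardComp i.toImage i.ker.subschemeι).app _ ≪≫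
      (Scheme.Modules.pushforwardCongr i.toImage_imageι).app _⟩

theorem nonempty_iso_structure_of_subsingleton {P : Scheme.{u}} [Subsingleton P] [Nonempty P]
    {L : P.Modules} (hL : PicF.IsInvertible L) : Nonempty (L ≅ Coh.structureModule P) := by
  obtain ⟨U, s, hxU, hs⟩ := (isInvertible_iff_exists_gen L).1 hL (Classical.arbitrary P)
  obtain rfl : U = ⊤ := eq_top_iff.2 fun y _ => Subsingleton.elim (Classical.arbitrary P) y ▸ hxU
  obtain ⟨e, -⟩ := exists_iso_of_gen (U := fun _ : Unit => (⊤ : P.Opens))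
    (eq_top_iff.2 fun y hy => Opens.mem_iSup.2 ⟨(), hy⟩) (fun _ => s) (fun _ => hs)
    (fun _ => oneSec P ⊤) (fun _ => gen_oneSec ⊤) fun _ _ r hr => by
      have h1 : r = 1 := hs.smul_inj inf_le_left (hr.symm.trans (one_smul _ _).symm)
      rw [h1, one_smul]
  exact ⟨e⟩

/-- On the spectrum of a field the structure sheaf has Euler characteristic one. -/
theorem euler_spec_field (k : Type u) [Field k] :
    letI : (Spec (CommRingCat.of k)).Over (Spec (CommRingCat.of k)) := ⟨𝟙 _⟩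
    Curv2.euler k (Spec (CommRingCat.of k)) (Coh.structureModule _) = 1 := by
  let : (Spec (CommRingCat.of k)).Over (Spec (CommRingCat.of k)) := ⟨𝟙 _⟩
  have : IsProper (Spec (CommRingCat.of k) ↘ Spec (CommRingCat.of k)) :=
    inferInstanceAs (IsProper (𝟙 (Spec (CommRingCat.of k))))
  have hd : topologicalKrullDim (Spec (CommRingCat.of k)) ≤ (0 : ℕ) :=
    le_of_eq (((PrimeSpectrum.topologicalKrullDim_eq_ringKrullDim k).trans
      (ringKrullDim_eq_zero_of_field k)))
  rw [← eulerCharLE_eq k hd, FGA.eulerCharLE]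
  simp only [Finset.sum_range_one, zero_add, pow_zero, one_mul]
  rw [VarietyBC.GlobalField.finrank_HH_zero k (Spec (CommRingCat.of k))]
  let f := Spec (CommRingCat.of k) ↘ Spec (CommRingCat.of k)
  letI := (f.appTop.hom.comp (Scheme.ΓSpecIso (CommRingCat.of k)).inv.hom :
    k →+* Γ(Spec (CommRingCat.of k), ⊤)).toAlgebra
  have hid : IsIso f.appTop := inferInstanceAs (IsIso (Scheme.Γ.map (𝟙 (Spec (CommRingCat.of k))).op))
  have hb : Function.Bijective (algebraMap k Γ(Spec (CommRingCat.of k), ⊤)) :=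
    (ConcreteCategory.bijective_of_isIso f.appTop).comp
      (Scheme.ΓSpecIso (CommRingCat.of k)).symm.commRingCatIsoToRingEquiv.bijective
  rw [← LinearEquiv.finrank_eq (LinearEquiv.ofBijective (Algebra.linearMap k _) hb),
    Module.finrank_self, Nat.cast_one]

theorem isClosedImmersion_of_over' {C S : Scheme.{u}} (p : S ⟶ C) [IsSeparated p] (i : C ⟶ S)
    (h : i ≫ p = 𝟙 C) : IsClosedImmersion i := by
  have : IsClosedImmersion (i ≫ p) := by rw [h]; infer_instance
  exact IsClosedImmersion.of_comp i p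

section Cartier

variable (k : Type u) [Field k] {C S : Scheme.{u}} [C.Over (Spec (CommRingCat.of k))]
  [S.Over (Spec (CommRingCat.of k))]

variable [IsProper (S ↘ Spec (CommRingCat.of k))] (i : C ⟶ S) [IsClosedImmersion i]
  (hi : i ≫ (S ↘ Spec (CommRingCat.of k)) = C ↘ Spec (CommRingCat.of k))

include hi

omit [IsProper (S ↘ Spec (CommRingCat.of k))] in
theorem euler_twist_quotMod {B : S.Modules} (hB : PicF.IsInvertible B) :
    Curv2.euler k S (CohB1.tensorMod B (ClSub.quotMod i.ker)) =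
      Curv2.euler k C ((Scheme.Modules.pullback i).obj B) := by
  obtain ⟨e⟩ := quotMod_ker_iso i
  obtain ⟨p⟩ := tensor_push i hB (Coh.structureModule C)
  rw [EulerDeg.euler_congr k ((tensor_congr ⟨Iso.refl B⟩ ⟨e⟩).some ≪≫ p), euler_push k i hi,
    EulerDeg.euler_congr k ((tensor_comm _ _).some ≪≫ (tensor_one _).some)]

omit [IsProper (S ↘ Spec (CommRingCat.of k))] in
theorem euler_quotMod :
    Curv2.euler k S (ClSub.quotMod i.ker) = Curv2.euler k C (Coh.structureModule C) := by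
  obtain ⟨e⟩ := quotMod_ker_iso i
  rw [EulerDeg.euler_congr k e, euler_push k i hi]

/-- `(D · B) = deg (B|_D)` for an effective Cartier divisor `D`, in terms of the ideal of `D`. -/
theorem pair_idealMod (hI : BlowUp.IsEffCartierIdeal i.ker) {B : S.Modules}
    (hB : PicF.IsInvertible B) :
    pair k (ClSub.idealMod i.ker) B =
      - Curv2.deg k C ((Scheme.Modules.pullback i).obj B) 1 := by
  have := isNoetherian k (X := S)
  have hIc : Coh.IsCoh (ClSub.idealMod i.ker) := isCoh_of_isInvertible (isInvertible_idealMod hI)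
  have hadd := delta_add k (l := [B]) (by simpa using hB) (shortExact_idealMod i.ker) hIc
    (EulerDeg.isCoh_quotMod i.ker)
  have e : delta k [B] (CohB1.tensorMod (ClSub.idealMod i.ker) (Coh.structureModule S)) =
      delta k [B] (ClSub.idealMod i.ker) :=
    delta_congr k _ ⟨(tensor_comm _ _).some ≪≫ (tensor_one _).some⟩
  unfold Inter.pair
  rw [delta_cons, e]
  change delta k [B] (Coh.structureModule S) =
    delta k [B] (ClSub.idealMod i.ker) + delta k [B] (ClSub.quotMod i.ker) at hadd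
  rw [hadd, add_sub_cancel_left, delta_cons, delta_nil, delta_nil, euler_twist_quotMod k i hi hB,
    euler_quotMod k i hi, Curv2.deg]
  push_cast
  ring

end Cartier

theorem deg_of_iso_structure (k : Type u) [Field k] {C : Scheme.{u}}
    [C.Over (Spec (CommRingCat.of k))] {L : C.Modules} (h : Nonempty (L ≅ Coh.structureModule C)) :
    Curv2.deg k C L 1 = 0 := by
  rw [Curv2.deg, EulerDeg.euler_congr k h.some]
  push_cast
  ring

theorem deg_congr (k : Type u) [Field k] {C : Scheme.{u}}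
    [C.Over (Spec (CommRingCat.of k))] {L L' : C.Modules} (h : Nonempty (L ≅ L')) :
    Curv2.deg k C L 1 = Curv2.deg k C L' 1 := by
  rw [Curv2.deg, Curv2.deg, EulerDeg.euler_congr k h.some]

/-- The ideal of a rational point of a curve has degree `-1`. -/
theorem deg_ideal_point (k : Type u) [Field k] {C : Scheme.{u}} [C.Over (Spec (CommRingCat.of k))]
    [IsProper (C ↘ Spec (CommRingCat.of k))] (x : Spec (CommRingCat.of k) ⟶ C)
    (hx : x ≫ (C ↘ Spec (CommRingCat.of k)) = 𝟙 _) (hI : BlowUp.IsEffCartierIdeal x.ker) :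
    Curv2.deg k C (ClSub.idealMod x.ker) 1 = -1 := by
  let : (Spec (CommRingCat.of k)).Over (Spec (CommRingCat.of k)) := ⟨𝟙 _⟩
  have : IsProper (Spec (CommRingCat.of k) ↘ Spec (CommRingCat.of k)) :=
    inferInstanceAs (IsProper (𝟙 (Spec (CommRingCat.of k))))
  have := isClosedImmersion_of_over' (C ↘ Spec (CommRingCat.of k)) x hx
  have := isNoetherian k (X := C)
  have h := euler_quotMod k x hx
  rw [euler_spec_field] at h
  have hadd := Inter.euler_add k (shortExact_idealMod x.ker)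
    (isCoh_of_isInvertible (isInvertible_idealMod hI)) (EulerDeg.isCoh_quotMod x.ker)
  change Curv2.euler k C (Coh.structureModule C) =
    Curv2.euler k C (ClSub.idealMod x.ker) + Curv2.euler k C (ClSub.quotMod x.ker) at hadd
  rw [Curv2.deg, hadd, h]
  push_cast
  ring

theorem exists_ample_pullback (k : Type u) [Field k] {X Y : Scheme.{u}}
    (f : X ⟶ Spec (CommRingCat.of k)) (g : Y ⟶ Spec (CommRingCat.of k)) [IsProper f] [IsProper g]
    (hX : topologicalKrullDim X ≤ 1) (hY : topologicalKrullDim Y ≤ 1) :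
    ∃ A : (pullback f g).Modules, CohB1.IsAmple A := by
  let : X.Over (Spec (CommRingCat.of k)) := ⟨f⟩
  let : Y.Over (Spec (CommRingCat.of k)) := ⟨g⟩
  have : IsProper (X ↘ Spec (CommRingCat.of k)) := inferInstanceAs (IsProper f)
  have : IsProper (Y ↘ Spec (CommRingCat.of k)) := inferInstanceAs (IsProper g)
  have := isNoetherian k (X := X)
  have := isNoetherian k (X := Y)
  have : X.IsSeparated := ⟨by rw [← terminal.comp_from f]; infer_instance⟩
  have : Y.IsSeparated := ⟨by rw [← terminal.comp_from g]; infer_instance⟩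
  obtain ⟨L₁, hL₁⟩ := VarietyBC.CurveProj.exists_ample X hX
  obtain ⟨L₂, hL₂⟩ := VarietyBC.CurveProj.exists_ample Y hY
  have key : ∀ f' g', f ≫ 𝟙 _ = f' → g ≫ 𝟙 _ = g' → ∃ A : (pullback f' g').Modules,
      CohB1.IsAmple A := by
    rintro _ _ rfl rfl
    have h := Groth.Agent.S4428.result (𝟙 _) (𝟙 _) f g L₁ L₂
      ((Groth.Agent.S4381.result f L₁).2 hL₁) ((Groth.Agent.S4381.result g L₂).2 hL₂)
    have : IsAffine (pullback (𝟙 (Spec (CommRingCat.of k))) (𝟙 (Spec (CommRingCat.of k)))) :=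
      .of_isIso (pullback.fst _ _)
    have := h.1
    exact ⟨_, (Groth.Agent.S4381.result _ _).1 h⟩
  exact key f g (Category.comp_id f) (Category.comp_id g)

theorem isPullback_section {X Y P : Scheme.{u}} (f : X ⟶ P) (g : Y ⟶ P) (x : P ⟶ X)
    (hx : x ≫ f = 𝟙 P) (i : Y ⟶ pullback f g)
    (hi : i ≫ pullback.snd f g = 𝟙 Y ∧ i ≫ pullback.fst f g = g ≫ x) :
    IsPullback i g (pullback.fst f g) x := by
  refine IsPullback.of_right ?_ hi.2 (IsPullback.of_hasPullback f g).flip
  rw [hi.1, hx]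
  exact IsPullback.of_horiz_isIso ⟨by simp⟩

theorem isPullback_section' {X Y P : Scheme.{u}} (f : X ⟶ P) (g : Y ⟶ P) (y : P ⟶ Y)
    (hy : y ≫ g = 𝟙 P) (i : X ⟶ pullback f g)
    (hi : i ≫ pullback.fst f g = 𝟙 X ∧ i ≫ pullback.snd f g = f ≫ y) :
    IsPullback i f (pullback.snd f g) y := by
  refine IsPullback.of_right ?_ hi.2 (IsPullback.of_hasPullback f g)
  rw [hi.1, hy]
  exact IsPullback.of_horiz_isIso ⟨by simp⟩

/-- A pullback to the curve of a module on the spectrum of a field is trivial. -/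
theorem pullback_point_iso (k : Type u) [Field k] {X C : Scheme.{u}} (h : C ⟶ X)
    (g : C ⟶ Spec (CommRingCat.of k)) (x : Spec (CommRingCat.of k) ⟶ X) (e : h = g ≫ x)
    {J : X.Modules} (hJ : PicF.IsInvertible J) :
    Nonempty ((Scheme.Modules.pullback h).obj J ≅ Coh.structureModule C) := by
  obtain ⟨t⟩ := nonempty_iso_structure_of_subsingleton (Groth.PicAux.isInvertible_pullback x hJ)
  exact ⟨(Scheme.Modules.pullbackCongr e).app J ≪≫ ((Scheme.Modules.pullbackComp g x).app J).symm ≪≫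
    (Scheme.Modules.pullback g).mapIso t ≪≫ (pullback_structure_iso g).some⟩

theorem pullback_id_iso {X C : Scheme.{u}} (h : C ⟶ X) (p : X ⟶ C) (e : h ≫ p = 𝟙 C)
    (J : C.Modules) :
    Nonempty ((Scheme.Modules.pullback h).obj ((Scheme.Modules.pullback p).obj J) ≅ J) :=
  ⟨(Scheme.Modules.pullbackComp h p).app J ≪≫ (Scheme.Modules.pullbackCongr e).app J ≪≫
    (Scheme.Modules.pullbackId C).app J⟩

section Main

variable (k : Type u) [Field k] [IsAlgClosed k] (C₁ C₂ : Scheme.{u})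
  [C₁.Over (Spec (CommRingCat.of k))] [C₂.Over (Spec (CommRingCat.of k))]

/-- The quadratic form underlying the inequality of Castelnuovo and Severi. -/
theorem severi_quadratic
    (h₁ : Curve.IsSmoothProperCurve k C₁ (C₁ ↘ Spec (CommRingCat.of k)))
    (h₂ : Curve.IsSmoothProperCurve k C₂ (C₂ ↘ Spec (CommRingCat.of k)))
    (x : Spec (CommRingCat.of k) ⟶ C₁) (hx : x ≫ (C₁ ↘ Spec (CommRingCat.of k)) = 𝟙 _)
    (y : Spec (CommRingCat.of k) ⟶ C₂) (hy : y ≫ (C₂ ↘ Spec (CommRingCat.of k)) = 𝟙 _)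
    (i₁ : C₁ ⟶ pullback (C₁ ↘ Spec (CommRingCat.of k)) (C₂ ↘ Spec (CommRingCat.of k)))
    (hi₁ : i₁ ≫ pullback.fst _ _ = 𝟙 C₁ ∧
      i₁ ≫ pullback.snd _ _ = (C₁ ↘ Spec (CommRingCat.of k)) ≫ y)
    (i₂ : C₂ ⟶ pullback (C₁ ↘ Spec (CommRingCat.of k)) (C₂ ↘ Spec (CommRingCat.of k)))
    (hi₂ : i₂ ≫ pullback.snd _ _ = 𝟙 C₂ ∧
      i₂ ≫ pullback.fst _ _ = (C₂ ↘ Spec (CommRingCat.of k)) ≫ x)
    (L M L' M' : (pullback (C₁ ↘ Spec (CommRingCat.of k)) (C₂ ↘ Spec (CommRingCat.of k))).Modules)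
    (hL : PicF.IsInvertible L) (hM : ClSub.IsInverseOf L M)
    (hL' : PicF.IsInvertible L') (hM' : ClSub.IsInverseOf L' M') (u v : ℤ) :
    letI : (pullback (C₁ ↘ Spec (CommRingCat.of k)) (C₂ ↘ Spec (CommRingCat.of k))).Over
        (Spec (CommRingCat.of k)) := ⟨pullback.fst _ _ ≫ (C₁ ↘ Spec (CommRingCat.of k))⟩
    let d₁ := Curv2.deg k C₁ ((Scheme.Modules.pullback i₁).obj L) 1
    let d₂ := Curv2.deg k C₂ ((Scheme.Modules.pullback i₂).obj L) 1
    let e₁ := Curv2.deg k C₁ ((Scheme.Modules.pullback i₁).obj L') 1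
    let e₂ := Curv2.deg k C₂ ((Scheme.Modules.pullback i₂).obj L') 1
    let S := pullback (C₁ ↘ Spec (CommRingCat.of k)) (C₂ ↘ Spec (CommRingCat.of k))
    u ^ 2 * (FGA.intNum k S 2 ![M, M] (Coh.structureModule _) - 2 * d₁ * d₂) +
      2 * u * v * (FGA.intNum k S 2 ![M, M'] (Coh.structureModule _) - d₁ * e₂ - d₂ * e₁) +
      v ^ 2 * (FGA.intNum k S 2 ![M', M'] (Coh.structureModule _) - 2 * e₁ * e₂) ≤ 0 := by
  obtain ⟨hp₁, hs₁, hint₁, hd₁⟩ := h₁
  obtain ⟨hp₂, hs₂, hint₂, hd₂⟩ := h₂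
  let f := C₁ ↘ Spec (CommRingCat.of k)
  let g := C₂ ↘ Spec (CommRingCat.of k)
  let : (pullback f g).Over (Spec (CommRingCat.of k)) := ⟨pullback.fst f g ≫ f⟩
  intro d₁ d₂ e₁ e₂ S
  have hp : IsProper (pullback f g ↘ Spec (CommRingCat.of k)) :=
    inferInstanceAs (IsProper (pullback.fst f g ≫ f))
  have hint : IsIntegral (pullback f g) := Groth.Agent.S1582.result k C₁ C₂ f g
  have hdim : topologicalKrullDim (pullback f g : Scheme.{u}) = 2 := by
    rw [Groth.FBaseGeom.dim_prod, hd₁, hd₂]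
    rfl
  obtain ⟨A, hA⟩ := exists_ample_pullback k f g hd₁.le hd₂.le
  have hsm₁ := CurveDiv.smoothOfRelativeDimension_one_of_curve f hd₁
  have hsm₂ := CurveDiv.smoothOfRelativeDimension_one_of_curve g hd₂
  haveI := AlgebraicGeometry.smoothOfRelativeDimension_isStableUnderBaseChange.{u} (n := 1)
  have hsf : SmoothOfRelativeDimension 1 (pullback.fst f g) :=
    MorphismProperty.pullback_fst (P := @SmoothOfRelativeDimension.{u} 1) f g hsm₂
  have hss : SmoothOfRelativeDimension 1 (pullback.snd f g) :=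
    MorphismProperty.pullback_snd (P := @SmoothOfRelativeDimension.{u} 1) f g hsm₁
  have hxc : IsClosedImmersion x := isClosedImmersion_of_over' f x hx
  have hyc : IsClosedImmersion y := isClosedImmersion_of_over' g y hy
  have hi₁c : IsClosedImmersion i₁ := isClosedImmersion_of_over' (pullback.fst f g) i₁ hi₁.1
  have hi₂c : IsClosedImmersion i₂ := isClosedImmersion_of_over' (pullback.snd f g) i₂ hi₂.1
  have hxI := (Groth.Agent.S15990.result f x hx).1
  have hyI := (Groth.Agent.S15990.result g y hy).1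
  have hI₁ := (Groth.Agent.S15990.result (pullback.fst f g) i₁ hi₁.1).1
  have hI₂ := (Groth.Agent.S15990.result (pullback.snd f g) i₂ hi₂.1).1
  have hk₂ : i₂.ker = x.ker.comap (pullback.fst f g) :=
    AdicLinTop.Thickenings.ker_eq_comap_of_isPullback (isPullback_section f g x hx i₂ hi₂)
  have hk₁ : i₁.ker = y.ker.comap (pullback.snd f g) :=
    AdicLinTop.Thickenings.ker_eq_comap_of_isPullback (isPullback_section' f g y hy i₁ hi₁)
  have hi₁o : i₁ ≫ (pullback f g ↘ Spec (CommRingCat.of k)) = f := by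
    change i₁ ≫ pullback.fst f g ≫ f = f
    rw [← Category.assoc, hi₁.1, Category.id_comp]
  have hi₂o : i₂ ≫ (pullback f g ↘ Spec (CommRingCat.of k)) = g := by
    change i₂ ≫ pullback.fst f g ≫ f = g
    rw [← Category.assoc, hi₂.2, Category.assoc, hx, Category.comp_id]
  set Q₁ := ClSub.idealMod i₂.ker with hQ₁def
  set Q₂ := ClSub.idealMod i₁.ker with hQ₂def
  have hQ₁ : PicF.IsInvertible Q₁ := isInvertible_idealMod hI₂
  have hQ₂ : PicF.IsInvertible Q₂ := isInvertible_idealMod hI₁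
  have hMi := isInvertible_of_isInverseOf hL hM
  have hM'i := isInvertible_of_isInverseOf hL' hM'
  obtain ⟨eQ₁⟩ : Nonempty ((Scheme.Modules.pullback (pullback.fst f g)).obj (ClSub.idealMod x.ker) ≅
      Q₁) := by
    rw [hQ₁def, hk₂]
    exact pullback_idealMod _ hxI (hk₂ ▸ hI₂)
  obtain ⟨eQ₂⟩ : Nonempty ((Scheme.Modules.pullback (pullback.snd f g)).obj (ClSub.idealMod y.ker) ≅
      Q₂) := by
    rw [hQ₂def, hk₁]
    exact pullback_idealMod _ hyI (hk₁ ▸ hI₁)
  have pQ₁ : ∀ {B : (pullback f g).Modules}, PicF.IsInvertible B →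
      pair k Q₁ B = - Curv2.deg k C₂ ((Scheme.Modules.pullback i₂).obj B) 1 :=
    fun hB => pair_idealMod k i₂ hi₂o hI₂ hB
  have pQ₂ : ∀ {B : (pullback f g).Modules}, PicF.IsInvertible B →
      pair k Q₂ B = - Curv2.deg k C₁ ((Scheme.Modules.pullback i₁).obj B) 1 :=
    fun hB => pair_idealMod k i₁ hi₁o hI₁ hB
  have q11 : pair k Q₁ Q₁ = 0 := by
    rw [pQ₁ hQ₁, deg_of_iso_structure k, neg_zero]
    exact ⟨(Scheme.Modules.pullback i₂).mapIso eQ₁.symm ≪≫
      (Scheme.Modules.pullbackComp i₂ (pullback.fst f g)).app _ ≪≫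
      (pullback_point_iso k _ g x hi₂.2 (isInvertible_idealMod hxI)).some⟩
  have q22 : pair k Q₂ Q₂ = 0 := by
    rw [pQ₂ hQ₂, deg_of_iso_structure k, neg_zero]
    exact ⟨(Scheme.Modules.pullback i₁).mapIso eQ₂.symm ≪≫
      (Scheme.Modules.pullbackComp i₁ (pullback.snd f g)).app _ ≪≫
      (pullback_point_iso k _ f y hi₁.2 (isInvertible_idealMod hyI)).some⟩
  have q12 : pair k Q₁ Q₂ = 1 := by
    rw [pQ₁ hQ₂, deg_congr k ⟨(Scheme.Modules.pullback i₂).mapIso eQ₂.symm ≪≫
      (pullback_id_iso i₂ (pullback.snd f g) hi₂.1 _).some⟩, deg_ideal_point k y hy hyI, neg_neg]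
  have mQ₁ : pair k M Q₁ = d₂ := by
    rw [pair_inverse k hdim.le hL hM hQ₁, pair_comm k L, pQ₁ hL, neg_neg]
  have mQ₂ : pair k M Q₂ = d₁ := by
    rw [pair_inverse k hdim.le hL hM hQ₂, pair_comm k L, pQ₂ hL, neg_neg]
  have mQ₁' : pair k M' Q₁ = e₂ := by
    rw [pair_inverse k hdim.le hL' hM' hQ₁, pair_comm k L', pQ₁ hL', neg_neg]
  have mQ₂' : pair k M' Q₂ = e₁ := by
    rw [pair_inverse k hdim.le hL' hM' hQ₂, pair_comm k L', pQ₂ hL', neg_neg]
  rw [intNum_eq_pair k hdim.le, intNum_eq_pair k hdim.le, intNum_eq_pair k hdim.le]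
  obtain ⟨E, hE, hpE⟩ := exists_comb k hdim.le hMi hM'i u v
  obtain ⟨T, hT, hpT⟩ := exists_comb k hdim.le hQ₁ hQ₂ (-pair k E Q₂) (-pair k E Q₁)
  have hN := isInvertible_tensorMod hE hT
  have hP := isInvertible_tensorMod hQ₁ hQ₂
  have q21 : pair k Q₂ Q₁ = 1 := (pair_comm k _ _).trans q12
  have n1 : pair k (CohB1.tensorMod E T) Q₁ = 0 := by
    rw [pair_tensor k hdim.le hE hT hQ₁, hpT Q₁ hQ₁, q11, q21]; ring
  have n2 : pair k (CohB1.tensorMod E T) Q₂ = 0 := by
    rw [pair_tensor k hdim.le hE hT hQ₂, hpT Q₂ hQ₂, q12, q22]; ring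
  have hPP : 0 < pair k (CohB1.tensorMod Q₁ Q₂) (CohB1.tensorMod Q₁ Q₂) := by
    rw [pair_tensor k hdim.le hQ₁ hQ₂ hP, pair_comm k Q₁ (CohB1.tensorMod Q₁ Q₂),
      pair_comm k Q₂ (CohB1.tensorMod Q₁ Q₂), pair_tensor k hdim.le hQ₁ hQ₂ hQ₁,
      pair_tensor k hdim.le hQ₁ hQ₂ hQ₂, q11, q12, q21, q22]
    norm_num
  have hPN : pair k (CohB1.tensorMod Q₁ Q₂) (CohB1.tensorMod E T) = 0 := by
    rw [pair_tensor k hdim.le hQ₁ hQ₂ hN, pair_comm k Q₁, pair_comm k Q₂, n1, n2]; rfl
  have key := pair_self_nonpos k hdim hA hP hN hPP hPN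
  rw [pair_tensor k hdim.le hE hT hN, hpT _ hN, pair_comm k Q₁ (CohB1.tensorMod E T),
    pair_comm k Q₂ (CohB1.tensorMod E T), n1, n2, pair_comm k E (CohB1.tensorMod E T),
    pair_tensor k hdim.le hE hT hE, hpT E hE, pair_comm k Q₁ E, pair_comm k Q₂ E, hpE Q₁ hQ₁,
    hpE Q₂ hQ₂, mQ₁, mQ₂, mQ₁', mQ₂', hpE E hE, pair_comm k M E, pair_comm k M' E, hpE M hMi,
    hpE M' hM'i, pair_comm k M' M] at key
  linarith

end Main

end Groth.ZetaAn.ProdCurves
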