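import Mathlib.AlgebraicGeometry.Morphisms.UniversallyClosed
import Mathlib.AlgebraicGeometry.Pullbacks
import Mathlib.AlgebraicGeometry.PullbackCarrier
import Mathlib.AlgebraicGeometry.AffineSpace
import Mathlib.AlgebraicGeometry.Morphisms.FinitePresentation
import Mathlib.RingTheory.TensorProduct.Maps
import Mathlib.RingTheory.Spectrum.Prime.Topology

/-! A quasi-compact morphism is universally closed if its base changes along the projections from
affine spaces over affine opens of the base are closed. -/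

set_option autoImplicit false
set_option linter.style.haveILetI false

universe u

open CategoryTheory AlgebraicGeometry Topology TopologicalSpace Limits TensorProduct

namespace Groth.ZetaAn

/-- Closedness of the second projection passes to an open of the base of the change. -/
lemma isClosedMap_snd_comp {X S T T' : Scheme.{u}} (f : X ⟶ S) (h : T' ⟶ T) (g : T ⟶ S)
    [IsOpenImmersion h] (H : IsClosedMap (pullback.snd f g)) :
    IsClosedMap (pullback.snd f (h ≫ g)) := by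
  let j : pullback f (h ≫ g) ⟶ pullback f g := pullback.map f (h ≫ g) f g (𝟙 X) h (𝟙 S)
    (by simp) (by simp)
  have hj : Set.range j.base = pullback.snd f g ⁻¹' Set.range h.base := by
    have := Scheme.Pullback.range_map f (h ≫ g) f g (𝟙 X) h (𝟙 S) (by simp) (by simp)
    change Set.range j = _ at this
    rw [this]
    simp
  have hjs : ∀ z, pullback.snd f g (j z) = h (pullback.snd f (h ≫ g) z) := fun z => by
    rw [← Scheme.Hom.comp_apply, ← Scheme.Hom.comp_apply, pullback.lift_snd]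
  intro Z hZ
  obtain ⟨Z', hZ', rfl⟩ := j.isOpenEmbedding.isInducing.isClosed_iff.1 hZ
  have : pullback.snd f (h ≫ g) '' (j ⁻¹' Z') = h ⁻¹' (pullback.snd f g '' Z') := by
    ext y
    constructor
    · rintro ⟨z, hz, rfl⟩
      exact ⟨j z, hz, hjs z⟩
    · rintro ⟨w, hw, hwy⟩
      obtain ⟨z, rfl⟩ : w ∈ Set.range j.base := by rw [hj]; exact ⟨y, hwy.symm⟩
      rw [hjs] at hwy
      exact ⟨z, hw, h.isOpenEmbedding.injective hwy⟩
  rw [this]
  exact (H _ hZ').preimage h.continuous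

section key

variable {X Y : Scheme.{u}} (f : X ⟶ Y) {V : Y.Opens} (hV : IsAffineOpen V)

/-- An affine open of `Y` composed with a ring map. -/
noncomputable abbrev baseMap (P : Type u) [CommRing P] [Algebra Γ(Y, V) P] :
    Spec (CommRingCat.of P) ⟶ Y :=
  Spec.map (CommRingCat.ofHom (algebraMap Γ(Y, V) P)) ≫ hV.fromSpec

variable {U : X.Opens} (hU : IsAffineOpen U) (B : Type u) [CommRing B] [Algebra Γ(Y, V) B]
  (iU : Spec (CommRingCat.of B) ⟶ X)
  (e : Spec.map (CommRingCat.ofHom (algebraMap Γ(Y, V) B)) ≫ hV.fromSpec = iU ≫ f)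

/-- The chart of a base change given by an affine chart. -/
noncomputable def chartMap (P : Type u) [CommRing P] [Algebra Γ(Y, V) P] :
    Spec (CommRingCat.of (B ⊗[Γ(Y, V)] P)) ⟶ pullback f (baseMap hV P) :=
  (pullbackSpecIso Γ(Y, V) B P).inv ≫
    pullback.map _ _ f (baseMap hV P) iU (𝟙 _) hV.fromSpec e (by simp)

lemma chartMap_fst (P : Type u) [CommRing P] [Algebra Γ(Y, V) P] :
    chartMap f hV B iU e P ≫ pullback.fst _ _ =
      Spec.map (CommRingCat.ofHom Algebra.TensorProduct.includeLeftRingHom) ≫ iU := by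
  rw [chartMap, Category.assoc, pullback.lift_fst, pullbackSpecIso_inv_fst_assoc]

lemma chartMap_snd (P : Type u) [CommRing P] [Algebra Γ(Y, V) P] :
    chartMap f hV B iU e P ≫ pullback.snd _ _ =
      Spec.map (CommRingCat.ofHom (Algebra.TensorProduct.includeRight (R := Γ(Y, V)) (A := B)
        (B := P)).toRingHom) := by
  rw [chartMap, Category.assoc, pullback.lift_snd, Category.comp_id, pullbackSpecIso_inv_snd]
  rfl

instance [IsOpenImmersion iU] (P : Type u) [CommRing P] [Algebra Γ(Y, V) P] :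
    IsOpenImmersion (chartMap f hV B iU e P) := by
  unfold chartMap
  infer_instance

lemma range_chartMap [IsOpenImmersion iU] (P : Type u) [CommRing P] [Algebra Γ(Y, V) P] :
    Set.range (chartMap f hV B iU e P).base = pullback.fst f (baseMap hV P) ⁻¹' Set.range iU.base := by
  rw [chartMap, Scheme.Hom.comp_base, TopCat.coe_comp, Set.range_comp,
    Set.range_eq_univ.2 (pullbackSpecIso Γ(Y, V) B P).inv.surjective, Set.image_univ]
  have := Scheme.Pullback.range_map (Spec.map (CommRingCat.ofHom (algebraMap Γ(Y, V) B)))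
    (Spec.map (CommRingCat.ofHom (algebraMap Γ(Y, V) P))) f (baseMap hV P) iU (𝟙 _) hV.fromSpec e
    (by simp [baseMap])
  refine this.trans ?_
  ext z
  simp

lemma chartMap_natural {P R : Type u} [CommRing P] [Algebra Γ(Y, V) P] [CommRing R]
    [Algebra Γ(Y, V) R] (ψ : P →ₐ[Γ(Y, V)] R)
    (E : pullback f (baseMap hV R) ⟶ pullback f (baseMap hV P))
    (hE₁ : E ≫ pullback.fst _ _ = pullback.fst _ _)
    (hE₂ : E ≫ pullback.snd _ _ = pullback.snd _ _ ≫ Spec.map (CommRingCat.ofHom ψ.toRingHom)) :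
    chartMap f hV B iU e R ≫ E =
      Spec.map (CommRingCat.ofHom (Algebra.TensorProduct.map (AlgHom.id Γ(Y, V) B) ψ).toRingHom) ≫
        chartMap f hV B iU e P := by
  apply pullback.hom_ext
  · rw [Category.assoc, hE₁, Category.assoc, chartMap_fst, chartMap_fst, ← Spec.map_comp_assoc]
    congr 2
    ext b
    simp
  · rw [Category.assoc, hE₂, Category.assoc, ← Category.assoc (chartMap f hV B iU e R),
      chartMap_snd, chartMap_snd, ← Spec.map_comp, ← Spec.map_comp]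
    congr 1

end key

/-- Elements of the ideal generated by `p` in a tensor product. -/
lemma exists_sum_tmul_of_mem_map {A B R : Type u} [CommRing A] [CommRing B] [CommRing R]
    [Algebra A B] [Algebra A R] (p : Ideal R) {x : B ⊗[A] R}
    (hx : x ∈ p.map (Algebra.TensorProduct.includeRight : R →ₐ[A] B ⊗[A] R)) :
    ∃ (n : ℕ) (b : Fin n → B) (r : Fin n → R), (∀ k, r k ∈ p) ∧ x = ∑ k, b k ⊗ₜ[A] r k := by
  have key : ∀ y z : B ⊗[A] R,
      (∃ (n : ℕ) (b : Fin n → B) (r : Fin n → R), (∀ k, r k ∈ p) ∧ y = ∑ k, b k ⊗ₜ[A] r k) →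
      (∃ (n : ℕ) (b : Fin n → B) (r : Fin n → R), (∀ k, r k ∈ p) ∧ z = ∑ k, b k ⊗ₜ[A] r k) →
      (∃ (n : ℕ) (b : Fin n → B) (r : Fin n → R), (∀ k, r k ∈ p) ∧ y + z = ∑ k, b k ⊗ₜ[A] r k) := by
    rintro _ _ ⟨n, b, r, hr, rfl⟩ ⟨m, b', r', hr', rfl⟩
    refine ⟨n + m, Fin.append b b', Fin.append r r', fun k => ?_, ?_⟩
    · refine Fin.addCases (fun i => ?_) (fun i => ?_) k
      · simpa using hr i
      · simpa using hr' i
    · rw [Fin.sum_univ_add]
      simp
  have h0 : ∃ (n : ℕ) (b : Fin n → B) (r : Fin n → R), (∀ k, r k ∈ p) ∧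
      (0 : B ⊗[A] R) = ∑ k, b k ⊗ₜ[A] r k := ⟨0, ![], ![], fun k => k.elim0, by simp⟩
  have hsmul : ∀ c y : B ⊗[A] R,
      (∃ (n : ℕ) (b : Fin n → B) (r : Fin n → R), (∀ k, r k ∈ p) ∧ y = ∑ k, b k ⊗ₜ[A] r k) →
      (∃ (n : ℕ) (b : Fin n → B) (r : Fin n → R), (∀ k, r k ∈ p) ∧ c * y = ∑ k, b k ⊗ₜ[A] r k) := by
    intro c y hy
    induction c using TensorProduct.induction_on with
    | zero => simpa using h0
    | add c d hc hd => rw [add_mul]; exact key _ _ hc hd
    | tmul β σ =>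
      obtain ⟨n, b, r, hr, rfl⟩ := hy
      refine ⟨n, fun k => β * b k, fun k => σ * r k, fun k => p.mul_mem_left σ (hr k), ?_⟩
      rw [Finset.mul_sum]
      simp
  induction hx using Submodule.span_induction with
  | mem y hy =>
    obtain ⟨r, hr, rfl⟩ := hy
    exact ⟨1, ![1], ![r], by simpa using hr, by simp⟩
  | zero => exact h0
  | add y z _ _ hy hz => exact key y z hy hz
  | smul c y _ hy => exact hsmul c y hy

open Algebra.TensorProduct in
/-- A neighbourhood of a point outside the image of a closed subset of a base change. -/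
lemma exists_open_disjoint {X Y : Scheme.{u}} (f : X ⟶ Y) {V : Y.Opens} (hV : IsAffineOpen V)
    (H : ∀ n : ℕ,
      IsClosedMap (pullback.snd f (baseMap hV (MvPolynomial (ULift.{u} (Fin n)) Γ(Y, V)))))
    (R : Type u) [CommRing R] [Algebra Γ(Y, V) R] {ι : Type*} [Finite ι]
    (B : ι → Type u) [∀ i, CommRing (B i)] [∀ i, Algebra Γ(Y, V) (B i)]
    (iU : ∀ i, Spec (CommRingCat.of (B i)) ⟶ X) [∀ i, IsOpenImmersion (iU i)]
    (he : ∀ i, Spec.map (CommRingCat.ofHom (algebraMap Γ(Y, V) (B i))) ≫ hV.fromSpec = iU i ≫ f)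
    (hcov : ∀ x, x ∈ f ⁻¹ᵁ V → ∃ i, x ∈ Set.range (iU i).base)
    (Z : Set ↥(pullback f (baseMap hV R))) (hZ : IsClosed Z)
    (q : Spec (CommRingCat.of R)) (hq : ∀ z ∈ Z, pullback.snd f (baseMap hV R) z ≠ q) :
    ∃ O : Set (Spec (CommRingCat.of R)), IsOpen O ∧ q ∈ O ∧
      ∀ z ∈ Z, pullback.snd f (baseMap hV R) z ∉ O := by
  -- for each chart an element `r i ∉ q` vanishing on the trace of `Z` modulo `q`
  have h1 : ∀ i, ∃ (r : R) (n : ℕ) (b : Fin n → B i) (c : Fin n → R), r ∉ q.asIdeal ∧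
      (∀ k, c k ∈ q.asIdeal) ∧ ∀ t : Spec (CommRingCat.of (B i ⊗[Γ(Y, V)] R)),
        chartMap f hV (B i) (iU i) (he i) R t ∈ Z →
          (1 ⊗ₜ r - ∑ k, b k ⊗ₜ c k : B i ⊗[Γ(Y, V)] R) ∈ t.asIdeal := by
    intro i
    set J : Ideal (B i ⊗[Γ(Y, V)] R) :=
      PrimeSpectrum.vanishingIdeal (chartMap f hV (B i) (iU i) (he i) R ⁻¹' Z) with hJ
    haveI : q.asIdeal.IsPrime := q.isPrime
    set inr : R →ₐ[Γ(Y, V)] B i ⊗[Γ(Y, V)] R := includeRight with hinr
    by_contra hcon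
    push Not at hcon
    have hd : Disjoint ((J ⊔ q.asIdeal.map inr : Ideal _) : Set (B i ⊗[Γ(Y, V)] R))
        (q.asIdeal.primeCompl.map inr.toRingHom.toMonoidHom : Set (B i ⊗[Γ(Y, V)] R)) := by
      rw [Set.disjoint_left]
      rintro _ hJe ⟨r, hr, rfl⟩
      obtain ⟨x, hx, y, hy, hxy⟩ := Submodule.mem_sup.1 hJe
      obtain ⟨n, b, c, hc, rfl⟩ := exists_sum_tmul_of_mem_map q.asIdeal hy
      obtain ⟨t, ht, hne⟩ := hcon r n b c hr hc
      refine hne ?_
      have hx' : x = 1 ⊗ₜ r - ∑ k, b k ⊗ₜ c k := eq_sub_of_add_eq hxy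
      rw [← hx']
      exact (PrimeSpectrum.mem_vanishingIdeal _ _).1 hx t ht
    obtain ⟨Q, hQ, hle, hdisj⟩ := Ideal.exists_le_prime_disjoint _ _ hd
    let Q' : Spec (CommRingCat.of (B i ⊗[Γ(Y, V)] R)) := ⟨Q, hQ⟩
    have hQZ : Q' ∈ chartMap f hV (B i) (iU i) (he i) R ⁻¹' Z := by
      rw [← (hZ.preimage (chartMap f hV (B i) (iU i) (he i) R).continuous).closure_eq]
      refine (PrimeSpectrum.zeroLocus_vanishingIdeal_eq_closure _).le ?_
      intro x hx
      exact hle (Ideal.mem_sup_left hx)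
    refine hq _ hQZ ?_
    rw [← Scheme.Hom.comp_apply, chartMap_snd]
    refine PrimeSpectrum.ext (le_antisymm (fun r hr => ?_) fun r hr => ?_)
    · by_contra hrq
      exact Set.disjoint_left.1 hdisj hr ⟨r, hrq, rfl⟩
    · exact hle (Ideal.mem_sup_right (Ideal.mem_map_of_mem _ hr))
  choose r n b c hr hc hJ using h1
  haveI := Fintype.ofFinite ι
  let T := Σ i, Option (Fin (n i))
  let σ : ULift.{u} (Fin (Fintype.card T)) ≃ T := Equiv.ulift.trans (Fintype.equivFin T).symm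
  let v : T → R := fun t => t.2.elim (r t.1) (c t.1)
  let P := MvPolynomial (ULift.{u} (Fin (Fintype.card T))) Γ(Y, V)
  let ψ : P →ₐ[Γ(Y, V)] R :=
    MvPolynomial.aeval (v ∘ σ)
  let X' : T → P := fun t =>
    MvPolynomial.X (σ.symm t)
  have hψ : ∀ t, ψ (X' t) = v t := fun t =>
    (MvPolynomial.aeval_X (v ∘ σ) _).trans (congrArg v (σ.apply_symm_apply t))
  let π := Spec.map (CommRingCat.ofHom ψ.toRingHom)
  have hπ : π ≫ baseMap hV P = baseMap hV R := by
    rw [baseMap, baseMap, ← Spec.map_comp_assoc]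
    congr 2
    ext a
    exact ψ.commutes a
  let E : pullback f (baseMap hV R) ⟶ pullback f (baseMap hV P) :=
    pullback.map f (baseMap hV R) f (baseMap hV P) (𝟙 X) π (𝟙 Y) (by simp) (by simp [hπ])
  have hE : ∀ z, pullback.snd f (baseMap hV P) (E z) = π (pullback.snd f (baseMap hV R) z) :=
    fun z => by rw [← Scheme.Hom.comp_apply, ← Scheme.Hom.comp_apply, pullback.lift_snd]
  refine ⟨π ⁻¹' (pullback.snd f (baseMap hV P) '' closure (E '' Z))ᶜ,
    (H _ _ isClosed_closure).isOpen_compl.preimage π.continuous, ?_, fun z hz hzO =>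
      hzO ⟨E z, subset_closure ⟨z, hz, rfl⟩, hE z⟩⟩
  rintro ⟨w, hw, hwq⟩
  have hwV : pullback.fst f (baseMap hV P) w ∈ f ⁻¹ᵁ V := by
    change f _ ∈ V
    rw [← Scheme.Hom.comp_apply, pullback.condition, Scheme.Hom.comp_apply]
    exact hV.range_fromSpec.le ⟨_, (Scheme.Hom.comp_apply _ _ _).symm⟩
  obtain ⟨i, hi⟩ := hcov _ hwV
  obtain ⟨u, rfl⟩ := (range_chartMap f hV (B i) (iU i) (he i) P).ge hi
  rw [← Scheme.Hom.comp_apply, chartMap_snd] at hwq
  have hmem : ∀ p : P, includeRight (R := Γ(Y, V)) (A := B i) p ∈ u.asIdeal ↔ ψ p ∈ q.asIdeal :=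
    fun p => SetLike.ext_iff.1 (congrArg PrimeSpectrum.asIdeal hwq) p
  let j₀ : B i ⊗[Γ(Y, V)] P :=
    1 ⊗ₜ X' ⟨i, none⟩ - ∑ k, b i k ⊗ₜ X' ⟨i, some k⟩
  have hj₀ : j₀ ∉ u.asIdeal := by
    intro hj
    refine hr i ?_
    have := (hmem (X' ⟨i, none⟩)).1 (by
      have h2 : ∑ k, b i k ⊗ₜ[Γ(Y, V)] X' ⟨i, some k⟩ ∈ u.asIdeal := by
        refine sum_mem fun k _ => ?_
        have h3 := u.asIdeal.mul_mem_left (b i k ⊗ₜ[Γ(Y, V)] (1 : P))
          ((hmem (X' ⟨i, some k⟩)).2 (by rw [hψ]; exact hc i k))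
        rwa [includeRight_apply, tmul_mul_tmul, mul_one, one_mul] at h3
      have h4 := add_mem hj h2
      rwa [sub_add_cancel] at h4)
    rw [hψ] at this
    exact this
  have hopen : IsOpen (chartMap f hV (B i) (iU i) (he i) P ''
      (PrimeSpectrum.basicOpen j₀ : Set (PrimeSpectrum (B i ⊗[Γ(Y, V)] P)))) :=
    (chartMap f hV (B i) (iU i) (he i) P).isOpenEmbedding.isOpenMap _
      (PrimeSpectrum.basicOpen j₀).2
  obtain ⟨_, ⟨u', hu', hzu⟩, ⟨z, hz, rfl⟩⟩ := mem_closure_iff.1 hw _ hopen ⟨u, hj₀, rfl⟩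
  obtain ⟨t, rfl⟩ : z ∈ Set.range (chartMap f hV (B i) (iU i) (he i) R).base := by
    rw [range_chartMap]
    have h2 : pullback.fst f (baseMap hV P) (E z) = pullback.fst f (baseMap hV R) z := by
      rw [← Scheme.Hom.comp_apply, pullback.lift_fst, Category.comp_id]
    change pullback.fst f (baseMap hV R) z ∈ Set.range (iU i).base
    rw [← h2, ← hzu, ← Scheme.Hom.comp_apply, chartMap_fst, Scheme.Hom.comp_apply]
    exact ⟨_, rfl⟩
  have hnat := chartMap_natural f hV (B i) (iU i) (he i) ψ E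
    (by rw [pullback.lift_fst, Category.comp_id]) (by rw [pullback.lift_snd])
  rw [← Scheme.Hom.comp_apply, hnat, Scheme.Hom.comp_apply] at hzu
  have hu'' := (chartMap f hV (B i) (iU i) (he i) P).isOpenEmbedding.injective hzu
  refine hu' ?_
  rw [hu'']
  change Algebra.TensorProduct.map (AlgHom.id Γ(Y, V) (B i)) ψ j₀ ∈ t.asIdeal
  have : Algebra.TensorProduct.map (AlgHom.id Γ(Y, V) (B i)) ψ j₀ =
      1 ⊗ₜ r i - ∑ k, b i k ⊗ₜ c i k := by
    simp [j₀, hψ, v]
  rw [this]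
  exact hJ i t hz

/-- A quasi-compact morphism is universally closed as soon as its base changes to affine spaces
over affine opens of the base are closed maps. -/
theorem universallyClosed_of_mvPolynomial {X Y : Scheme.{u}} (f : X ⟶ Y) [QuasiCompact f]
    (H : ∀ (V : Y.Opens) (hV : IsAffineOpen V) (n : ℕ),
      IsClosedMap (pullback.snd f (baseMap hV (MvPolynomial (ULift.{u} (Fin n)) Γ(Y, V))))) :
    UniversallyClosed f := by
  rw [universallyClosed_eq]
  intro X' Y' i₁ i₂ f' hsq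
  suffices hsnd : IsClosedMap (pullback.snd f i₂) by
    have h1 : f' = hsq.flip.isoPullback.hom ≫ pullback.snd f i₂ := by simp
    change IsClosedMap f'.base
    rw [h1, Scheme.Hom.comp_base, TopCat.coe_comp]
    exact hsnd.comp hsq.flip.isoPullback.hom.homeomorph.isClosedMap
  intro Z hZ
  rw [← isOpen_compl_iff, isOpen_iff_forall_mem_open]
  intro p hp
  obtain ⟨_, ⟨V₀, hV, rfl⟩, hpV, -⟩ :=
    (Y.isBasis_affineOpens).exists_subset_of_mem_open (Set.mem_univ (i₂ p)) isOpen_univ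
  let V : Y.Opens := V₀
  replace hV : IsAffineOpen V := hV
  obtain ⟨_, ⟨W₀, hW, rfl⟩, hpW, hWV⟩ := (Y'.isBasis_affineOpens).exists_subset_of_mem_open
    (show p ∈ (i₂ ⁻¹ᵁ V : Set Y') from hpV) (i₂ ⁻¹ᵁ V).2
  let W : Y'.Opens := W₀
  replace hW : IsAffineOpen W := hW
  letI : Algebra Γ(Y, V) Γ(Y', W) := (i₂.appLE V W hWV).hom.toAlgebra
  let g := baseMap hV Γ(Y', W)
  have hg : g = hW.fromSpec ≫ i₂ := IsAffineOpen.SpecMap_appLE_fromSpec i₂ hV hW hWV
  let j : pullback f g ⟶ pullback f i₂ := pullback.map f g f i₂ (𝟙 X) hW.fromSpec (𝟙 Y)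
    (by simp) (by simp [hg])
  obtain ⟨q, rfl⟩ : p ∈ Set.range hW.fromSpec.base := by rw [hW.range_fromSpec]; exact hpW
  have hj : ∀ z, pullback.snd f i₂ (j z) = hW.fromSpec (pullback.snd f g z) := fun z => by
    rw [← Scheme.Hom.comp_apply, ← Scheme.Hom.comp_apply, pullback.lift_snd]
  have hrj : Set.range j.base = pullback.snd f i₂ ⁻¹' Set.range hW.fromSpec.base := by
    have := Scheme.Pullback.range_map f g f i₂ (𝟙 X) hW.fromSpec (𝟙 Y) (by simp) (by simp [hg])
    exact this.trans (Set.ext fun z => ⟨fun h => h.2, fun h => ⟨⟨_, rfl⟩, h⟩⟩)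
  suffices hO : ∃ O : Set (Spec (CommRingCat.of Γ(Y', W))), IsOpen O ∧ q ∈ O ∧
      ∀ z ∈ j ⁻¹' Z, pullback.snd f g z ∉ O by
    obtain ⟨O, hO, hqO, hdis⟩ := hO
    refine ⟨hW.fromSpec '' O, ?_, hW.fromSpec.isOpenEmbedding.isOpenMap O hO, ⟨q, hqO, rfl⟩⟩
    rintro _ ⟨o, ho, rfl⟩ ⟨z, hz, hzo⟩
    obtain ⟨z', rfl⟩ : z ∈ Set.range j.base := by rw [hrj]; exact ⟨o, hzo.symm⟩
    rw [hj] at hzo
    exact hdis z' hz (hW.fromSpec.isOpenEmbedding.injective hzo ▸ ho)
  have hq : ∀ z ∈ j ⁻¹' Z, pullback.snd f g z ≠ q := fun z hz h =>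
    hp ⟨j z, hz, by rw [hj, h]⟩
  -- a finite affine cover of the preimage of `V`
  obtain ⟨s, hs, hcov⟩ := (Opens.IsBasis.isCompact_open_iff_eq_finite_iUnion
    (fun U : X.affineOpens => (U : X.Opens)) (by simpa using X.isBasis_affineOpens)
    (fun U => U.2.isCompact) (f ⁻¹ᵁ V)).1 ⟨f.isCompact_preimage hV.isCompact, (f ⁻¹ᵁ V).2⟩
  have hcov' : ∀ x : X, x ∈ f ⁻¹ᵁ V ↔ ∃ U : s, x ∈ (U.1 : X.Opens) := fun x => by
    rw [← SetLike.mem_coe, hcov, Set.mem_iUnion₂]
    exact ⟨fun ⟨U, hU, hx⟩ => ⟨⟨U, hU⟩, hx⟩, fun ⟨U, hx⟩ => ⟨U.1, U.2, hx⟩⟩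
  haveI : Finite s := hs.to_subtype
  have hle : ∀ U : s, (U.1 : X.Opens) ≤ f ⁻¹ᵁ V := fun U x hx => (hcov' x).2 ⟨U, hx⟩
  letI : ∀ U : s, Algebra Γ(Y, V) Γ(X, (U.1 : X.Opens)) := fun U =>
    (f.appLE V U.1 (hle U)).hom.toAlgebra
  have he : ∀ U : s, Spec.map (CommRingCat.ofHom (algebraMap Γ(Y, V) Γ(X, (U.1 : X.Opens)))) ≫
      hV.fromSpec = U.1.2.fromSpec ≫ f := fun U =>
    IsAffineOpen.SpecMap_appLE_fromSpec f hV U.1.2 (hle U)
  let iU : ∀ U : s, Spec (CommRingCat.of Γ(X, (U.1 : X.Opens))) ⟶ X := fun U => U.1.2.fromSpec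
  haveI : ∀ U : s, IsOpenImmersion (iU U) := fun U => U.1.2.isOpenImmersion_fromSpec
  obtain ⟨O, hO, hqO, hdis⟩ := exists_open_disjoint f hV (H V hV) Γ(Y', W)
    (fun U : s => Γ(X, (U.1 : X.Opens))) iU he
    (fun x hx => by
      obtain ⟨U, hxU⟩ := (hcov' x).1 hx
      exact ⟨U, U.1.2.range_fromSpec.symm ▸ hxU⟩)
    (j ⁻¹' Z) (hZ.preimage j.continuous) q hq
  exact ⟨O, hO, hqO, hdis⟩

end Groth.ZetaAn

namespace Groth.ZetaAn

instance lfp_baseMap_mvPolynomial {Y : Scheme.{u}} {V : Y.Opens} (hV : IsAffineOpen V)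
    (σ : Type u) [Finite σ] :
    LocallyOfFinitePresentation (baseMap hV (MvPolynomial σ Γ(Y, V))) := by
  have : LocallyOfFinitePresentation (Spec.map (CommRingCat.ofHom
      (algebraMap Γ(Y, V) (MvPolynomial σ Γ(Y, V))))) := by
    rw [HasRingHomProperty.Spec_iff (P := @LocallyOfFinitePresentation)]
    exact RingHom.finitePresentation_algebraMap.2 inferInstance
  infer_instance

/-- A quasi-compact morphism is universally closed as soon as its base changes along morphisms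
locally of finite presentation are closed. -/
theorem universallyClosed_of_lfp {X Y : Scheme.{u}} (f : X ⟶ Y) [QuasiCompact f]
    (H : ∀ (T : Scheme.{u}) (g : T ⟶ Y), LocallyOfFinitePresentation g →
      IsClosedMap (pullback.snd f g)) : UniversallyClosed f :=
  universallyClosed_of_mvPolynomial f fun _ hV _ => H _ _ (lfp_baseMap_mvPolynomial hV _)

/-- A quasi-compact morphism is universally closed as soon as its base changes to affine spaces
are closed. -/
theorem universallyClosed_of_affineSpace {X Y : Scheme.{u}} (f : X ⟶ Y) [QuasiCompact f]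
    (H : ∀ n : ℕ, IsClosedMap (pullback.snd f (𝔸(ULift.{u} (Fin n); Y) ↘ Y))) :
    UniversallyClosed f := by
  refine universallyClosed_of_mvPolynomial f fun V hV n => ?_
  let h : Spec (CommRingCat.of (MvPolynomial (ULift.{u} (Fin n)) Γ(Y, V))) ⟶
      𝔸(ULift.{u} (Fin n); Y) :=
    (AffineSpace.SpecIso _ Γ(Y, V)).inv ≫ AffineSpace.map _ hV.fromSpec
  have he : baseMap hV (MvPolynomial (ULift.{u} (Fin n)) Γ(Y, V)) =
      h ≫ 𝔸(ULift.{u} (Fin n); Y) ↘ Y := by
    rw [baseMap, Category.assoc, AffineSpace.map_over, ← Category.assoc,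
      AffineSpace.SpecIso_inv_over]
    rfl
  haveI : IsOpenImmersion (AffineSpace.map (ULift.{u} (Fin n)) hV.fromSpec) :=
    MorphismProperty.of_isPullback (AffineSpace.isPullback_map hV.fromSpec).flip inferInstance
  rw [he]
  exact isClosedMap_snd_comp f h _ (H n)

end Groth.ZetaAn
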