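import Groth.Agent.ZetaAn.EpsCont
import Mathlib.CategoryTheory.Abelian.GrothendieckAxioms.Basic
import Mathlib.CategoryTheory.Sites.Pullback
import Mathlib.Algebra.Category.Grp.FilteredColimits
import Mathlib.Algebra.Category.Grp.AB

/-! Left Kan extension along a flat functor between locally small categories is exact for abelian
groups one universe up; exactness of ε^*. -/

set_option autoImplicit false
set_option linter.style.haveILetI false

open CategoryTheory AlgebraicGeometry Limits

namespace Groth.ZetaAn

universe w

lemma hasExactColimitsOfShape_of_filtered (J : Type (w + 1)) [Category.{w} J] [IsFiltered J] :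
    HasExactColimitsOfShape J AddCommGrpCat.{w + 1} := by
  haveI : IsFiltered (AsSmall.{w + 1} J) := IsFiltered.of_equivalence AsSmall.equiv
  exact HasExactColimitsOfShape.of_domain_equivalence AddCommGrpCat.{w + 1}
    (AsSmall.equiv (C := J)).symm

set_option backward.defeqAttrib.useBackward true in
set_option backward.isDefEq.respectTransparency false in
noncomputable def lanEvalIsoColim {C D : Type*} [Category C] [Category D] {E : Type*} [Category E]
    (F : C ⥤ D) [∀ G : C ⥤ E, F.HasPointwiseLeftKanExtension G] (X : D)
    [∀ X : D, HasColimitsOfShape (CostructuredArrow F X) E] :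
    F.lan ⋙ (evaluation D E).obj X ≅
      (Functor.whiskeringLeft _ _ E).obj (CostructuredArrow.proj F X) ⋙ colim :=
  NatIso.ofComponents (fun G =>
    IsColimit.coconePointUniqueUpToIso
    (Functor.isPointwiseLeftKanExtensionLeftKanExtensionUnit F G X)
    (colimit.isColimit _)) (fun {G₁ G₂} φ => by
      apply (Functor.isPointwiseLeftKanExtensionLeftKanExtensionUnit F G₁ X).hom_ext
      intro T
      have h₁ := fun (G : C ⥤ E) => IsColimit.comp_coconePointUniqueUpToIso_hom
        (Functor.isPointwiseLeftKanExtensionLeftKanExtensionUnit F G X) (colimit.isColimit _) T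
      have h₂ := congr_app (F.lanUnit.naturality φ) T.left
      dsimp at h₁ h₂ ⊢
      simp only [Category.assoc] at h₁ ⊢
      simp only [Functor.lan, Functor.lanUnit] at h₂ ⊢
      rw [reassoc_of% h₁, NatTrans.naturality_assoc, ← reassoc_of% h₂, h₁,
        ι_colimMap, Functor.whiskerLeft_app]
      rfl)

lemma lan_preservesFiniteLimits {C D : Type (w + 1)} [Category.{w} C] [Category.{w} D] (F : C ⥤ D)
    [RepresentablyFlat F] :
    PreservesFiniteLimits (F.op.lan : (Cᵒᵖ ⥤ AddCommGrpCat.{w + 1}) ⥤ _) := by
  refine ⟨fun J _ _ => ?_⟩
  apply preservesLimitsOfShape_of_evaluation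
  intro K
  haveI : IsFiltered (CostructuredArrow F.op K) :=
    IsFiltered.of_equivalence (structuredArrowOpEquivalence F (Opposite.unop K))
  haveI := hasExactColimitsOfShape_of_filtered (CostructuredArrow F.op K)
  exact preservesLimitsOfShape_of_natIso (lanEvalIsoColim _ _).symm

open An in
theorem epsPull_preservesFiniteLimits (X : Scheme.{0}) [X.Over An.SC]
    [LocallyOfFiniteType (X ↘ An.SC)] [Fact An.EtaleLH] [An.EpsCont X] :
    PreservesFiniteLimits (An.epsPull X) := by
  haveI := eps_flat X
  haveI := lan_preservesFiniteLimits.{0} (An.eps X)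
  exact Functor.sheafPullbackConstruction.preservesFiniteLimits _ _ _ _

end Groth.ZetaAn
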