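import Groth.Agent.FibreVA.Curve
import Groth.Agent.FBaseGeom.Dim
import Groth.Agent.PropsBasic.AmpleUnivClosed
import Groth.Agent.PropsBasic.AmpleBasis
import Groth.Agent.RelVA.Basis
import Groth.Agent.RelVA.PnLocal
import Groth.Agent.PicAux.EffCartierSection
import Groth.Agent.PicAux.PullTensor
import Groth.Agent.VarietyBC.CurveDeg
import Groth.Agent.EulerDeg.CartierDegree
import Groth.Agent.Inter.Chi
import Groth.Agent.CurveDiv.Main
import Groth.Agent.CurveDiv.HilbProper
import Groth.Agent.AdicLinTop.Thickenings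
import Groth.Prelude.Def_AnFib

/-!
# Elementary fibrations are affine

Given `f̄ : X̄ → S` proper smooth with geometrically irreducible fibres of dimension one and a closed
`Y ⊆ X̄` finite etale surjective over `S`, the invertible module `O(Y)` has positive degree on each
fibre, so a power is very ample relative to a neighbourhood of each point of the base and the
complement of `Y` is affine over it.
-/

set_option autoImplicit false
set_option backward.isDefEq.respectTransparency.types false

universe u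

open CategoryTheory CategoryTheory.Limits AlgebraicGeometry TopologicalSpace

namespace Groth.ZetaAn.ElemFib

open Groth.PicAux Groth.PropsBasic.Ample

variable {X S : Scheme.{u}} (f : X ⟶ S)

theorem surjective_pullback_fst_field {Z : Scheme.{u}} {κ Ω : Type u} [Field κ] [Field Ω]
    (q : Z ⟶ Spec (CommRingCat.of κ)) (τ : Spec (CommRingCat.of Ω) ⟶ Spec (CommRingCat.of κ)) :
    Surjective (pullback.fst q τ) :=
  have : Surjective τ := ⟨fun y => ⟨Classical.arbitrary _, Subsingleton.elim _ _⟩⟩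
  inferInstance

theorem nonempty_fibre_iso {s : S} {K : Type u} [Field K]
    (τ : Spec (CommRingCat.of K) ⟶ Spec (S.residueField s)) :
    Nonempty (pullback (f.fiberToSpecResidueField s) τ ≅ pullback f (τ ≫ S.fromSpecResidueField s)) :=
  ⟨(IsPullback.of_hasPullback (f.fiberToSpecResidueField s) τ).flip.paste_vert
    (IsPullback.of_hasPullback f (S.fromSpecResidueField s)).flip |>.flip |>.isoPullback⟩

variable (hgeo : ∀ (Ω : Type u) [Field Ω] [IsAlgClosed Ω] (σ : Spec (CommRingCat.of Ω) ⟶ S),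
    IrreducibleSpace ↥(pullback f σ) ∧ topologicalKrullDim ↥(pullback f σ) = 1)

include hgeo

theorem geometricallyConnected_fibre (s : S) :
    GeometricallyConnected (f.fiberToSpecResidueField s) := by
  refine ⟨fun K _ y Y fst snd h => ?_⟩
  let Ω := AlgebraicClosure K
  let τ : Spec (CommRingCat.of Ω) ⟶ Spec (CommRingCat.of K) :=
    Spec.map (CommRingCat.ofHom (algebraMap K Ω))
  obtain ⟨e⟩ := nonempty_fibre_iso f (s := s) (τ ≫ y)
  have hirr := (hgeo Ω ((τ ≫ y) ≫ S.fromSpecResidueField s)).1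
  have : IrreducibleSpace ↥(pullback (f.fiberToSpecResidueField s) (τ ≫ y)) :=
    e.inv.homeomorph.surjective.irreducibleSpace e.inv.homeomorph.continuous
  have e' : pullback snd τ ≅ pullback (f.fiberToSpecResidueField s) (τ ≫ y) :=
    ((IsPullback.of_hasPullback snd τ).flip.paste_vert h.flip).flip.isoPullback
  have : IrreducibleSpace ↥(pullback snd τ) :=
    e'.inv.homeomorph.surjective.irreducibleSpace e'.inv.homeomorph.continuous
  have := surjective_pullback_fst_field snd τ
  exact (pullback.fst snd τ).surjective.connectedSpace (pullback.fst snd τ).continuous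

theorem irreducibleSpace_fibre (s : S) : IrreducibleSpace (f.fiber s) := by
  let κ := S.residueField s
  let τ : Spec (CommRingCat.of (AlgebraicClosure κ)) ⟶ Spec κ :=
    Spec.map (CommRingCat.ofHom (algebraMap κ (AlgebraicClosure κ)))
  obtain ⟨e⟩ := nonempty_fibre_iso f (s := s) τ
  have hirr := (hgeo (AlgebraicClosure κ) (τ ≫ S.fromSpecResidueField s)).1
  have : IrreducibleSpace ↥(pullback (f.fiberToSpecResidueField s) τ) :=
    e.inv.homeomorph.surjective.irreducibleSpace e.inv.homeomorph.continuous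
  have := surjective_pullback_fst_field (f.fiberToSpecResidueField s) τ
  exact (pullback.fst (f.fiberToSpecResidueField s) τ).surjective.irreducibleSpace
    (pullback.fst (f.fiberToSpecResidueField s) τ).continuous

theorem dim_fibre [LocallyOfFiniteType f] (s : S) : topologicalKrullDim (f.fiber s) = 1 := by
  let κ := S.residueField s
  obtain ⟨e⟩ := nonempty_fibre_iso f (s := s)
    (Spec.map (CommRingCat.ofHom (algebraMap κ (AlgebraicClosure κ))))
  have : LocallyOfFiniteType (f.fiberToSpecResidueField s) := inferInstance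
  rw [← Groth.FBaseGeom.dim_bc (k := κ) (f.fiberToSpecResidueField s) (AlgebraicClosure κ)]
  exact (e.hom.homeomorph.isHomeomorph.topologicalKrullDim_eq).trans
    (hgeo (AlgebraicClosure κ) _).2

/-- A smooth morphism with irreducible one-dimensional fibres is smooth of relative dimension one. -/
theorem smoothOfRelativeDimension_one [Smooth f] : SmoothOfRelativeDimension 1 f := by
  have hfd : ∀ x : X, FlatMor.fibreDimAt f x = 1 := fun x => by
    let s := f.base x
    let g := f.fiberToSpecResidueField s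
    have : IrreducibleSpace (f.fiber s) := irreducibleSpace_fibre f hgeo s
    have : Smooth g := MorphismProperty.pullback_snd (P := @Smooth) _ _ ‹_›
    have := Groth.CurveDiv.smoothOfRelativeDimension_one_of_curve (k := S.residueField s) g
      (dim_fibre f hgeo s)
    have h := Groth.FibreDim.localDim_eq_add_of_flat g 1
      (Groth.FibreDim.fibreDimAt_eq_of_smoothOfRelativeDimension 1 g) (f.asFiber x)
    erw [Groth.CurveDiv.localDim_spec_field (S.residueField s), zero_add] at h
    rw [FlatMor.fibreDimAt, h, Nat.cast_one]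
  have hcov : ∀ x : X, ∃ W : X.Opens, x ∈ W ∧ SmoothOfRelativeDimension 1 (W.ι ≫ f) := fun x => by
    obtain ⟨n, W, hxW, hn⟩ := Groth.AlgSp3.exists_open_smoothOfRelativeDimension f x
    have e := Groth.FibreDim.fibreDimAt_eq_of_smoothOfRelativeDimension n (W.ι ≫ f) ⟨x, hxW⟩
    rw [Groth.FibreDim.fibreDimAt_openImmersion_comp, hfd] at e
    obtain rfl : n = 1 := by exact_mod_cast e.symm
    exact ⟨W, hxW, hn⟩
  choose W hW hs using hcov
  exact IsZariskiLocalAtSource.of_iSup_eq_top (P := @SmoothOfRelativeDimension 1) W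
    (eq_top_iff.2 fun x _ => Opens.mem_iSup.2 ⟨x, hW x⟩) hs

variable {Y : Scheme.{u}} (i : Y ⟶ X)

theorem isEffCartierIdeal_ker [IsClosedImmersion i] [Smooth f] [IsFinite (i ≫ f)] [Flat (i ≫ f)]
    [LocallyOfFinitePresentation (i ≫ f)] : BlowUp.IsEffCartierIdeal i.ker := by
  have := smoothOfRelativeDimension_one f hgeo
  have e : i.ker.subschemeι ≫ f = inv i.toImage ≫ i ≫ f := by
    rw [IsIso.eq_inv_comp, ← Category.assoc, show i.toImage ≫ i.ker.subschemeι = i from i.toImage_imageι]
  have : IsFinite (i.ker.subschemeι ≫ f) := by rw [e]; infer_instance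
  have : Flat (i.ker.subschemeι ≫ f) := by rw [e]; infer_instance
  have : LocallyOfFinitePresentation (i.ker.subschemeι ≫ f) := by rw [e]; infer_instance
  exact Groth.CurveDiv.isEffCartierIdeal_of_lqf f

/-- The degree of `O(Y)` on a fibre is positive. -/
theorem deg_pos [IsClosedImmersion i] [IsProper f] [Smooth f] [IsFinite (i ≫ f)] [Flat (i ≫ f)]
    [LocallyOfFinitePresentation (i ≫ f)] (hsurj : Function.Surjective (i ≫ f).base)
    {L : X.Modules} (hL : PicF.IsInvertible L)
    (hLI : ClSub.IsInverseOf L (ClSub.idealMod i.ker)) (s : S) :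
    letI : (f.fiber s).Over (Spec (S.residueField s)) := ⟨f.fiberToSpecResidueField s⟩
    0 < Curv2.deg (S.residueField s) (f.fiber s) (CohIII.fiberMod f L s) 1 := by
  let κ := S.residueField s
  let : (f.fiber s).Over (Spec κ) := ⟨f.fiberToSpecResidueField s⟩
  let g := f.fiberToSpecResidueField s
  have : IsProper (f.fiber s ↘ Spec κ) :=
    MorphismProperty.pullback_snd (P := @IsProper) _ _ ‹_›
  have : Smooth g := MorphismProperty.pullback_snd (P := @Smooth) _ _ ‹_›
  have : IrreducibleSpace (f.fiber s) := irreducibleSpace_fibre f hgeo s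
  have hdim := dim_fibre f hgeo s
  have := Groth.CurveDiv.smoothOfRelativeDimension_one_of_curve (k := κ) g hdim
  let i' : pullback i (f.fiberι s) ⟶ f.fiber s := pullback.snd _ _
  have hsq : IsPullback i' (pullback.fst i (f.fiberι s)) (f.fiberι s) i :=
    (IsPullback.of_hasPullback i (f.fiberι s)).flip
  have hker : i'.ker = i.ker.comap (f.fiberι s) :=
    Groth.AdicLinTop.Thickenings.ker_eq_comap_of_isPullback hsq
  have hY : IsPullback (i' ≫ g) (pullback.fst i (f.fiberι s)) (S.fromSpecResidueField s) (i ≫ f) :=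
    hsq.paste_horiz (IsPullback.of_hasPullback f (S.fromSpecResidueField s)).flip
  have : IsClosedImmersion i' := inferInstance
  have e : i'.ker.subschemeι ≫ g = inv i'.toImage ≫ i' ≫ g := by
    rw [IsIso.eq_inv_comp, ← Category.assoc,
      show i'.toImage ≫ i'.ker.subschemeι = i' from i'.toImage_imageι]
  have : IsFinite (i' ≫ g) := MorphismProperty.of_isPullback hY.flip ‹IsFinite (i ≫ f)›
  have : Flat (i' ≫ g) := MorphismProperty.of_isPullback hY.flip ‹Flat (i ≫ f)›
  have : LocallyOfFinitePresentation (i' ≫ g) :=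
    MorphismProperty.of_isPullback hY.flip ‹LocallyOfFinitePresentation (i ≫ f)›
  have : IsFinite (i'.ker.subschemeι ≫ g) := by rw [e]; infer_instance
  have : Flat (i'.ker.subschemeι ≫ g) := by rw [e]; infer_instance
  have : LocallyOfFinitePresentation (i'.ker.subschemeι ≫ g) := by rw [e]; infer_instance
  have hD : BlowUp.IsEffCartierIdeal i'.ker := Groth.CurveDiv.isEffCartierIdeal_of_lqf g
  obtain ⟨ep⟩ := pullback_idealMod (f.fiberι s) (isEffCartierIdeal_ker f hgeo i) (hker ▸ hD)
  have hinv : ClSub.IsInverseOf (CohIII.fiberMod f L s) (ClSub.idealMod i'.ker) := by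
    rw [hker]
    obtain ⟨e₁⟩ := isInverseOf_pullback (f.fiberι s) hLI
    exact ⟨PicGrp.tensorModIso (Iso.refl _) ep.symm ≪≫ e₁⟩
  rw [Groth.EulerDeg.deg_inverse_idealMod κ hdim.le hD (isInvertible_pullback (f.fiberι s) hL) hinv]
  have := Groth.Inter.isNoetherian κ (X := f.fiber s)
  have := (Groth.Inter.finCoh κ (Groth.EulerDeg.isCoh_quotMod i'.ker)).finite 0
  obtain ⟨y, hy⟩ := hsurj s
  have hne : Nonempty i'.ker.subscheme := by
    obtain ⟨z, -, -⟩ := Scheme.Pullback.exists_preimage_pullback (f := S.fromSpecResidueField s)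
      (g := i ≫ f) (IsLocalRing.closedPoint κ) y
      (by rw [Scheme.fromSpecResidueField_apply]; exact hy.symm)
    exact ⟨i'.toImage (hY.isoPullback.inv z)⟩
  have : Nontrivial Γ(ClSub.quotMod i'.ker, (⊤ : (f.fiber s).Opens)) := by
    obtain ⟨z⟩ := hne
    have : Nonempty ↥(⊤ : i'.ker.subscheme.Opens) := ⟨⟨z, trivial⟩⟩
    exact inferInstanceAs (Nontrivial Γ(i'.ker.subscheme, ⊤))
  have : Nontrivial (Coh.HH (f.fiber s) (ClSub.quotMod i'.ker) 0) :=
    (Groth.EulerDeg.h0Equiv κ _).toEquiv.nontrivial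
  exact_mod_cast Module.finrank_pos

/-- Locally on the base a power of `O(Y)` is very ample. -/
theorem exists_nhd_pn [IsLocallyNoetherian S] [IsClosedImmersion i] [IsProper f] [Smooth f]
    [IsFinite (i ≫ f)] [Flat (i ≫ f)] [LocallyOfFinitePresentation (i ≫ f)]
    (hsurj : Function.Surjective (i ≫ f).base) {L : X.Modules} (hL : PicF.IsInvertible L)
    (hLI : ClSub.IsInverseOf L (ClSub.idealMod i.ker)) (s : S) :
    ∃ (N : ℕ) (U : S.Opens), 0 < N ∧ s ∈ U ∧
      RelAmple.IsRelVeryAmplePn (f ∣_ U) ((CohB1.tensorPow L N).restrict (f ⁻¹ᵁ U).ι) := by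
  let κ := S.residueField s
  let : (f.fiber s).Over (Spec κ) := ⟨f.fiberToSpecResidueField s⟩
  have : IsProper (f.fiber s ↘ Spec κ) :=
    MorphismProperty.pullback_snd (P := @IsProper) _ _ ‹_›
  have : Smooth (f.fiber s ↘ Spec κ) := MorphismProperty.pullback_snd (P := @Smooth) _ _ ‹_›
  have : GeometricallyConnected (f.fiber s ↘ Spec κ) := geometricallyConnected_fibre f hgeo s
  have hdim := dim_fibre f hgeo s
  have hdeg := deg_pos f hgeo i hsurj hL hLI s
  let N := 2 * Curv2.genus κ (f.fiber s) + 1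
  have hM := isInvertible_tensorPow hL N
  obtain ⟨e⟩ := pullback_tensorPow (f.fiberι s) L N
  have hdegN : 2 * (Curv2.genus κ (f.fiber s) : ℤ) + 1 ≤
      Curv2.deg κ (f.fiber s) (CohIII.fiberMod f (CohB1.tensorPow L N) s) 1 := by
    have h2 := Groth.VarietyBC.CurveDeg.deg_tensorPow (k := κ) hdim.le (isInvertible_pullback (f.fiberι s) hL) N
    have h1 : Curv2.deg κ (f.fiber s) (CohIII.fiberMod f (CohB1.tensorPow L N) s) 1 =
        Curv2.deg κ (f.fiber s) (CohB1.tensorPow ((Scheme.Modules.pullback (f.fiberι s)).obj L) N) 1 := by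
      unfold Curv2.deg
      rw [Groth.EulerDeg.euler_congr κ e]
    rw [h1, h2]
    have h3 : (1 : ℤ) ≤ Curv2.deg κ (f.fiber s) (CohIII.fiberMod f L s) 1 := hdeg
    calc 2 * (Curv2.genus κ (f.fiber s) : ℤ) + 1 = (N : ℤ) * 1 := by simp [N]
      _ ≤ _ := mul_le_mul_of_nonneg_left h3 (by positivity)
  obtain ⟨hva, h1⟩ := Groth.FibreVA.Curve.veryAmple_and_h1 κ (f.fiber s) hdim _
    (isInvertible_pullback (f.fiberι s) hM) hdegN
  obtain ⟨U, hsU, hU⟩ := Groth.FibreVA.exists_nhd_pn_of_fibre f _ hM s hva h1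
  exact ⟨N, U, Nat.succ_pos _, hsU, hU⟩

/-- Over a neighbourhood of each point of the base the complement of `Y` is affine. -/
theorem exists_affine_nhd [IsLocallyNoetherian S] [IsClosedImmersion i] [IsProper f] [Smooth f]
    [IsFinite (i ≫ f)] [Flat (i ≫ f)] [LocallyOfFinitePresentation (i ≫ f)]
    (hsurj : Function.Surjective (i ≫ f).base) (s : S) :
    ∃ (W : S.Opens) (V : X.Opens), s ∈ W ∧ IsAffineOpen W ∧ IsAffineOpen V ∧
      (V : Set X) = (Set.range i.base)ᶜ ∩ f.base ⁻¹' (W : Set S) := by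
  have hI := isEffCartierIdeal_ker f hgeo i
  obtain ⟨L, hLI, hIL⟩ := exists_isInverseOf (isInvertible_idealMod hI)
  have hLI' := isInverseOf_symm hIL
  obtain ⟨σ, hσ, -⟩ := exists_section_zeroScheme_eq hI hLI'
  let t : Γ(L, ⊤) := gsec σ
  have ht : ∀ x : X, x ∈ gloc t ↔ x ∉ Set.range i.base := fun x => by
    rw [← genLocus_eq_gloc, mem_genLocus_iff_not_mem_support hLI σ x, hσ,
      ← SetLike.mem_coe, ← Scheme.IdealSheafData.range_subschemeι]
    have hr : Set.range i.ker.subschemeι = Set.range i.base := by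
      conv_rhs => rw [← i.toImage_imageι]
      rw [Scheme.Hom.comp_base, TopCat.coe_comp,
        i.toImage.surjective.range_comp]
    rw [hr]
  obtain ⟨N, U, hN, hsU, hU⟩ := exists_nhd_pn f hgeo i hsurj hLI hLI' s
  obtain ⟨W, hW, hsW, hWU⟩ := exists_isAffineOpen_mem_and_subset (x := s) (U := U) hsU
  let f' := f ∣_ U
  let M := CohB1.tensorPow L N
  have hM := isInvertible_tensorPow hLI N
  have hMU := Groth.Ega2Proj.isInvertible_restrict (f ⁻¹ᵁ U).ι hM
  have hrel := Groth.RelVA.isRelAmple_of_isRelVeryAmple f'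
    (Groth.RelVA.isRelVeryAmple_of_cover_pn f' hMU (ι := PUnit) (fun _ => ⊤) (by simp)
      fun _ => Groth.RelVA.isRelVeryAmplePn_restrict hU ⊤)
  let W' : U.toScheme.Opens := U.ι ⁻¹ᵁ W
  have hW' : IsAffineOpen W' := hW.preimage_of_isOpenImmersion U.ι (by simpa using hWU)
  have : IsAffine (W' : Scheme.{u}) := hW'
  have hamp := hrel.2 ⟨W', hW'⟩
  let ρ := (f' ⁻¹ᵁ W').ι ≫ (f ⁻¹ᵁ U).ι
  have hamp' : CohB1.IsAmple ((Scheme.Modules.pullback ρ).obj M) :=
    Groth.Ega2Proj.isAmple_of_iso ((Groth.Ega2Proj.restrictRestrictIso _ _ M).symm ≪≫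
      (Scheme.Modules.restrictFunctorIsoPullback ρ).app M) hamp
  have : IsProper f' := IsZariskiLocalAtTarget.restrict ‹IsProper f› U
  have : IsProper (f' ∣_ W') := IsZariskiLocalAtTarget.restrict ‹IsProper f'› W'
  have haff := isAffineOpen_gloc_of_universallyClosed (f' ∣_ W') hamp'
    (pullSec ρ M (U := ⊤) (powSec t N))
  rw [gloc_pullSec ρ hM, gloc_powSec hLI t hN] at haff
  refine ⟨W, ρ ''ᵁ (ρ ⁻¹ᵁ gloc t), hsW, hW, haff.image_of_isOpenImmersion ρ, ?_⟩
  rw [Scheme.Hom.coe_image, Scheme.Hom.coe_preimage, Set.image_preimage_eq_inter_range]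
  ext x
  have hr : x ∈ Set.range ρ ↔ f.base x ∈ W := by
    constructor
    · rintro ⟨z, rfl⟩
      have hz : U.ι (f' ((f' ⁻¹ᵁ W').ι z)) ∈ W := z.2
      rwa [← Scheme.Hom.comp_apply f', morphismRestrict_ι] at hz
    · intro hx
      have hxU : x ∈ f ⁻¹ᵁ U := hWU hx
      refine ⟨⟨⟨x, hxU⟩, ?_⟩, rfl⟩
      show U.ι (f' ⟨x, hxU⟩) ∈ W
      rw [← Scheme.Hom.comp_apply f', morphismRestrict_ι]
      exact hx
  exact ⟨fun h => ⟨(ht x).1 h.1, hr.1 h.2⟩, fun h => ⟨(ht x).2 h.1, hr.2 h.2⟩⟩

end Groth.ZetaAn.ElemFib
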