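import Groth.Agent.CurveBridge.Main
import Groth.Agent.PicAux.KummerAlg
import Groth.Agent.FunFld1.Zeta.Numer

/-! The Picard classes of a regular proper curve are the divisor classes of its function field. -/

set_option autoImplicit false
set_option linter.style.haveILetI false
set_option linter.unusedSectionVars false

universe u

open CategoryTheory AlgebraicGeometry Opposite TopologicalSpace WithZero
open Groth.PicAux Groth.CurveBridge

namespace Groth.ZetaAn

variable {k : Type u} [Field k] {X : Scheme.{u}} [X.Over (Spec (CommRingCat.of k))] [IsIntegral X]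
  [IsProper (X ↘ Spec (CommRingCat.of k))]

/-- `L` embeds in the rational functions with divisor `D`. -/
def Rep (h : IsRegCurve X) (L : X.Modules) (D : FunFld.Divisor k X.functionField) : Prop :=
  ∃ φ : L ⟶ constK X, Mono φ ∧ ∀ (x : Pt X) z,
    InStalk φ x.1 z ↔ (placeAt (k := k) h x).1 z ≤ exp (D (placeAt (k := k) h x))

variable (h : IsRegCurve X)
include h

/-- A rational function without poles on an open is a section. -/
theorem exists_section_of_le_one {V : X.Opens} (hV : genericPoint X ∈ V) {z : X.functionField}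
    (hz : ∀ y : Pt X, y.1 ∈ V → (placeAt (k := k) h y).1 z ≤ 1) :
    ∃ r : Γ(X, V), X.presheaf.germ V (genericPoint X) hV r = z := by
  have hne : (V : Set X).Nonempty := ⟨_, hV⟩
  refine (mem_regOn hne).1 (mem_regOn_of_local hne fun x hx => ?_)
  obtain ⟨a, ha⟩ : ∃ a, algebraMap (X.presheaf.stalk x) X.functionField a = z := by
    by_cases hgx : x = genericPoint X
    · exact range_toFF_generic x hgx z
    · exact (placeAt_le_one_iff h ⟨x, (isClosed_singleton_iff X h.dim x).mpr hgx⟩ z).1 (hz _ hx)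
  obtain ⟨W, hxW, r, rfl⟩ := TopCat.Presheaf.exists_germ_eq X.presheaf a
  refine ⟨W, hxW, ⟨x, hxW⟩, r, ?_⟩
  rw [← ha, germ_generic]
  rfl

theorem germ_inj {V : X.Opens} (hV : genericPoint X ∈ V) {r r' : Γ(X, V)}
    (e : X.presheaf.germ V (genericPoint X) hV r = X.presheaf.germ V (genericPoint X) hV r') :
    r = r' :=
  germ_injective_of_isIntegral X (genericPoint X) hV e

/-- A rational function without zeros and poles on an open is a unit section. -/
theorem exists_unit_section {V : X.Opens} (hV : genericPoint X ∈ V) {z : X.functionField} (hz0 : z ≠ 0)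
    (hz : ∀ y : Pt X, y.1 ∈ V → (placeAt (k := k) h y).1 z = 1) :
    ∃ r : Γ(X, V), IsUnit r ∧ X.presheaf.germ V (genericPoint X) hV r = z := by
  obtain ⟨r, hr⟩ := exists_section_of_le_one (k := k) h hV fun y hy => (hz y hy).le
  obtain ⟨r', hr'⟩ := exists_section_of_le_one (k := k) h hV (z := z⁻¹) fun y hy => by
    rw [map_inv₀, hz y hy, inv_one]
  refine ⟨r, IsUnit.of_mul_eq_one r' (germ_inj h hV ?_), hr⟩
  rw [map_mul, hr, hr', map_one]
  exact mul_inv_cancel₀ hz0

theorem val_gen {L : X.Modules} (φ : L ⟶ constK X) [Mono φ]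
    {D : FunFld.Divisor k X.functionField}
    (hD : ∀ (x : Pt X) z,
      InStalk φ x.1 z ↔ (placeAt (k := k) h x).1 z ≤ exp (D (placeAt (k := k) h x)))
    {U : X.Opens} {e : Γ(L, U)} (he : Gen L U e) (y : Pt X) (hy : y.1 ∈ U) :
    (placeAt (k := k) h y).1 (kv (generic_mem U hy) (φ.app U e)) =
      exp (D (placeAt (k := k) h y)) := by
  set P := placeAt (k := k) h y
  have hw0 : kv (generic_mem U hy) (φ.app U e) ≠ 0 := kv_gen_ne_zero φ hy he
  refine le_antisymm ((hD y _).1 ((inStalk_iff_of_gen φ hy he _).2 ⟨1, by rw [map_one, one_mul]⟩)) ?_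
  obtain ⟨z, hz⟩ := Groth.FunFld1.exists_val_eq_exp P (D P)
  obtain ⟨a, rfl⟩ := (inStalk_iff_of_gen φ hy he z).1 ((hD y z).2 hz.le)
  rw [← hz, map_mul]
  exact mul_le_of_le_one_left' ((placeAt_le_one_iff h y _).2 ⟨a, rfl⟩)

theorem exists_pic_rep {L : X.Modules} (hL : PicF.IsInvertible L) :
    ∃ D : FunFld.Divisor k X.functionField, Rep h L D := by
  obtain ⟨U, e, hU, he⟩ := (isInvertible_iff_exists_gen L).1 hL (genericPoint X)
  obtain ⟨φ, hmono, hφ⟩ := exists_embedding hL hU he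
  obtain ⟨D, hD⟩ := exists_divisor (k := k) φ h hL hU he hφ
  exact ⟨D, φ, hmono, hD⟩

/-- Two embeddings of an invertible module differ by a scalar, and so do their divisors. -/
theorem cls_eq_of_rep {L L' : X.Modules} (hL : PicF.IsInvertible L) (ψ : L ≅ L')
    {D D' : FunFld.Divisor k X.functionField} (hD : Rep h L D) (hD' : Rep h L' D') :
    Groth.FunFld1.cls D = Groth.FunFld1.cls D' := by
  have hF := isFF k X h.dim
  obtain ⟨φ, hmono, hφ⟩ := hD
  obtain ⟨φ', hmono', hφ'⟩ := hD'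
  obtain ⟨U₀, e₀, hU₀, he₀⟩ := (isInvertible_iff_exists_gen L).1 hL (genericPoint X)
  set χ : L ⟶ constK X := ψ.hom ≫ φ'
  have hχ : Mono χ := mono_comp _ _
  have hgp : genericPoint X ∈ U₀ := hU₀
  set a := kv hgp (φ.app U₀ e₀) with ha
  set b := kv hgp (χ.app U₀ e₀) with hb
  have ha0 : a ≠ 0 := kv_gen_ne_zero φ hU₀ he₀
  have hb0 : b ≠ 0 := kv_gen_ne_zero χ hU₀ he₀
  set c := b / a with hc
  have hc0 : c ≠ 0 := div_ne_zero hb0 ha0
  have hscal : ∀ (V : X.Opens) (hV : genericPoint X ∈ V) (m : Γ(L, V)),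
      kv hV (χ.app V m) = c * kv hV (φ.app V m) := by
    intro V hV m
    obtain ⟨r, hr⟩ := he₀.exists_coeff (inf_le_right : V ⊓ U₀ ≤ U₀) (res L (inf_le_left : V ⊓ U₀ ≤ V) m)
    have hgen : ∀ χ₁ : L ⟶ constK X, kv hV (χ₁.app V m) =
        X.presheaf.germ (V ⊓ U₀) (genericPoint X) ⟨hV, hgp⟩ r * kv hgp (χ₁.app U₀ e₀) := by
      intro χ₁
      have h1 := congrArg (χ₁.app (V ⊓ U₀)) hr
      rw [app_res, Scheme.Modules.Hom.app_smul, app_res] at h1
      have h2 := congrArg (kv (show genericPoint X ∈ V ⊓ U₀ from ⟨hV, hgp⟩)) h1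
      rw [kv_res, kv_smul, kv_res] at h2
      exact h2
    rw [hgen χ, hgen φ, ← ha, ← hb, hc]
    field_simp
  have hst : ∀ (x : Pt X) z, InStalk φ' x.1 (c * z) ↔ InStalk φ x.1 z := by
    intro x z
    constructor
    · rintro ⟨W, hx, m, hm⟩
      refine ⟨W, hx, ψ.inv.app W m, mul_left_cancel₀ hc0 ?_⟩
      rw [← hscal, ← hm]
      simp [χ, ← CategoryTheory.comp_apply, ← Scheme.Modules.Hom.comp_app]
    · rintro ⟨W, hx, m, rfl⟩
      exact ⟨W, hx, ψ.hom.app W m, by rw [← hscal]; rfl⟩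
  have hDD : D' = D + FunFld.div k c⁻¹ := by
    ext P
    obtain ⟨x, rfl⟩ := placeAt_surjective (k := k) h P
    rw [Finsupp.add_apply, hF.div_apply, Groth.FunFld1.ord_inv]
    set P := placeAt (k := k) h x
    have key : ∀ z, P.1 z ≤ exp (D P) ↔ P.1 z ≤ exp (D' P + P.ord c) := by
      intro z
      rw [← hφ, ← hst, hφ', map_mul, Groth.FunFld1.val_eq_exp_neg_ord P hc0]
      constructor
      · intro hz
        have := mul_le_mul' (le_refl (exp (P.ord c))) hz
        rwa [← mul_assoc, ← exp_add, add_neg_cancel, exp_zero, one_mul, ← exp_add, add_comm] at this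
      · intro hz
        have := mul_le_mul' (le_refl (exp (-P.ord c))) hz
        rwa [← exp_add, show -P.ord c + (D' P + P.ord c) = D' P by ring] at this
    obtain ⟨z₁, h₁⟩ := Groth.FunFld1.exists_val_eq_exp P (D P)
    obtain ⟨z₂, h₂⟩ := Groth.FunFld1.exists_val_eq_exp P (D' P + P.ord c)
    have e₁ := (key z₁).1 h₁.le
    have e₂ := (key z₂).2 h₂.le
    rw [h₁, exp_le_exp] at e₁
    rw [h₂, exp_le_exp] at e₂
    omega
  rw [hDD, hF.cls_add_div D (inv_ne_zero hc0)]

/-- Linearly equivalent divisors come from isomorphic modules. -/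
theorem nonempty_iso_of_rep {L L' : X.Modules} (hL : PicF.IsInvertible L)
    (hL' : PicF.IsInvertible L') {D D' : FunFld.Divisor k X.functionField}
    (hD : Rep h L D) (hD' : Rep h L' D') (hcls : Groth.FunFld1.cls D = Groth.FunFld1.cls D') :
    Nonempty (L ≅ L') := by
  have hF := isFF k X h.dim
  obtain ⟨φ, hmono, hφ⟩ := hD
  obtain ⟨φ', hmono', hφ'⟩ := hD'
  obtain ⟨t, ht0, hDt⟩ := hF.exists_div_of_cls_eq hcls
  choose U e hxU he using (isInvertible_iff_exists_gen L).1 hL
  choose U' e' hxU' he' using (isInvertible_iff_exists_gen L').1 hL'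
  let V : X → X.Opens := fun x => U x ⊓ U' x
  have hV : iSup V = ⊤ := top_le_iff.1 fun x _ => Opens.mem_iSup.2 ⟨x, hxU x, hxU' x⟩
  have hgp : ∀ x, genericPoint X ∈ V x :=
    fun x => generic_mem (V x) (⟨hxU x, hxU' x⟩ : x ∈ V x)
  let s : ∀ x, Γ(L, V x) := fun x => res L inf_le_left (e x)
  let s' : ∀ x, Γ(L', V x) := fun x => res L' inf_le_right (e' x)
  have hs : ∀ x, Gen L (V x) (s x) := fun x => (he x).res _
  have hs' : ∀ x, Gen L' (V x) (s' x) := fun x => (he' x).res _
  have hw' : ∀ x, kv (hgp x) (φ'.app (V x) (s' x)) ≠ 0 := fun x =>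
    kv_gen_ne_zero φ' (hgp x) (hs' x)
  have hu : ∀ x, ∃ r : Γ(X, V x), IsUnit r ∧ X.presheaf.germ (V x) (genericPoint X) (hgp x) r =
      kv (hgp x) (φ.app (V x) (s x)) / (t * kv (hgp x) (φ'.app (V x) (s' x))) := by
    intro x
    refine exists_unit_section (k := k) h (hgp x)
      (div_ne_zero (kv_gen_ne_zero φ (hgp x) (hs x)) (mul_ne_zero ht0 (hw' x))) fun y hy => ?_
    rw [map_div₀, map_mul, val_gen (k := k) h φ hφ (hs x) y hy, val_gen (k := k) h φ' hφ' (hs' x) y hy,
      hDt, Finsupp.add_apply, hF.div_apply, Groth.FunFld1.val_eq_exp_neg_ord _ ht0, ← exp_add,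
      add_left_comm, neg_add_cancel, add_zero, div_self exp_ne_zero]
  choose r hru hr using hu
  obtain ⟨iso, -⟩ := exists_iso_of_gen hV s hs (fun x => r x • s' x)
    (fun x => (hs' x).smul_unit (hru x)) fun i j a ha => by
      refine app_injective φ' _ (kv_injective (show genericPoint X ∈ V i ⊓ V j from ⟨hgp i, hgp j⟩)
        (mul_left_cancel₀ ht0 ?_))
      have h1 := congrArg (fun m => kv (show genericPoint X ∈ V i ⊓ V j from ⟨hgp i, hgp j⟩)
        (φ.app (V i ⊓ V j) m)) ha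
      simp only [app_res, Scheme.Modules.Hom.app_smul, kv_res, kv_smul] at h1
      simp only [app_res, Scheme.Modules.Hom.app_smul, kv_res, kv_smul, hr]
      have := hw' i
      have := hw' j
      field_simp
      exact h1
  exact ⟨iso⟩

/-- Every divisor is the divisor of an invertible module. -/
theorem exists_rep_of_divisor (D : FunFld.Divisor k X.functionField) :
    ∃ L : X.Modules, PicF.IsInvertible L ∧ Rep h L D := by
  classical
  have hF := isFF k X h.dim
  have hw : ∀ x : X, ∃ w : X.functionField, w ≠ 0 ∧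
      (∀ hx : IsClosed ({x} : Set X),
        (placeAt (k := k) h ⟨x, hx⟩).1 w = exp (D (placeAt (k := k) h ⟨x, hx⟩))) ∧
      (x = genericPoint X → w = 1) := by
    intro x
    by_cases hx : IsClosed ({x} : Set X)
    · obtain ⟨w, hw⟩ := Groth.FunFld1.exists_val_eq_exp (placeAt (k := k) h ⟨x, hx⟩)
        (D (placeAt (k := k) h ⟨x, hx⟩))
      refine ⟨w, fun h0 => ?_, fun _ => hw, fun he => absurd he ((isClosed_singleton_iff X h.dim x).mp hx)⟩
      rw [h0, map_zero] at hw
      exact exp_ne_zero hw.symm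
    · exact ⟨1, one_ne_zero, fun hx' => absurd hx' hx, fun _ => rfl⟩
  choose w hw0 hwx hwg using hw
  -- the points where `w x` is not a local equation
  let Z : X → Set X := fun x => Subtype.val ''
    ((placeAt (k := k) h) ⁻¹' ↑((D + FunFld.div k (w x)).support))
  have hZ : ∀ x, IsClosed (Z x) := by
    intro x
    have hfin : (Z x).Finite :=
      ((Finset.finite_toSet _).preimage (placeAt_injective h).injOn).image _
    rw [← Set.biUnion_of_singleton (Z x)]
    exact hfin.isClosed_biUnion fun y hy => by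
      obtain ⟨y', -, rfl⟩ := hy
      exact y'.2
  let U : X → X.Opens := fun x => ⟨(Z x)ᶜ, (hZ x).isOpen_compl⟩
  have hmemU : ∀ x, x ∈ U x := by
    rintro x ⟨y, hy, rfl⟩
    simp only [Set.mem_preimage, Finset.mem_coe, Finsupp.mem_support_iff, Finsupp.add_apply,
      hF.div_apply] at hy
    refine hy ?_
    rw [Groth.FunFld1.ord_eq_of_val_eq _ (hwx y.1 y.2)]
    exact add_neg_cancel _
  have hval : ∀ (x : X) (y : Pt X), y.1 ∈ U x →
      (placeAt (k := k) h y).1 (w x) = exp (D (placeAt (k := k) h y)) := by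
    intro x y hy
    have h0 : (D + FunFld.div k (w x)) (placeAt (k := k) h y) = 0 := by
      by_contra hne
      exact hy ⟨y, by simpa using hne, rfl⟩
    rw [Finsupp.add_apply, hF.div_apply] at h0
    rw [Groth.FunFld1.val_eq_exp_neg_ord _ (hw0 x)]
    congr 1
    omega
  have hgp : ∀ x, genericPoint X ∈ U x := fun x => generic_mem _ (hmemU x)
  have hη : ∀ i j, ∃ r : Γ(X, U i ⊓ U j), IsUnit r ∧
      X.presheaf.germ (U i ⊓ U j) (genericPoint X) ⟨hgp i, hgp j⟩ r = w i / w j := by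
    intro i j
    refine exists_unit_section (k := k) h (V := U i ⊓ U j) ⟨hgp i, hgp j⟩
      (div_ne_zero (hw0 i) (hw0 j)) fun y hy => ?_
    rw [map_div₀, hval i y hy.1, hval j y hy.2, div_self exp_ne_zero]
  choose η hηu hηv using hη
  obtain ⟨L, s, hs, hL, hrel⟩ := exists_module_of_cocycle U η
    (top_le_iff.1 fun x _ => Opens.mem_iSup.2 ⟨x, hmemU x⟩) hηu fun i j l => by
      refine germ_inj h (V := U i ⊓ U j ⊓ U l) ⟨⟨hgp i, hgp j⟩, hgp l⟩ ?_
      erw [map_mul, germ_resX', germ_resX', germ_resX', hηv, hηv, hηv]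
      have := hw0 j
      field_simp
  refine ⟨L, hL, ?_⟩
  obtain ⟨φ, hmono, hφ⟩ := exists_embedding hL (hgp (genericPoint X)) (hs (genericPoint X))
  refine ⟨φ, hmono, fun y z => ?_⟩
  have hkv : kv (hgp y.1) (φ.app (U y.1) (s y.1)) = w y.1 := by
    have h1 := congrArg (fun m => kv (show genericPoint X ∈ U y.1 ⊓ U (genericPoint X) from
      ⟨hgp _, hgp _⟩) (φ.app (U y.1 ⊓ U (genericPoint X)) m)) (hrel y.1 (genericPoint X))
    simp only [app_res, Scheme.Modules.Hom.app_smul, kv_res, kv_smul, hηv, hφ, kv_ksec, mul_one,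
      hwg (genericPoint X) rfl, div_one] at h1
    exact h1
  set P := placeAt (k := k) h y
  have hv := hval y.1 y (hmemU y.1)
  rw [inStalk_iff_of_gen φ (hmemU y.1) (hs y.1)]
  constructor
  · rintro ⟨a, rfl⟩
    rw [map_mul, hkv, hv]
    exact mul_le_of_le_one_left' ((placeAt_le_one_iff h y _).2 ⟨a, rfl⟩)
  · intro hz
    obtain ⟨a, ha⟩ := (placeAt_le_one_iff (k := k) h y (z / w y.1)).1 (by
      rw [map_div₀, hv]
      exact (div_le_one₀ (zero_lt_iff.mpr exp_ne_zero)).2 hz)
    exact ⟨a, by rw [ha, hkv, div_mul_cancel₀ _ (hw0 _)]⟩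

theorem deg_eq_of_rep (hK : FunFld.IsFunctionField k X.functionField) {L : X.Modules}
    (hL : PicF.IsInvertible L) {D : FunFld.Divisor k X.functionField} (hD : Rep h L D) :
    Curv2.deg k X L 1 = D.deg := by
  obtain ⟨U, e, hU, he⟩ := (isInvertible_iff_exists_gen L).1 hL (genericPoint X)
  obtain ⟨φ, hmono, hφ⟩ := exists_embedding hL hU he
  obtain ⟨E, hE⟩ := exists_divisor (k := k) φ h hL hU he hφ
  rw [(isFF k X h.dim).deg_eq_of_cls_eq (cls_eq_of_rep h hL (Iso.refl L) hD ⟨φ, hmono, hE⟩)]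
  obtain ⟨e0⟩ := nonempty_h0_equiv φ h hU hφ hE
  obtain ⟨e1⟩ := nonempty_h1_equiv φ h hU hφ hE
  obtain ⟨hfin, hq⟩ := Groth.FunFld1.adele_quotient hK E
  rw [e1.finrank_eq, ← genus_eq h hK] at hq
  unfold Groth.FunFld1.delta at hq
  have h0 : Module.finrank k (Coh.HH X L 0) = FunFld.ell E := e0.finrank_eq
  unfold Curv2.deg
  rw [euler_structure h hK, Groth.EulerDeg.euler_eq_sub fun n hn => subsingleton_HH k h L hn, h0]
  push_cast
  linarith

omit h in
theorem iso_of_cl_eq {L L' : X.Modules} (e : PicF.cl L = PicF.cl L') : Nonempty (L ≅ L') :=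
  (Equivalence.eqvGen_iff (r := fun L L' : X.Modules => Nonempty (L ≅ L'))
    ⟨fun L => ⟨Iso.refl L⟩, fun ⟨a⟩ => ⟨a.symm⟩, fun ⟨a⟩ ⟨b⟩ => ⟨a ≪≫ b⟩⟩).1 (Quot.eqvGen_exact e)

/-- The invertible classes of degree `m` are the divisor classes of degree `m`. -/
theorem nonempty_picEquiv (hK : FunFld.IsFunctionField k X.functionField) (m : ℤ) :
    Nonempty ({c : PicF.Cl X // ∃ L : X.Modules, PicF.cl L = c ∧ PicF.IsInvertible L ∧
      Curv2.deg k X L 1 = m} ≃ Groth.FunFld1.ClN k X.functionField m) := by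
  refine ⟨Equiv.ofBijective (fun c => ⟨Groth.FunFld1.cls
    (exists_pic_rep (k := k) h c.2.choose_spec.2.1).choose, _, ?_, rfl⟩) ⟨?_, ?_⟩⟩
  · exact ((deg_eq_of_rep h hK c.2.choose_spec.2.1
      (exists_pic_rep (k := k) h c.2.choose_spec.2.1).choose_spec).symm.trans c.2.choose_spec.2.2)
  · intro c c' he
    obtain ⟨iso⟩ := nonempty_iso_of_rep h c.2.choose_spec.2.1 c'.2.choose_spec.2.1
      (exists_pic_rep (k := k) h c.2.choose_spec.2.1).choose_spec
      (exists_pic_rep (k := k) h c'.2.choose_spec.2.1).choose_spec (congrArg Subtype.val he)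
    refine Subtype.ext ?_
    rw [← c.2.choose_spec.1, ← c'.2.choose_spec.1]
    exact Quot.sound ⟨iso⟩
  · rintro ⟨_, D, hD, rfl⟩
    obtain ⟨L, hL, hrep⟩ := exists_rep_of_divisor h D
    let c : {c : PicF.Cl X // ∃ L : X.Modules, PicF.cl L = c ∧ PicF.IsInvertible L ∧
      Curv2.deg k X L 1 = m} := ⟨PicF.cl L, L, rfl, hL, (deg_eq_of_rep h hK hL hrep).trans hD⟩
    obtain ⟨iso⟩ := iso_of_cl_eq (c.2.choose_spec.1)
    exact ⟨c, Subtype.ext (cls_eq_of_rep h c.2.choose_spec.2.1 iso
      (exists_pic_rep (k := k) h c.2.choose_spec.2.1).choose_spec hrep)⟩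

end Groth.ZetaAn
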