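import Groth.Agent.ZetaAn.CurveCount
import Groth.Agent.CurveBridge.Main
import Groth.Agent.VarietyBC.Fibre
import Groth.Agent.VarietyBC.SmoothChart
import Groth.Agent.FunFld1.Zeta.RH
import Groth.Prelude.Def_Curve

/-! Smooth proper geometrically irreducible curves over finite fields as function fields. -/

set_option autoImplicit false
set_option linter.style.haveILetI false

universe u

open CategoryTheory AlgebraicGeometry FunFld Groth.CurveBridge

namespace Groth.ZetaAn

variable {k : Type u} [Field k] {X : Scheme.{u}} [X.Over (Spec (CommRingCat.of k))]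

lemma resHom_eq_resMap (x : X) :
    Groth.Variety2.Dim.resHom (X ↘ Spec (CommRingCat.of k)) x = Curv2.resMap k X x := by
  have : CommRingCat.ofHom (Groth.Variety2.Dim.resHom (X ↘ Spec (CommRingCat.of k)) x) =
      CommRingCat.ofHom (Curv2.resMap k X x) := by
    apply Spec.map_injective
    rw [Groth.Variety2.Dim.resHom_spec, Groth.VarietyBC.fromSpecResidueField_str]
  exact congrArg CommRingCat.Hom.hom this

lemma isRegCurve_of_smooth [IsIntegral X] [Smooth (X ↘ Spec (CommRingCat.of k))]
    (hdim : topologicalKrullDim X = 1) : IsRegCurve X := by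
  refine ⟨hdim, fun x => Groth.VarietyBC.isRegularLocalRing_of_mem_smoothLocus (k := k) ?_⟩
  rw [Scheme.Hom.smoothLocus_eq_top]
  trivial

open Groth.VarietyBC in
lemma isFunctionField_curve [Finite k] [IsIntegral X]
    [LocallyOfFiniteType (X ↘ Spec (CommRingCat.of k))]
    [GeometricallyIrreducible (X ↘ Spec (CommRingCat.of k))] (hdim : topologicalKrullDim X = 1) :
    FunFld.IsFunctionField k X.functionField := by
  refine ⟨isFF k X hdim, fun y hy => ?_⟩
  have hgi := geometricallyIrreducible_iff_forall.mp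
    (inferInstance : GeometricallyIrreducible (X ↘ Spec (CommRingCat.of k))) (SeparableClosure k)
  have hsc : SepClosedAt k X (genericPoint X) :=
    sepClosedAt_genericPoint_of_bc (SeparableClosure k) fun E => ⟨IsSepClosed.lift⟩
  letI := Curv2.resAlgebra k X (genericPoint X)
  have hf : IsField (X.presheaf.stalk (genericPoint X)) := Field.toIsField X.functionField
  let e : X.functionField →ₐ[k] X.residueField (genericPoint X) :=
    { (X.residue (genericPoint X)).hom with commutes' := fun _ => rfl }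
  have he : Function.Injective e := e.toRingHom.injective
  have halg : IsAlgebraic k (e y) := hy.algHom e
  obtain ⟨c, hc⟩ := hsc (e y) (PerfectField.separable_of_irreducible (minpoly.irreducible halg.isIntegral))
  exact ⟨c, he (by rw [e.commutes]; exact hc)⟩

/-- The degree of a place is the residue degree of its point. -/
lemma deg_placeAt [IsIntegral X] [LocallyOfFiniteType (X ↘ Spec (CommRingCat.of k))]
    (h : IsRegCurve X) (x : Pt X) :
    (placeAt (k := k) h x).deg = EGA4loc.residueDegree (X ↘ Spec (CommRingCat.of k)) x.1 := by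
  rw [Groth.Misc10.FrobPts.residueDegree_eq_finrank, resHom_eq_resMap]
  set P := placeAt (k := k) h x
  let φ : X.presheaf.stalk x.1 →+* P.O :=
    (algebraMap (X.presheaf.stalk x.1) X.functionField).codRestrict P.O.toSubring
      fun a => (placeAt_le_one_iff h x _).2 ⟨a, rfl⟩
  have hφ : Function.Bijective φ := by
    refine ⟨fun a b hab => ?_, fun z => ?_⟩
    · haveI := h.dvr (k := k) x
      exact IsFractionRing.injective (X.presheaf.stalk x.1) X.functionField (congrArg Subtype.val hab)
    · obtain ⟨a, ha⟩ := (placeAt_le_one_iff h x z.1).1 z.2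
      exact ⟨a, Subtype.ext ha⟩
  let e : X.residueField x.1 ≃+* IsLocalRing.ResidueField P.O :=
    IsLocalRing.ResidueField.mapEquiv (RingEquiv.ofBijective φ hφ)
  have hcomm : ∀ c : k, e (Curv2.resMap k X x.1 c) =
      algebraMap k (IsLocalRing.ResidueField P.O) c := by
    intro c
    change IsLocalRing.residue P.O (φ (Curv2.stalkMap k X x.1 c)) = IsLocalRing.residue P.O _
    exact congrArg _ (Subtype.ext (algebraMap_functionField k X x.1 c))
  letI := Curv2.resAlgebra k X x.1
  exact ((AlgEquiv.ofRingEquiv (f := e) hcomm).toLinearEquiv.finrank_eq).symm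

theorem nPts_eq_Npt [Finite k] [IsIntegral X] [IsProper (X ↘ Spec (CommRingCat.of k))]
    (h : IsRegCurve X) {m : ℕ} (hm : m ≠ 0) :
    Zeta.nPts (X ↘ Spec (CommRingCat.of k)) m = Groth.FunFld1.Npt k X.functionField m := by
  classical
  have hF := isFF k X h.dim
  have hfin := Groth.FunFld1.finite_places_dvd hF hm
  rw [Groth.FunFld1.Npt, finsum_mem_eq_finite_toFinset_sum _ hfin, Zeta.nPts,
    ← Finset.sum_fiberwise_of_maps_to (g := fun P : Place k X.functionField => P.deg) (t := m.divisors)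
      fun P hP => Nat.mem_divisors.2 ⟨(hfin.mem_toFinset).1 hP, hm⟩]
  refine Finset.sum_congr rfl fun d hd => ?_
  rw [Finset.sum_congr rfl fun P hP => (Finset.mem_filter.1 hP).2, Finset.sum_const, smul_eq_mul,
    mul_comm]
  congr 1
  rw [Zeta.degCount, ← Nat.card_eq_finsetCard]
  refine Nat.card_congr ?_
  refine Equiv.trans ?_ ((placeEquiv (k := k) h).subtypeEquiv
    (p := fun x : Pt X => EGA4loc.residueDegree (X ↘ Spec (CommRingCat.of k)) x.1 = d) fun x => ?_)
  · exact (Equiv.subtypeSubtypeEquivSubtypeInter (fun x : X => IsClosed ({x} : Set X))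
      (fun x => EGA4loc.residueDegree (X ↘ Spec (CommRingCat.of k)) x = d)).symm
  · rw [Finset.mem_filter, Set.Finite.mem_toFinset, Set.mem_ofPred_eq,
      show (placeEquiv (k := k) h x) = placeAt h x from rfl, deg_placeAt h x]
    exact ⟨fun he => ⟨he ▸ (Nat.mem_divisors.1 hd).1, he⟩, fun he => he.2⟩

/-- The genus read off from the cardinality of `H¹`. -/
lemma genus_eq_of_card [Finite k] [IsIntegral X] [IsProper (X ↘ Spec (CommRingCat.of k))]
    (h : IsRegCurve X) (hK : FunFld.IsFunctionField k X.functionField) {g : ℕ}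
    (hg : Nat.card (Coh.HH X (Coh.structureModule X) 1) = Nat.card k ^ g) :
    FunFld.genus k X.functionField = g := by
  have hfin : Module.Finite k (Coh.HH X (Coh.structureModule X) 1) := by
    obtain ⟨-, ⟨e⟩⟩ := exists_div_structure k h
    haveI := (Groth.FunFld1.adele_quotient hK (0 : FunFld.Divisor k X.functionField)).1
    exact Module.Finite.equiv e
  rw [← genus_eq h hK]
  unfold Curv2.genus
  rw [Module.natCard_eq_pow_finrank (K := k)] at hg
  exact Nat.pow_right_injective (Finite.one_lt_card (α := k)) hg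

theorem weil_conjectures_curve [Finite k] [IsIntegral X] [Smooth (X ↘ Spec (CommRingCat.of k))]
    [IsProper (X ↘ Spec (CommRingCat.of k))]
    [GeometricallyIrreducible (X ↘ Spec (CommRingCat.of k))] (hdim : topologicalKrullDim X = 1) (g : ℕ)
    (hg : Nat.card (Coh.HH X (Coh.structureModule X) 1) = Nat.card k ^ g) :
    ∃ α : Fin (2 * g) → ℂ, (∀ i, IsIntegral ℤ (α i)) ∧ (∀ i, ‖α i‖ ^ 2 = Nat.card k) ∧
      (∃ σ : Equiv.Perm (Fin (2 * g)), ∀ i, α (σ i) * α i = Nat.card k) ∧
      ∀ (k' : Type u) [Field k'] [Algebra k k'] [Finite k'],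
        (SgaExt.pointCount (X ↘ Spec (CommRingCat.of k)) k' : ℂ) =
          (Nat.card k : ℂ) ^ Module.finrank k k' + 1 - ∑ i, α i ^ Module.finrank k k' := by
  have h := isRegCurve_of_smooth (k := k) hdim
  have hK := isFunctionField_curve (k := k) hdim
  obtain rfl := genus_eq_of_card h hK hg
  obtain ⟨α, hint, hα, hrev⟩ := Groth.FunFld1.exists_roots_numerZ hK
  refine ⟨α, hint, fun i => ?_, ⟨Fin.revPerm, fun i => by
    rw [Fin.revPerm_apply, mul_comm]; exact hrev i⟩, fun k' _ _ _ => ?_⟩
  · rw [Groth.FunFld1.norm_root_eq hK hα hrev i, Real.sq_sqrt (Nat.cast_nonneg _)]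
  · haveI : Module.Finite k k' := Module.Finite.of_finite
    have hm : Module.finrank k k' ≠ 0 := Module.finrank_pos.ne'
    rw [pointCount_eq_nPts, nPts_eq_Npt h hm, Groth.FunFld1.Npt_eq hK hα hm]
    ring

theorem exists_coprime_closedPoints [Finite k] [IsIntegral X] [Smooth (X ↘ Spec (CommRingCat.of k))]
    [IsProper (X ↘ Spec (CommRingCat.of k))]
    [GeometricallyIrreducible (X ↘ Spec (CommRingCat.of k))] (hdim : topologicalKrullDim X = 1) :
    ∃ x y : X, IsClosed ({x} : Set X) ∧ IsClosed ({y} : Set X) ∧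
      Nat.Coprime (EGA4loc.residueDegree (X ↘ Spec (CommRingCat.of k)) x)
        (EGA4loc.residueDegree (X ↘ Spec (CommRingCat.of k)) y) := by
  classical
  have h := isRegCurve_of_smooth (k := k) hdim
  have hK := isFunctionField_curve (k := k) hdim
  set g := FunFld.genus k X.functionField
  set q := Nat.card k
  obtain ⟨α, -, hα, hrev⟩ := Groth.FunFld1.exists_roots_numerZ hK
  have hαn : ∀ i, ‖α i‖ = Real.sqrt (Nat.card k) := Groth.FunFld1.norm_root_eq hK hα hrev
  have hNpt : ∀ {m : ℕ}, m ≠ 0 → (Groth.FunFld1.Npt k X.functionField m : ℂ) =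
      1 + (Nat.card k : ℂ) ^ m - ∑ i, α i ^ m := fun hm => Groth.FunFld1.Npt_eq hK hα hm
  clear hα hrev
  have hq : 2 ≤ q := Finite.one_lt_card
  -- a place of degree exactly `n` for large `n`
  have hlarge : ∀ n : ℕ, (4 * g + 4) ^ 2 ≤ q ^ n → 0 < Groth.FunFld1.Npt k X.functionField n := by
    intro n hn
    have hn0 : n ≠ 0 := by
      rintro rfl
      rw [pow_zero] at hn
      have := Nat.pow_le_pow_left (show 4 ≤ 4 * g + 4 by omega) 2
      omega
    by_contra h0
    rw [not_lt, Nat.le_zero] at h0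
    have h1 := hNpt hn0
    rw [h0, Nat.cast_zero] at h1
    have h2 : ‖(1 : ℂ) + (q : ℂ) ^ n‖ ≤ (2 * g) * Real.sqrt q ^ n := by
      rw [show (1 : ℂ) + (q : ℂ) ^ n = ∑ i, α i ^ n from (sub_eq_zero.1 h1.symm)]
      refine (norm_sum_le _ _).trans_eq ?_
      rw [Finset.sum_congr rfl fun i _ => by rw [norm_pow, hαn i],
        Finset.sum_const, Finset.card_univ, Fintype.card_fin, nsmul_eq_mul]
      push_cast
      rfl
    have h3 : (q : ℝ) ^ n ≤ ‖(1 : ℂ) + (q : ℂ) ^ n‖ := by
      rw [show (1 : ℂ) + (q : ℂ) ^ n = (((1 + q ^ n : ℕ) : ℂ)) by push_cast; ring, Complex.norm_natCast]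
      push_cast
      linarith
    have hs : Real.sqrt q ^ n * Real.sqrt q ^ n = (q : ℝ) ^ n := by
      rw [← mul_pow, Real.mul_self_sqrt (Nat.cast_nonneg _)]
    have h4 : ((4 * g + 4 : ℕ) : ℝ) ^ 2 ≤ (q : ℝ) ^ n := by exact_mod_cast hn
    push_cast at h4
    have h5 : 0 ≤ Real.sqrt (q : ℝ) ^ n := by positivity
    nlinarith
  -- pass to primes
  have hplace : ∀ l : ℕ, l.Prime → (4 * g + 4) ^ 2 ≤ q ^ l →
      Groth.FunFld1.Npt k X.functionField 1 < Groth.FunFld1.Npt k X.functionField l →
      ∃ P : Place k X.functionField, P.deg = l := by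
    intro l hl _ hlt
    by_contra hcon
    push Not at hcon
    apply hlt.ne'
    rw [Groth.FunFld1.Npt, Groth.FunFld1.Npt]
    refine finsum_mem_congr ?_ fun P _ => rfl
    ext P
    simp only [Set.mem_ofPred_eq, Nat.dvd_prime hl, Nat.dvd_one]
    exact ⟨fun hP => hP.resolve_right (hcon P), Or.inl⟩
  set B := max ((4 * g + 4) ^ 2) ((2 * Groth.FunFld1.Npt k X.functionField 1 + 4 * g + 4) ^ 2)
  have hbig : ∀ l : ℕ, l.Prime → B ≤ q ^ l → ∃ P : Place k X.functionField, P.deg = l := by
    intro l hl hB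
    refine hplace l hl (le_trans (le_max_left _ _) hB) ?_
    have h1 := hNpt hl.ne_zero
    have h2 : ‖∑ i, α i ^ l‖ ≤ (2 * g) * Real.sqrt q ^ l := by
      refine (norm_sum_le _ _).trans_eq ?_
      rw [Finset.sum_congr rfl fun i _ => by rw [norm_pow, hαn i],
        Finset.sum_const, Finset.card_univ, Fintype.card_fin, nsmul_eq_mul]
      push_cast
      rfl
    have h3 : (1 : ℝ) + (q : ℝ) ^ l - (Groth.FunFld1.Npt k X.functionField l : ℝ) ≤ ‖∑ i, α i ^ l‖ := by
      rw [show ∑ i, α i ^ l = (((1 + (q : ℝ) ^ l - (Groth.FunFld1.Npt k X.functionField l : ℝ)) : ℝ) : ℂ) by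
        push_cast; rw [h1]; ring, Complex.norm_real, Real.norm_eq_abs]
      exact le_abs_self _
    have hs : Real.sqrt q ^ l * Real.sqrt q ^ l = (q : ℝ) ^ l := by
      rw [← mul_pow, Real.mul_self_sqrt (Nat.cast_nonneg _)]
    have h4 : ((2 * Groth.FunFld1.Npt k X.functionField 1 + 4 * g + 4 : ℕ) : ℝ) ^ 2 ≤ (q : ℝ) ^ l := by
      exact_mod_cast le_trans (le_max_right _ _) hB
    push_cast at h4
    have h5 : 0 ≤ Real.sqrt (q : ℝ) ^ l := by positivity
    have h6 : (Groth.FunFld1.Npt k X.functionField 1 : ℝ) < (Groth.FunFld1.Npt k X.functionField l : ℝ) := by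
      have hN0 : (0 : ℝ) ≤ (Groth.FunFld1.Npt k X.functionField 1 : ℝ) := Nat.cast_nonneg _
      have hg0 : (0 : ℝ) ≤ (g : ℝ) := Nat.cast_nonneg _
      rw [← hs, ← sq] at h4
      have hs' := (pow_le_pow_iff_left₀ (by positivity) h5 two_ne_zero).1 h4
      nlinarith
    exact_mod_cast h6
  obtain ⟨l₁, hl₁, hl₁p⟩ := Nat.exists_infinite_primes B
  obtain ⟨l₂, hl₂, hl₂p⟩ := Nat.exists_infinite_primes (l₁ + 1)
  have hpow : ∀ l, B ≤ l → B ≤ q ^ l := fun l hl =>
    hl.trans (Nat.lt_pow_self (by omega)).le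
  obtain ⟨P, hP⟩ := hbig l₁ hl₁p (hpow l₁ hl₁)
  obtain ⟨Q, hQ⟩ := hbig l₂ hl₂p (hpow l₂ (by omega))
  refine ⟨_, _, ((placeEquiv (k := k) h).symm P).2, ((placeEquiv (k := k) h).symm Q).2, ?_⟩
  rw [← deg_placeAt h, ← deg_placeAt h,
    show placeAt h ((placeEquiv (k := k) h).symm P) = P from (placeEquiv (k := k) h).apply_symm_apply P,
    show placeAt h ((placeEquiv (k := k) h).symm Q) = Q from (placeEquiv (k := k) h).apply_symm_apply Q, hP, hQ]
  exact (Nat.coprime_primes hl₁p hl₂p).2 (by omega)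

end Groth.ZetaAn
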