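import Groth.Prelude.Def_FinFr
import Mathlib.RingTheory.Unramified.Field
import Mathlib.RingTheory.Unramified.Finite
import Mathlib.AlgebraicGeometry.Morphisms.Separated
import Mathlib.AlgebraicGeometry.Morphisms.FiniteType
import Mathlib.RingTheory.Artinian.Ring
import Mathlib.RingTheory.LocalProperties.Reduced

/-! The fixed-point scheme of Frobenius is reduced, and finite when the scheme is of finite type. -/

set_option autoImplicit false
set_option linter.style.haveILetI false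
set_option backward.isDefEq.respectTransparency false

universe u

open CategoryTheory CategoryTheory.Limits AlgebraicGeometry Opposite TopologicalSpace

namespace Groth.ZetaAn

variable {K : Type u} [Field K] {Z Xb X : Scheme.{u}}

/-- The algebra of sections over an affine open of a scheme over a field. -/
noncomputable abbrev overAlg (g : Z ⟶ Spec (CommRingCat.of K)) (W : Z.Opens) : Algebra K Γ(Z, W) :=
  ((Scheme.ΓSpecIso (CommRingCat.of K)).inv ≫ g.appLE ⊤ W le_top).hom.toAlgebra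

/-- An affine open of a scheme of points fixed by Frobenius is unramified over the field. -/
theorem formallyUnramified_of_frob (z : Z ⟶ Xb) [Mono z] (p : Xb ⟶ Spec (CommRingCat.of K))
    (π : Xb ⟶ X) (hext : ∀ (T : Scheme.{u}) (a b : T ⟶ Xb), a ≫ π = b ≫ π → a ≫ p = b ≫ p → a = b)
    (FX : X ⟶ X) {q : ℕ} (hq : (q : K) = 0) (hq1 : 1 < q) (hle : ∀ U : X.Opens, U ≤ FX ⁻¹ᵁ U)
    (hFapp : ∀ (U : X.Opens) (s : Γ(X, U)), (FX.appLE U U (hle U)).hom s = s ^ q)
    (hfix : (z ≫ π) ≫ FX = z ≫ π) {U : X.Opens} (hU : IsAffineOpen U) {W : Z.Opens}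
    (hW : IsAffineOpen W) (hWU : W ≤ (z ≫ π) ⁻¹ᵁ U) :
    letI := overAlg (z ≫ p) W
    Algebra.FormallyUnramified K Γ(Z, W) := by
  letI := overAlg (z ≫ p) W
  rw [Algebra.FormallyUnramified.iff_comp_injective]
  intro B _ _ J hJ g₁ g₂ hg
  set σ := (z ≫ π).appLE U W hWU
  have hσ : ∀ s, σ.hom s ^ q = σ.hom s := by
    intro s
    rw [← map_pow, ← hFapp U s]
    have hWU' : W ≤ ((z ≫ π) ≫ FX) ⁻¹ᵁ U := hWU.trans ((z ≫ π).preimage_mono (hle U))
    have h2 : FX.appLE U U (hle U) ≫ σ = ((z ≫ π) ≫ FX).appLE U W hWU' :=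
      Scheme.Hom.appLE_comp_appLE (z ≫ π) FX U U W (hle U) hWU
    have h3 : ∀ (g : Z ⟶ X) (hg : W ≤ g ⁻¹ᵁ U), g = z ≫ π → g.appLE U W hg = σ := by
      rintro g hg rfl; rfl
    exact congrArg (fun m : Γ(X, U) ⟶ Γ(Z, W) => m.hom s) (h2.trans (h3 _ hWU' hfix))
  have hqB : (q : B) = 0 := by rw [← map_natCast (algebraMap K B), hq, map_zero]
  have hagree : ∀ s, g₁ (σ.hom s) = g₂ (σ.hom s) := by
    intro s
    set y := g₂ (σ.hom s)
    have hj : g₁ (σ.hom s) - y ∈ J := by
      have := congrArg (fun e : Γ(Z, W) →ₐ[K] B ⧸ J => e (σ.hom s)) hg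
      exact Ideal.Quotient.eq.1 this
    have hsq : (g₁ (σ.hom s) - y) ^ 2 = 0 := by
      rw [← Ideal.mem_bot, ← hJ]
      exact Ideal.pow_mem_pow hj 2
    have e : g₁ (σ.hom s) ^ q = y ^ q := by
      have hb := (Commute.all y (g₁ (σ.hom s) - y)).add_pow q
      rw [add_sub_cancel] at hb
      rw [hb, Finset.sum_range_succ, Finset.sum_eq_single_of_mem (q - 1) (by simp; omega)]
      · simp [show q - (q - 1) = 1 by omega, Nat.choose_symm (show 1 ≤ q by omega), hqB]
      · intro m hm hne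
        have : (g₁ (σ.hom s) - y) ^ (q - m) = 0 := by
          rw [Finset.mem_range] at hm
          rw [show q - m = 2 + (q - m - 2) by omega, pow_add, hsq, zero_mul]
        rw [this, mul_zero, zero_mul]
    rwa [← map_pow, hσ, ← map_pow, hσ] at e
  have hmor : Spec.map (CommRingCat.ofHom g₁.toRingHom) ≫ hW.fromSpec =
      Spec.map (CommRingCat.ofHom g₂.toRingHom) ≫ hW.fromSpec := by
    rw [← cancel_mono z]
    refine hext _ _ _ ?_ ?_
    · simp only [Category.assoc]
      rw [← IsAffineOpen.SpecMap_appLE_fromSpec (z ≫ π) hU hW hWU, ← Spec.map_comp_assoc,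
        ← Spec.map_comp_assoc]
      congr 2
      exact CommRingCat.hom_ext (RingHom.ext hagree)
    · simp only [Category.assoc]
      rw [← IsAffineOpen.SpecMap_appLE_fromSpec (z ≫ p) (isAffineOpen_top _) hW le_top,
        ← Spec.map_comp_assoc, ← Spec.map_comp_assoc]
      congr 2
      rw [← cancel_epi (Scheme.ΓSpecIso (CommRingCat.of K)).inv, ← Category.assoc, ← Category.assoc]
      refine CommRingCat.hom_ext (RingHom.ext fun c => ?_)
      exact (g₁.commutes c).trans (g₂.commutes c).symm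
  rw [cancel_mono] at hmor
  exact AlgHom.ext fun a =>
    congrArg (fun m : Γ(Z, W) ⟶ CommRingCat.of B => m.hom a) (Spec.map_injective hmor)

variable {k : Type u} [Field k] [Finite k] {Y : Scheme.{u}}

theorem fix_local [Algebra k K] (f : Y ⟶ Spec (CommRingCat.of k)) [LocallyOfFiniteType f]
    (FX : Y ⟶ Y) (hle : ∀ U : Y.Opens, U ≤ FX ⁻¹ᵁ U)
    (hFapp : ∀ (U : Y.Opens) (s : Γ(Y, U)), (FX.appLE U U (hle U)).hom s = s ^ Nat.card k)
    (F : FinFr.ext K f ⟶ FinFr.ext K f)
    (hF1 : F ≫ FinFr.extπ K f = FinFr.extπ K f ≫ FX) (hF2 : F ≫ FinFr.extStr K f = FinFr.extStr K f)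
    (t : FinFr.fixScheme (FinFr.extStr K f) F hF2) :
    ∃ W : (FinFr.fixScheme (FinFr.extStr K f) F hF2).Opens, t ∈ W ∧ IsAffineOpen W ∧
      _root_.IsReduced Γ(FinFr.fixScheme (FinFr.extStr K f) F hF2, W) ∧
      Finite (PrimeSpectrum Γ(FinFr.fixScheme (FinFr.extStr K f) F hF2, W)) := by
  classical
  let _ := Fintype.ofFinite k
  let Z := FinFr.fixScheme (FinFr.extStr K f) F hF2
  let δ : FinFr.ext K f ⟶ pullback (FinFr.extStr K f) (FinFr.extStr K f) :=
    pullback.lift (𝟙 _) (𝟙 _) rfl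
  haveI hδ : Mono δ := (SplitMono.mono ⟨pullback.fst _ _, pullback.lift_fst _ _ _⟩)
  let γ : FinFr.ext K f ⟶ pullback (FinFr.extStr K f) (FinFr.extStr K f) :=
    pullback.lift (𝟙 _) F (by rw [hF2, Category.id_comp])
  let z : Z ⟶ FinFr.ext K f := pullback.fst γ δ
  haveI : Mono z := pullback.fst_of_mono
  have hzF : z ≫ F = z := by
    have c := (pullback.condition : z ≫ γ = pullback.snd γ δ ≫ δ)
    have h1 := congrArg (· ≫ pullback.fst _ _) c
    have h2 := congrArg (· ≫ pullback.snd _ _) c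
    simp only [γ, δ, Category.assoc, pullback.lift_fst, pullback.lift_snd, Category.comp_id] at h1 h2
    rw [h2, ← h1]
  have hfix : (z ≫ FinFr.extπ K f) ≫ FX = z ≫ FinFr.extπ K f := by
    rw [Category.assoc, ← hF1, ← Category.assoc, hzF]
  obtain ⟨_, ⟨U, hU, rfl⟩, htU, -⟩ :=
    Y.isBasis_affineOpens.exists_subset_of_mem_open (Set.mem_univ ((z ≫ FinFr.extπ K f) t)) isOpen_univ
  obtain ⟨_, ⟨W, hW, rfl⟩, htW, hWU⟩ :=
    Z.isBasis_affineOpens.exists_subset_of_mem_open (a := t) htU ((z ≫ FinFr.extπ K f) ⁻¹ᵁ U).2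
  refine ⟨W, htW, hW, ?_⟩
  letI := overAlg (z ≫ FinFr.extStr K f) W
  have hqk : (Nat.card k : K) = 0 := by
    rw [Nat.card_eq_fintype_card, ← map_natCast (algebraMap k K), FiniteField.cast_card_eq_zero, map_zero]
  haveI hunr : Algebra.FormallyUnramified K Γ(Z, W) :=
    formallyUnramified_of_frob z (FinFr.extStr K f) (FinFr.extπ K f) (fun _ _ _ h₁ h₂ => pullback.hom_ext h₁ h₂)
      FX hqk Finite.one_lt_card hle hFapp hfix hU hW hWU
  haveI : LocallyOfFiniteType (FinFr.extStr K f) := inferInstance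
  haveI : IsImmersion z := by
    haveI : IsImmersion δ := inferInstanceAs (IsImmersion (pullback.diagonal (FinFr.extStr K f)))
    exact MorphismProperty.pullback_fst _ _ ‹IsImmersion δ›
  haveI : Algebra.FiniteType K Γ(Z, W) := by
    have := HasRingHomProperty.appLE (P := @LocallyOfFiniteType) (z ≫ FinFr.extStr K f) inferInstance
      ⟨⊤, isAffineOpen_top _⟩ ⟨W, hW⟩ le_top
    exact this.comp (RingHom.FiniteType.of_surjective _
      (Scheme.ΓSpecIso (CommRingCat.of K)).symm.commRingCatIsoToRingEquiv.surjective)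
  refine ⟨Algebra.FormallyUnramified.isReduced_of_field K _, ?_⟩
  haveI : Module.Finite K Γ(Z, W) := Algebra.FormallyUnramified.finite_of_free K _
  haveI : IsArtinianRing Γ(Z, W) := IsArtinianRing.of_finite K Γ(Z, W)
  infer_instance

theorem isReduced_fix [Algebra k K] (f : Y ⟶ Spec (CommRingCat.of k)) [LocallyOfFiniteType f]
    (FX : Y ⟶ Y) (hle : ∀ U : Y.Opens, U ≤ FX ⁻¹ᵁ U)
    (hFapp : ∀ (U : Y.Opens) (s : Γ(Y, U)), (FX.appLE U U (hle U)).hom s = s ^ Nat.card k)
    (F : FinFr.ext K f ⟶ FinFr.ext K f)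
    (hF1 : F ≫ FinFr.extπ K f = FinFr.extπ K f ≫ FX) (hF2 : F ≫ FinFr.extStr K f = FinFr.extStr K f) :
    IsReduced (FinFr.fixScheme (FinFr.extStr K f) F hF2) := by
  choose W htW hW hred hfin using fix_local f FX hle hFapp F hF1 hF2
  haveI : ∀ t, _root_.IsReduced ((FinFr.fixScheme (FinFr.extStr K f) F hF2).presheaf.stalk t) :=
      fun t => by
    letI := TopCat.Presheaf.algebra_section_stalk (FinFr.fixScheme (FinFr.extStr K f) F hF2).presheaf
      (U := W t) ⟨t, htW t⟩
    haveI := (hW t).isLocalization_stalk ⟨t, htW t⟩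
    haveI := hred t
    exact isReduced_localizationPreserves ((hW t).primeIdealOf ⟨t, htW t⟩).asIdeal.primeCompl _ (hred t)
  exact isReduced_of_isReduced_stalk _

theorem finite_fix [Algebra k K] (f : Y ⟶ Spec (CommRingCat.of k)) [LocallyOfFiniteType f]
    [QuasiCompact f] (FX : Y ⟶ Y) (hle : ∀ U : Y.Opens, U ≤ FX ⁻¹ᵁ U)
    (hFapp : ∀ (U : Y.Opens) (s : Γ(Y, U)), (FX.appLE U U (hle U)).hom s = s ^ Nat.card k)
    (F : FinFr.ext K f ⟶ FinFr.ext K f)
    (hF1 : F ≫ FinFr.extπ K f = FinFr.extπ K f ≫ FX) (hF2 : F ≫ FinFr.extStr K f = FinFr.extStr K f) :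
    Finite ↥(FinFr.fixScheme (FinFr.extStr K f) F hF2) := by
  choose W htW hW hred hfin using fix_local f FX hle hFapp F hF1 hF2
  haveI : LocallyOfFiniteType (FinFr.extStr K f) := inferInstance
  haveI : CompactSpace ↥(FinFr.ext K f) :=
    QuasiCompact.compactSpace_of_compactSpace (FinFr.extStr K f)
  haveI : IsLocallyNoetherian (FinFr.ext K f) :=
    LocallyOfFiniteType.isLocallyNoetherian (FinFr.extStr K f)
  haveI : IsNoetherian (FinFr.ext K f) := ⟨⟩
  haveI : CompactSpace ↥(FinFr.fixScheme (FinFr.extStr K f) F hF2) := by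
    let δ : FinFr.ext K f ⟶ pullback (FinFr.extStr K f) (FinFr.extStr K f) :=
      pullback.lift (𝟙 _) (𝟙 _) rfl
    let γ : FinFr.ext K f ⟶ pullback (FinFr.extStr K f) (FinFr.extStr K f) :=
      pullback.lift (𝟙 _) F (by rw [hF2, Category.id_comp])
    haveI : IsImmersion δ := inferInstanceAs (IsImmersion (pullback.diagonal (FinFr.extStr K f)))
    haveI : IsImmersion (pullback.fst γ δ) := MorphismProperty.pullback_fst _ _ ‹IsImmersion δ›
    haveI : NoetherianSpace ↥(FinFr.fixScheme (FinFr.extStr K f) F hF2) :=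
      (pullback.fst γ δ).isEmbedding.isInducing.noetherianSpace
    infer_instance
  obtain ⟨s, hs⟩ := isCompact_univ.elim_finite_subcover
    (fun t => (W t : Set (FinFr.fixScheme (FinFr.extStr K f) F hF2)))
    (fun t => (W t).2) fun t _ => Set.mem_iUnion.2 ⟨t, htW t⟩
  refine Set.finite_univ_iff.1 ((s.finite_toSet.biUnion fun t _ => ?_).subset hs)
  rw [← (hW t).range_fromSpec]
  haveI : Finite (Spec Γ(FinFr.fixScheme (FinFr.extStr K f) F hF2, W t)) := hfin t
  exact Set.finite_range _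

end Groth.ZetaAn
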