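import Groth.Agent.ZetaAn.CurveWeil
import Groth.Agent.ZetaAn.CurvePic
import Mathlib.RingTheory.PowerSeries.Exp

/-! The zeta function and the degree `m` Picard classes of a curve over a finite field. -/

set_option autoImplicit false
set_option linter.style.haveILetI false

universe u

open CategoryTheory AlgebraicGeometry PowerSeries Groth.CurveBridge Groth.FunFld1

namespace Groth.ZetaAn

variable {k : Type u} [Field k] [Finite k] {X : Scheme.{u}}

omit [Finite k] in
theorem hasLog_zetaFun (f : X ⟶ Spec (CommRingCat.of k)) :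
    HasLog (PowerSeries.map (algebraMap ℚ ℂ) (Zeta.zetaFun f))
      (PowerSeries.mk fun m => if m = 0 then 0 else (Zeta.nPts f m : ℂ)) ∧
    constantCoeff (PowerSeries.map (algebraMap ℚ ℂ) (Zeta.zetaFun f)) = 1 := by
  have h0 : constantCoeff (Zeta.logZeta f) = 0 := by
    simp [Zeta.logZeta, ← coeff_zero_eq_constantCoeff_apply]
  have hs : HasSubst (Zeta.logZeta f) := HasSubst.of_constantCoeff_zero h0
  have h1 : constantCoeff (Zeta.zetaFun f) = 1 := by
    rw [Zeta.zetaFun, ← coeff_zero_eq_constantCoeff_apply, coeff_subst' hs,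
      finsum_eq_single _ 0 fun d hd => by
        rw [coeff_zero_eq_constantCoeff_apply, map_pow, h0, zero_pow hd, smul_zero]]
    simp
  have hd : (PowerSeries.X : ℚ⟦X⟧) * d⁄dX ℚ (Zeta.zetaFun f) =
      (PowerSeries.mk fun m => if m = 0 then 0 else (Zeta.nPts f m : ℚ)) * Zeta.zetaFun f := by
    have hL : (PowerSeries.X : ℚ⟦X⟧) * d⁄dX ℚ (Zeta.logZeta f) =
        PowerSeries.mk fun m => if m = 0 then 0 else (Zeta.nPts f m : ℚ) := by
      ext n
      rcases n with - | n
      · simp
      · rw [coeff_succ_X_mul, coeff_derivative, Zeta.logZeta, coeff_mk, coeff_mk,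
          if_neg n.succ_ne_zero]
        have : ((n : ℚ) + 1) ≠ 0 := by positivity
        push_cast
        field_simp
    unfold Zeta.zetaFun
    rw [derivative_subst hs, derivative_exp, ← hL]
    ring
  have hmk : PowerSeries.map (algebraMap ℚ ℂ)
      (PowerSeries.mk fun m => if m = 0 then 0 else (Zeta.nPts f m : ℚ)) =
      PowerSeries.mk fun m => if m = 0 then 0 else (Zeta.nPts f m : ℂ) := by
    ext n
    rw [PowerSeries.coeff_map, coeff_mk, coeff_mk]
    split_ifs <;> simp
  refine ⟨?_, by rw [← coeff_zero_eq_constantCoeff_apply, PowerSeries.coeff_map,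
    coeff_zero_eq_constantCoeff_apply, h1, map_one]⟩
  unfold HasLog Groth.FunFld1.theta
  rw [← hmk, ← map_mul, ← hd, map_mul, PowerSeries.map_X]
  congr 1
  ext n
  rw [coeff_derivative, PowerSeries.coeff_map, PowerSeries.coeff_map, coeff_derivative]
  simp

variable [X.Over (Spec (CommRingCat.of k))]

theorem zetaFun_curve [IsIntegral X] [IsProper (X ↘ Spec (CommRingCat.of k))] (h : IsRegCurve X)
    (hK : FunFld.IsFunctionField k X.functionField) (P : Polynomial ℤ)
    (hP : (P : ℤ⟦X⟧) = FunFld.numerZ k X.functionField) :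
    Zeta.zetaFun (X ↘ Spec (CommRingCat.of k)) *
        ((1 - PowerSeries.X) * (1 - PowerSeries.C (Nat.card k : ℚ) * PowerSeries.X)) =
      ((P.map (Int.castRingHom ℚ) : Polynomial ℚ) : PowerSeries ℚ) := by
  obtain ⟨hlog, hcc⟩ := hasLog_zetaFun (X ↘ Spec (CommRingCat.of k))
  refine PowerSeries.map_injective (algebraMap ℚ ℂ) (algebraMap ℚ ℂ).injective ?_
  rw [map_mul, map_mul, map_sub, map_sub, map_one, map_mul, PowerSeries.map_X, PowerSeries.map_C,
    ← Polynomial.polynomial_map_coe, Polynomial.map_map,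
    show (algebraMap ℚ ℂ).comp (Int.castRingHom ℚ) = Int.castRingHom ℂ from Subsingleton.elim _ _,
    Polynomial.polynomial_map_coe, hP]
  refine HasLog.eq ?_ (hasLog_numerZ hK) ?_ (constantCoeff_numerZ hK)
  · convert hlog.mul ((hasLog_one_sub 1).mul (hasLog_one_sub (Nat.card k : ℂ))) using 1
    · simp
    · rw [add_comm (PowerSeries.mk _)]
      congr 1
      ext m
      rw [nSer, coeff_mk, coeff_mk]
      split_ifs with hm
      · rfl
      · rw [nPts_eq_Npt h hm]
  · simp [hcc]

end Groth.ZetaAn
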