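import Groth.Prelude.Def_FinFr
import Groth.Agent.Misc7.FrobeniusCocycle
import Mathlib.AlgebraicGeometry.AlgClosed.Basic

/-! Frobenius stable closed subsets of the geometric base change descend. -/

set_option autoImplicit false
set_option linter.style.haveILetI false
set_option backward.isDefEq.respectTransparency false

universe u

open CategoryTheory CategoryTheory.Limits AlgebraicGeometry Opposite TopologicalSpace

namespace Groth.ZetaAn

variable {k : Type u} [Field k] [Finite k]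

/-- Two geometric points with the same kernel differ by a power of Frobenius. -/
theorem exists_pow_frob_eq {A : Type u} [CommRing A] [Algebra k A] [Algebra.FiniteType k A]
    (a b : A →ₐ[k] AlgebraicClosure k) (hab : RingHom.ker a.toRingHom = RingHom.ker b.toRingHom) :
    ∃ i : ℕ, ∀ s, b s = a s ^ (Nat.card k ^ i) := by
  let _ := Fintype.ofFinite k
  let π : AlgebraicClosure k ≃ₐ[k] AlgebraicClosure k :=
    FiniteField.frobeniusAlgEquivOfAlgebraic k (AlgebraicClosure k)
  have hπ : ∀ x : AlgebraicClosure k, π x = x ^ Nat.card k := fun x => by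
    rw [Nat.card_eq_fintype_card]; rfl
  let R := a.range
  haveI : Algebra.IsAlgebraic k R := ⟨fun x =>
    (isAlgebraic_algHom_iff R.val Subtype.val_injective).1 (Algebra.IsAlgebraic.isAlgebraic _)⟩
  haveI : Algebra.FiniteType k R := Algebra.FiniteType.of_surjective a.rangeRestrict a.rangeRestrict_surjective
  haveI : Algebra.IsIntegral k R := Algebra.isAlgebraic_iff_isIntegral.1 inferInstance
  haveI : Module.Finite k R := Algebra.IsIntegral.finite
  let E : IntermediateField k (AlgebraicClosure k) :=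
    R.toIntermediateField' (Algebra.IsIntegral.isField_iff_isField
      (algebraMap k R).injective |>.1 (Field.toIsField k))
  haveI : FiniteDimensional k E := inferInstanceAs (Module.Finite k R)
  let χ : E → AlgebraicClosure k := fun x => b (Classical.choose (show x.1 ∈ a.range from x.2))
  have hχ : ∀ s, χ ⟨a s, ⟨s, rfl⟩⟩ = b s := by
    intro s
    have h := Classical.choose_spec (show (a s) ∈ a.range from ⟨s, rfl⟩)
    have : Classical.choose (show (a s) ∈ a.range from ⟨s, rfl⟩) - s ∈ RingHom.ker a.toRingHom := by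
      rw [RingHom.mem_ker, map_sub, sub_eq_zero]; exact h
    rw [hab, RingHom.mem_ker, map_sub, sub_eq_zero] at this
    exact this
  have hsur : ∀ x : E, ∃ s, (⟨a s, ⟨s, rfl⟩⟩ : E) = x := fun x => by
    obtain ⟨s, hs⟩ := (show x.1 ∈ a.range from x.2); exact ⟨s, Subtype.ext hs⟩
  let φ : E →ₐ[k] AlgebraicClosure k :=
    { toFun := χ
      map_one' := by
        exact (congrArg χ (Subtype.ext (map_one a).symm : (1 : E) = ⟨a 1, ⟨1, rfl⟩⟩)).trans
          ((hχ 1).trans (map_one b))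
      map_mul' := fun x y => by
        obtain ⟨s, rfl⟩ := hsur x; obtain ⟨t, rfl⟩ := hsur y
        rw [hχ, hχ, ← map_mul, ← hχ (s * t)]; congr 1; exact Subtype.ext (map_mul a s t).symm
      map_zero' := by
        exact (congrArg χ (Subtype.ext (map_zero a).symm : (0 : E) = ⟨a 0, ⟨0, rfl⟩⟩)).trans
          ((hχ 0).trans (map_zero b))
      map_add' := fun x y => by
        obtain ⟨s, rfl⟩ := hsur x; obtain ⟨t, rfl⟩ := hsur y
        rw [hχ, hχ, ← map_add, ← hχ (s + t)]; congr 1; exact Subtype.ext (map_add a s t).symm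
      commutes' := fun c => by
        rw [← b.commutes c, ← hχ]; congr 1; exact Subtype.ext (a.commutes c).symm }
  let σ : AlgebraicClosure k ≃ₐ[k] AlgebraicClosure k :=
    AlgEquiv.ofBijective (φ.liftNormal (AlgebraicClosure k)) (Algebra.IsAlgebraic.algHom_bijective _)
  obtain ⟨i, hi⟩ := Groth.Misc7.FrobCocycle.exists_pow_agree hπ E σ
  refine ⟨i, fun s => ?_⟩
  have h1 := (IntermediateField.mem_fixingSubgroup_iff _ _).1 hi (a s) ⟨s, rfl⟩
  rw [AlgEquiv.mul_apply] at h1
  have h2 : σ (a s) = (π ^ i) (a s) := by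
    conv_rhs => rw [← h1]
    rw [← AlgEquiv.mul_apply, mul_inv_cancel]
    rfl
  rw [Groth.Misc7.FrobCocycle.pow_apply hπ] at h2
  rw [← h2, ← hχ s]
  exact (φ.liftNormal_commutes (AlgebraicClosure k) ⟨a s, ⟨s, rfl⟩⟩).symm

variable {X : Scheme.{u}} (f : X ⟶ Spec (CommRingCat.of k)) [LocallyOfFiniteType f]

local notation "kb" => AlgebraicClosure k

theorem preimage_image_subset (FX : X ⟶ X) (hle : ∀ U : X.Opens, U ≤ FX ⁻¹ᵁ U)
    (hFapp : ∀ (U : X.Opens) (s : Γ(X, U)), (FX.appLE U U (hle U)).hom s = s ^ Nat.card k)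
    (F : FinFr.ext kb f ⟶ FinFr.ext kb f)
    (hF1 : F ≫ FinFr.extπ kb f = FinFr.extπ kb f ≫ FX) (hF2 : F ≫ FinFr.extStr kb f = FinFr.extStr kb f)
    (W : Set ↑(FinFr.ext kb f)) (hW : IsClosed W) (hFW : F.base '' W ⊆ W)
    (hcl : IsClosedMap (FinFr.extπ kb f).base) :
    (FinFr.extπ kb f).base ⁻¹' ((FinFr.extπ kb f).base '' W) ⊆ W := by
  haveI : LocallyOfFiniteType (FinFr.extStr kb f) := inferInstance
  haveI : JacobsonSpace ↥(FinFr.ext kb f) := LocallyOfFiniteType.jacobsonSpace (FinFr.extStr kb f)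
  have hS : IsClosed ((FinFr.extπ kb f).base ⁻¹' ((FinFr.extπ kb f).base '' W)) :=
    (hcl _ hW).preimage (FinFr.extπ kb f).continuous
  rw [← JacobsonSpace.closure_inter_closedPoints hS]
  refine closure_minimal ?_ hW
  rintro z ⟨⟨w₀, hw₀, hzw⟩, hz⟩
  obtain ⟨w, ⟨hw, hwy⟩, hwc⟩ := nonempty_inter_closedPoints
    (Z := W ∩ (FinFr.extπ kb f).base ⁻¹' closure {(FinFr.extπ kb f).base z})
    ⟨w₀, hw₀, by rw [Set.mem_preimage, hzw]; exact subset_closure rfl⟩
    (hW.inter (isClosed_closure.preimage (FinFr.extπ kb f).continuous)).isLocallyClosed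
  obtain ⟨_, ⟨U, hU, rfl⟩, hwU, -⟩ := X.isBasis_affineOpens.exists_subset_of_mem_open
    (Set.mem_univ ((FinFr.extπ kb f).base w)) isOpen_univ
  have hzU : (FinFr.extπ kb f).base z ∈ U :=
    ((specializes_iff_mem_closure.2 hwy).mem_open U.2 hwU)
  letI : Algebra k Γ(X, U) :=
    ((Scheme.ΓSpecIso (CommRingCat.of k)).inv ≫ f.appLE ⊤ U le_top).hom.toAlgebra
  haveI : Algebra.FiniteType k Γ(X, U) :=
    (HasRingHomProperty.appLE (P := @LocallyOfFiniteType) f inferInstance
      ⟨⊤, isAffineOpen_top _⟩ ⟨U, hU⟩ le_top).comp (RingHom.FiniteType.of_surjective _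
      (Scheme.ΓSpecIso (CommRingCat.of k)).symm.commRingCatIsoToRingEquiv.surjective)
  -- geometric points through `U`
  have key : ∀ (v : ↥(FinFr.ext kb f)) (_ : IsClosed ({v} : Set _)) (hvU : (FinFr.extπ kb f).base v ∈ U),
      ∃ (b : Spec (CommRingCat.of kb) ⟶ FinFr.ext kb f) (ψ : Γ(X, U) →ₐ[k] kb),
        b ≫ FinFr.extStr kb f = 𝟙 _ ∧
        b ≫ FinFr.extπ kb f = Spec.map (CommRingCat.ofHom ψ.toRingHom) ≫ hU.fromSpec ∧
        (∀ a, b a = v) ∧ hU.primeIdealOf ⟨_, hvU⟩ =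
          ⟨RingHom.ker ψ.toRingHom, RingHom.ker_isPrime _⟩ := by
    intro v hv hvU
    set b := pointOfClosedPoint (FinFr.extStr kb f) v hv
    have hb : ∀ a, b a = v := pointOfClosedPoint_apply _ v hv
    have hle : (⊤ : (Spec (CommRingCat.of kb)).Opens) ≤ (b ≫ FinFr.extπ kb f) ⁻¹ᵁ U := fun a _ => by
      show (FinFr.extπ kb f).base (b a) ∈ U
      rw [hb a]; exact hvU
    let ψ₀ := (b ≫ FinFr.extπ kb f).appLE U ⊤ hle ≫ (Scheme.ΓSpecIso (CommRingCat.of kb)).hom
    have hψ : b ≫ FinFr.extπ kb f = Spec.map ψ₀ ≫ hU.fromSpec := by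
      rw [Spec.map_comp, Category.assoc,
        IsAffineOpen.SpecMap_appLE_fromSpec (b ≫ FinFr.extπ kb f) hU (isAffineOpen_top _) hle,
        IsAffineOpen.fromSpec_top, Scheme.isoSpec_Spec_inv, ← Category.assoc (Spec.map _),
        ← Spec.map_comp, Iso.inv_hom_id, Spec.map_id, Category.id_comp]
    have hcomm : ∀ c, ψ₀.hom (algebraMap k Γ(X, U) c) = algebraMap k kb c := by
      have h1 : Spec.map ((Scheme.ΓSpecIso (CommRingCat.of k)).inv ≫ f.appLE ⊤ U le_top ≫ ψ₀) =
          Spec.map (CommRingCat.ofHom (algebraMap k kb)) := by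
        rw [Spec.map_comp, Spec.map_comp, ← Scheme.isoSpec_Spec_inv, ← IsAffineOpen.fromSpec_top,
          Category.assoc, IsAffineOpen.SpecMap_appLE_fromSpec f (isAffineOpen_top _) hU le_top,
          ← Category.assoc, ← hψ, Category.assoc, pullback.condition, ← Category.assoc,
          pointOfClosedPoint_comp, Category.id_comp]
      exact fun c => congrArg (fun m : CommRingCat.of k ⟶ CommRingCat.of kb => m.hom c) (Spec.map_injective h1)
    refine ⟨b, { ψ₀.hom with commutes' := hcomm }, pointOfClosedPoint_comp _ _ _, hψ, hb, ?_⟩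
    apply hU.fromSpec.isOpenEmbedding.injective
    rw [hU.fromSpec_primeIdealOf]
    have h2 := congrArg (fun g : Spec (CommRingCat.of kb) ⟶ X => g.base (IsLocalRing.closedPoint kb)) hψ
    simp only [Scheme.Hom.comp_base, TopCat.coe_comp, Function.comp_apply] at h2
    rw [hb] at h2
    refine h2.trans (congrArg _ (PrimeSpectrum.ext ?_))
    show Ideal.comap ψ₀.hom (IsLocalRing.maximalIdeal kb) = RingHom.ker ψ₀.hom
    rw [IsLocalRing.maximalIdeal_eq_bot, RingHom.ker_eq_comap_bot]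
  obtain ⟨bz, ψz, hbz₁, hbz₂, hbz₃, hkz⟩ := key z hz hzU
  obtain ⟨bw, ψw, hbw₁, hbw₂, hbw₃, hkw⟩ := key w hwc hwU
  have hker : RingHom.ker ψw.toRingHom = RingHom.ker ψz.toRingHom := by
    have hy : (FinFr.extπ kb f).base w = (FinFr.extπ kb f).base z := by
      have h := hwy
      rw [Set.mem_preimage, (by simpa using hcl _ hz : IsClosed {(FinFr.extπ kb f).base z}).closure_eq] at h
      exact h
    have h := hkz.symm.trans ((congrArg hU.primeIdealOf (Subtype.ext hy.symm)).trans hkw)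
    exact (congrArg PrimeSpectrum.asIdeal h).symm
  obtain ⟨i, hi⟩ := exists_pow_frob_eq ψw ψz hker
  have iter : ∀ j : ℕ, ∃ b : Spec (CommRingCat.of kb) ⟶ FinFr.ext kb f, b ≫ FinFr.extStr kb f = 𝟙 _ ∧
      (∀ a, b a ∈ W) ∧ ∃ ψ : Γ(X, U) ⟶ CommRingCat.of kb,
        (∀ s, ψ.hom s = ψw s ^ (Nat.card k ^ j)) ∧ b ≫ FinFr.extπ kb f = Spec.map ψ ≫ hU.fromSpec := by
    intro j
    induction j with
    | zero => exact ⟨bw, hbw₁, fun a => by rw [hbw₃]; exact hw, _, fun s => by simp, hbw₂⟩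
    | succ j ih =>
      obtain ⟨b, hb₁, hb₂, ψ, hψ₁, hψ₂⟩ := ih
      refine ⟨b ≫ F, by rw [Category.assoc, hF2, hb₁], fun a => hFW ⟨b a, hb₂ a, rfl⟩,
        FX.appLE U U (hle U) ≫ ψ, fun s => ?_, ?_⟩
      · show ψ.hom ((FX.appLE U U (hle U)).hom s) = _
        rw [hFapp, map_pow, hψ₁, ← pow_mul, ← pow_succ]
      · rw [Category.assoc, hF1, ← Category.assoc, hψ₂, Category.assoc,
          ← IsAffineOpen.SpecMap_appLE_fromSpec FX hU hU (hle U), Spec.map_comp, Category.assoc]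
  obtain ⟨b, hb₁, hb₂, ψ, hψ₁, hψ₂⟩ := iter i
  have : b = bz := by
    refine pullback.hom_ext ?_ (hb₁.trans hbz₁.symm)
    refine hψ₂.trans (Eq.trans ?_ hbz₂.symm)
    congr 2
    exact CommRingCat.hom_ext (RingHom.ext fun s => (hψ₁ s).trans (hi s).symm)
  rw [← hbz₃ (IsLocalRing.closedPoint kb), ← this]
  exact hb₂ _

theorem closed_descends_iff (FX : X ⟶ X) (hFb : FX.base = 𝟙 _) (hle : ∀ U : X.Opens, U ≤ FX ⁻¹ᵁ U)
    (hFapp : ∀ (U : X.Opens) (s : Γ(X, U)), (FX.appLE U U (hle U)).hom s = s ^ Nat.card k)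
    (F : FinFr.ext kb f ⟶ FinFr.ext kb f)
    (hF1 : F ≫ FinFr.extπ kb f = FinFr.extπ kb f ≫ FX) (hF2 : F ≫ FinFr.extStr kb f = FinFr.extStr kb f)
    (W : Set ↑(FinFr.ext kb f)) (hW : IsClosed W) :
    (∃ Y : Set X, IsClosed Y ∧ (FinFr.extπ kb f).base ⁻¹' Y = W) ↔ F.base '' W ⊆ W := by
  constructor
  · rintro ⟨Y, hY, rfl⟩ _ ⟨v, hv, rfl⟩
    have := congrArg (fun g : FinFr.ext kb f ⟶ X => g.base v) hF1
    simp only [Scheme.Hom.comp_base, TopCat.coe_comp, Function.comp_apply, hFb] at this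
    show (FinFr.extπ kb f).base (F.base v) ∈ Y
    rw [this]
    exact hv
  · intro hFW
    haveI : IsIntegralHom (FinFr.specι k kb) :=
      (IsIntegralHom.SpecMap_iff (φ := CommRingCat.ofHom (algebraMap k kb))).2 fun x =>
        Algebra.IsIntegral.isIntegral (R := k) x
    haveI : IsIntegralHom (FinFr.extπ kb f) := MorphismProperty.pullback_fst _ _ inferInstance
    have hπW : IsClosed ((FinFr.extπ kb f).base '' W) := (FinFr.extπ kb f).isClosedMap _ hW
    exact ⟨_, hπW, Set.Subset.antisymm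
      (preimage_image_subset f FX hle hFapp F hF1 hF2 W hW hFW (FinFr.extπ kb f).isClosedMap) (Set.subset_preimage_image _ _)⟩

end Groth.ZetaAn
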