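import Mathlib

/-! Dirichlet series of effective cycles: absolute convergence and non-vanishing. -/

set_option autoImplicit false
set_option linter.style.haveILetI false

open Filter Topology

namespace Groth.ZetaAn

variable {P : Type*}

/-- The monomial attached to a cycle. -/
noncomputable def cycVal {K : Type*} [CommMonoid K] (t : P → K) (α : P →₀ ℕ) : K :=
  α.prod fun x m => t x ^ m

lemma cycVal_add {K : Type*} [CommMonoid K] (t : P → K) (α β : P →₀ ℕ) :
    cycVal t (α + β) = cycVal t α * cycVal t β :=
  Finsupp.prod_add_index' (fun x => pow_zero (t x)) (fun x a b => pow_add (t x) a b)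

lemma cycVal_single {K : Type*} [CommMonoid K] (t : P → K) (x : P) (m : ℕ) :
    cycVal t (Finsupp.single x m) = t x ^ m :=
  Finsupp.prod_single_index (pow_zero _)

lemma cycVal_nonneg {t : P → ℝ} (ht : ∀ x, 0 ≤ t x) (α : P →₀ ℕ) : 0 ≤ cycVal t α :=
  Finset.prod_nonneg fun x _ => pow_nonneg (ht x) _

/-- Sums over cycles are bounded by an exponential. -/
lemma summable_cycVal {t : P → ℝ} (ht0 : ∀ x, 0 ≤ t x) {q : ℝ} (hq : q < 1) (htq : ∀ x, t x ≤ q)
    (ht : Summable t) : Summable (cycVal t) := by
  classical
  refine summable_of_sum_le (cycVal_nonneg ht0) (c := Real.exp ((1 - q)⁻¹ * ∑' x, t x)) fun S => ?_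
  let s : Finset P := S.biUnion fun α => α.support
  let K : ℕ := S.sup fun α => s.sup α
  let T : Finset (P →₀ ℕ) := s.finsupp fun _ => Finset.range (K + 1)
  have hST : S ⊆ T := by
    intro α hα
    rw [Finset.mem_finsupp_iff]
    refine ⟨Finset.subset_biUnion_of_mem (fun β : P →₀ ℕ => β.support) hα, fun x hx => ?_⟩
    rw [Finset.mem_range, Nat.lt_succ_iff]
    exact (Finset.le_sup (f := α) hx).trans (Finset.le_sup (f := fun β : P →₀ ℕ => s.sup β) hα)
  refine le_trans (Finset.sum_le_sum_of_subset_of_nonneg hST fun α _ _ => cycVal_nonneg ht0 α) ?_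
  have hT : ∑ α ∈ T, cycVal t α = ∏ x ∈ s, ∑ m ∈ Finset.range (K + 1), t x ^ m := by
    rw [Finset.prod_sum]
    simp only [T, Finset.finsupp, Finset.sum_map]
    refine Finset.sum_congr rfl fun p hp => ?_
    change cycVal t (Finsupp.indicator s p) = _
    rw [cycVal, Finsupp.prod_of_support_subset _ (Finsupp.support_indicator_subset _ _) _
      (fun x _ => pow_zero (t x)), ← Finset.prod_attach s]
    refine Finset.prod_congr rfl fun x _ => ?_
    rw [Finsupp.indicator_of_mem x.2]
  rw [hT]
  calc ∏ x ∈ s, ∑ m ∈ Finset.range (K + 1), t x ^ m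
      ≤ ∏ x ∈ s, Real.exp ((1 - q)⁻¹ * t x) := by
        refine Finset.prod_le_prod (fun x _ => Finset.sum_nonneg fun m _ => pow_nonneg (ht0 x) m)
          fun x _ => ?_
        have hx1 : t x < 1 := (htq x).trans_lt hq
        have h1 : ∑ m ∈ Finset.range (K + 1), t x ^ m ≤ (1 - t x)⁻¹ := by
          rw [← tsum_geometric_of_lt_one (ht0 x) hx1]
          exact (summable_geometric_of_lt_one (ht0 x) hx1).sum_le_tsum _
            fun m _ => pow_nonneg (ht0 x) m
        refine h1.trans ((le_of_eq ?_).trans ((Real.add_one_le_exp (t x / (1 - t x))).trans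
          (Real.exp_le_exp.2 ?_)))
        · field_simp [(sub_pos.2 hx1).ne']
          ring
        · rw [div_eq_inv_mul]
          exact mul_le_mul_of_nonneg_right
            (inv_anti₀ (sub_pos.2 hq) (by linarith [htq x])) (ht0 x)
    _ = Real.exp ((1 - q)⁻¹ * ∑ x ∈ s, t x) := by rw [← Real.exp_sum, Finset.mul_sum]
    _ ≤ Real.exp ((1 - q)⁻¹ * ∑' x, t x) := Real.exp_le_exp.2
        (mul_le_mul_of_nonneg_left (ht.sum_le_tsum _ fun x _ => ht0 x)
          (inv_nonneg.2 (sub_pos.2 hq).le))

/-- The sum over cycles does not vanish. -/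
lemma tsum_cycVal_ne_zero {t : P → ℂ}
    (hsum : Summable fun α => ‖cycVal t α‖) : ∑' α, cycVal t α ≠ 0 := by
  classical
  have hs : Summable (cycVal t) := hsum.of_norm
  let off : Finset P → Set (P →₀ ℕ) := fun S => {α | ∀ x ∈ S, α x = 0}
  let G : Finset P → ℂ := fun S => ∑' α, (off S).indicator (cycVal t) α
  have hstep : ∀ (x : P) (S : Finset P), x ∉ S → (1 - t x) * G S = G (insert x S) := by
    intro x S hx
    have hinj : Function.Injective fun β : P →₀ ℕ => β + Finsupp.single x 1 :=
      add_left_injective _
    have hsupp : Function.support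
        (fun α => (off S).indicator (cycVal t) α - (off (insert x S)).indicator (cycVal t) α) ⊆
        Set.range fun β : P →₀ ℕ => β + Finsupp.single x 1 := by
      intro α hα
      refine ⟨α - Finsupp.single x 1, tsub_add_cancel_of_le ?_⟩
      rw [Finsupp.single_le_iff]
      by_contra h0
      refine hα ?_
      have h0' : α x = 0 := by omega
      have : α ∈ off S ↔ α ∈ off (insert x S) := by
        simp only [off, Set.mem_ofPred_eq, Finset.forall_mem_insert, h0', true_and]
      by_cases h : α ∈ off S
      · simp [Set.indicator_of_mem h, Set.indicator_of_mem (this.1 h)]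
      · simp [Set.indicator_of_notMem h, Set.indicator_of_notMem (this.not.1 h)]
    have h1 := hinj.tsum_eq hsupp
    have h2 : ∀ β : P →₀ ℕ, (off S).indicator (cycVal t) (β + Finsupp.single x 1) -
        (off (insert x S)).indicator (cycVal t) (β + Finsupp.single x 1) =
          t x * (off S).indicator (cycVal t) β := by
      intro β
      have hn : β + Finsupp.single x 1 ∉ off (insert x S) := fun h => by
        have := h x (Finset.mem_insert_self x S)
        simp at this
      have hiff : β + Finsupp.single x 1 ∈ off S ↔ β ∈ off S := by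
        refine forall₂_congr fun y hy => ?_
        rw [Finsupp.add_apply, Finsupp.single_eq_of_ne (by rintro rfl; exact hx hy), add_zero]
      rw [Set.indicator_of_notMem hn, sub_zero]
      by_cases h : β ∈ off S
      · rw [Set.indicator_of_mem (hiff.2 h), Set.indicator_of_mem h, cycVal_add, cycVal_single,
          pow_one, mul_comm]
      · rw [Set.indicator_of_notMem (mt hiff.1 h), Set.indicator_of_notMem h, mul_zero]
    rw [tsum_congr h2, tsum_mul_left, (hs.indicator _).tsum_sub (hs.indicator _)] at h1
    change (1 - t x) * G S = G (insert x S)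
    linear_combination -h1
  have hprod : ∀ S, (∏ x ∈ S, (1 - t x)) * G ∅ = G S := by
    intro S
    induction S using Finset.induction_on with
    | empty => simp
    | insert x S hx ih => rw [Finset.prod_insert hx, mul_assoc, ih, hstep x S hx]
  have hG0 : G ∅ = ∑' α, cycVal t α := by
    refine tsum_congr fun α => Set.indicator_of_mem ?_ _
    intro x hx
    simp at hx
  obtain ⟨T, hT⟩ : ∃ T : Finset (P →₀ ℕ), ∑' α : {α // α ∉ T}, ‖cycVal t α.1‖ < 1 := by
    exact ((tendsto_tsum_compl_atTop_zero fun α => ‖cycVal t α‖).eventually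
      (gt_mem_nhds zero_lt_one)).exists
  intro h0
  let S : Finset P := T.biUnion fun α => α.support
  have hS := hprod S
  rw [hG0, h0, mul_zero] at hS
  have hpick : ∀ α ∈ off S, α ≠ 0 → α ∉ T := fun α hα hne hαT => hne (Finsupp.ext fun x => by
    by_contra hx
    exact hx (hα x (Finset.mem_biUnion.2 ⟨α, hαT, Finsupp.mem_support_iff.2 hx⟩)))
  have hsplit : G S = 1 + ∑' α, (off S \ {0}).indicator (cycVal t) α := by
    have hoff : off S = {0} ∪ off S \ {0} := by
      rw [Set.union_sdiff_self, Set.union_eq_self_of_subset_left]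
      intro α hα x _
      rw [Set.mem_singleton_iff.1 hα]; rfl
    change ∑' α, (off S).indicator (cycVal t) α = _
    conv_lhs => rw [hoff, Set.indicator_union_of_disjoint Set.disjoint_sdiff_right]
    rw [(hs.indicator _).tsum_add (hs.indicator _), ← tsum_subtype ({0} : Set (P →₀ ℕ)),
      tsum_singleton (0 : P →₀ ℕ) (cycVal t)]
    simp [cycVal]
  have hsmall : ‖∑' α, (off S \ {0}).indicator (cycVal t) α‖ < 1 := by
    refine lt_of_le_of_lt ?_ hT
    have hn : (fun α => ‖(off S \ {0}).indicator (cycVal t) α‖) =
        (off S \ {0}).indicator fun α => ‖cycVal t α‖ := by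
      funext α
      rw [norm_indicator_eq_indicator_norm]
    refine (norm_tsum_le_tsum_norm (by rw [hn]; exact hsum.indicator _)).trans ?_
    rw [hn]
    refine le_trans ?_ (le_of_eq (tsum_subtype {α | α ∉ T} fun α => ‖cycVal t α‖).symm)
    refine Summable.tsum_le_tsum (fun α => ?_) (hsum.indicator _) (hsum.indicator _)
    exact Set.indicator_le_indicator_of_subset (fun β hβ => hpick β hβ.1 hβ.2)
      (fun β => norm_nonneg _) α
  rw [hsplit] at hS
  have : ∑' α, (off S \ {0}).indicator (cycVal t) α = -1 := by linear_combination -hS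
  rw [this] at hsmall
  simp at hsmall

end Groth.ZetaAn
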