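import Groth.Agent.ZetaAn.SchemeBound
import Groth.Agent.ZetaAn.EulerProd
import Groth.Prelude.Def_W4c1zetahwZeta

/-! The zeta series of an arithmetic scheme in the half plane right of its dimension. -/

set_option autoImplicit false
set_option linter.style.haveILetI false

universe u

open CategoryTheory AlgebraicGeometry TopologicalSpace Filter Topology

namespace Groth.ZetaAn

lemma finite_residueField_of_isClosed {X : Scheme.{u}}
    (f : X ⟶ Spec (CommRingCat.of (ULift.{u} ℤ))) [LocallyOfFiniteType f] {x : X}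
    (hx : IsClosed ({x} : Set X)) : Finite (X.residueField x) := by
  haveI := isClosed_singleton_iff_isClosedImmersion.1 hx
  have h1 := finiteType_sections (X.fromSpecResidueField x ≫ f) (isAffineOpen_top _)
  let e : Γ(Spec (X.residueField x), ⊤) →+* X.residueField x :=
    (Scheme.ΓSpecIso (X.residueField x)).hom.hom
  haveI := @finiteType_int_of_surjective _ _ h1 _ _ e
    (Scheme.ΓSpecIso (X.residueField x)).commRingCatIsoToRingEquiv.surjective
  haveI : IsJacobsonRing ℤ := Groth.Agent.S9612.result (S := ℤ)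
  haveI := finite_of_finite_type_of_isJacobsonRing ℤ (X.residueField x)
  obtain ⟨p, hp, hp0⟩ := exists_natCast_eq_zero_of_finiteType (X.residueField x)
  refine Module.finite_of_fg_torsion _ fun z => ⟨⟨(p : ℤ), mem_nonZeroDivisors_of_ne_zero
    (Int.natCast_ne_zero.2 hp.ne')⟩, ?_⟩
  change ((p : ℤ) : ℤ) • z = 0
  rw [zsmul_eq_mul, Int.cast_natCast, hp0, zero_mul]

variable {X : Scheme.{u}}

/-- The closed points. -/
abbrev ClPt (X : Scheme.{u}) : Type u := {x : X // IsClosed ({x} : Set X)}

/-- The norm of a closed point. -/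
noncomputable def clNorm (x : ClPt X) : ℕ := Nat.card (X.residueField x.1)

lemma clNorm_isPrimePow (f : X ⟶ Spec (CommRingCat.of (ULift.{u} ℤ))) [LocallyOfFiniteType f]
    (x : ClPt X) : IsPrimePow (clNorm x) := by
  haveI := finite_residueField_of_isClosed f x.2
  haveI := Fintype.ofFinite (X.residueField x.1)
  rw [clNorm, Nat.card_eq_fintype_card]
  exact FiniteField.isPrimePow_card _

lemma two_le_clNorm (f : X ⟶ Spec (CommRingCat.of (ULift.{u} ℤ))) [LocallyOfFiniteType f]
    (x : ClPt X) : 2 ≤ clNorm x :=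
  (clNorm_isPrimePow f x).two_le

/-- Closed points of a given norm are at most the rational points over a field of that size. -/
lemma card_clNorm_fiber_le (f : X ⟶ Spec (CommRingCat.of (ULift.{u} ℤ))) [LocallyOfFiniteType f]
    {n : ℕ} (x₀ : ClPt X) (hx₀ : clNorm x₀ = n)
    (hfin : Finite (Spec (CommRingCat.of (X.residueField x₀.1)) ⟶ X)) :
    Finite {x : ClPt X // clNorm x = n} ∧
      Nat.card {x : ClPt X // clNorm x = n} ≤
        Nat.card (Spec (CommRingCat.of (X.residueField x₀.1)) ⟶ X) := by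
  have he : ∀ x : {x : ClPt X // clNorm x = n},
      Nonempty (X.residueField x.1.1 ≃+* X.residueField x₀.1) := fun x => by
    haveI := finite_residueField_of_isClosed f x.1.2
    haveI := finite_residueField_of_isClosed f x₀.2
    haveI := Fintype.ofFinite (X.residueField x.1.1)
    haveI := Fintype.ofFinite (X.residueField x₀.1)
    refine ⟨FiniteField.ringEquivOfCardEq (K := X.residueField x.1.1) (K' := X.residueField x₀.1) ?_⟩
    rw [← Nat.card_eq_fintype_card, ← Nat.card_eq_fintype_card]
    exact x.2.trans hx₀.symm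
  let e := fun x => (he x).some
  let g : {x : ClPt X // clNorm x = n} → (Spec (CommRingCat.of (X.residueField x₀.1)) ⟶ X) :=
    fun x => Spec.map (CommRingCat.ofHom (e x).toRingHom) ≫ X.fromSpecResidueField x.1.1
  have hg : Function.Injective g := fun x y h => by
    apply Subtype.ext
    apply Subtype.ext
    have := congrArg (fun m : Spec (CommRingCat.of (X.residueField x₀.1)) ⟶ X =>
      m (IsLocalRing.closedPoint (X.residueField x₀.1))) h
    exact ((X.fromSpecResidueField_apply _ _).symm.trans ((Scheme.Hom.comp_apply _ _ _).symm.trans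
      (this.trans (Scheme.Hom.comp_apply _ _ _)))).trans (X.fromSpecResidueField_apply _ _)
  exact ⟨Finite.of_injective g hg, Nat.card_le_card_of_injective g hg⟩

lemma summable_pow_rpow {p : ℕ} (hp : 2 ≤ p) {a : ℝ} (ha : a < 0) :
    Summable fun n : ℕ => (Set.range (p ^ ·)).indicator (fun n : ℕ => (n : ℝ) ^ a) n := by
  have hinj : Function.Injective (p ^ · : ℕ → ℕ) := Nat.pow_right_injective hp
  rw [← hinj.summable_iff (fun n hn => Set.indicator_of_notMem hn _)]
  have h : ((fun n : ℕ => (Set.range (p ^ ·)).indicator (fun n : ℕ => (n : ℝ) ^ a) n) ∘ (p ^ ·)) =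
      fun m : ℕ => ((p : ℝ) ^ a) ^ m := by
    funext m
    rw [Function.comp_apply, Set.indicator_of_mem (Set.mem_range_self m), Nat.cast_pow,
      ← Real.rpow_natCast (p : ℝ) m, ← Real.rpow_natCast ((p : ℝ) ^ a) m,
      ← Real.rpow_mul (Nat.cast_nonneg p), ← Real.rpow_mul (Nat.cast_nonneg p), mul_comm]
  rw [h]
  exact summable_geometric_of_lt_one (Real.rpow_nonneg (Nat.cast_nonneg p) a)
    (Real.rpow_lt_one_of_one_lt_of_neg (by exact_mod_cast hp) ha)

lemma summable_clNorm (f : X ⟶ Spec (CommRingCat.of (ULift.{u} ℤ))) [LocallyOfFiniteType f]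
    [QuasiCompact f] {r : ℕ} (hr : topologicalKrullDim X ≤ r) {σ : ℝ} (hσ : (r : ℝ) < σ) :
    Summable fun x : ClPt X => (clNorm x : ℝ) ^ (-σ) := by
  classical
  obtain ⟨c, M, hM, hb⟩ := exists_pts_bound f r hr
  let b : ℕ → ℝ := fun n => (c : ℝ) * ((n : ℝ) ^ ((r : ℝ) - 1 - σ) +
    ∑ p ∈ M.primeFactors, (Set.range (p ^ ·)).indicator (fun n : ℕ => (n : ℝ) ^ ((r : ℝ) - σ)) n)
  have hb0 : Summable b := by
    refine Summable.mul_left _ ((Real.summable_nat_rpow.2 (by linarith)).add
      (summable_sum fun p hp => ?_))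
    exact summable_pow_rpow (Nat.prime_of_mem_primeFactors hp).two_le (by linarith)
  have hbnn : ∀ n, 0 ≤ b n := fun n => mul_nonneg (Nat.cast_nonneg c)
    (add_nonneg (Real.rpow_nonneg (Nat.cast_nonneg n) _) (Finset.sum_nonneg fun p _ =>
      Set.indicator_nonneg (fun m _ => Real.rpow_nonneg (Nat.cast_nonneg m) _) _))
  have hfib : ∀ n : ℕ, Finite {x : ClPt X // clNorm x = n} ∧
      (Nat.card {x : ClPt X // clNorm x = n} : ℝ) * (n : ℝ) ^ (-σ) ≤ b n := by
    intro n
    rcases isEmpty_or_nonempty {x : ClPt X // clNorm x = n} with he | ⟨⟨x₀, hx₀⟩⟩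
    · exact ⟨inferInstance, by simp [hbnn n]⟩
    haveI := finite_residueField_of_isClosed f x₀.2
    obtain ⟨hfin, hle, hle'⟩ := hb (X.residueField x₀.1)
    obtain ⟨hfx, hcard⟩ := card_clNorm_fiber_le f x₀ hx₀ hfin
    refine ⟨hfx, ?_⟩
    have hn : 2 ≤ n := hx₀ ▸ two_le_clNorm f x₀
    have hn0 : (0 : ℝ) < n := by exact_mod_cast (show 0 < n by omega)
    have hq : Nat.card (X.residueField x₀.1) = n := hx₀
    rw [hq] at hle hle'
    set C := Nat.card {x : ClPt X // clNorm x = n}
    by_cases hMF : (M : X.residueField x₀.1) = 0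
    · have h1 : (C : ℝ) ≤ (c : ℝ) * (n : ℝ) ^ r := by exact_mod_cast hcard.trans hle
      haveI := Fintype.ofFinite (X.residueField x₀.1)
      obtain ⟨k, hprime, hk⟩ := FiniteField.card (X.residueField x₀.1)
        (ringChar (X.residueField x₀.1))
      have hd : ringChar (X.residueField x₀.1) ∣ M :=
        (CharP.cast_eq_zero_iff _ (ringChar (X.residueField x₀.1)) M).1 hMF
      have hmem : ringChar (X.residueField x₀.1) ∈ M.primeFactors :=
        Nat.mem_primeFactors.2 ⟨hprime, hd, hM.ne'⟩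
      have hrange : n ∈ Set.range (ringChar (X.residueField x₀.1) ^ ·) :=
        ⟨k, by rw [← hq, Nat.card_eq_fintype_card, hk]⟩
      calc (C : ℝ) * (n : ℝ) ^ (-σ) ≤ (c : ℝ) * (n : ℝ) ^ r * (n : ℝ) ^ (-σ) :=
            mul_le_mul_of_nonneg_right h1 (Real.rpow_nonneg hn0.le _)
        _ = (c : ℝ) * (n : ℝ) ^ ((r : ℝ) - σ) := by
            rw [mul_assoc, ← Real.rpow_natCast (n : ℝ) r, ← Real.rpow_add hn0, ← sub_eq_add_neg]
        _ ≤ b n := mul_le_mul_of_nonneg_left (le_trans (le_trans
            (Set.indicator_of_mem hrange fun m : ℕ => (m : ℝ) ^ ((r : ℝ) - σ)).ge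
            (Finset.single_le_sum (f := fun p => (Set.range (p ^ ·)).indicator
              (fun m : ℕ => (m : ℝ) ^ ((r : ℝ) - σ)) n)
              (fun p _ => Set.indicator_nonneg (fun m _ => Real.rpow_nonneg (Nat.cast_nonneg m) _) _)
              hmem))
            (le_add_of_nonneg_left (Real.rpow_nonneg (Nat.cast_nonneg n) _))) (Nat.cast_nonneg c)
    · have h1 : (C : ℝ) * n ≤ (c : ℝ) * (n : ℝ) ^ r := by
        exact_mod_cast (Nat.mul_le_mul_right _ hcard).trans (hle' hMF)
      calc (C : ℝ) * (n : ℝ) ^ (-σ) = (C : ℝ) * n * (n : ℝ) ^ (-1 - σ) := by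
            rw [mul_assoc, ← Real.rpow_one_add' hn0.le (by linarith [(Nat.cast_nonneg r : (0 : ℝ) ≤ r)])]
            congr 2
            ring
        _ ≤ (c : ℝ) * (n : ℝ) ^ r * (n : ℝ) ^ (-1 - σ) :=
            mul_le_mul_of_nonneg_right h1 (Real.rpow_nonneg hn0.le _)
        _ = (c : ℝ) * (n : ℝ) ^ ((r : ℝ) - 1 - σ) := by
            rw [mul_assoc, ← Real.rpow_natCast (n : ℝ) r, ← Real.rpow_add hn0]
            congr 2
            ring
        _ ≤ b n := mul_le_mul_of_nonneg_left (le_add_of_nonneg_right (Finset.sum_nonneg fun p _ =>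
            Set.indicator_nonneg (fun m _ => Real.rpow_nonneg (Nat.cast_nonneg m) _) _))
            (Nat.cast_nonneg c)
  rw [← (Equiv.sigmaFiberEquiv (clNorm (X := X))).summable_iff]
  haveI := fun n => (hfib n).1
  refine (summable_sigma_of_nonneg (fun x => ?_)).2 ?_
  · exact Real.rpow_nonneg (Nat.cast_nonneg _) _
  refine ⟨fun n => Summable.of_finite, hb0.of_nonneg_of_le
    (fun n => tsum_nonneg fun x => Real.rpow_nonneg (Nat.cast_nonneg _) _) fun n => ?_⟩
  refine le_trans (le_of_eq ?_) (hfib n).2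
  rw [← nsmul_eq_mul, ← tsum_const]
  exact tsum_congr fun x => by simp [Equiv.sigmaFiberEquiv, x.2]

/-- Cycles of the prelude as cycles on closed points. -/
noncomputable def cycleEquiv (X : Scheme.{u}) (n : ℕ) :
    { α : X →₀ ℕ // (∀ x ∈ α.support, IsClosed ({x} : Set X)) ∧
      α.prod (fun x m => Nat.card (X.residueField x) ^ m) = n } ≃
    { β : ClPt X →₀ ℕ // cycVal clNorm β = n } := by
  classical
  exact
  { toFun := fun α => ⟨α.1.subtypeDomain _, by
      rw [cycVal]
      exact (Finsupp.prod_subtypeDomain_index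
        (h := fun x m => Nat.card (X.residueField x) ^ m) α.2.1).trans α.2.2⟩
    invFun := fun β => ⟨β.1.embDomain (Function.Embedding.subtype _), by
      refine ⟨fun x hx => ?_, ?_⟩
      · rw [Finsupp.support_embDomain, Finset.mem_map] at hx
        obtain ⟨a, -, rfl⟩ := hx
        exact a.2
      · rw [Finsupp.prod_embDomain]
        exact β.2⟩
    left_inv := fun α => by
      apply Subtype.ext
      ext x
      by_cases hx : IsClosed ({x} : Set X)
      · exact Finsupp.embDomain_apply_self (Function.Embedding.subtype _) _ ⟨x, hx⟩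
      · rw [Finsupp.embDomain_of_notMem_range _ _ _ (by rintro ⟨⟨a, ha⟩, rfl⟩; exact hx ha)]
        exact ((Finsupp.notMem_support_iff.1 fun h => hx (α.2.1 x h))).symm
    right_inv := fun β => Subtype.ext (Finsupp.ext fun x =>
      Finsupp.embDomain_apply_self (Function.Embedding.subtype _) β.1 x) }

theorem arith_halfplane (f : X ⟶ Spec (CommRingCat.of (ULift.{u} ℤ))) [LocallyOfFiniteType f]
    [QuasiCompact f] (r : ℕ) (hr : topologicalKrullDim X ≤ r) :
    LSeries.abscissaOfAbsConv (Zeta.arithCoeff X) ≤ (r : ℝ) ∧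
      ∀ s : ℂ, (r : ℝ) < s.re → LSeries (Zeta.arithCoeff X) s ≠ 0 := by
  classical
  have key : ∀ s : ℂ, (r : ℝ) < s.re →
      LSeriesSummable (Zeta.arithCoeff X) s ∧ LSeries (Zeta.arithCoeff X) s ≠ 0 := by
    intro s hs
    have hs0 : (0 : ℝ) < s.re := lt_of_le_of_lt (Nat.cast_nonneg r) hs
    set T : ClPt X → ℝ := fun x => (clNorm x : ℝ) ^ (-s.re)
    have hT0 : ∀ x, 0 ≤ T x := fun x => Real.rpow_nonneg (Nat.cast_nonneg _) _
    have hTq : ∀ x, T x ≤ (2 : ℝ) ^ (-s.re) := fun x =>
      Real.rpow_le_rpow_of_nonpos two_pos (by exact_mod_cast two_le_clNorm f x) (by linarith)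
    have hW := summable_cycVal hT0 (Real.rpow_lt_one_of_one_lt_of_neg one_lt_two (by linarith))
      hTq (summable_clNorm f hr hs)
    have hne : ∀ β : ClPt X →₀ ℕ, cycVal clNorm β ≠ 0 := fun β =>
      Finset.prod_ne_zero_iff.2 fun x _ => pow_ne_zero _ (by have := two_le_clNorm f x; omega)
    have hval : ∀ β : ClPt X →₀ ℕ, ((cycVal clNorm β : ℕ) : ℂ) ^ (-s) =
        cycVal (fun x => (clNorm x : ℂ) ^ (-s)) β := by
      intro β
      induction β using Finsupp.induction with
      | zero => simp [cycVal]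
      | single_add a m g _ _ ih =>
        rw [cycVal_add, cycVal_add, cycVal_single, cycVal_single, Nat.cast_mul,
          Complex.natCast_mul_natCast_cpow, ih, Nat.cast_pow, ← Complex.natCast_cpow_natCast_mul,
          ← Complex.cpow_nat_mul]
    have hnorm : ∀ β : ClPt X →₀ ℕ,
        ‖cycVal (fun x => (clNorm x : ℂ) ^ (-s)) β‖ = cycVal T β := by
      intro β
      simp only [cycVal, Finsupp.prod, norm_prod, norm_pow, T]
      refine Finset.prod_congr rfl fun x _ => ?_
      rw [Complex.norm_natCast_cpow_of_pos (by have := two_le_clNorm f x; omega), Complex.neg_re]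
    have hsum : Summable fun β => ‖cycVal (fun x : ClPt X => (clNorm x : ℂ) ^ (-s)) β‖ :=
      hW.congr fun β => (hnorm β).symm
    let e := Equiv.sigmaFiberEquiv (cycVal (clNorm (X := X)))
    have hσ := e.hasSum_iff.2 hsum.of_norm.hasSum
    have hfin : ∀ n : ℕ, Finite {β : ClPt X →₀ ℕ // cycVal clNorm β = n} := by
      intro n
      by_contra hinf
      rw [not_finite_iff_infinite] at hinf
      rcases eq_or_ne n 0 with rfl | hn
      · exact hne _ (Classical.arbitrary {β : ClPt X →₀ ℕ // cycVal clNorm β = 0}).2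
      have h1 : Summable fun β : {β : ClPt X →₀ ℕ // cycVal clNorm β = n} => (n : ℂ) ^ (-s) := by
        refine (hsum.of_norm.subtype {β | cycVal clNorm β = n}).congr fun β => ?_
        rw [Function.comp_apply, ← hval]
        exact congrArg (fun m : ℕ => (m : ℂ) ^ (-s)) β.2
      have h2 := (summable_const_iff ((n : ℂ) ^ (-s))).1 h1
      rw [Complex.cpow_eq_zero_iff] at h2
      exact hn (by exact_mod_cast h2.1)
    have hfibre : ∀ n, HasSum (fun β : {β : ClPt X →₀ ℕ // cycVal clNorm β = n} =>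
        ((fun β => cycVal (fun x => (clNorm x : ℂ) ^ (-s)) β) ∘ e) ⟨n, β⟩)
        (LSeries.term (Zeta.arithCoeff X) s n) := by
      intro n
      haveI := hfin n
      haveI := Fintype.ofFinite {β : ClPt X →₀ ℕ // cycVal clNorm β = n}
      convert hasSum_fintype _ using 1
      have hterm : ∀ β : {β : ClPt X →₀ ℕ // cycVal clNorm β = n},
          ((fun β => cycVal (fun x => (clNorm x : ℂ) ^ (-s)) β) ∘ e) ⟨n, β⟩ = (n : ℂ) ^ (-s) :=
        fun β => (hval β.1).symm.trans (congrArg (fun m : ℕ => (m : ℂ) ^ (-s)) β.2)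
      rw [Finset.sum_congr rfl fun β _ => hterm β, Finset.sum_const, Finset.card_univ, nsmul_eq_mul]
      rcases eq_or_ne n 0 with rfl | hn
      · have : IsEmpty {β : ClPt X →₀ ℕ // cycVal clNorm β = 0} := ⟨fun β => hne β.1 β.2⟩
        simp
      rw [LSeries.term_of_ne_zero hn, Zeta.arithCoeff, Zeta.cycleNormCount,
        Nat.card_congr (cycleEquiv X n), Nat.card_eq_fintype_card, Complex.cpow_neg, div_eq_mul_inv]
    have hL := hσ.sigma hfibre
    refine ⟨hL.summable, ?_⟩
    rw [LSeries, hL.tsum_eq]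
    exact tsum_cycVal_ne_zero hsum
  refine ⟨LSeries.abscissaOfAbsConv_le_of_forall_lt_LSeriesSummable fun y hy => ?_,
    fun s hs => (key s hs).2⟩
  exact (key (y : ℂ) (by simpa using hy)).1

end Groth.ZetaAn
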