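import Groth.Agent.ZetaAn.EulerProd
import Mathlib

/-! The primes of degree one of a number field have abscissa one. -/

set_option autoImplicit false
set_option linter.style.haveILetI false

open NumberField Filter Topology UniqueFactorizationMonoid

namespace Groth.ZetaAn

variable (K : Type*) [Field K] [NumberField K]

/-- Nonzero primes of the ring of integers. -/
abbrev NfPrime : Type _ := {P : Ideal (𝓞 K) // P.IsPrime ∧ P ≠ ⊥}

lemma nfPrime_norm_eq (P : NfPrime K) : ∃ p f : ℕ, p.Prime ∧ 0 < f ∧ (p : 𝓞 K) ∈ P.1 ∧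
    Ideal.absNorm P.1 = p ^ f := by
  haveI := P.2.1
  haveI : P.1.IsMaximal := P.2.1.isMaximal P.2.2
  obtain ⟨q, n, hn, hqP, hq, H⟩ := Ideal.exists_prime_and_absNorm_eq_pow P.1
  exact ⟨q, n, hq, hn, by simpa using hqP, H⟩

lemma card_primes_over_le {p : ℕ} (hp : p.Prime) (s : Finset (NfPrime K))
    (hs : ∀ P ∈ s, (p : 𝓞 K) ∈ P.1) : s.card ≤ Module.finrank ℚ K := by
  classical
  have h1 : ∏ I ∈ s.image Subtype.val, I ∣ Ideal.span {(p : 𝓞 K)} := by
    refine Finset.prod_primes_dvd _ (fun I hI => ?_) fun I hI => ?_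
    · obtain ⟨P, -, rfl⟩ := Finset.mem_image.1 hI
      haveI := P.2.1
      exact Ideal.prime_of_isPrime P.2.2 P.2.1
    · obtain ⟨P, hP, rfl⟩ := Finset.mem_image.1 hI
      rw [Ideal.dvd_iff_le, Ideal.span_le]
      simpa using hs P hP
  have h2 := map_dvd (Ideal.absNorm (S := 𝓞 K)) h1
  rw [map_prod, Finset.prod_image (fun a _ b _ h => Subtype.ext h)] at h2
  have h3 : Ideal.absNorm (Ideal.span {(p : 𝓞 K)}) = p ^ Module.finrank ℚ K := by
    rw [Ideal.absNorm_span_natCast, RingOfIntegers.rank]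
  rw [h3] at h2
  have h4 : p ^ s.card ∣ ∏ P ∈ s, Ideal.absNorm P.1 := by
    rw [← Finset.prod_const]
    refine Finset.prod_dvd_prod_of_dvd _ _ fun P hP => ?_
    obtain ⟨q, f, hq, hf, hqP, hN⟩ := nfPrime_norm_eq K P
    have hpq : p = q := by
      by_contra hne
      have hcop : Nat.gcd p q = 1 := (Nat.coprime_primes hp hq).2 hne
      obtain ⟨a, b, hab⟩ := Nat.isCoprime_iff_coprime.2 hcop
      apply P.2.1.ne_top
      rw [Ideal.eq_top_iff_one]
      have h5 : (algebraMap ℤ (𝓞 K)) (a * p + b * q) ∈ P.1 := by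
        rw [map_add, map_mul, map_mul, map_natCast, map_natCast]
        exact P.1.add_mem (P.1.mul_mem_left _ (hs P hP)) (P.1.mul_mem_left _ hqP)
      rwa [hab, map_one] at h5
    rw [hN, ← hpq]
    exact dvd_pow_self p hf.ne'
  exact (Nat.pow_dvd_pow_iff_le_right hp.one_lt).1 (h4.trans h2)

lemma two_le_nfNorm (P : NfPrime K) : (2 : ℝ) ≤ Ideal.absNorm P.1 := by
  obtain ⟨p, f, hp, hf, -, hN⟩ := nfPrime_norm_eq K P
  rw [hN]
  exact_mod_cast hp.two_le.trans (Nat.le_self_pow hf.ne' p)

/-- A family with values in the naturals, at most `d` to one, pulled back from a summable one. -/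
lemma summable_comp_of_bounded_fibres {ι : Type*} (π : ι → ℕ) (d : ℕ)
    (hπ : ∀ (m : ℕ) (s : Finset ι), (∀ i ∈ s, π i = m) → s.card ≤ d) {u : ℕ → ℝ} (hu : Summable u)
    (hu0 : ∀ m, 0 ≤ u m) : Summable fun i => u (π i) := by
  classical
  refine summable_of_sum_le (fun i => hu0 _) (c := d * ∑' m, u m) fun s => ?_
  rw [← Finset.sum_fiberwise_of_maps_to (g := π) (t := s.image π)
    (fun i hi => Finset.mem_image_of_mem π hi)]
  calc ∑ m ∈ s.image π, ∑ i ∈ s with π i = m, u (π i)
      ≤ ∑ m ∈ s.image π, (d : ℝ) * u m := Finset.sum_le_sum fun m _ => by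
        rw [Finset.sum_congr rfl fun i hi => by rw [(Finset.mem_filter.1 hi).2], Finset.sum_const,
          nsmul_eq_mul]
        exact mul_le_mul_of_nonneg_right
          (by exact_mod_cast hπ m _ fun i hi => (Finset.mem_filter.1 hi).2) (hu0 m)
    _ ≤ (d : ℝ) * ∑' m, u m := by
        rw [← Finset.mul_sum]
        exact mul_le_mul_of_nonneg_left (hu.sum_le_tsum _ fun m _ => hu0 m) (Nat.cast_nonneg d)

/-- Degree one primes, excluding those over a finite set, do not have a convergent `t`-sum for `t < 1`. -/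
theorem not_summable_degOne {t : ℝ} (ht : t < 1) (N : ℕ) :
    ¬ Summable fun P : {P : NfPrime K // (Ideal.absNorm P.1).Prime ∧ N < Ideal.absNorm P.1} =>
      (Ideal.absNorm P.1.1 : ℝ) ^ (-t) := by
  classical
  intro hsum
  set τ : ℝ := max t (3 / 4)
  have hτ : τ < 1 := max_lt ht (by norm_num)
  have hτ34 : (3 / 4 : ℝ) ≤ τ := le_max_right _ _
  have hP : ∀ P : NfPrime K, 0 ≤ (Ideal.absNorm P.1 : ℝ) ^ (-τ) := fun P =>
    Real.rpow_nonneg (Nat.cast_nonneg _) _
  choose p f hp hf hpP hN using nfPrime_norm_eq K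
  have hall : Summable fun P : NfPrime K => (Ideal.absNorm P.1 : ℝ) ^ (-τ) := by
    set S : Set (NfPrime K) := {P | (Ideal.absNorm P.1).Prime ∧ N < Ideal.absNorm P.1}
    refine Summable.add_compl (s := S) (f := fun P : NfPrime K => (Ideal.absNorm P.1 : ℝ) ^ (-τ)) ?_ ?_
    · refine Summable.of_nonneg_of_le (fun P => hP _) (fun P => ?_) hsum
      exact Real.rpow_le_rpow_of_exponent_le (le_trans one_le_two (two_le_nfNorm K P.1))
        (neg_le_neg (le_max_left _ _))
    · set u : ℕ → ℝ := fun m => ((m : ℝ) ^ (-(2 * τ))) + (if m ≤ N then 1 else 0)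
      have hu : Summable u := (Real.summable_nat_rpow.2 (by linarith)).add
        (summable_of_ne_finset_zero (s := Finset.range (N + 1)) fun m hm => by
          rw [if_neg]; rwa [Finset.mem_range, Nat.lt_succ_iff] at hm)
      have hu0 : ∀ m, 0 ≤ u m := fun m => add_nonneg (Real.rpow_nonneg (Nat.cast_nonneg m) _)
        (by split <;> norm_num)
      refine Summable.of_nonneg_of_le (fun P => hP _) (fun P => ?_)
        (summable_comp_of_bounded_fibres (fun P : ↥Sᶜ => p P.1) (Module.finrank ℚ K)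
          (fun m s hs => ?_) hu hu0)
      · rw [Function.comp_apply]
        have hp1 : (1 : ℝ) ≤ p P.1 := by exact_mod_cast (hp P.1).one_lt.le
        simp only [u, hN]
        by_cases hle : p P.1 ≤ N
        · rw [if_pos hle]
          refine le_trans ?_ (le_add_of_nonneg_left (Real.rpow_nonneg (Nat.cast_nonneg _) _))
          refine Real.rpow_le_one_of_one_le_of_nonpos ?_ (by linarith)
          exact_mod_cast Nat.one_le_pow _ _ (hp P.1).pos
        · rw [if_neg hle, add_zero]
          have h2 : 2 ≤ f P.1 := by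
            by_contra hlt
            have h1 : f P.1 = 1 := by have := hf P.1; omega
            exact P.2 ⟨by rw [hN, h1, pow_one]; exact hp P.1, by rw [hN, h1, pow_one]; omega⟩
          rw [Nat.cast_pow, ← Real.rpow_natCast, ← Real.rpow_mul (by positivity)]
          refine Real.rpow_le_rpow_of_exponent_le hp1 ?_
          have : (2 : ℝ) ≤ f P.1 := by exact_mod_cast h2
          nlinarith
      · rcases s.eq_empty_or_nonempty with rfl | ⟨P₀, hP₀⟩
        · simp
        rw [← Finset.card_map (Function.Embedding.subtype _)]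
        refine card_primes_over_le K (p := m) (hs P₀ hP₀ ▸ hp P₀.1) _ fun P hP' => ?_
        obtain ⟨Q, hQ, rfl⟩ := Finset.mem_map.1 hP'
        rw [← hs Q hQ]
        exact hpP Q.1
  -- all ideals
  have hcyc := summable_cycVal (t := fun P : NfPrime K => (Ideal.absNorm P.1 : ℝ) ^ (-τ)) hP
    (Real.rpow_lt_one_of_one_lt_of_neg one_lt_two (by linarith))
    (fun P => Real.rpow_le_rpow_of_nonpos two_pos (two_le_nfNorm K P) (by linarith)) hall
  let e : (nonZeroDivisors (Ideal (𝓞 K))) → (NfPrime K →₀ ℕ) := fun I =>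
    ((normalizedFactors (I : Ideal (𝓞 K))).attach.map fun P =>
      (⟨P.1, Ideal.isPrime_of_prime (prime_of_normalized_factor P.1 P.2),
        (prime_of_normalized_factor P.1 P.2).ne_zero⟩ : NfPrime K)).toFinsupp
  have heI : ∀ I, (Finsupp.toMultiset (e I)).map Subtype.val = normalizedFactors (I : Ideal (𝓞 K)) :=
    fun I => by
      simp only [e, Multiset.toFinsupp_toMultiset, Multiset.map_map, Function.comp_def]
      exact Multiset.attach_map_val _
  have hprod : ∀ I : nonZeroDivisors (Ideal (𝓞 K)),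
      cycVal (fun P : NfPrime K => Ideal.absNorm P.1) (e I) = Ideal.absNorm (I : Ideal (𝓞 K)) := by
    intro I
    have h1 := Ideal.prod_normalizedFactors_eq_self (nonZeroDivisors.coe_ne_zero I)
    conv_rhs => rw [← h1, ← heI, map_multiset_prod, Multiset.map_map]
    rw [Finsupp.toMultiset_map, cycVal, Finsupp.prod_toMultiset,
      Finsupp.prod_mapDomain_index (by simp) (by simp [pow_add])]
    rfl
  have hinj : Function.Injective e := fun I J h => by
    apply Subtype.ext
    rw [← Ideal.prod_normalizedFactors_eq_self (nonZeroDivisors.coe_ne_zero I),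
      ← Ideal.prod_normalizedFactors_eq_self (nonZeroDivisors.coe_ne_zero J), ← heI, ← heI, h]
  set C := ∑' α, cycVal (fun P : NfPrime K => (Ideal.absNorm P.1 : ℝ) ^ (-τ)) α
  have hC : ∀ s : ℝ, 1 ≤ s →
      (Nat.card {I : nonZeroDivisors (Ideal (𝓞 K)) // (Ideal.absNorm (I : Ideal (𝓞 K)) : ℝ) ≤ s} : ℝ) ≤
        C * s ^ τ := by
    intro s hs
    have hs0 : 0 < s := by linarith
    haveI : Finite {I : nonZeroDivisors (Ideal (𝓞 K)) // (Ideal.absNorm (I : Ideal (𝓞 K)) : ℝ) ≤ s} := by
      simp_rw [← Nat.le_floor_iff hs0.le]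
      exact Ideal.finite_setOfPred_absNorm_le₀ ⌊s⌋₊
    haveI := Fintype.ofFinite {I : nonZeroDivisors (Ideal (𝓞 K)) // (Ideal.absNorm (I : Ideal (𝓞 K)) : ℝ) ≤ s}
    have hcv : ∀ α, cycVal (fun P : NfPrime K => (Ideal.absNorm P.1 : ℝ) ^ (-τ)) α =
        ((cycVal (fun P : NfPrime K => Ideal.absNorm P.1) α : ℕ) : ℝ) ^ (-τ) := fun α => by
      simp only [cycVal, Finsupp.prod, Nat.cast_prod, Nat.cast_pow]
      rw [← Real.finsetProd_rpow _ _ (fun P _ => by positivity)]
      exact Finset.prod_congr rfl fun P _ => by rw [← Real.rpow_pow_comm (Nat.cast_nonneg _)]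
    rw [Nat.card_eq_fintype_card, Fintype.card, ← div_le_iff₀ (Real.rpow_pos_of_pos hs0 τ)]
    calc (Finset.univ.card : ℝ) / s ^ τ = ∑ _I : {I : nonZeroDivisors (Ideal (𝓞 K)) //
          (Ideal.absNorm (I : Ideal (𝓞 K)) : ℝ) ≤ s}, s ^ (-τ) := by
          rw [Finset.sum_const, nsmul_eq_mul, Real.rpow_neg hs0.le, div_eq_mul_inv]
      _ ≤ ∑ I : {I : nonZeroDivisors (Ideal (𝓞 K)) // (Ideal.absNorm (I : Ideal (𝓞 K)) : ℝ) ≤ s},
          cycVal (fun P : NfPrime K => (Ideal.absNorm P.1 : ℝ) ^ (-τ)) (e I.1) :=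
          Finset.sum_le_sum fun I _ => by
            rw [hcv, hprod]
            refine Real.rpow_le_rpow_of_nonpos ?_ I.2 (by linarith)
            exact_mod_cast Nat.pos_of_ne_zero fun h =>
              nonZeroDivisors.coe_ne_zero I.1 (Ideal.absNorm_eq_zero_iff.1 h)
      _ ≤ C := by
          rw [← Finset.sum_image (f := cycVal fun P : NfPrime K => (Ideal.absNorm P.1 : ℝ) ^ (-τ))
            (g := fun I : {I : nonZeroDivisors (Ideal (𝓞 K)) //
              (Ideal.absNorm (I : Ideal (𝓞 K)) : ℝ) ≤ s} => e I.1)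
            (fun I _ J _ h => Subtype.ext (hinj h))]
          exact hcyc.sum_le_tsum _ fun α _ => cycVal_nonneg hP α
  have hlim := NumberField.Ideal.tendsto_norm_le_div_atTop₀ K
  have h0 : Tendsto (fun s : ℝ => C * s ^ (τ - 1)) atTop (𝓝 0) := by
    have := (tendsto_rpow_neg_atTop (show 0 < 1 - τ by linarith)).const_mul C
    rw [mul_zero] at this
    simpa only [neg_sub] using this
  have hle := le_of_tendsto_of_tendsto hlim h0 (by
    filter_upwards [eventually_ge_atTop 1] with s hs
    rw [Real.rpow_sub (by linarith), Real.rpow_one, ← mul_div_assoc]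
    exact div_le_div_of_nonneg_right (hC s hs) (by linarith))
  refine absurd hle (not_le.2 ?_)
  have := Units.regulator_pos K
  have := discr_ne_zero K
  have : 0 < classNumber K := Fintype.card_pos
  have : 0 < Units.torsionOrder K := Units.torsionOrder_pos K
  have : (0 : ℝ) < Real.sqrt |(discr K : ℝ)| := Real.sqrt_pos.2 (abs_pos.2 (by exact_mod_cast discr_ne_zero K))
  positivity

end Groth.ZetaAn
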