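import Groth.Agent.ZetaAn.Models
import Groth.Agent.ZetaAn.ArithSeries
import Groth.Agent.ZetaAn.DegOnePrimes
import Groth.Agent.SpectralTopology.Dim
import Groth.Agent.FibreDim.DimensionFormula

/-! The abscissa of the zeta series of an arithmetic scheme is at least its dimension. -/

set_option autoImplicit false
set_option linter.style.haveILetI false

universe u

open CategoryTheory AlgebraicGeometry TopologicalSpace Filter Topology NumberField

namespace Groth.ZetaAn

/-- The integers in an arbitrary universe, without the scalar actions of `ULift`. -/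
def IntU : Type u := ULift.{u} ℤ

noncomputable instance : CommRing IntU.{u} := inferInstanceAs (CommRing (ULift.{u} ℤ))

/-- `IntU` is the ring of integers. -/
noncomputable def intUEquiv : IntU.{u} ≃+* ℤ := ULift.ringEquiv (R := ℤ)

instance : IsDomain IntU.{u} := MulEquiv.isDomain ℤ intUEquiv.{u}.toMulEquiv

lemma totalDegree_map_le' {S T σ : Type*} [CommRing S] [CommRing T] (g : S →+* T)
    (P : MvPolynomial σ S) : (MvPolynomial.map g P).totalDegree ≤ P.totalDegree :=
  Finset.sup_mono (MvPolynomial.support_map_subset _ _)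

variable {X : Scheme.{u}}

lemma finite_cycles (f : X ⟶ Spec (CommRingCat.of (ULift.{u} ℤ))) [LocallyOfFiniteType f]
    [QuasiCompact f] {r : ℕ} (hr : topologicalKrullDim X ≤ r) (n : ℕ) :
    Finite {β : ClPt X →₀ ℕ // cycVal clNorm β = n} := by
  classical
  set σ : ℝ := r + 1
  set T : ClPt X → ℝ := fun x => (clNorm x : ℝ) ^ (-σ)
  have hT0 : ∀ x, 0 ≤ T x := fun x => Real.rpow_nonneg (Nat.cast_nonneg _) _
  have hσ : 0 < σ := by positivity
  have hW := summable_cycVal hT0 (Real.rpow_lt_one_of_one_lt_of_neg one_lt_two (neg_neg_of_pos hσ))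
    (fun x => Real.rpow_le_rpow_of_nonpos two_pos (by exact_mod_cast two_le_clNorm f x)
      (neg_nonpos.2 hσ.le)) (summable_clNorm f hr (show (r : ℝ) < σ by simp [σ]))
  have hne : ∀ β : ClPt X →₀ ℕ, cycVal clNorm β ≠ 0 := fun β =>
    Finset.prod_ne_zero_iff.2 fun x _ => pow_ne_zero _ (by have := two_le_clNorm f x; omega)
  rcases eq_or_ne n 0 with rfl | hn
  · haveI : IsEmpty {β : ClPt X →₀ ℕ // cycVal clNorm β = 0} := ⟨fun β => hne β.1 β.2⟩
    infer_instance
  have hval : ∀ β, cycVal T β = ((cycVal (clNorm (X := X)) β : ℕ) : ℝ) ^ (-σ) := fun β => by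
    simp only [cycVal, Finsupp.prod, Nat.cast_prod, Nat.cast_pow, T]
    rw [← Real.finsetProd_rpow _ _ (fun P _ => by positivity)]
    exact Finset.prod_congr rfl fun P _ => by rw [← Real.rpow_pow_comm (Nat.cast_nonneg _)]
  have hev := hW.tendsto_cofinite_zero.eventually (gt_mem_nhds
    (Real.rpow_pos_of_pos (show (0 : ℝ) < n by exact_mod_cast Nat.pos_of_ne_zero hn) (-σ)))
  rw [eventually_cofinite] at hev
  exact (hev.subset fun β (hβ : cycVal clNorm β = n) => by
    simp [hval, hβ]).to_subtype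

/-- Convergence at a real exponent gives a convergent sum over closed points. -/
lemma sum_clNorm_le (f : X ⟶ Spec (CommRingCat.of (ULift.{u} ℤ))) [LocallyOfFiniteType f]
    [QuasiCompact f] {r : ℕ} (hr : topologicalKrullDim X ≤ r) {σ : ℝ}
    (h : LSeries.abscissaOfAbsConv (Zeta.arithCoeff X) < (σ : EReal)) :
    Summable (fun x : ClPt X => (clNorm x : ℝ) ^ (-σ)) ∧
      ∀ (x : ClPt X), 0 < σ := by
  classical
  have hs : Summable fun n : ℕ => ‖LSeries.term (Zeta.arithCoeff X) (σ : ℂ) n‖ :=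
    summable_norm_iff.2 (LSeriesSummable_of_abscissaOfAbsConv_lt_re (by simpa using h))
  have hterm : ∀ n : ℕ, n ≠ 0 → ‖LSeries.term (Zeta.arithCoeff X) (σ : ℂ) n‖ =
      (Zeta.cycleNormCount X n : ℝ) * (n : ℝ) ^ (-σ) := fun n hn => by
    rw [LSeries.norm_term_eq, if_neg hn, Zeta.arithCoeff, Complex.norm_natCast, Complex.ofReal_re,
      Real.rpow_neg (Nat.cast_nonneg n), div_eq_mul_inv]
  have hcnt : ∀ n, Zeta.cycleNormCount X n = Nat.card {β : ClPt X →₀ ℕ // cycVal clNorm β = n} :=
    fun n => Nat.card_congr (cycleEquiv X n)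
  have hcount : ∀ (n : ℕ) (s : Finset (ClPt X →₀ ℕ)), (∀ β ∈ s, cycVal clNorm β = n) →
      s.card ≤ Zeta.cycleNormCount X n := by
    intro n s hs'
    rw [hcnt]
    haveI := finite_cycles f hr n
    rw [← Nat.card_eq_finsetCard s]
    exact Nat.card_le_card_of_injective (fun β : s => ⟨β.1, hs' β.1 β.2⟩)
      fun a b e => Subtype.ext (congrArg Subtype.val e :)
  have hne0 : ∀ β : ClPt X →₀ ℕ, cycVal clNorm β ≠ 0 := fun β =>
    Finset.prod_ne_zero_iff.2 fun x _ => pow_ne_zero _ (by have := two_le_clNorm f x; omega)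
  have hsum : Summable fun β : ClPt X →₀ ℕ => ((cycVal clNorm β : ℕ) : ℝ) ^ (-σ) := by
    refine summable_of_sum_le (fun β => Real.rpow_nonneg (Nat.cast_nonneg _) _)
      (c := ∑' n, ‖LSeries.term (Zeta.arithCoeff X) (σ : ℂ) n‖) fun s => ?_
    rw [← Finset.sum_fiberwise_of_maps_to (g := cycVal (clNorm (X := X))) (t := s.image (cycVal clNorm))
      (fun i hi => Finset.mem_image_of_mem _ hi)]
    refine le_trans (Finset.sum_le_sum fun n hn => ?_) (hs.sum_le_tsum _ fun n _ => norm_nonneg _)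
    obtain ⟨β₀, -, hβ₀⟩ := Finset.mem_image.1 hn
    rw [hterm n (hβ₀ ▸ hne0 β₀),
      Finset.sum_congr rfl fun β hβ => by rw [(Finset.mem_filter.1 hβ).2], Finset.sum_const,
      nsmul_eq_mul]
    exact mul_le_mul_of_nonneg_right
      (by exact_mod_cast hcount n _ fun β hβ => (Finset.mem_filter.1 hβ).2)
      (Real.rpow_nonneg (Nat.cast_nonneg _) _)
  refine ⟨?_, fun x => ?_⟩
  · refine (hsum.comp_injective (i := fun x : ClPt X => Finsupp.single x 1)
      (fun a b e => Finsupp.single_left_injective one_ne_zero e)).congr fun x => ?_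
    rw [Function.comp_apply, cycVal_single, pow_one]
  · by_contra hσ
    rw [not_lt] at hσ
    have h2 := hsum.comp_injective (i := fun k : ℕ => Finsupp.single x k) (Finsupp.single_injective x)
    have h3 := h2.tendsto_atTop_zero
    have h4 : ∀ k : ℕ, (1 : ℝ) ≤ ((cycVal clNorm (Finsupp.single x k) : ℕ) : ℝ) ^ (-σ) := fun k =>
      Real.one_le_rpow (by exact_mod_cast Nat.pos_of_ne_zero (hne0 _)) (by linarith)
    exact absurd (ge_of_tendsto h3 (Eventually.of_forall h4)) (by norm_num)

/-- Points with values in a finite field against closed points. -/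
lemma card_hom_le (f : X ⟶ Spec (CommRingCat.of (ULift.{u} ℤ))) [LocallyOfFiniteType f]
    {U : X.Opens} (hU : IsAffineOpen U) {F : Type u} [Field F] [Finite F] {p m : ℕ} (hp : p.Prime)
    (hF : Nat.card F = p ^ m) (T : Finset (Γ(X, U) →+* F)) :
    ∃ W : Finset (ClPt X), T.card ≤ m * W.card ∧
      ∀ x ∈ W, ∃ e, 1 ≤ e ∧ e ≤ m ∧ clNorm x = p ^ e := by
  classical
  haveI : JacobsonSpace X := by
    haveI : IsJacobsonRing (ULift.{u} ℤ) :=
      (isJacobsonRing_iso (ULift.ringEquiv (R := ℤ))).2 (Groth.Agent.S9612.result (S := ℤ))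
    exact LocallyOfFiniteType.jacobsonSpace f
  haveI := Fact.mk hp
  haveI := Fintype.ofFinite F
  have hm : 0 < m := by
    rcases Nat.eq_zero_or_pos m with rfl | h
    · rw [pow_zero] at hF
      exact absurd hF (Finite.one_lt_card (α := F)).ne'
    · exact h
  haveI : CharP F p := charP_of_card_eq_prime_pow (by rw [← Nat.card_eq_fintype_card, hF])
  let e := Scheme.SpecToEquivOfField F X
  let pt : (Γ(X, U) →+* F) → Σ x, X.residueField x ⟶ CommRingCat.of F := fun ψ =>
    e (Spec.map (CommRingCat.ofHom ψ) ≫ hU.fromSpec)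
  have hpt : Function.Injective pt := fun a b h => by
    have h1 := (cancel_mono hU.fromSpec).1 (e.injective h)
    exact congrArg CommRingCat.Hom.hom (Spec.map_injective h1)
  have hclosed : ∀ ψ, IsClosed ({(pt ψ).1} : Set X) := by
    intro ψ
    apply isClosed_singleton_of_isLocallyClosed_singleton
    have hx : (pt ψ).1 = hU.fromSpec ⟨RingHom.ker ψ, RingHom.ker_isPrime ψ⟩ := by
      change (Spec.map (CommRingCat.ofHom ψ) ≫ hU.fromSpec) (IsLocalRing.closedPoint F) = _
      change hU.fromSpec (Spec.map (CommRingCat.ofHom ψ) (IsLocalRing.closedPoint F)) = _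
      congr 1
      apply PrimeSpectrum.ext
      change Ideal.comap ψ (IsLocalRing.maximalIdeal F) = RingHom.ker ψ
      rw [IsLocalRing.maximalIdeal_eq_bot]
      rfl
    have hmax : (RingHom.ker ψ).IsMaximal := by
      haveI : Finite (Γ(X, U) ⧸ RingHom.ker ψ) :=
        Finite.of_injective _ (RingHom.kerLift_injective ψ)
      haveI := RingHom.ker_isPrime ψ
      exact Ideal.Quotient.maximal_of_isField _ (Finite.isField_of_domain _)
    have := (((PrimeSpectrum.isClosed_singleton_iff_isMaximal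
      (⟨RingHom.ker ψ, RingHom.ker_isPrime ψ⟩ : PrimeSpectrum Γ(X, U))).2 hmax).isLocallyClosed).image
      hU.fromSpec.isOpenEmbedding.isInducing hU.fromSpec.isOpenEmbedding.isOpen_range.isLocallyClosed
    rw [hx]
    convert this using 1
    exact Set.image_singleton.symm
  let cl : (Γ(X, U) →+* F) → ClPt X := fun ψ => ⟨(pt ψ).1, hclosed ψ⟩
  refine ⟨T.image cl, ?_, fun x hx => ?_⟩
  · refine (Finset.card_le_mul_card_image T m fun x _ => ?_)
    haveI := finite_residueField_of_isClosed f x.2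
    rcases (T.filter fun ψ => cl ψ = x).eq_empty_or_nonempty with hemp | ⟨ψ₀, hψ₀⟩
    · simp [hemp]
    obtain rfl := (Finset.mem_filter.1 hψ₀).2
    haveI : Finite (X.residueField (pt ψ₀).1) := finite_residueField_of_isClosed f (hclosed ψ₀)
    haveI : CharP (X.residueField (pt ψ₀).1) p :=
      (pt ψ₀).2.hom.charP (pt ψ₀).2.hom.injective p
    letI : Algebra (ZMod p) (X.residueField (pt ψ₀).1) := ZMod.algebra _ p
    letI : Algebra (ZMod p) F := ZMod.algebra _ p
    haveI : FiniteDimensional (ZMod p) (X.residueField (pt ψ₀).1) := Module.Finite.of_finite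
    haveI : FiniteDimensional (ZMod p) F := Module.Finite.of_finite
    have hle : Nat.card (X.residueField (pt ψ₀).1 →ₐ[ZMod p] F) ≤ m := by
      refine (card_algHom_le_finrank (ZMod p) _ F).trans ?_
      have h1 : Module.finrank (ZMod p) F = m := by
        apply Nat.pow_right_injective hp.two_le
        simp only
        rw [← hF, Module.natCard_eq_pow_finrank (K := ZMod p), Nat.card_zmod]
      exact h1 ▸ LinearMap.finrank_le_finrank_of_injective
        (f := ({ (pt ψ₀).2.hom with commutes' := fun c => RingHom.congr_fun (RingHom.ext_zmod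
          ((pt ψ₀).2.hom.comp (algebraMap (ZMod p) _)) (algebraMap (ZMod p) F)) c } :
          X.residueField (pt ψ₀).1 →ₐ[ZMod p] F).toLinearMap) (pt ψ₀).2.hom.injective
    haveI : Finite (X.residueField (pt ψ₀).1 →ₐ[ZMod p] F) :=
      Finite.of_injective _ DFunLike.coe_injective
    rw [← Nat.card_eq_finsetCard]
    refine le_trans ?_ hle
    let g : ↥(T.filter fun ψ => cl ψ = cl ψ₀) → (X.residueField (pt ψ₀).1 →ₐ[ZMod p] F) := fun ψ =>
      { ((X.residueFieldCongr (congrArg (fun x : ClPt X => x.1) (Finset.mem_filter.1 ψ.2).2)).inv ≫ (pt ψ.1).2).hom with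
        commutes' := fun c => RingHom.congr_fun (RingHom.ext_zmod
          ((((X.residueFieldCongr (congrArg (fun x : ClPt X => x.1) (Finset.mem_filter.1 ψ.2).2)).inv ≫
            (pt ψ.1).2).hom).comp (algebraMap (ZMod p) _)) (algebraMap (ZMod p) F)) c }
    refine Nat.card_le_card_of_injective g fun a b hab => Subtype.ext (hpt ?_)
    rw [Scheme.SpecToEquivOfField_eq_iff]
    have ea : (pt a.1).1 = (pt ψ₀).1 := congrArg (fun x : ClPt X => x.1) (Finset.mem_filter.1 a.2).2
    have eb : (pt b.1).1 = (pt ψ₀).1 := congrArg (fun x : ClPt X => x.1) (Finset.mem_filter.1 b.2).2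
    refine ⟨ea.trans eb.symm, ?_⟩
    have hh : (X.residueFieldCongr ea).inv ≫ (pt a.1).2 = (X.residueFieldCongr eb).inv ≫ (pt b.1).2 :=
      CommRingCat.hom_ext (RingHom.ext fun z => DFunLike.congr_fun hab z)
    rw [Iso.inv_comp_eq] at hh
    rw [hh]
    simp
  · obtain ⟨ψ, -, rfl⟩ := Finset.mem_image.1 hx
    haveI := finite_residueField_of_isClosed f (hclosed ψ)
    haveI : CharP (X.residueField (pt ψ).1) p := (pt ψ).2.hom.charP (pt ψ).2.hom.injective p
    haveI := Fintype.ofFinite (X.residueField (pt ψ).1)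
    obtain ⟨e', -, he'⟩ := FiniteField.card (X.residueField (pt ψ).1) p
    have heq : clNorm (cl ψ) = p ^ (e' : ℕ) := by
      rw [← he', ← Nat.card_eq_fintype_card]; rfl
    refine ⟨e', e'.2, (Nat.pow_le_pow_iff_right hp.one_lt).1 ?_, heq⟩
    rw [← heq, ← hF]
    exact Nat.card_le_card_of_injective _ (pt ψ).2.hom.injective

/-- An affine open with a domain quotient of large dimension. -/
lemma exists_chain_domain (f : X ⟶ Spec (CommRingCat.of (ULift.{u} ℤ))) [LocallyOfFiniteType f]
    {r : ℕ} (hr : topologicalKrullDim X = r) :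
    ∃ (U : X.Opens) (_ : IsAffineOpen U) (I : Ideal Γ(X, U)) (_ : I.IsPrime)
      (m : Ideal (Γ(X, U) ⧸ I)), m.IsMaximal ∧ (r : ℕ∞) ≤ m.height := by
  obtain ⟨l, hl⟩ := (Order.le_krullDim_iff (n := r)).1 hr.ge
  obtain ⟨x, hx⟩ := (RelSeries.head l).isIrreducible.nonempty
  obtain ⟨_, ⟨U, hU, rfl⟩, hxU, -⟩ :=
    X.isBasis_affineOpens.exists_subset_of_mem_open (Set.mem_univ x) isOpen_univ
  haveI := hU.isOpenImmersion_fromSpec
  have h1 := SpectralTopology.length_le_of_head_inter_range hU.fromSpec.isOpenEmbedding l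
    ⟨x, hx, by rw [hU.range_fromSpec]; exact hxU⟩
  rw [hl] at h1
  replace h1 : (r : WithBot ℕ∞) ≤ ringKrullDim Γ(X, U) := by
    rw [← PrimeSpectrum.topologicalKrullDim_eq_ringKrullDim]; exact h1
  obtain ⟨q, hq⟩ := (Order.le_krullDim_iff (n := r)).1 h1
  set I := q.head.asIdeal with hI
  have hle : ∀ i, I ≤ (q i).asIdeal := fun i => q.monotone (Fin.zero_le i)
  let mk := Ideal.Quotient.mk I
  have hmk : ∀ i, RingHom.ker mk ≤ (q i).asIdeal := fun i => by rw [Ideal.mk_ker]; exact hle i
  let q' : LTSeries (PrimeSpectrum (Γ(X, U) ⧸ I)) :=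
    { length := q.length
      toFun := fun i => ⟨(q i).asIdeal.map mk,
        Ideal.map_isPrime_of_surjective Ideal.Quotient.mk_surjective (hmk i)⟩
      step := fun i => by
        have hlt : (q i.castSucc).asIdeal < (q i.succ).asIdeal := q.step i
        refine lt_of_le_of_ne (Ideal.map_mono hlt.le) fun h => hlt.ne ?_
        have h' := congrArg (Ideal.comap mk) h
        rwa [Ideal.comap_map_of_surjective _ Ideal.Quotient.mk_surjective,
          Ideal.comap_map_of_surjective _ Ideal.Quotient.mk_surjective, ← RingHom.ker_eq_comap_bot,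
          sup_eq_left.2 (hmk _), sup_eq_left.2 (hmk _)] at h' }
  obtain ⟨m, hm, hle'⟩ := Ideal.exists_le_maximal q'.last.asIdeal q'.last.2.ne_top
  refine ⟨U, hU, I, q.head.2, m, hm, ?_⟩
  haveI := hm.isPrime
  rw [show m = (⟨m, hm.isPrime⟩ : PrimeSpectrum _).asIdeal from rfl, PrimeSpectrum.height_eq_orderHeight]
  refine le_trans ?_ (Order.height_mono (show q'.last ≤ ⟨m, hm.isPrime⟩ from hle'))
  have := Order.length_le_height_last (p := q')
  rwa [show q'.length = r from hq] at this

lemma trdeg_natCast_le {R A : Type u} [CommRing R] [CommRing A] [Algebra R A] {t₀ n : ℕ}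
    (h1 : Algebra.trdeg R A = t₀) (h2 : Algebra.trdeg R A ≤ n) : t₀ ≤ n := by
  rw [h1] at h2; exact_mod_cast h2

/-- The lower bound in characteristic `p`. -/
theorem not_summable_charP (f : X ⟶ Spec (CommRingCat.of (ULift.{u} ℤ))) [LocallyOfFiniteType f]
    {U : X.Opens} (hU : IsAffineOpen U) (I : Ideal Γ(X, U)) [I.IsPrime]
    (m : Ideal (Γ(X, U) ⧸ I)) [m.IsMaximal] {r : ℕ} (hm : (r : ℕ∞) ≤ m.height) {p : ℕ} (hp : p.Prime)
    [CharP (Γ(X, U) ⧸ I) p] {σ : ℝ} (hσ0 : 0 ≤ σ) (hσ : σ < r) :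
    ¬ Summable fun x : ClPt X => (clNorm x : ℝ) ^ (-σ) := by
  classical
  intro hsum
  haveI := Fact.mk hp
  haveI := finiteType_sections f hU
  haveI := finiteType_int_of_surjective (Ideal.Quotient.mk I) Ideal.Quotient.mk_surjective
  let B := Γ(X, U) ⧸ I
  let R := ULift.{u} (ZMod p)
  letI : Field R := ULift.field
  letI : Algebra R B :=
    RingHom.toAlgebra ((ZMod.castHom (dvd_refl p) B).comp (ULift.ringEquiv (R := ZMod p)).toRingHom)
  haveI : Finite R := Finite.of_equiv _ Equiv.ulift.symm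
  haveI : FaithfulSMul R B :=
    (faithfulSMul_iff_algebraMap_injective R B).2 (algebraMap R B).injective
  haveI : Algebra.FiniteType R B := Algebra.FiniteType.of_restrictScalars_finiteType ℤ R B
  haveI : PerfectField (FractionRing R) := by
    haveI : Finite (FractionRing R) :=
      IsLocalization.finite R (nonZeroDivisors R)
    infer_instance
  obtain ⟨n, hn, hmod⟩ := exists_hasModel.{u, u} R B
  haveI : m.LiesOver (⊥ : Ideal R) :=
    ⟨(Ideal.eq_bot_or_top (m.under R)).resolve_right (Ideal.IsPrime.ne_top inferInstance) |>.symm⟩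
  obtain ⟨t, t₀, -, ht₀, hle, -⟩ := Groth.FibreDim.exists_trdeg_add_height (⊥ : Ideal R) m
  rw [Ideal.height_bot, zero_add] at hle
  have hrn : r ≤ n := by
    have h1 : (r : ℕ∞) ≤ t₀ := hm.trans (le_trans le_self_add hle)
    exact (show r ≤ t₀ by exact_mod_cast h1).trans (trdeg_natCast_le ht₀ hn)
  obtain ⟨fp, hp', g, hg, hpt, hzero⟩ := hmod
  -- a point
  obtain ⟨M, hM, hgM⟩ : ∃ M : Ideal B, M.IsMaximal ∧ g ∉ M := by
    by_contra hcon
    push Not at hcon
    have hmem : g ∈ (⊥ : Ideal B).jacobson := Ideal.mem_sInf.2 fun {J} hJ => hcon J hJ.2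
    haveI : IsJacobsonRing B := isJacobsonRing_of_finiteType (A := R)
    rw [IsJacobsonRing.out ‹_› Ideal.isRadical_bot] at hmem
    exact hg hmem
  haveI := hM
  letI := Ideal.Quotient.field M
  haveI : Finite (B ⧸ M) := by
    haveI : Algebra.FiniteType R (B ⧸ M) :=
      Algebra.FiniteType.of_surjective (Ideal.Quotient.mkₐ R M) (Ideal.Quotient.mkₐ_surjective R M)
    haveI := finite_of_finite_type_of_isJacobsonRing R (B ⧸ M)
    exact Module.finite_of_finite R
  let F₀ := B ⧸ M
  let ω : B →+* F₀ := Ideal.Quotient.mk M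
  haveI : CharP F₀ p := (CharP.charP_iff_prime_eq_zero hp).2 (by
    rw [← map_natCast ω, CharP.cast_eq_zero, map_zero])
  set φ : R →+* F₀ := ω.comp (algebraMap R B)
  obtain ⟨v₀, hv1, hv2, hv3⟩ := hpt F₀ φ ω rfl (by rwa [Ne, Ideal.Quotient.eq_zero_iff_mem])
  obtain ⟨a, ha, ha'⟩ : ∃ a : ℕ, 0 < a ∧ Nat.card F₀ = p ^ a := by
    haveI := Fintype.ofFinite F₀
    obtain ⟨a, -, ha⟩ := FiniteField.card F₀ p
    exact ⟨a, a.2, by rw [Nat.card_eq_fintype_card]; exact ha⟩
  set D := max fp.totalDegree hp'.totalDegree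
  set S := ∑' x : ClPt X, (clNorm x : ℝ) ^ (-σ)
  have hqa : (1 : ℝ) < (p : ℝ) ^ a := one_lt_pow₀ (by exact_mod_cast hp.one_lt) ha.ne'
  have hkey : ∀ j : ℕ, 0 < j → sliceQ D ≤ p ^ (a * j) →
      (((p : ℝ) ^ a) ^ j) ^ ((r : ℝ) - σ) ≤ ((4 * D + 1 : ℕ) : ℝ) * a * S * j := by
    intro j hj hQ
    haveI : NeZero j := ⟨hj.ne'⟩
    let F1 := FiniteField.Extension F₀ p j
    let F := ULift.{u} F1
    letI : Field F := ULift.field
    haveI : Finite F := Finite.of_equiv _ Equiv.ulift.symm
    let ι : F₀ →+* F := (ULift.ringEquiv (R := F1)).symm.toRingHom.comp (algebraMap F₀ F1)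
    have hF : Nat.card F = p ^ (a * j) := by
      rw [Nat.card_congr Equiv.ulift, FiniteField.natCard_extension, ha', pow_mul]
    set φF : R →+* F := ι.comp φ
    obtain ⟨Φ, hΦ, -⟩ := hzero F φF
    have hev : ∀ P : MvPolynomial (Option (Fin n)) R,
        MvPolynomial.eval (ι ∘ v₀) (MvPolynomial.map φF P) = ι (MvPolynomial.eval₂ φ v₀ P) := fun P => by
      rw [MvPolynomial.eval_map, MvPolynomial.hom_eval₂]
      rfl
    have hb := pow_le_hypersurface_points (D := D) (hF ▸ hQ) (MvPolynomial.map φF fp)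
      (MvPolynomial.map φF hp') ((totalDegree_map_le' _ _).trans (le_max_left _ _))
      ((totalDegree_map_le' _ _).trans (le_max_right _ _)) (ι ∘ v₀)
      (by rw [hev, hv1, map_zero])
      (by rw [MvPolynomial.pderiv_map, hev]; exact (map_ne_zero ι).2 hv2)
      (by rw [hev]; exact (map_ne_zero ι).2 hv3)
    let Ψ : ↥(offZeros (MvPolynomial.map φF fp) (MvPolynomial.map φF hp')) → (Γ(X, U) →+* F) :=
      fun v => (Φ v).comp (Ideal.Quotient.mk I)
    have hΨ : Function.Injective Ψ := fun v w h => hΦ (Ideal.Quotient.ringHom_ext h)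
    haveI := Fintype.ofFinite ↥(offZeros (MvPolynomial.map φF fp) (MvPolynomial.map φF hp'))
    obtain ⟨W, hW, hWn⟩ := card_hom_le f hU hp hF (Finset.univ.image Ψ)
    rw [Finset.card_image_of_injective _ hΨ, Finset.card_univ, ← Nat.card_eq_fintype_card,
      Nat.card_coe_set_eq] at hW
    set q : ℝ := ((p : ℝ) ^ a) ^ j
    have hq1 : 1 ≤ q := one_le_pow₀ hqa.le
    have hqN : ((Nat.card F : ℕ) : ℝ) = q := by rw [hF, Nat.cast_pow, pow_mul]
    have hWsum : (W.card : ℝ) * q ^ (-σ) ≤ S := by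
      rw [← nsmul_eq_mul, ← Finset.sum_const]
      refine (Finset.sum_le_sum fun x hx => ?_).trans
        (hsum.sum_le_tsum W fun x _ => Real.rpow_nonneg (Nat.cast_nonneg _) _)
      obtain ⟨e, -, he, hxe⟩ := hWn x hx
      refine Real.rpow_le_rpow_of_nonpos ?_ ?_ (by linarith)
      · exact_mod_cast (lt_of_lt_of_le two_pos (two_le_clNorm f x))
      · rw [hxe, Nat.cast_pow, show q = (p : ℝ) ^ (a * j) from (pow_mul _ _ _).symm]
        exact pow_le_pow_right₀ (by exact_mod_cast hp.one_lt.le) he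
    have hchain : (Nat.card F) ^ r ≤ (4 * D + 1) * (a * j * W.card) :=
      (Nat.pow_le_pow_right (hF ▸ pow_pos hp.pos _) hrn).trans
        (hb.trans (Nat.mul_le_mul le_rfl hW))
    have hchain' : q ^ r ≤ ((4 * D + 1 : ℕ) : ℝ) * (a * j * W.card) := by
      rw [← hqN]; exact_mod_cast hchain
    calc q ^ ((r : ℝ) - σ) = q ^ r * q ^ (-σ) := by
          rw [sub_eq_add_neg, Real.rpow_add (by linarith), Real.rpow_natCast]
      _ ≤ ((4 * D + 1 : ℕ) : ℝ) * (a * j * W.card) * q ^ (-σ) :=
          mul_le_mul_of_nonneg_right hchain' (Real.rpow_nonneg (by linarith) _)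
      _ = ((4 * D + 1 : ℕ) : ℝ) * a * j * (W.card * q ^ (-σ)) := by ring
      _ ≤ ((4 * D + 1 : ℕ) : ℝ) * a * j * S := mul_le_mul_of_nonneg_left hWsum (by positivity)
      _ = ((4 * D + 1 : ℕ) : ℝ) * a * S * j := by ring
  -- exponential against linear
  set c : ℝ := ((p : ℝ) ^ a) ^ ((r : ℝ) - σ)
  have hc : 1 < c := Real.one_lt_rpow hqa (by linarith)
  have hlim := (tendsto_pow_const_div_const_pow_of_one_lt 1 hc)
  set L : ℝ := ((4 * D + 1 : ℕ) : ℝ) * a * S
  have h1 : ∀ᶠ j : ℕ in atTop, L * ((j : ℝ) ^ 1 / c ^ j) < 1 := by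
    refine (hlim.const_mul L).eventually (gt_mem_nhds ?_)
    simp
  have h2 : ∀ᶠ j : ℕ in atTop, 0 < j ∧ sliceQ D ≤ p ^ (a * j) := by
    filter_upwards [eventually_ge_atTop (sliceQ D + 1)] with j hj
    exact ⟨by omega, ((Nat.le_succ _).trans hj).trans
      ((Nat.le_mul_of_pos_left j ha).trans (Nat.lt_pow_self hp.one_lt).le)⟩
  obtain ⟨j, hj1, hj2, hj3⟩ := (h1.and h2).exists
  have h3 := hkey j hj2 hj3
  rw [pow_one, ← mul_div_assoc, div_lt_one (pow_pos (by linarith) j)] at hj1
  rw [show (((p : ℝ) ^ a) ^ j) ^ ((r : ℝ) - σ) = c ^ j from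
    (Real.rpow_pow_comm (by positivity) _ _).symm] at h3
  linarith

/-- A finite type domain of characteristic zero has number field points avoiding an element. -/
lemma exists_numberField_point (B : Type u) [CommRing B] [IsDomain B] [CharZero B]
    [Algebra.FiniteType ℤ B] (g : B) (hg : g ≠ 0) :
    ∃ (K : Type u) (_ : Field K) (_ : NumberField K) (ω : B →+* K), ω g ≠ 0 := by
  classical
  obtain ⟨G, hG⟩ := (inferInstance : Algebra.FiniteType ℤ B).out
  haveI : CharZero (FractionRing B) :=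
    charZero_of_injective_ringHom (IsFractionRing.injective B (FractionRing B))
  let C : Subalgebra ℚ (FractionRing B) := Algebra.adjoin ℚ
    ((insert (algebraMap B (FractionRing B) g)⁻¹ (G.image (algebraMap B (FractionRing B))) :
      Finset (FractionRing B)) : Set (FractionRing B))
  haveI : Algebra.FiniteType ℚ C :=
    (Subalgebra.fg_iff_finiteType C).1 (Subalgebra.fg_adjoin_finset _)
  have hBC : ∀ b : B, algebraMap B (FractionRing B) b ∈ C := by
    intro b
    have hb : b ∈ Algebra.adjoin ℤ (G : Set B) := by rw [hG]; trivial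
    induction hb using Algebra.adjoin_induction with
    | mem z hz =>
      exact Algebra.subset_adjoin (Finset.mem_insert_of_mem (Finset.mem_image_of_mem _ hz))
    | algebraMap z =>
      rw [algebraMap_int_eq, eq_intCast, map_intCast]
      exact intCast_mem _ _
    | add a b _ _ ha hb => rw [map_add]; exact add_mem ha hb
    | mul a b _ _ ha hb => rw [map_mul]; exact mul_mem ha hb
  let gi : C := ⟨(algebraMap B (FractionRing B) g)⁻¹,
    Algebra.subset_adjoin (Finset.mem_insert_self _ _)⟩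
  let ιC : B →+* C := (algebraMap B (FractionRing B)).codRestrict C hBC
  have hgC : ιC g * gi = 1 := Subtype.ext (mul_inv_cancel₀
    ((map_ne_zero_iff _ (IsFractionRing.injective B (FractionRing B))).2 hg))
  obtain ⟨M, hM⟩ := Ideal.exists_maximal C
  haveI := hM
  letI : Field (C ⧸ M) := Ideal.Quotient.field M
  letI algK : Algebra ℚ (C ⧸ M) := Ideal.Quotient.algebra ℚ
  haveI hfin : @Module.Finite ℚ (C ⧸ M) _ _ algK.toModule := by
    haveI : @Algebra.FiniteType ℚ (C ⧸ M) _ _ algK :=
      Algebra.FiniteType.of_surjective (Ideal.Quotient.mkₐ ℚ M) (Ideal.Quotient.mkₐ_surjective ℚ M)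
    exact finite_of_finite_type_of_isJacobsonRing ℚ (C ⧸ M)
  haveI : CharZero (C ⧸ M) := charZero_of_injective_ringHom (@algebraMap ℚ (C ⧸ M) _ _ algK).injective
  have hnf : NumberField (C ⧸ M) := by
    refine { to_charZero := inferInstance, to_finiteDimensional := ?_ }
    convert hfin
    all_goals first | rfl | exact Subsingleton.elim _ _ | exact Algebra.algebra_ext _ _ fun r => (RingHom.congr_fun (Subsingleton.elim _ _) r)
  refine ⟨C ⧸ M, inferInstance, hnf, (Ideal.Quotient.mk M).comp ιC, ?_⟩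
  intro h
  have := congrArg (Ideal.Quotient.mk M) hgC
  rw [map_mul, map_one, ← RingHom.comp_apply, h, zero_mul] at this
  exact zero_ne_one this

/-- The lower bound in characteristic zero. -/
theorem not_summable_charZero (f : X ⟶ Spec (CommRingCat.of (ULift.{u} ℤ))) [LocallyOfFiniteType f]
    {U : X.Opens} (hU : IsAffineOpen U) (I : Ideal Γ(X, U)) [I.IsPrime]
    (m : Ideal (Γ(X, U) ⧸ I)) [m.IsMaximal] {r : ℕ} (hm : (r : ℕ∞) ≤ m.height)
    [CharZero (Γ(X, U) ⧸ I)] {σ : ℝ} (hσ : σ < r) :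
    ¬ Summable fun x : ClPt X => (clNorm x : ℝ) ^ (-σ) := by
  classical
  intro hsum
  haveI := finiteType_sections f hU
  haveI := finiteType_int_of_surjective (Ideal.Quotient.mk I) Ideal.Quotient.mk_surjective
  let B := Γ(X, U) ⧸ I
  let R := IntU.{u}
  letI : Algebra R B :=
    RingHom.toAlgebra ((Int.castRingHom B).comp intUEquiv.toRingHom)
  haveI : FaithfulSMul R B := (faithfulSMul_iff_algebraMap_injective R B).2
    (Int.cast_injective.comp intUEquiv.injective)
  haveI : Algebra.FiniteType R B := Algebra.FiniteType.of_restrictScalars_finiteType ℤ R B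
  haveI : IsNoetherianRing R := isNoetherianRing_of_ringEquiv ℤ intUEquiv.symm
  haveI : CharZero R := charZero_of_injective_ringHom (f := intUEquiv.symm.toRingHom) intUEquiv.symm.injective
  obtain ⟨n, hn, hmod⟩ := exists_hasModel.{u, u} R B
  haveI : (m.under R).IsPrime := inferInstance
  obtain ⟨t, t₀, -, ht₀, hle, -⟩ := Groth.FibreDim.exists_trdeg_add_height (m.under R) m
  have hrn : r ≤ n + 1 := by
    have h1 : ((m.under R).height : WithBot ℕ∞) ≤ 1 := by
      refine le_trans Ideal.height_le_ringKrullDim_of_isPrime ?_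
      rw [ringKrullDim_eq_of_ringEquiv intUEquiv,
        IsPrincipalIdealRing.ringKrullDim_eq_one ℤ Int.not_isField]
    have h1' : (m.under R).height ≤ 1 := by exact_mod_cast h1
    have h2 : (r : ℕ∞) ≤ 1 + (t₀ : ℕ∞) :=
      hm.trans (le_trans le_self_add (hle.trans (add_le_add h1' le_rfl)))
    have h3 : r ≤ 1 + t₀ := by exact_mod_cast h2
    have := trdeg_natCast_le ht₀ hn
    omega
  obtain ⟨fp, hp', g, hg, hpt, hzero⟩ := hmod
  -- a number field point
  obtain ⟨G, hG⟩ := (inferInstance : Algebra.FiniteType R B).out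
  obtain ⟨K, _, _, ω, hω0⟩ := exists_numberField_point B g hg
  -- integrality away from `d`
  obtain ⟨d, hd⟩ := IsLocalization.exist_integer_multiples (nonZeroDivisors (𝓞 K))
    (insert (ω g)⁻¹ (G.image ω)) id
  let N0 : ℕ := max (sliceQ (max fp.totalDegree hp'.totalDegree)) (Ideal.absNorm (Ideal.span {(d : 𝓞 K)}))
  set D := max fp.totalDegree hp'.totalDegree
  set t' : ℝ := σ - n
  have ht' : t' < 1 := by
    have : (r : ℝ) ≤ n + 1 := by exact_mod_cast hrn
    simp only [t']
    linarith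
  refine not_summable_degOne K ht' N0 ?_
  set S : Set (NfPrime K) := {P | (Ideal.absNorm P.1).Prime ∧ N0 < Ideal.absNorm P.1}
  have hlow : ∀ P : {P : NfPrime K // (Ideal.absNorm P.1).Prime ∧ N0 < Ideal.absNorm P.1},
      ∃ W : Finset (ClPt X), (∀ x ∈ W, clNorm x = Ideal.absNorm P.1.1) ∧
        Ideal.absNorm P.1.1 ^ n ≤ (4 * D + 1) * W.card := by
    intro P
    set p := Ideal.absNorm P.1.1
    have hp : p.Prime := P.2.1
    haveI := P.1.2.1
    haveI : P.1.1.IsMaximal := P.1.2.1.isMaximal P.1.2.2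
    let F₁ := 𝓞 K ⧸ P.1.1
    letI : Field F₁ := Ideal.Quotient.field _
    have hcard1 : Nat.card F₁ = p := rfl
    let F := ULift.{u} F₁
    letI : Field F := ULift.field
    haveI : Finite F₁ := Nat.finite_of_card_ne_zero (by rw [hcard1]; exact hp.ne_zero)
    haveI : Finite F := Finite.of_equiv _ Equiv.ulift.symm
    have hF : Nat.card F = p ^ 1 := by rw [Nat.card_congr Equiv.ulift, hcard1, pow_one]
    let π : 𝓞 K →+* F := (ULift.ringEquiv (R := F₁)).symm.toRingHom.comp (Ideal.Quotient.mk P.1.1)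
    have hπd : π (d : 𝓞 K) ≠ 0 := by
      intro h
      have hmem : (d : 𝓞 K) ∈ P.1.1 :=
        Ideal.Quotient.eq_zero_iff_mem.1 ((ULift.ringEquiv (R := F₁)).symm.map_eq_zero_iff.1 h)
      have hdvd : p ∣ Ideal.absNorm (Ideal.span {(d : 𝓞 K)}) :=
        Ideal.absNorm_dvd_absNorm_of_le ((Ideal.span_singleton_le_iff_mem _).2 hmem)
      have hpos : Ideal.absNorm (Ideal.span {(d : 𝓞 K)}) ≠ 0 := by
        rw [Ne, Ideal.absNorm_eq_zero_iff, Ideal.span_singleton_eq_bot]
        exact nonZeroDivisors.coe_ne_zero d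
      have := Nat.le_of_dvd (Nat.pos_of_ne_zero hpos) hdvd
      have : Ideal.absNorm (Ideal.span {(d : 𝓞 K)}) ≤ N0 := le_max_right _ _
      have := P.2.2
      omega
    let L := Localization.Away (d : 𝓞 K)
    have huK : IsUnit (algebraMap (𝓞 K) K d) :=
      (IsFractionRing.to_map_ne_zero_of_mem_nonZeroDivisors (K := K) d.2).isUnit
    let lK : L →+* K := IsLocalization.Away.lift (d : 𝓞 K) huK
    have hlK : Function.Injective lK := by
      refine IsLocalization.lift_injective_iff (S := L) _ |>.2 fun x y => ⟨fun h => ?_, fun h => ?_⟩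
      · have := congrArg lK h
        rwa [IsLocalization.Away.lift_eq, IsLocalization.Away.lift_eq] at this
      · rw [IsFractionRing.injective (𝓞 K) K h]
    let lF : L →+* F := IsLocalization.Away.lift (d : 𝓞 K) hπd.isUnit
    have hmemr : ∀ z ∈ insert (ω g)⁻¹ (G.image ω), z ∈ lK.range := by
      intro z hz
      obtain ⟨a, ha⟩ := hd z hz
      refine ⟨algebraMap _ L a * IsLocalization.Away.invSelf (d : 𝓞 K), ?_⟩
      apply mul_left_cancel₀ huK.ne_zero
      rw [map_mul lK, mul_left_comm, ← IsLocalization.Away.lift_eq (S := L) (d : 𝓞 K) huK (d : 𝓞 K),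
        ← map_mul, IsLocalization.Away.mul_invSelf (S := L), map_one, mul_one,
        IsLocalization.Away.lift_eq, IsLocalization.Away.lift_eq, ha, id_eq, Algebra.smul_def]
    have hBr : ∀ b : B, ω b ∈ lK.range := by
      intro b
      have hb : b ∈ Algebra.adjoin R (G : Set B) := by rw [hG]; trivial
      induction hb using Algebra.adjoin_induction with
      | mem z hz => exact hmemr _ (Finset.mem_insert_of_mem (Finset.mem_image_of_mem _ hz))
      | algebraMap z =>
        rw [RingHom.algebraMap_toAlgebra, RingHom.comp_apply, eq_intCast, map_intCast]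
        exact intCast_mem _ _
      | add a b _ _ ha hb => rw [map_add]; exact add_mem ha hb
      | mul a b _ _ ha hb => rw [map_mul]; exact mul_mem ha hb
    let e := RingEquiv.ofBijective lK.rangeRestrict
      ⟨fun a b h => hlK (congrArg Subtype.val h), lK.rangeRestrict_surjective⟩
    let ω₁ : B →+* F := lF.comp (e.symm.toRingHom.comp (ω.codRestrict lK.range hBr))
    have hω₁ : ω₁ g ≠ 0 := by
      have h1 : ω.codRestrict lK.range hBr g *
          (⟨(ω g)⁻¹, hmemr _ (Finset.mem_insert_self _ _)⟩ : lK.range) = 1 :=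
        Subtype.ext (mul_inv_cancel₀ hω0)
      exact ((IsUnit.of_mul_eq_one _ h1).map (lF.comp e.symm.toRingHom)).ne_zero
    obtain ⟨v₀, hv1, hv2, hv3⟩ := hpt F (ω₁.comp (algebraMap R B)) ω₁ rfl hω₁
    obtain ⟨Φ, hΦ, -⟩ := hzero F (ω₁.comp (algebraMap R B))
    have hb := pow_le_hypersurface_points (D := D)
      (show sliceQ D ≤ Nat.card F by
        rw [hF, pow_one]; exact (le_max_left _ _).trans P.2.2.le)
      (MvPolynomial.map (ω₁.comp (algebraMap R B)) fp) (MvPolynomial.map (ω₁.comp (algebraMap R B)) hp')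
      ((totalDegree_map_le' _ _).trans (le_max_left _ _))
      ((totalDegree_map_le' _ _).trans (le_max_right _ _)) v₀
      (by rw [MvPolynomial.eval_map, hv1])
      (by rw [MvPolynomial.pderiv_map, MvPolynomial.eval_map]; exact hv2)
      (by rw [MvPolynomial.eval_map]; exact hv3)
    let Ψ : ↥(offZeros (MvPolynomial.map (ω₁.comp (algebraMap R B)) fp)
        (MvPolynomial.map (ω₁.comp (algebraMap R B)) hp')) → (Γ(X, U) →+* F) :=
      fun v => (Φ v).comp (Ideal.Quotient.mk I)
    have hΨ : Function.Injective Ψ := fun v w h => hΦ (Ideal.Quotient.ringHom_ext h)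
    haveI := Fintype.ofFinite ↥(offZeros (MvPolynomial.map (ω₁.comp (algebraMap R B)) fp)
      (MvPolynomial.map (ω₁.comp (algebraMap R B)) hp'))
    obtain ⟨W, hW, hWn⟩ := card_hom_le f hU hp hF (Finset.univ.image Ψ)
    rw [Finset.card_image_of_injective _ hΨ, Finset.card_univ, ← Nat.card_eq_fintype_card,
      Nat.card_coe_set_eq, one_mul] at hW
    refine ⟨W, fun x hx => ?_, ?_⟩
    · obtain ⟨e, h1, h2, he⟩ := hWn x hx
      rw [he, show e = 1 by omega, pow_one]
    · rw [hF, pow_one] at hb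
      exact hb.trans (Nat.mul_le_mul le_rfl hW)
  choose W hWn hWc using hlow
  refine summable_of_sum_le (fun P => Real.rpow_nonneg (Nat.cast_nonneg _) _)
    (c := ((4 * D + 1 : ℕ) : ℝ) * (Module.finrank ℚ K : ℝ) * ∑' x : ClPt X, (clNorm x : ℝ) ^ (-σ))
    fun s => ?_
  have hterm : ∀ P ∈ s, (Ideal.absNorm P.1.1 : ℝ) ^ (-t') ≤
      ((4 * D + 1 : ℕ) : ℝ) * ∑ x ∈ W P, (clNorm x : ℝ) ^ (-σ) := by
    intro P _
    have hp0 : (0 : ℝ) < Ideal.absNorm P.1.1 := by exact_mod_cast P.2.1.pos
    rw [Finset.sum_congr rfl fun x hx => by rw [hWn P x hx], Finset.sum_const, nsmul_eq_mul,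
      show -t' = (n : ℝ) + -σ by simp [t']; ring, Real.rpow_add hp0, Real.rpow_natCast, ← mul_assoc]
    exact mul_le_mul_of_nonneg_right (by exact_mod_cast hWc P) (Real.rpow_nonneg hp0.le _)
  refine (Finset.sum_le_sum hterm).trans ?_
  rw [← Finset.mul_sum, mul_assoc]
  refine mul_le_mul_of_nonneg_left ?_ (Nat.cast_nonneg _)
  -- each closed point is hit by boundedly many primes
  rw [Finset.sum_comm' (t' := s.biUnion W) (s' := fun x => s.filter fun P => x ∈ W P)
    (by intro P x; simp only [Finset.mem_filter, Finset.mem_biUnion]; tauto)]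
  refine le_trans (Finset.sum_le_sum fun x _ => ?_)
    (le_of_eq_of_le (Finset.mul_sum _ _ (Module.finrank ℚ K : ℝ)).symm
      (mul_le_mul_of_nonneg_left
        (hsum.sum_le_tsum _ fun x _ => Real.rpow_nonneg (Nat.cast_nonneg _) _) (Nat.cast_nonneg _)))
  rw [Finset.sum_const, nsmul_eq_mul]
  refine mul_le_mul_of_nonneg_right ?_ (Real.rpow_nonneg (Nat.cast_nonneg _) _)
  rcases (s.filter fun P => x ∈ W P).eq_empty_or_nonempty with hemp | ⟨P₀, hP₀⟩
  · simp [hemp]
  norm_cast
  rw [← Finset.card_map (Function.Embedding.subtype _)]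
  refine card_primes_over_le K P₀.2.1 _ fun Q hQ => ?_
  obtain ⟨P, hP, rfl⟩ := Finset.mem_map.1 hQ
  have heq : Ideal.absNorm P₀.1.1 = Ideal.absNorm P.1.1 :=
    (hWn P₀ x (Finset.mem_filter.1 hP₀).2).symm.trans (hWn P x (Finset.mem_filter.1 hP).2)
  rw [heq]
  exact Ideal.absNorm_mem P.1.1

/-- The abscissa of an arithmetic scheme of dimension `r` is at least `r`. -/
theorem le_abscissa (f : X ⟶ Spec (CommRingCat.of (ULift.{u} ℤ))) [LocallyOfFiniteType f]
    [QuasiCompact f] {r : ℕ} (hr : topologicalKrullDim X = r) :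
    ((r : ℝ) : EReal) ≤ LSeries.abscissaOfAbsConv (Zeta.arithCoeff X) := by
  by_contra hlt
  rw [not_le] at hlt
  obtain ⟨σ, h1, h2⟩ := EReal.lt_iff_exists_real_btwn.1 hlt
  have h2' : σ < (r : ℝ) := EReal.coe_lt_coe_iff.1 h2
  obtain ⟨hsum, hpos⟩ := sum_clNorm_le f hr.le h1
  obtain ⟨U, hU, I, hI, m, hm, hmr⟩ := exists_chain_domain f hr
  haveI := hI
  haveI := hm
  obtain ⟨q, hq⟩ := CharP.exists (Γ(X, U) ⧸ I)
  rcases CharP.char_is_prime_or_zero (Γ(X, U) ⧸ I) q with hp | rfl
  · haveI : Nontrivial Γ(X, U) := (Ideal.Quotient.mk I).domain_nontrivial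
    obtain ⟨M, hM⟩ := Ideal.exists_maximal Γ(X, U)
    refine not_summable_charP f hU I m hmr hp ?_ h2' hsum
    refine (hpos ⟨hU.fromSpec ⟨M, hM.isPrime⟩, ?_⟩).le
    haveI : JacobsonSpace X := by
      haveI : IsJacobsonRing (ULift.{u} ℤ) :=
        (isJacobsonRing_iso (ULift.ringEquiv (R := ℤ))).2 (Groth.Agent.S9612.result (S := ℤ))
      exact LocallyOfFiniteType.jacobsonSpace f
    apply isClosed_singleton_of_isLocallyClosed_singleton
    have := (((PrimeSpectrum.isClosed_singleton_iff_isMaximal (⟨M, hM.isPrime⟩ : PrimeSpectrum Γ(X, U))).2 hM).isLocallyClosed).image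
      hU.fromSpec.isOpenEmbedding.isInducing hU.fromSpec.isOpenEmbedding.isOpen_range.isLocallyClosed
    convert this using 1
    exact Set.image_singleton.symm
  · haveI := CharP.charP_to_charZero (Γ(X, U) ⧸ I)
    exact not_summable_charZero f hU I m hmr h2' hsum

end Groth.ZetaAn
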