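import Groth.Agent.ZetaAn.AlgebraicFunctions
import Mathlib.FieldTheory.PrimitiveElement
import Mathlib.RingTheory.Algebraic.Integral
import Mathlib.RingTheory.Localization.Integral
import Mathlib.LinearAlgebra.Matrix.Adjugate
import Mathlib.FieldTheory.Perfect

/-! The complex characters of a finitely generated domain form a connected space. -/

set_option autoImplicit false
set_option linter.style.haveILetI false

open Filter Topology Polynomial

namespace Groth.ZetaAn

lemma eq_zero_of_moments {R : Finset ℂ} {m : ℕ} (hR : R.card = m) (w : ℂ → ℂ)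
    (hw : ∀ k < m, ∑ r ∈ R, w r * r ^ k = 0) : ∀ r ∈ R, w r = 0 := by
  classical
  intro r₀ hr₀
  set L := Lagrange.basis R id r₀
  have hdeg : L.natDegree < m := by
    rw [Lagrange.natDegree_basis (Set.injOn_id _) hr₀, hR]
    have : 0 < m := hR ▸ Finset.card_pos.2 ⟨r₀, hr₀⟩
    omega
  have h1 : ∑ r ∈ R, w r * L.eval r = 0 := by
    simp only [eval_eq_sum_range' hdeg, Finset.mul_sum]
    rw [Finset.sum_comm]
    refine Finset.sum_eq_zero fun k hk => ?_
    rw [← mul_zero (L.coeff k), ← hw k (Finset.mem_range.1 hk), Finset.mul_sum]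
    exact Finset.sum_congr rfl fun r _ => by ring
  have hself : L.eval r₀ = 1 := by
    simpa [L] using Lagrange.eval_basis_self (v := (id : ℂ → ℂ)) (Set.injOn_id _) hr₀
  rw [Finset.sum_eq_single r₀ (fun r hr hne => by
    rw [show L.eval r = 0 from Lagrange.eval_basis_of_ne (v := id) hne.symm hr, mul_zero])
    (fun h => absurd hr₀ h), hself, mul_one] at h1
  exact h1

variable {A : Type} [CommRing A] [Algebra ℂ A]

lemma exists_char_of_root [IsDomain A] [Algebra.FiniteType ℂ A] {d : ℕ}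
    (g : MvPolynomial (Fin d) ℂ →ₐ[ℂ] A) [Algebra (MvPolynomial (Fin d) ℂ) A]
    (halg : ∀ p, algebraMap (MvPolynomial (Fin d) ℂ) A p = g p)
    (hg : Function.Injective g) [Algebra.IsIntegral (MvPolynomial (Fin d) ℂ) A] (e : A)
    (y : Fin d → ℂ) (r : ℂ)
    (hr : (spec (minpoly (MvPolynomial (Fin d) ℂ) e) y).IsRoot r) :
    ∃ ψ : A →ₐ[ℂ] ℂ, (∀ j, ψ (g (MvPolynomial.X j)) = y j) ∧ ψ e = r := by
  set P := MvPolynomial (Fin d) ℂ
  haveI : IsScalarTower ℂ P A := IsScalarTower.of_algebraMap_eq fun c => by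
    rw [halg]; exact (g.commutes c).symm
  haveI : FaithfulSMul P A := (faithfulSMul_iff_algebraMap_injective _ _).2
    (by rw [show ⇑(algebraMap P A) = g from funext halg]; exact hg)
  have hint : IsIntegral P e := Algebra.IsIntegral.isIntegral e
  rw [Polynomial.IsRoot, Polynomial.eval_map] at hr
  let ρ₀ : Algebra.adjoin P ({e} : Set A) →+* ℂ :=
    (AdjoinRoot.lift (MvPolynomial.eval y) r hr).comp
      (minpoly.equivAdjoin hint).symm.toAlgHom.toRingHom
  have hρP : ∀ p : P, ρ₀ (algebraMap P _ p) = MvPolynomial.eval y p := fun p => by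
    simp [ρ₀]
    exact AdjoinRoot.lift_of hr
  let ρ : Algebra.adjoin P ({e} : Set A) →ₐ[ℂ] ℂ :=
    { ρ₀ with
      commutes' := fun c => by
        have := hρP (algebraMap ℂ P c)
        rw [← IsScalarTower.algebraMap_apply] at this
        refine this.trans ?_
        exact MvPolynomial.eval_C c }
  have hint' : ((Algebra.adjoin P ({e} : Set A)).val.restrictScalars ℂ).toRingHom.IsIntegral :=
    RingHom.IsIntegral.tower_top (algebraMap P (Algebra.adjoin P ({e} : Set A)))
      (algebraMap (Algebra.adjoin P ({e} : Set A)) A) Algebra.IsIntegral.isIntegral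
  obtain ⟨ψ, hψ⟩ := exists_lift_of_isIntegral
    ((Algebra.adjoin P ({e} : Set A)).val.restrictScalars ℂ) Subtype.val_injective hint' ρ
  refine ⟨ψ, fun j => ?_, ?_⟩
  · have := DFunLike.congr_fun hψ (algebraMap P _ (MvPolynomial.X j))
    change ψ (algebraMap P A (MvPolynomial.X j)) = ρ₀ _ at this
    rw [halg, hρP, MvPolynomial.eval_X] at this
    exact this
  · have := DFunLike.congr_fun hψ ⟨e, Algebra.self_mem_adjoin_singleton P e⟩
    change ψ e = ρ₀ _ at this
    rw [this]
    have h2 : (minpoly.equivAdjoin hint).symm ⟨e, Algebra.self_mem_adjoin_singleton P e⟩ =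
        AdjoinRoot.root _ := by
      rw [AlgEquiv.symm_apply_eq]
      exact Subtype.ext (by simp [AdjoinRoot.Minpoly.toAdjoin])
    change AdjoinRoot.lift _ r hr ((minpoly.equivAdjoin hint).symm _) = r
    rw [h2, AdjoinRoot.lift_root]

/-- A locally constant property of characters of a finitely generated domain is constant. -/
theorem char_constant [IsDomain A] {N : ℕ} (σ : MvPolynomial (Fin N) ℂ →ₐ[ℂ] A)
    (hσ : Function.Surjective σ) (S : Set (A →ₐ[ℂ] ℂ))
    (hloc : ∀ ψ, ∃ ε > 0, ∀ ψ' : A →ₐ[ℂ] ℂ,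
      (∀ i, ‖ψ' (σ (MvPolynomial.X i)) - ψ (σ (MvPolynomial.X i))‖ < ε) → (ψ' ∈ S ↔ ψ ∈ S)) :
    S = ∅ ∨ S = Set.univ := by
  classical
  haveI : Algebra.FiniteType ℂ A := Algebra.FiniteType.of_surjective σ hσ
  obtain ⟨d, g, hg, hfin⟩ := exists_finite_inj_algHom_of_fg ℂ A
  algebraize [g.toRingHom]
  set P := MvPolynomial (Fin d) ℂ
  haveI : Module.Finite P A := hfin
  haveI : Algebra.IsIntegral P A := inferInstance
  haveI : IsScalarTower ℂ P A := IsScalarTower.of_algebraMap_eq fun c => (g.commutes c).symm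
  haveI : FaithfulSMul P A := (faithfulSMul_iff_algebraMap_injective _ _).2 hg
  letI : Algebra (FractionRing P) (FractionRing A) := FractionRing.liftAlgebra P (FractionRing A)
  set K := FractionRing P
  set L := FractionRing A
  haveI : FiniteDimensional K L := inferInstance
  haveI : CharZero K := charZero_of_injective_algebraMap (R := ℂ)
    (A := K) (RingHom.injective ((algebraMap P K).comp MvPolynomial.C))
  have hinjK : Function.Injective (algebraMap P K) := IsFractionRing.injective P K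
  have hinjL : Function.Injective (algebraMap A L) := IsFractionRing.injective A L
  have htower : ∀ p : P, algebraMap K L (algebraMap P K p) = algebraMap A L (g p) := fun p => by
    rw [← IsScalarTower.algebraMap_apply P K L, IsScalarTower.algebraMap_apply P A L]
    rfl
  -- a generator of the fraction field lying in the ring
  obtain ⟨α, hα⟩ := Field.exists_primitive_element K L
  obtain ⟨a, b, hb, hab⟩ := IsFractionRing.div_surjective (A := A) α
  have hb0 : b ≠ 0 := nonZeroDivisors.ne_zero hb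
  obtain ⟨e₀, c₀, hc₀, hec⟩ : ∃ (e₀ : A) (c₀ : P), c₀ ≠ 0 ∧
      α * algebraMap A L (g c₀) = algebraMap A L e₀ := by
    have hintb : IsIntegral P b := Algebra.IsIntegral.isIntegral b
    refine ⟨- a * Polynomial.aeval b (minpoly P b).divX, (minpoly P b).coeff 0, ?_, ?_⟩
    · intro h0
      obtain ⟨u, hu⟩ := Polynomial.X_dvd_iff.2 h0
      have hu0 : u ≠ 0 := fun h1 => minpoly.ne_zero hintb (by rw [hu, h1, mul_zero])
      have h2 : Polynomial.aeval b u = 0 := by
        have := minpoly.aeval P b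
        rw [hu, map_mul, Polynomial.aeval_X, mul_eq_zero] at this
        exact this.resolve_left hb0
      have h3 := Polynomial.natDegree_le_of_dvd (minpoly.isIntegrallyClosed_dvd hintb h2) hu0
      rw [hu, Polynomial.natDegree_X_mul hu0] at h3
      omega
    · have h4 := minpoly.aeval P b
      rw [← Polynomial.X_mul_divX_add (minpoly P b), map_add, map_mul, Polynomial.aeval_X,
        Polynomial.aeval_C, add_eq_zero_iff_neg_eq] at h4
      have hbL : algebraMap A L b ≠ 0 := (map_ne_zero_iff _ hinjL).2 hb0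
      change -(b * _) = g ((minpoly P b).coeff 0) at h4
      rw [← hab, ← h4, map_neg, map_mul, map_mul, map_neg]
      rw [mul_neg, ← mul_assoc, div_mul_cancel₀ _ hbL, neg_mul]
  set e : A := e₀
  have hprim : IntermediateField.adjoin K {algebraMap A L e} = ⊤ := by
    rw [eq_top_iff, ← hα, IntermediateField.adjoin_simple_le_iff]
    have hg0 : algebraMap A L (g c₀) ≠ 0 :=
      (map_ne_zero_iff _ hinjL).2 fun h => hc₀ (hg (h.trans (map_zero g).symm))
    rw [← mul_div_cancel_right₀ α hg0, hec, ← htower]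
    exact div_mem (IntermediateField.mem_adjoin_simple_self K _)
      (IntermediateField.algebraMap_mem _ _)
  have hexp : ∀ x : A, ∃ (c : P) (q : P[X]), c ≠ 0 ∧ g c * x = Polynomial.aeval e q := by
    intro x
    have hmem : algebraMap A L x ∈ Algebra.adjoin K {algebraMap A L e} := by
      rw [← IntermediateField.adjoin_simple_toSubalgebra_of_isAlgebraic
        (Algebra.IsAlgebraic.isAlgebraic (algebraMap A L e)), hprim]
      exact trivial
    rw [Algebra.adjoin_singleton_eq_range_aeval] at hmem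
    obtain ⟨p, hp⟩ := hmem
    obtain ⟨c, hc, hcp⟩ := IsLocalization.integerNormalization_spec (nonZeroDivisors P) p
    refine ⟨c, IsLocalization.integerNormalization (nonZeroDivisors P) p,
      nonZeroDivisors.ne_zero hc, hinjL ?_⟩
    rw [← Polynomial.aeval_algebraMap_apply, ← Polynomial.aeval_map_algebraMap K, hcp,
      map_mul, ← htower, algebra_compatible_smul K c p, map_smul, Algebra.smul_def]
    congr 1
    exact hp.symm
  choose c q hc hq using fun i => hexp (σ (MvPolynomial.X i))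
  set F := minpoly P e with hFdef
  have hint : IsIntegral P e := Algebra.IsIntegral.isIntegral e
  have hmon : F.Monic := minpoly.monic hint
  set m := F.natDegree with hm
  have hm0 : 0 < m := minpoly.natDegree_pos hint
  -- separability
  obtain ⟨D, hD, a₁, b₁, hbez⟩ : ∃ D : P, D ≠ 0 ∧ ∃ a₁ b₁ : P[X],
      a₁ * F + b₁ * derivative F = Polynomial.C D := by
    have hsep : (F.map (algebraMap P K)).Separable := by
      rw [hFdef, ← minpoly.isIntegrallyClosed_eq_field_fractions K L hint]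
      exact (minpoly.irreducible (IsIntegral.of_finite K _)).separable
    obtain ⟨u, v, huv⟩ := hsep
    obtain ⟨cu, hcu, hu⟩ := IsLocalization.integerNormalization_spec (nonZeroDivisors P) u
    obtain ⟨cv, hcv, hv⟩ := IsLocalization.integerNormalization_spec (nonZeroDivisors P) v
    refine ⟨cu * cv, mul_ne_zero (nonZeroDivisors.ne_zero hcu) (nonZeroDivisors.ne_zero hcv),
      Polynomial.C cv * IsLocalization.integerNormalization (nonZeroDivisors P) u,
      Polynomial.C cu * IsLocalization.integerNormalization (nonZeroDivisors P) v,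
      Polynomial.map_injective _ hinjK ?_⟩
    rw [Polynomial.map_add, Polynomial.map_mul, Polynomial.map_mul, Polynomial.map_mul,
      Polynomial.map_mul, Polynomial.map_C, Polynomial.map_C, Polynomial.map_C, hu, hv,
      ← derivative_map, map_mul, map_mul, algebra_compatible_smul K cu u,
      algebra_compatible_smul K cv v, Polynomial.smul_eq_C_mul, Polynomial.smul_eq_C_mul]
    linear_combination (Polynomial.C (algebraMap P K cu) * Polynomial.C (algebraMap P K cv)) * huv
  set h : P := D * ∏ i, c i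
  have hh : h ≠ 0 := mul_ne_zero hD (Finset.prod_ne_zero_iff.2 fun i _ => hc i)
  have hU : ∀ y, MvPolynomial.eval y h ≠ 0 →
      MvPolynomial.eval y D ≠ 0 ∧ ∀ i, MvPolynomial.eval y (c i) ≠ 0 := by
    intro y hy
    rw [map_mul, map_prod, mul_ne_zero_iff, Finset.prod_ne_zero_iff] at hy
    exact ⟨hy.1, fun i => hy.2 i (Finset.mem_univ _)⟩
  have hnodup : ∀ y, MvPolynomial.eval y h ≠ 0 → (spec F y).roots.Nodup := by
    intro y hy
    refine nodup_roots ?_
    have h1 := congrArg (Polynomial.map (MvPolynomial.eval y)) hbez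
    rw [Polynomial.map_add, Polynomial.map_mul, Polynomial.map_mul, Polynomial.map_C,
      ← derivative_map] at h1
    refine ⟨Polynomial.C (MvPolynomial.eval y D)⁻¹ * a₁.map (MvPolynomial.eval y),
      Polynomial.C (MvPolynomial.eval y D)⁻¹ * b₁.map (MvPolynomial.eval y), ?_⟩
    rw [mul_assoc, mul_assoc, ← mul_add, h1, ← Polynomial.C_mul, inv_mul_cancel₀ (hU y hy).1,
      Polynomial.C_1]
  -- values of characters
  have hcomp : ∀ (ψ : A →ₐ[ℂ] ℂ) (y : Fin d → ℂ), (∀ j, ψ (g (MvPolynomial.X j)) = y j) →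
      ∀ p, ψ (g p) = MvPolynomial.eval y p := fun ψ y hy p => by
    have : ψ.comp g = MvPolynomial.aeval y := MvPolynomial.algHom_ext fun j => by simp [hy]
    exact DFunLike.congr_fun this p
  have hpoly : ∀ (ψ : A →ₐ[ℂ] ℂ) (y : Fin d → ℂ), (∀ j, ψ (g (MvPolynomial.X j)) = y j) →
      ∀ u : P[X], ψ (Polynomial.aeval e u) = (spec u y).eval (ψ e) := fun ψ y hy u => by
    have h1 : (ψ : A →+* ℂ).comp (algebraMap P A) = MvPolynomial.eval y :=
      RingHom.ext fun p => hcomp ψ y hy p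
    rw [Polynomial.eval_map, ← h1, Polynomial.aeval_def]
    exact Polynomial.hom_eval₂ _ _ _ _
  set v : Fin N → (Fin d → ℂ) × ℂ → ℂ :=
    fun i z => (spec (q i) z.1).eval z.2 / MvPolynomial.eval z.1 (c i)
  have hval : ∀ (ψ : A →ₐ[ℂ] ℂ) (y : Fin d → ℂ), (∀ j, ψ (g (MvPolynomial.X j)) = y j) →
      MvPolynomial.eval y h ≠ 0 → ∀ i, ψ (σ (MvPolynomial.X i)) = v i (y, ψ e) := by
    intro ψ y hy hy0 i
    have h1 := congrArg ψ (hq i)
    rw [map_mul, hcomp ψ y hy, hpoly ψ y hy] at h1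
    simp only [v]
    rw [eq_div_iff ((hU y hy0).2 i), mul_comm]
    exact h1
  have hrootψ : ∀ (ψ : A →ₐ[ℂ] ℂ) (y : Fin d → ℂ), (∀ j, ψ (g (MvPolynomial.X j)) = y j) →
      (spec F y).IsRoot (ψ e) := fun ψ y hy => by
    rw [Polynomial.IsRoot, ← hpoly ψ y hy, hFdef, minpoly.aeval, map_zero]
  have hext : ∀ (ψ ψ' : A →ₐ[ℂ] ℂ),
      (∀ i, ψ (σ (MvPolynomial.X i)) = ψ' (σ (MvPolynomial.X i))) → ψ = ψ' := by
    intro ψ ψ' h1
    have h2 : ψ.comp σ = ψ'.comp σ := MvPolynomial.algHom_ext h1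
    refine AlgHom.ext fun x => ?_
    obtain ⟨u, rfl⟩ := hσ x
    exact DFunLike.congr_fun h2 u
  set χ : Set (A →ₐ[ℂ] ℂ) → (Fin d → ℂ) → ℂ → Prop :=
    fun T y r => ∃ ψ ∈ T, (∀ j, ψ (g (MvPolynomial.X j)) = y j) ∧ ψ e = r
  have hχiff : ∀ T (ψ : A →ₐ[ℂ] ℂ) y, (∀ j, ψ (g (MvPolynomial.X j)) = y j) →
      MvPolynomial.eval y h ≠ 0 → (χ T y (ψ e) ↔ ψ ∈ T) := by
    intro T ψ y hy hy0
    refine ⟨?_, fun h1 => ⟨ψ, h1, hy, rfl⟩⟩
    rintro ⟨ψ', h1, hy', he'⟩
    rwa [hext ψ ψ' fun i => by rw [hval ψ y hy hy0, hval ψ' y hy' hy0, he']]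
  have hχ : ∀ T : Set (A →ₐ[ℂ] ℂ), (∀ ψ, ∃ ε > 0, ∀ ψ' : A →ₐ[ℂ] ℂ,
      (∀ i, ‖ψ' (σ (MvPolynomial.X i)) - ψ (σ (MvPolynomial.X i))‖ < ε) → (ψ' ∈ T ↔ ψ ∈ T)) →
      ∀ y r, MvPolynomial.eval y h ≠ 0 → (spec F y).IsRoot r →
        ∀ᶠ z in 𝓝 (y, r), (spec F z.1).IsRoot z.2 → (χ T z.1 z.2 ↔ χ T y r) := by
    intro T hT y r hy hr
    obtain ⟨ψ, hψy, rfl⟩ := exists_char_of_root g (fun _ => rfl) hg e y r hr
    obtain ⟨ε, hε, hψT⟩ := hT ψ
    have hcont : ∀ i, ContinuousAt (v i) (y, ψ e) := by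
      intro i
      refine ContinuousAt.div ?_ ?_ ((hU y hy).2 i)
      · have : (fun z : (Fin d → ℂ) × ℂ => (spec (q i) z.1).eval z.2) = fun z =>
            ∑ l ∈ Finset.range ((q i).natDegree + 1), MvPolynomial.eval z.1 ((q i).coeff l) * z.2 ^ l := by
          funext z
          rw [Polynomial.eval_map, Polynomial.eval₂_eq_sum_range]
        rw [this]
        exact (continuous_finsetSum _ fun l _ =>
          ((MvPolynomial.continuous_eval _).comp continuous_fst).mul (continuous_snd.pow l)).continuousAt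
      · exact ((MvPolynomial.continuous_eval (c i)).comp continuous_fst).continuousAt
    have h1 : ∀ᶠ z in 𝓝 (y, ψ e), MvPolynomial.eval z.1 h ≠ 0 :=
      (((MvPolynomial.continuous_eval h).comp continuous_fst).continuousAt).eventually_ne hy
    have h2 : ∀ᶠ z in 𝓝 (y, ψ e), ∀ i, ‖v i z - v i (y, ψ e)‖ < ε :=
      eventually_all.2 fun i => (tendsto_iff_norm_sub_tendsto_zero.1 (hcont i)).eventually
        (gt_mem_nhds hε)
    filter_upwards [h1, h2] with z hz1 hz2 hzr
    obtain ⟨ψ', hψ'y, hψ'e⟩ := exists_char_of_root g (fun _ => rfl) hg e z.1 z.2 hzr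
    rw [← hψ'e, hχiff T ψ' _ hψ'y hz1, hχiff T ψ y hψy hy]
    refine hψT ψ' fun i => ?_
    rw [hval ψ' _ hψ'y hz1, hval ψ y hψy hy, hψ'e]
    exact hz2 i
  choose Q hQ using fun k => exists_mvPolynomial_selSum (χ := χ Set.univ) hmon hm0 hh hnodup
    (hχ Set.univ fun ψ => ⟨1, one_pos, fun _ _ => Iff.rfl⟩) k
  choose f hf using fun k => exists_mvPolynomial_selSum (χ := χ S) hmon hm0 hh hnodup (hχ S hloc) k
  let M : Matrix (Fin m) (Fin m) P := fun k j => Q (k + j)
  let b' : Fin m → P := M.adjugate.mulVec fun k => f k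
  set Δ : P := M.det
  have hMb : ∀ k : Fin m, ∑ j, M k j * b' j = Δ * f k := by
    intro k
    have h1 : M.mulVec b' = Δ • fun k : Fin m => f k := by
      rw [Matrix.mulVec_mulVec, Matrix.mul_adjugate, Matrix.smul_mulVec, Matrix.one_mulVec]
    exact congrFun h1 k
  have hall : ∀ y, MvPolynomial.eval y h ≠ 0 →
      (spec F y).roots.toFinset.filter (χ Set.univ y) = (spec F y).roots.toFinset ∧
      (spec F y).roots.toFinset.card = m := by
    intro y hy
    refine ⟨Finset.filter_true_of_mem fun r hr => ?_, ?_⟩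
    · obtain ⟨ψ, h1, h2⟩ := exists_char_of_root g (fun _ => rfl) hg e y r
        ((mem_roots (hmon.map _).ne_zero).1 (Multiset.mem_toFinset.1 hr))
      exact ⟨ψ, trivial, h1, h2⟩
    · rw [Multiset.toFinset_card_of_nodup (hnodup y hy),
        splits_iff_card_roots.1 (IsAlgClosed.splits _), hmon.natDegree_map]
  have hQall : ∀ y, MvPolynomial.eval y h ≠ 0 → ∀ k,
      MvPolynomial.eval y (Q k) = ∑ r ∈ (spec F y).roots.toFinset, r ^ k := by
    intro y hy k
    rw [← hQ k y hy, selSum, (hall y hy).1]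
  have hmul : ∀ y, MvPolynomial.eval y h ≠ 0 → ∀ (x : Fin m → ℂ) (k : Fin m),
      ∑ j, MvPolynomial.eval y (M k j) * x j =
        ∑ r ∈ (spec F y).roots.toFinset, (∑ j, x j * r ^ (j : ℕ)) * r ^ (k : ℕ) := by
    intro y hy x k
    simp only [M, hQall y hy, Finset.sum_mul]
    rw [Finset.sum_comm]
    exact Finset.sum_congr rfl fun r _ => Finset.sum_congr rfl fun j _ => by rw [pow_add]; ring
  have hΔy : ∀ y, MvPolynomial.eval y h ≠ 0 → MvPolynomial.eval y Δ ≠ 0 := by
    intro y hy hdet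
    rw [RingHom.map_det] at hdet
    obtain ⟨x, hx, hxM⟩ := Matrix.exists_mulVec_eq_zero_iff.2 hdet
    have h1 := eq_zero_of_moments (hall y hy).2 (fun r => ∑ j, x j * r ^ (j : ℕ)) fun k hk => by
      rw [← hmul y hy x ⟨k, hk⟩]
      exact congrFun hxM ⟨k, hk⟩
    refine hx (funext fun j => ?_)
    set px : ℂ[X] := ∑ j : Fin m, Polynomial.C (x j) * X ^ (j : ℕ)
    have hpx : px = 0 := by
      refine eq_zero_of_natDegree_lt_card_of_eval_eq_zero' px (spec F y).roots.toFinset
        (fun r hr => by simpa [px, eval_finsetSum] using h1 r hr) ?_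
      rw [(hall y hy).2]
      refine lt_of_le_of_lt (natDegree_sum_le_of_forall_le _ _ (n := m - 1) fun j _ => ?_) (by omega)
      exact (natDegree_C_mul_X_pow_le _ _).trans (by omega)
    have := congrArg (fun p : ℂ[X] => p.coeff j) hpx
    simpa [px, finsetSum_coeff, coeff_C_mul_X_pow, Fin.val_inj] using this
  set w : A := ∑ j : Fin m, g (b' j) * e ^ (j : ℕ)
  have hw : ∀ (ψ : A →ₐ[ℂ] ℂ) (y : Fin d → ℂ), (∀ j, ψ (g (MvPolynomial.X j)) = y j) →
      MvPolynomial.eval y h ≠ 0 →
      ψ w = if ψ ∈ S then MvPolynomial.eval y Δ else 0 := by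
    intro ψ y hy hy0
    have h1 := eq_zero_of_moments (hall y hy0).2
      (fun r => (if χ S y r then MvPolynomial.eval y Δ else 0) -
        ∑ j, MvPolynomial.eval y (b' j) * r ^ (j : ℕ)) (fun k hk => by
          have h2 : ∑ r ∈ (spec F y).roots.toFinset,
              (if χ S y r then MvPolynomial.eval y Δ else 0) * r ^ k =
              MvPolynomial.eval y Δ * MvPolynomial.eval y (f k) := by
            rw [← hf k y hy0, selSum, Finset.mul_sum, Finset.sum_filter]
            exact Finset.sum_congr rfl fun r _ => by split <;> simp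
          have h3 := congrArg (MvPolynomial.eval y) (hMb ⟨k, hk⟩)
          rw [map_sum, map_mul] at h3
          simp only [map_mul] at h3
          rw [hmul y hy0] at h3
          simp only [sub_mul, Finset.sum_sub_distrib, h2]
          rw [h3, sub_self])
    have h2 := h1 (ψ e) (Multiset.mem_toFinset.2 ((mem_roots (hmon.map _).ne_zero).2 (hrootψ ψ y hy)))
    simp only [sub_eq_zero, hχiff S ψ y hy hy0] at h2
    rw [h2]
    simp [w, hcomp ψ y hy]
  have hgh : g h ≠ 0 := fun h0 => hh (hg (h0.trans (map_zero g).symm))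
  have hdense : ∀ (ψ₀ : A →ₐ[ℂ] ℂ) (x : A), x ≠ 0 → ∀ ε > (0 : ℝ), ∃ ψ : A →ₐ[ℂ] ℂ,
      ψ x ≠ 0 ∧ MvPolynomial.eval (fun j => ψ (g (MvPolynomial.X j))) h ≠ 0 ∧
      ∀ i, ‖ψ (σ (MvPolynomial.X i)) - ψ₀ (σ (MvPolynomial.X i))‖ < ε := by
    intro ψ₀ x hx ε hε
    obtain ⟨ψ, h1, h2⟩ := exists_near_ne_zero ψ₀ (mul_ne_zero hx hgh)
      (fun i => σ (MvPolynomial.X i)) hε
    rw [map_mul, mul_ne_zero_iff, hcomp ψ _ (fun _ => rfl)] at h1
    exact ⟨ψ, h1.1, h1.2, h2⟩
  obtain ⟨Q₀, hQ₀⟩ := Ideal.exists_maximal A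
  obtain ⟨ψ₀, -⟩ := exists_algHom_ker_eq Q₀
  have hwprod : w * (w - g Δ) = 0 := by
    by_contra hne
    obtain ⟨ψ, h1, h2, -⟩ := hdense ψ₀ _ hne 1 one_pos
    apply h1
    rw [map_mul, map_sub, hw ψ _ (fun _ => rfl) h2, hcomp ψ _ (fun _ => rfl)]
    split <;> simp
  rcases mul_eq_zero.1 hwprod with hw0 | hw1
  · refine Or.inl (Set.eq_empty_iff_forall_notMem.2 fun φ hφ => ?_)
    obtain ⟨ε, hε, hloc'⟩ := hloc φ
    obtain ⟨ψ, -, h2, h3⟩ := hdense φ 1 one_ne_zero ε hε
    have h4 := hw ψ _ (fun _ => rfl) h2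
    rw [if_pos ((hloc' ψ h3).2 hφ), hw0, map_zero] at h4
    exact hΔy _ h2 h4.symm
  · refine Or.inr (Set.eq_univ_of_forall fun φ => ?_)
    by_contra hφ
    obtain ⟨ε, hε, hloc'⟩ := hloc φ
    obtain ⟨ψ, -, h2, h3⟩ := hdense φ 1 one_ne_zero ε hε
    have h4 := hw ψ _ (fun _ => rfl) h2
    rw [if_neg (fun h => hφ ((hloc' ψ h3).1 h)), sub_eq_zero.1 hw1, hcomp ψ _ (fun _ => rfl)] at h4
    exact hΔy _ h2 h4

end Groth.ZetaAn
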