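import Groth.Agent.ZetaAn.PtsClosure
import Groth.Agent.ZetaAn.CharConnected
import Mathlib.Topology.Connected.Clopen

/-! Connectedness of the space of complex points. -/

set_option autoImplicit false
set_option linter.style.haveILetI false

open CategoryTheory AlgebraicGeometry Topology TopologicalSpace Limits

namespace Groth.ZetaAn

open An

variable {X : Scheme.{0}} [X.Over An.SC]

/-- The complex points in an irreducible closed subset of an affine scheme form a connected set. -/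
lemma isPreconnected_affine [IsAffine X] [LocallyOfFiniteType (X ↘ SC)] (η : X) :
    IsPreconnected (Pts.pt ⁻¹' closure {η} : Set (Pts X)) := by
  rw [isPreconnected_iff_preconnectedSpace, preconnectedSpace_iff_clopen]
  intro S hS
  set P : Ideal Γ(X, ⊤) := (X.toSpecΓ η).asIdeal
  haveI : P.IsPrime := (X.toSpecΓ η).isPrime
  obtain ⟨n, s, hs⟩ := exists_generators (X := X)
  have hemb := isClosedEmbedding_of_generators s hs
  letI : Algebra ℂ Γ(X, ⊤) := (strHom X).toAlgebra
  have hσ0 : Function.Surjective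
      (MvPolynomial.aeval s : MvPolynomial (Fin n) ℂ →ₐ[ℂ] Γ(X, ⊤)) := hs
  let σ : MvPolynomial (Fin n) ℂ →ₐ[ℂ] Γ(X, ⊤) ⧸ P :=
    (Ideal.Quotient.mkₐ ℂ P).comp (MvPolynomial.aeval s)
  have hσ : Function.Surjective σ := Ideal.Quotient.mk_surjective.comp hσ0
  -- points over the closure of `η` are the characters of the quotient
  have hfac : ∀ y : Pts X, y.pt ∈ closure ({η} : Set X) → ∀ a ∈ P, y.evTop a = 0 := by
    intro y hy a ha
    by_contra h0
    exact (mem_basicOpen_iff_notMem η a).1 ((specializes_iff_mem_closure.2 hy).mem_open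
      (X.basicOpen a).2 ((mem_basicOpen_iff y (Opens.mem_top _) a).2 h0)) ha
  let toPt : (Γ(X, ⊤) ⧸ P →ₐ[ℂ] ℂ) → Pts X := fun ψ =>
    ofHom (ψ.comp (Ideal.Quotient.mkₐ ℂ P)).toRingHom
      (RingHom.ext fun c => (ψ.comp (Ideal.Quotient.mkₐ ℂ P)).commutes c)
  have hev : ∀ ψ a, (toPt ψ).evTop a = ψ (Ideal.Quotient.mkₐ ℂ P a) := fun ψ a =>
    evTop_ofHom _ _ a
  have hmem : ∀ ψ, (toPt ψ).pt ∈ closure ({η} : Set X) := fun ψ => by
    rw [← specializes_iff_mem_closure]
    refine (isBasis_basicOpen X).nhds_hasBasis.specializes_iff.2 ?_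
    rintro _ ⟨⟨_, ⟨a, rfl⟩, rfl⟩, hya⟩
    refine (mem_basicOpen_iff_notMem η a).2 fun ha => ?_
    refine (mem_basicOpen_iff (toPt ψ) (Opens.mem_top _) a).1 hya ?_
    change (toPt ψ).evTop a = 0
    rw [hev, Ideal.Quotient.mkₐ_eq_mk, Ideal.Quotient.eq_zero_iff_mem.2 ha, map_zero]
  let e : (Γ(X, ⊤) ⧸ P →ₐ[ℂ] ℂ) → ↥(Pts.pt ⁻¹' closure {η} : Set (Pts X)) :=
    fun ψ => ⟨toPt ψ, hmem ψ⟩
  have hesurj : Function.Surjective e := by
    rintro ⟨y, hy⟩
    let φ₀ : Γ(X, ⊤) →ₐ[ℂ] ℂ := { evTopHom y with commutes' := fun c => evTop_strHom y c }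
    refine ⟨Ideal.Quotient.liftₐ P φ₀ (hfac y hy), Subtype.ext (ext_of_evTop fun f => ?_)⟩
    refine (hev _ f).trans ?_
    rfl
  have hcoord : IsInducing
      (fun z : ↥(Pts.pt ⁻¹' closure {η} : Set (Pts X)) => fun i => z.1.evTop (s i)) :=
    hemb.isInducing.comp IsInducing.subtypeVal
  have hval : ∀ ψ i, (fun z : ↥(Pts.pt ⁻¹' closure {η} : Set (Pts X)) =>
      fun i => z.1.evTop (s i)) (e ψ) i = ψ (σ (MvPolynomial.X i)) := fun ψ i => by
    refine (hev ψ (s i)).trans ?_
    simp [σ]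
  have hloc : ∀ ψ, ∃ ε > 0, ∀ ψ' : Γ(X, ⊤) ⧸ P →ₐ[ℂ] ℂ,
      (∀ i, ‖ψ' (σ (MvPolynomial.X i)) - ψ (σ (MvPolynomial.X i))‖ < ε) →
        (ψ' ∈ e ⁻¹' S ↔ ψ ∈ e ⁻¹' S) := by
    intro ψ
    have key : ∀ T : Set ↥(Pts.pt ⁻¹' closure {η} : Set (Pts X)), IsOpen T → e ψ ∈ T →
        ∃ ε > 0, ∀ ψ' : Γ(X, ⊤) ⧸ P →ₐ[ℂ] ℂ,
          (∀ i, ‖ψ' (σ (MvPolynomial.X i)) - ψ (σ (MvPolynomial.X i))‖ < ε) → e ψ' ∈ T := by
      intro T hT hψ
      obtain ⟨O, hO, rfl⟩ := hcoord.isOpen_iff.1 hT
      obtain ⟨ε, hε, hball⟩ := Metric.isOpen_iff.1 hO _ hψ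
      refine ⟨ε, hε, fun ψ' h => hball ?_⟩
      rw [Metric.mem_ball, dist_pi_lt_iff hε]
      intro i
      rw [dist_eq_norm, hval, hval]
      exact h i
    by_cases hψ : e ψ ∈ S
    · obtain ⟨ε, hε, h⟩ := key S hS.isOpen hψ
      exact ⟨ε, hε, fun ψ' h' => iff_of_true (h ψ' h') hψ⟩
    · obtain ⟨ε, hε, h⟩ := key Sᶜ hS.compl.isOpen hψ
      exact ⟨ε, hε, fun ψ' h' => iff_of_false (h ψ' h') hψ⟩
  rcases char_constant σ hσ (e ⁻¹' S) hloc with h | h
  · exact Or.inl (Set.eq_empty_iff_forall_notMem.2 fun z hz => by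
      obtain ⟨ψ, rfl⟩ := hesurj z
      exact h.le hz)
  · exact Or.inr (Set.eq_univ_of_forall fun z => by
      obtain ⟨ψ, rfl⟩ := hesurj z
      exact h.ge trivial)

lemma mem_connectedComponent_of_mem_closure [LocallyOfFiniteType (X ↘ SC)] (η : X)
    (x y : Pts X) (hx : x.pt ∈ closure ({η} : Set X)) (hy : y.pt ∈ closure ({η} : Set X)) :
    y ∈ connectedComponent x := by
  have key : ∀ (W : X.Opens), IsAffineOpen W → ∀ x y : Pts X, x.pt ∈ W → y.pt ∈ W →
      x.pt ∈ closure ({η} : Set X) → y.pt ∈ closure ({η} : Set X) → y ∈ connectedComponent x := by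
    intro W hW x y hxW hyW hx hy
    haveI : IsAffine (W : Scheme.{0}) := hW
    letI := opensOver W
    haveI : (W.ι).IsOver SC := ⟨rfl⟩
    haveI : LocallyOfFiniteType ((W : Scheme.{0}) ↘ SC) :=
      inferInstanceAs (LocallyOfFiniteType (W.ι ≫ X ↘ SC))
    have hηW : η ∈ W := (specializes_iff_mem_closure.2 hx).mem_open W.2 hxW
    have hrange : ∀ z : Pts X, z.pt ∈ W → z ∈ Set.range (Pts.map W.ι) := fun z hz => by
      rw [range_map_of_isOpenImmersion]
      exact (Scheme.Opens.range_ι W).symm ▸ hz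
    obtain ⟨x', rfl⟩ := hrange x hxW
    obtain ⟨y', rfl⟩ := hrange y hyW
    have hcl : ∀ z : Pts (W : Scheme.{0}), (Pts.map W.ι z).pt ∈ closure ({η} : Set X) →
        z.pt ∈ closure ({(⟨η, hηW⟩ : W)} : Set (W : Scheme.{0})) := by
      intro z hz
      refine specializes_iff_mem_closure.1 ?_
      have h := specializes_iff_mem_closure.2 hz
      rw [Pts.pt_map] at h
      exact (W.ι.isOpenEmbedding.isInducing.specializes_iff).1 h
    exact ((isPreconnected_affine (X := (W : Scheme.{0})) ⟨η, hηW⟩).image _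
      (Pts.continuous_map W.ι).continuousOn).subset_connectedComponent
      ⟨x', hcl x' hx, rfl⟩ ⟨y', hcl y' hy, rfl⟩
  obtain ⟨_, ⟨W, hW, rfl⟩, hxW, -⟩ :=
    (X.isBasis_affineOpens).exists_subset_of_mem_open (Set.mem_univ x.pt) isOpen_univ
  obtain ⟨_, ⟨W', hW', rfl⟩, hyW, -⟩ :=
    (X.isBasis_affineOpens).exists_subset_of_mem_open (Set.mem_univ y.pt) isOpen_univ
  have := jacobsonSpace X
  obtain ⟨q, ⟨⟨hqW, hqW'⟩, hqη⟩, hqc⟩ := nonempty_inter_closedPoints
    (Z := ((W : Set X) ∩ (W' : Set X)) ∩ closure {η})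
    ⟨η, ⟨(specializes_iff_mem_closure.2 hx).mem_open W.2 hxW,
      (specializes_iff_mem_closure.2 hy).mem_open W'.2 hyW⟩, subset_closure rfl⟩
    ((W.2.inter W'.2).isLocallyClosed.inter isClosed_closure.isLocallyClosed)
  obtain ⟨z, rfl⟩ := exists_pt_eq q hqc
  have h1 := key W hW x z hxW hqW hx hqη
  have h2 := key W' hW' z y hqW' hyW hqη hy
  rwa [connectedComponent_eq h1]

/-- In a Noetherian sober space a set stable under specialisation and generisation is closed. -/
lemma isClosed_of_stable {α : Type*} [TopologicalSpace α] [NoetherianSpace α] [QuasiSober α]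
    {T : Set α} (h : ∀ a b, a ⤳ b → (a ∈ T ↔ b ∈ T)) : IsClosed T := by
  have hT : T = ⋃₀ {C | C ∈ irreducibleComponents α ∧ C ⊆ T} := by
    refine Set.Subset.antisymm (fun a ha => ?_) (Set.sUnion_subset fun C hC => hC.2)
    obtain ⟨η, hη⟩ :=
      QuasiSober.sober (isIrreducible_irreducibleComponent (x := a)) isClosed_irreducibleComponent
    refine ⟨irreducibleComponent a, ⟨irreducibleComponent_mem_irreducibleComponents a, ?_⟩,
      mem_irreducibleComponent⟩
    intro b hb
    exact (h η b (hη.specializes hb)).1 ((h η a (hη.specializes mem_irreducibleComponent)).2 ha)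
  rw [hT]
  rw [Set.sUnion_eq_biUnion]
  exact (NoetherianSpace.finite_irreducibleComponents.subset fun C hC => hC.1).isClosed_biUnion
    fun C hC => isClosed_of_mem_irreducibleComponents C hC.1

theorem mem_connectedComponent_pts [LocallyOfFiniteType (X ↘ SC)] (x y : Pts X)
    (h : y.pt ∈ connectedComponent x.pt) : y ∈ connectedComponent x := by
  set T : Set X := {p | ∀ z : Pts X, z.pt ∈ closure ({p} : Set X) → z ∈ connectedComponent x}
  have := jacobsonSpace X
  haveI := isLocallyNoetherian X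
  have hne : ∀ p : X, ∃ z : Pts X, z.pt ∈ closure ({p} : Set X) := by
    intro p
    obtain ⟨q, hq, hqc⟩ := nonempty_inter_closedPoints (Z := closure ({p} : Set X))
      ⟨p, subset_closure rfl⟩ isClosed_closure.isLocallyClosed
    obtain ⟨z, rfl⟩ := exists_pt_eq q hqc
    exact ⟨z, hq⟩
  have hstab : ∀ a b : X, a ⤳ b → (a ∈ T ↔ b ∈ T) := by
    intro a b hab
    have hsub : closure ({b} : Set X) ⊆ closure {a} := specializes_iff_closure_subset.1 hab
    refine ⟨fun ha z hz => ha z (hsub hz), fun hb z hz => ?_⟩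
    obtain ⟨w, hw⟩ := hne b
    rw [connectedComponent_eq (hb w hw)]
    exact mem_connectedComponent_of_mem_closure a w z (hsub hw) hz
  have hclosed : ∀ T : Set X, (∀ a b, a ⤳ b → (a ∈ T ↔ b ∈ T)) → IsClosed T := by
    intro T hT
    rw [← isOpen_compl_iff, isOpen_iff_forall_mem_open]
    intro p hp
    obtain ⟨_, ⟨W', hW, rfl⟩, hpW, -⟩ :=
      (X.isBasis_affineOpens).exists_subset_of_mem_open (Set.mem_univ p) isOpen_univ
    let W : X.Opens := W'
    haveI : IsAffine (W : Scheme.{0}) := hW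
    haveI : IsLocallyNoetherian (W : Scheme.{0}) := isLocallyNoetherian_of_isOpenImmersion W.ι
    haveI : IsNoetherian (W : Scheme.{0}) := {}
    have hcl : IsClosed (W.ι ⁻¹' T) := isClosed_of_stable
      fun a b hab => hT _ _ (hab.map W.ι.continuous)
    refine ⟨W.ι '' (W.ι ⁻¹' T)ᶜ, ?_, W.ι.isOpenEmbedding.isOpenMap _ hcl.isOpen_compl,
      ⟨⟨p, hpW⟩, hp, rfl⟩⟩
    rintro _ ⟨a, ha, rfl⟩
    exact ha
  have hTc : IsClopen T := ⟨hclosed T hstab, isClosed_compl_iff.1
    (hclosed Tᶜ fun a b hab => not_congr (hstab a b hab))⟩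
  have hxT : x.pt ∈ T := fun z hz => by
    rw [(isClosed_pt x).closure_eq] at hz
    rw [pt_injective hz]
    exact mem_connectedComponent
  exact hTc.connectedComponent_subset hxT h y (subset_closure rfl)

theorem connectedSpace_iff [LocallyOfFiniteType (X ↘ SC)] :
    ConnectedSpace X ↔ ConnectedSpace (Pts X) := by
  constructor
  · intro h
    obtain ⟨x⟩ : Nonempty (Pts X) := by
      have := jacobsonSpace X
      obtain ⟨p, -, hp⟩ := nonempty_inter_closedPoints (Z := (Set.univ : Set X))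
        Set.univ_nonempty isClosed_univ.isLocallyClosed
      exact ⟨(exists_pt_eq p hp).choose⟩
    refine connectedSpace_iff_connectedComponent.2 ⟨x, Set.eq_univ_of_forall fun y => ?_⟩
    exact mem_connectedComponent_pts x y (by rw [PreconnectedSpace.connectedComponent_eq_univ]; trivial)
  · intro h
    have := jacobsonSpace X
    have hd : DenseRange (Pts.pt : Pts X → X) := by
      rw [DenseRange, range_pt, dense_iff_closure_eq, closure_closedPoints]
    obtain ⟨x⟩ := h.toNonempty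
    haveI : PreconnectedSpace X := DenseRange.preconnectedSpace hd Pts.continuous_pt
    exact ⟨⟨x.pt⟩⟩

theorem connectedComponentsMap_bijective [LocallyOfFiniteType (X ↘ SC)] :
    Function.Bijective (Pts.continuous_pt (X := X)).connectedComponentsMap := by
  constructor
  · intro a b hab
    obtain ⟨x, rfl⟩ := ConnectedComponents.surjective_coe a
    obtain ⟨y, rfl⟩ := ConnectedComponents.surjective_coe b
    refine ConnectedComponents.coe_eq_coe'.2 ?_
    refine mem_connectedComponent_pts y x ?_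
    exact ConnectedComponents.coe_eq_coe'.1 hab
  · intro c
    obtain ⟨p, rfl⟩ := ConnectedComponents.surjective_coe c
    have := jacobsonSpace X
    obtain ⟨q, hq, hqc⟩ := nonempty_inter_closedPoints (Z := connectedComponent p)
      ⟨p, mem_connectedComponent⟩ isClosed_connectedComponent.isLocallyClosed
    obtain ⟨x, rfl⟩ := exists_pt_eq q hqc
    exact ⟨ConnectedComponents.mk x, ConnectedComponents.coe_eq_coe'.2 hq⟩

end Groth.ZetaAn
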