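import Groth.Agent.ZetaAn.CharConnected
import Groth.Agent.ZetaAn.PtsConnected
import Mathlib.RingTheory.AlgebraicIndependent.Adjoin
import Mathlib.RingTheory.AlgebraicIndependent.TranscendenceBasis
import Mathlib.FieldTheory.KummerPolynomial
import Mathlib.FieldTheory.IsAlgClosed.Basic
import Mathlib.RingTheory.Norm.Basic
import Mathlib.Algebra.MvPolynomial.NoZeroDivisors
import Mathlib.Analysis.Complex.CoveringMap
import Mathlib.RingTheory.RootsOfUnity.Complex
import Mathlib.Topology.Homotopy.Lifting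
import Mathlib.Topology.LocallyConstant.Basic

/-! A regular function with a continuous logarithm is constant. -/

set_option autoImplicit false
set_option linter.style.haveILetI false

open Polynomial

namespace Groth.ZetaAn

/-- In a function field over an algebraically closed field a non-constant element has only
finitely many prime roots. -/
lemma exists_prime_not_pow {k K : Type*} [Field k] [IsAlgClosed k] [Field K] [Algebra k K]
    (s : Finset K) (hs : IntermediateField.adjoin k (s : Set K) = ⊤) {u : K}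
    (hu : u ∉ (algebraMap k K).range) : ∃ p : ℕ, p.Prime ∧ ∀ v : K, v ^ p ≠ u := by
  classical
  have htr : Transcendental k u := by
    intro halg
    have hint := halg.isIntegral
    obtain ⟨c, hc⟩ : u ∈ (algebraMap k K).range := by
      have hd := IsAlgClosed.degree_eq_one_of_irreducible k (minpoly.irreducible hint)
      exact minpoly.degree_eq_one_iff.1 hd
    exact hu ⟨c, hc⟩
  have hind : AlgebraicIndepOn k id ({u} : Set K) := by
    refine algebraicIndependent_unique_type_iff.2 ?_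
    rw [id_eq, (default : ({u} : Set K)).2]
    exact htr
  obtain ⟨t, hut, ht⟩ := exists_isTranscendenceBasis_superset hind
  let F := IntermediateField.adjoin k (Set.range ((↑) : t → K))
  haveI : Algebra.IsAlgebraic F K := ht.isAlgebraic_field
  haveI : FiniteDimensional F K := by
    have htop : IntermediateField.adjoin F (s : Set K) = ⊤ := by
      rw [eq_top_iff]
      intro x _
      have hle : IntermediateField.adjoin k (s : Set K) ≤
          (IntermediateField.adjoin F (s : Set K)).restrictScalars k :=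
        IntermediateField.adjoin_le_iff.2 (IntermediateField.subset_adjoin F (s : Set K))
      exact hle (hs.symm ▸ IntermediateField.mem_top)
    have := IntermediateField.finiteDimensional_adjoin (K := F) (S := (s : Set K))
      fun x _ => (Algebra.IsAlgebraic.isAlgebraic x).isIntegral
    rw [htop] at this
    exact IntermediateField.topEquiv.toLinearEquiv.finiteDimensional
  obtain ⟨p, hpD, hp⟩ := Nat.exists_infinite_primes (Module.finrank F K + 1)
  refine ⟨p, hp, fun v hv => ?_⟩
  let u₀ : F := ⟨u, IntermediateField.subset_adjoin k _ ⟨⟨u, hut rfl⟩, rfl⟩⟩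
  have hN : (Algebra.norm F v) ^ p = u₀ ^ Module.finrank F K := by
    rw [← map_pow, hv, ← Algebra.norm_algebraMap u₀]
    rfl
  let e := ht.1.aevalEquivField
  have hX : e (algebraMap (MvPolynomial t k) (FractionRing (MvPolynomial t k)) (MvPolynomial.X (⟨u, hut rfl⟩ : t))) = u₀ := by
    apply Subtype.ext
    rw [AlgebraicIndependent.aevalEquivField_algebraMap_apply_coe, MvPolynomial.aeval_X]
  have h1 := congrArg e.symm hN
  rw [map_pow, map_pow, ← hX, AlgEquiv.symm_apply_apply] at h1
  obtain ⟨a, b, hb, hab⟩ := IsFractionRing.div_surjective (MvPolynomial t k) (e.symm (Algebra.norm F v))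
  have hb0 : b ≠ 0 := nonZeroDivisors.ne_zero hb
  rw [← hab, div_pow, div_eq_iff (pow_ne_zero _ ((map_ne_zero_iff _
    (IsFractionRing.injective (MvPolynomial t k) (FractionRing (MvPolynomial t k)))).2 hb0)),
    ← map_pow, ← map_pow, ← map_pow, ← map_mul] at h1
  have h2 := IsFractionRing.injective (MvPolynomial t k) (FractionRing (MvPolynomial t k)) h1
  have hD : 0 < Module.finrank F K := Module.finrank_pos
  have ha0 : a ≠ 0 := by
    intro ha
    rw [ha, zero_pow hp.ne_zero] at h2
    exact mul_ne_zero (pow_ne_zero _ (MvPolynomial.X_ne_zero _)) (pow_ne_zero _ hb0) h2.symm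
  have hdeg : ∀ (q : MvPolynomial t k), q ≠ 0 → ∀ n : ℕ, (q ^ n).totalDegree = n * q.totalDegree := by
    intro q hq n
    induction n with
    | zero => simp
    | succ n ih =>
      rw [pow_succ, MvPolynomial.totalDegree_mul_of_isDomain (pow_ne_zero n hq) hq, ih]
      ring
  have h3 := congrArg MvPolynomial.totalDegree h2
  rw [hdeg a ha0, MvPolynomial.totalDegree_mul_of_isDomain (pow_ne_zero _ (MvPolynomial.X_ne_zero _))
    (pow_ne_zero _ hb0), MvPolynomial.totalDegree_X_pow, hdeg b hb0] at h3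
  have : p ∣ Module.finrank F K := by
    refine (Nat.dvd_add_left (Dvd.intro b.totalDegree rfl)).1 ?_
    rw [← h3]
    exact Dvd.intro a.totalDegree rfl
  have := Nat.le_of_dvd hD this
  omega

/-- A monic polynomial irreducible over the fraction field gives a domain. -/
lemma isDomain_adjoinRoot {A : Type*} [CommRing A] [IsDomain A] {P : A[X]} (hP : P.Monic)
    (hirr : Irreducible (P.map (algebraMap A (FractionRing A)))) : IsDomain (AdjoinRoot P) := by
  have hinj := IsFractionRing.injective A (FractionRing A)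
  have heq : Ideal.span ({P} : Set A[X]) =
      (Ideal.span {P.map (algebraMap A (FractionRing A))}).comap
        (Polynomial.mapRingHom (algebraMap A (FractionRing A))) := by
    ext q
    rw [Ideal.mem_comap, Ideal.mem_span_singleton, Ideal.mem_span_singleton, coe_mapRingHom,
      Polynomial.map_dvd_map _ hinj hP]
  haveI : (Ideal.span {P.map (algebraMap A (FractionRing A))}).IsPrime :=
    (Ideal.span_singleton_prime (hirr.ne_zero)).2 hirr.prime
  haveI : (Ideal.span ({P} : Set A[X])).IsPrime := heq ▸ Ideal.comap_isPrime _ _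
  exact Ideal.Quotient.isDomain _

/-- A function with a continuous logarithm on the characters of a domain is constant. -/
theorem const_of_log {A : Type} [CommRing A] [Algebra ℂ A] [IsDomain A] {N : ℕ}
    (σ : MvPolynomial (Fin N) ℂ →ₐ[ℂ] A) (hσ : Function.Surjective σ) (u : A)
    (L : (A →ₐ[ℂ] ℂ) → ℂ) (hL : ∀ ψ, Complex.exp (L ψ) = ψ u)
    (hcont : ∀ ψ, ∀ ε > (0 : ℝ), ∃ δ > (0 : ℝ), ∀ ψ' : A →ₐ[ℂ] ℂ,
      (∀ i, ‖ψ' (σ (MvPolynomial.X i)) - ψ (σ (MvPolynomial.X i))‖ < δ) → ‖L ψ' - L ψ‖ < ε) :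
    u ∈ (algebraMap ℂ A).range := by
  classical
  by_contra hu
  let K := FractionRing A
  have hinj := IsFractionRing.injective A K
  set s : Finset K := Finset.univ.image fun i => algebraMap A K (σ (MvPolynomial.X i))
  have hs : IntermediateField.adjoin ℂ (s : Set K) = ⊤ := by
    rw [eq_top_iff]
    intro x _
    have hA : ∀ a : A, algebraMap A K a ∈ IntermediateField.adjoin ℂ (s : Set K) := by
      intro a
      obtain ⟨q, rfl⟩ := hσ a
      induction q using MvPolynomial.induction_on with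
      | C c =>
        rw [← MvPolynomial.algebraMap_eq, AlgHom.commutes, ← IsScalarTower.algebraMap_apply]
        exact IntermediateField.algebraMap_mem _ c
      | add p q hp hq => rw [map_add, map_add]; exact add_mem hp hq
      | mul_X p i hp =>
        rw [map_mul, map_mul]
        exact mul_mem hp (IntermediateField.subset_adjoin ℂ _
          (Finset.mem_image.2 ⟨i, Finset.mem_univ i, rfl⟩))
    obtain ⟨a, b, -, rfl⟩ := IsFractionRing.div_surjective A x
    exact div_mem (hA a) (hA b)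
  have huK : algebraMap A K u ∉ (algebraMap ℂ K).range := by
    rintro ⟨c, hc⟩
    exact hu ⟨c, hinj ((IsScalarTower.algebraMap_apply ℂ A K c).symm.trans hc)⟩
  obtain ⟨p, hp, hroot⟩ := exists_prime_not_pow s hs huK
  set P : A[X] := X ^ p - C u with hPdef
  have hPm : P.Monic := monic_X_pow_sub_C u hp.ne_zero
  haveI : IsDomain (AdjoinRoot P) := isDomain_adjoinRoot hPm (by
    rw [hPdef, Polynomial.map_sub, Polynomial.map_pow, map_X, map_C]
    exact X_pow_sub_C_irreducible_of_prime hp hroot)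
  let w : AdjoinRoot P := AdjoinRoot.root P
  let τ : MvPolynomial (Fin (N + 1)) ℂ →ₐ[ℂ] AdjoinRoot P :=
    MvPolynomial.aeval (Fin.snoc (fun i => AdjoinRoot.of P (σ (MvPolynomial.X i))) w)
  have hτ : Function.Surjective τ := by
    have hof : ∀ a : A, ∃ q, τ q = AdjoinRoot.of P a := by
      intro a
      obtain ⟨q, rfl⟩ := hσ a
      refine ⟨MvPolynomial.rename Fin.castSucc q, ?_⟩
      have : τ.comp (MvPolynomial.rename Fin.castSucc) = (AdjoinRoot.ofAlgHom ℂ P).comp σ := by
        refine MvPolynomial.algHom_ext fun i => ?_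
        simp [τ, AdjoinRoot.ofAlgHom]
      exact AlgHom.congr_fun this q
    intro z
    induction z using AdjoinRoot.induction_on with
    | ih q =>
      induction q using Polynomial.induction_on' with
      | add a b ha hb =>
        obtain ⟨a', ha'⟩ := ha
        obtain ⟨b', hb'⟩ := hb
        exact ⟨a' + b', by rw [map_add, map_add, ha', hb']⟩
      | monomial n a =>
        obtain ⟨a', ha'⟩ := hof a
        refine ⟨a' * MvPolynomial.X (Fin.last N) ^ n, ?_⟩
        rw [map_mul, map_pow, ha', ← Polynomial.C_mul_X_pow_eq_monomial, map_mul, map_pow,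
          AdjoinRoot.mk_C, AdjoinRoot.mk_X]
        simp [τ, w]
  let res : (AdjoinRoot P →ₐ[ℂ] ℂ) → (A →ₐ[ℂ] ℂ) := fun χ => χ.comp (AdjoinRoot.ofAlgHom ℂ P)
  let g : (AdjoinRoot P →ₐ[ℂ] ℂ) → ℂ := fun χ => χ w * Complex.exp (-(L (res χ) / p))
  have hgp : ∀ χ, g χ ^ p = 1 := by
    intro χ
    have h1 : χ w ^ p = res χ u := by
      rw [← map_pow]
      change χ (w ^ p) = χ (AdjoinRoot.ofAlgHom ℂ P u)
      congr 1
      have := AdjoinRoot.eval₂_root P
      rw [hPdef, eval₂_sub, eval₂_pow, eval₂_X, eval₂_C, sub_eq_zero] at this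
      exact this
    rw [mul_pow, h1, ← hL, ← Complex.exp_nat_mul, ← Complex.exp_add, mul_neg,
      mul_div_cancel₀ _ (Nat.cast_ne_zero.2 hp.ne_zero), add_neg_cancel, Complex.exp_zero]
  let μ : Set ℂ := {z | z ^ p = 1}
  have hμ : μ.Finite := (nthRootsFinset p (1 : ℂ)).finite_toSet.subset fun z hz =>
    (mem_nthRootsFinset hp.pos 1).2 hz
  let S : Set (AdjoinRoot P →ₐ[ℂ] ℂ) := {χ | g χ = 1}
  have hloc : ∀ χ, ∃ δ > 0, ∀ χ' : AdjoinRoot P →ₐ[ℂ] ℂ,
      (∀ i, ‖χ' (τ (MvPolynomial.X i)) - χ (τ (MvPolynomial.X i))‖ < δ) → (χ' ∈ S ↔ χ ∈ S) := by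
    intro χ
    obtain ⟨ε, hε, hεμ⟩ := Metric.isOpen_iff.1
      (hμ.subset (Set.sdiff_subset (t := {g χ}))).isClosed.isOpen_compl (g χ) (by simp)
    have hc : ContinuousAt (fun q : ℂ × ℂ => q.1 * Complex.exp (-(q.2 / p))) (χ w, L (res χ)) := by
      fun_prop
    obtain ⟨η, hη, hη'⟩ := Metric.continuousAt_iff.1 hc ε hε
    obtain ⟨δ, hδ, hδ'⟩ := hcont (res χ) η hη
    refine ⟨min δ η, lt_min hδ hη, fun χ' h => ?_⟩
    have hw : ‖χ' w - χ w‖ < η := by
      have := h (Fin.last N)
      simp only [τ, MvPolynomial.aeval_X, Fin.snoc_last] at this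
      exact this.trans_le (min_le_right _ _)
    have hLd : ‖L (res χ') - L (res χ)‖ < η := hδ' _ fun i => by
      have := h i.castSucc
      simp only [τ, MvPolynomial.aeval_X, Fin.snoc_castSucc] at this
      exact this.trans_le (min_le_left _ _)
    have hd := hη' (x := (χ' w, L (res χ'))) (by
      rw [Prod.dist_eq, max_lt_iff, dist_eq_norm, dist_eq_norm]
      exact ⟨hw, hLd⟩)
    have heq : g χ' = g χ := by
      by_contra hne
      exact hεμ hd ⟨hgp χ', hne⟩
    change g χ' = 1 ↔ g χ = 1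
    rw [heq]
  haveI : Algebra.FiniteType ℂ A := Algebra.FiniteType.of_surjective σ hσ
  obtain ⟨Q, hQ⟩ := Ideal.exists_maximal A
  obtain ⟨ψ, -⟩ := exists_algHom_ker_eq Q
  have hmk : ∀ ζ : ℂ, ζ ^ p = 1 → ∃ χ, g χ = ζ := by
    intro ζ hζ
    let v := ζ * Complex.exp (L ψ / p)
    have hv : (P.eval₂ (ψ : A →+* ℂ) v) = 0 := by
      rw [hPdef, eval₂_sub, eval₂_pow, eval₂_X, eval₂_C, mul_pow, hζ, one_mul,
        ← Complex.exp_nat_mul, mul_div_cancel₀ _ (Nat.cast_ne_zero.2 hp.ne_zero), hL]
      exact sub_self _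
    let χ : AdjoinRoot P →ₐ[ℂ] ℂ := AdjoinRoot.liftAlgHom P ψ v hv
    refine ⟨χ, ?_⟩
    have h1 : res χ = ψ := AlgHom.ext fun a => by simp [res, χ, AdjoinRoot.ofAlgHom]
    have h2 : χ w = v := by simp [χ, w]
    change χ w * Complex.exp (-(L (res χ) / p)) = ζ
    rw [h1, h2, mul_assoc, ← Complex.exp_add, add_neg_cancel, Complex.exp_zero, mul_one]
  have hne : Complex.exp (2 * Real.pi * Complex.I / p) ≠ 1 :=
    (Complex.isPrimitiveRoot_exp p hp.ne_zero).ne_one hp.one_lt
  obtain ⟨χ₁, hχ₁⟩ := hmk 1 (one_pow p)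
  obtain ⟨χ₂, hχ₂⟩ := hmk _ (Complex.isPrimitiveRoot_exp p hp.ne_zero).pow_eq_one
  rcases char_constant τ hτ S hloc with h | h
  · exact h.le hχ₁
  · exact hne (hχ₂.symm.trans (h.ge (Set.mem_univ χ₂)))

end Groth.ZetaAn

namespace Groth.ZetaAn

open CategoryTheory AlgebraicGeometry Topology TopologicalSpace An

variable {X : Scheme.{0}} [X.Over An.SC]

/-- A null homotopic invertible function has a continuous logarithm. -/
lemma exists_log {T : Type*} [TopologicalSpace T] (φ : C(T, {z : ℂ // z ≠ 0})) {z₀ : {z : ℂ // z ≠ 0}}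
    (h : φ.Homotopic (ContinuousMap.const T z₀)) :
    ∃ ψ : C(T, ℂ), ∀ t, Complex.exp (ψ t) = (φ t).1 := by
  obtain ⟨H⟩ := h.symm
  have h0 : ∀ a : T, H.toContinuousMap (0, a) =
      (fun z : ℂ => (⟨_, z.exp_ne_zero⟩ : {z : ℂ // z ≠ 0})) (Complex.log z₀.1) := fun a => by
    rw [show H.toContinuousMap (0, a) = H (0, a) from rfl, H.apply_zero]
    exact Subtype.ext (Complex.exp_log z₀.2).symm
  let G := Complex.isCoveringMap_exp.liftHomotopy H.toContinuousMap
    (ContinuousMap.const T (Complex.log z₀.1)) h0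
  refine ⟨⟨fun t => G (1, t), G.continuous.comp (Continuous.prodMk_right _)⟩, fun t => ?_⟩
  have h1 := congrFun (Complex.isCoveringMap_exp.liftHomotopy_lifts H.toContinuousMap
    (ContinuousMap.const T (Complex.log z₀.1)) h0) (1, t)
  exact congrArg Subtype.val (h1.trans (H.apply_one t))

/-- On an affine piece of an irreducible closed set a function with continuous logarithm is constant. -/
lemma evTop_eq_affine [IsAffine X] [LocallyOfFiniteType (X ↘ SC)] (u : Γ(X, ⊤)) (ψ : C(Pts X, ℂ))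
    (hψ : ∀ x, Complex.exp (ψ x) = x.evTop u) (η : X) (x y : Pts X)
    (hx : x.pt ∈ closure ({η} : Set X)) (hy : y.pt ∈ closure ({η} : Set X)) :
    x.evTop u = y.evTop u := by
  set P : Ideal Γ(X, ⊤) := (X.toSpecΓ η).asIdeal
  haveI : P.IsPrime := (X.toSpecΓ η).isPrime
  obtain ⟨n, s, hs⟩ := exists_generators (X := X)
  have hemb := isClosedEmbedding_of_generators s hs
  letI : Algebra ℂ Γ(X, ⊤) := (strHom X).toAlgebra
  have hσ0 : Function.Surjective
      (MvPolynomial.aeval s : MvPolynomial (Fin n) ℂ →ₐ[ℂ] Γ(X, ⊤)) := hs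
  let σ : MvPolynomial (Fin n) ℂ →ₐ[ℂ] Γ(X, ⊤) ⧸ P :=
    (Ideal.Quotient.mkₐ ℂ P).comp (MvPolynomial.aeval s)
  have hσ : Function.Surjective σ := Ideal.Quotient.mk_surjective.comp hσ0
  have hfac : ∀ y : Pts X, y.pt ∈ closure ({η} : Set X) → ∀ a ∈ P, y.evTop a = 0 := by
    intro y hy a ha
    by_contra h0
    exact (mem_basicOpen_iff_notMem η a).1 ((specializes_iff_mem_closure.2 hy).mem_open
      (X.basicOpen a).2 ((mem_basicOpen_iff y (Opens.mem_top _) a).2 h0)) ha
  let toPt : (Γ(X, ⊤) ⧸ P →ₐ[ℂ] ℂ) → Pts X := fun χ =>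
    ofHom (χ.comp (Ideal.Quotient.mkₐ ℂ P)).toRingHom
      (RingHom.ext fun c => (χ.comp (Ideal.Quotient.mkₐ ℂ P)).commutes c)
  have hev : ∀ χ a, (toPt χ).evTop a = χ (Ideal.Quotient.mkₐ ℂ P a) := fun χ a => evTop_ofHom _ _ a
  obtain ⟨c, hc⟩ := const_of_log σ hσ (Ideal.Quotient.mkₐ ℂ P u) (fun χ => ψ (toPt χ))
    (fun χ => (hψ _).trans (hev χ u)) (by
      intro χ ε hε
      obtain ⟨O, hO, hOe⟩ := hemb.isInducing.isOpen_iff.1
        (Metric.isOpen_ball.preimage ψ.continuous : IsOpen (ψ ⁻¹' Metric.ball (ψ (toPt χ)) ε))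
      obtain ⟨δ, hδ, hball⟩ := Metric.isOpen_iff.1 hO (fun i => (toPt χ).evTop (s i))
        (hOe.ge (Metric.mem_ball_self hε : toPt χ ∈ ψ ⁻¹' Metric.ball (ψ (toPt χ)) ε))
      refine ⟨δ, hδ, fun χ' h => ?_⟩
      rw [← dist_eq_norm]
      refine hOe.le (hball ?_)
      rw [Metric.mem_ball, dist_pi_lt_iff hδ]
      intro i
      rw [dist_eq_norm]
      change ‖(toPt χ').evTop (s i) - (toPt χ).evTop (s i)‖ < δ
      rw [hev, hev]
      have := h i
      simpa [σ] using this)
  have key : ∀ z : Pts X, z.pt ∈ closure ({η} : Set X) → z.evTop u = c := by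
    intro z hz
    let φ₀ : Γ(X, ⊤) →ₐ[ℂ] ℂ := { evTopHom z with commutes' := fun c => evTop_strHom z c }
    have h : Ideal.Quotient.liftₐ P φ₀ (hfac z hz) (Ideal.Quotient.mkₐ ℂ P u) = c := by
      rw [← hc, AlgHom.commutes]
      rfl
    exact h
  rw [key x hx, key y hy]

/-- On a connected scheme a function with a continuous logarithm is constant. -/
theorem evTop_eq_of_log [LocallyOfFiniteType (X ↘ SC)] [ConnectedSpace X] (u : Γ(X, ⊤))
    (ψ : C(Pts X, ℂ)) (hψ : ∀ x, Complex.exp (ψ x) = x.evTop u) (x y : Pts X) :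
    x.evTop u = y.evTop u := by
  classical
  haveI : ConnectedSpace (Pts X) := connectedSpace_iff.1 inferInstance
  suffices h : IsLocallyConstant fun z : Pts X => z.evTop u from h.apply_eq_of_preconnectedSpace x y
  rw [IsLocallyConstant.iff_exists_open]
  intro z
  obtain ⟨_, ⟨W', hW, rfl⟩, hzW, -⟩ :=
    (X.isBasis_affineOpens).exists_subset_of_mem_open (Set.mem_univ z.pt) isOpen_univ
  let W : X.Opens := W'
  haveI : IsAffine (W : Scheme.{0}) := hW
  letI := opensOver W
  haveI : (W.ι).IsOver SC := ⟨rfl⟩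
  haveI : LocallyOfFiniteType ((W : Scheme.{0}) ↘ SC) :=
    inferInstanceAs (LocallyOfFiniteType (W.ι ≫ X ↘ SC))
  haveI : IsLocallyNoetherian (W : Scheme.{0}) := isLocallyNoetherian _
  haveI : IsNoetherian (W : Scheme.{0}) := {}
  set uW : Γ((W : Scheme.{0}), ⊤) := W.ι.appTop u
  have hu : ∀ v : Pts (W : Scheme.{0}), (Pts.map W.ι v).evTop u = v.evTop uW := fun v =>
    Pts.ev_map W.ι v ⊤ (Opens.mem_top _) u
  have he := isOpenEmbedding_map W.ι
  let ψW : C(Pts (W : Scheme.{0}), ℂ) := ψ.comp ⟨Pts.map W.ι, Pts.continuous_map _⟩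
  have hconst := fun η v v' => evTop_eq_affine uW ψW (fun v => (hψ _).trans (hu v)) η v v'
  have hfin : (Set.range fun v : Pts (W : Scheme.{0}) => v.evTop uW).Finite := by
    have hC := NoetherianSpace.finite_irreducibleComponents (α := (W : Scheme.{0}))
    refine (hC.biUnion (t := fun C => (fun v : Pts (W : Scheme.{0}) => v.evTop uW) ''
      (Pts.pt ⁻¹' C)) fun C hC' => Set.Subsingleton.finite ?_).subset ?_
    · rintro _ ⟨v, hv, rfl⟩ _ ⟨v', hv', rfl⟩
      obtain ⟨η, hη⟩ := QuasiSober.sober hC'.1 (isClosed_of_mem_irreducibleComponents C hC')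
      exact hconst η v v' (hη.def.symm ▸ hv) (hη.def.symm ▸ hv')
    · rintro _ ⟨v, rfl⟩
      exact Set.mem_biUnion (irreducibleComponent_mem_irreducibleComponents v.pt)
        ⟨v, mem_irreducibleComponent, rfl⟩
  obtain ⟨z', rfl⟩ : z ∈ Set.range (Pts.map W.ι) := by
    rw [range_map_of_isOpenImmersion]
    exact (Scheme.Opens.range_ι W).symm ▸ hzW
  obtain ⟨ε, hε, hball⟩ := Metric.isOpen_iff.1
    (hfin.subset (Set.sdiff_subset (t := {z'.evTop uW}))).isClosed.isOpen_compl (z'.evTop uW) (by simp)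
  refine ⟨Pts.map W.ι '' ((fun v => v.evTop uW) ⁻¹' Metric.ball (z'.evTop uW) ε),
    he.isOpenMap _ (Metric.isOpen_ball.preimage (continuous_evTop uW)),
    ⟨z', Metric.mem_ball_self hε, rfl⟩, ?_⟩
  rintro _ ⟨v, hv, rfl⟩
  simp only [hu]
  by_contra hne
  exact hball hv ⟨⟨v, rfl⟩, hne⟩

end Groth.ZetaAn
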