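import Groth.Agent.ZetaAn.PtsAffine

/-! Complex points of affine space. -/

set_option autoImplicit false
set_option linter.style.haveILetI false

open CategoryTheory AlgebraicGeometry Topology TopologicalSpace Limits

namespace Groth.ZetaAn

open An

/-- The coordinates on the complex points of affine space. -/
noncomputable def coordMap (n : ℕ) (x : Pts (𝔸(Fin n; An.SC))) : Fin n → ℂ :=
  fun i => x.evTop (AffineSpace.coord An.SC i)

lemma generators_affineSpace (n : ℕ) :
    Function.Surjective (MvPolynomial.eval₂Hom (strHom (𝔸(Fin n; An.SC)))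
      (fun i => AffineSpace.coord An.SC i)) := by
  have h1 : IsIso (CommRingCat.ofHom (MvPolynomial.eval₂Hom
      ((𝔸(Fin n; An.SC) ↘ An.SC).appTop).hom (AffineSpace.coord An.SC (n := Fin n)))) := by
    have : IsIso (Spec.map (CommRingCat.ofHom (MvPolynomial.eval₂Hom
        ((𝔸(Fin n; An.SC) ↘ An.SC).appTop).hom (AffineSpace.coord An.SC (n := Fin n))))) := by
      have h := (AffineSpace.isoOfIsAffine (Fin n) An.SC).isIso_hom
      rw [AffineSpace.isoOfIsAffine_hom] at h
      exact IsIso.of_isIso_comp_left (𝔸(Fin n; An.SC)).toSpecΓ _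
    exact (ConcreteCategory.isIso_iff_bijective _).2 (isIso_SpecMap_iff.1 this)
  intro a
  obtain ⟨p, rfl⟩ := (ConcreteCategory.bijective_of_isIso (CommRingCat.ofHom
    (MvPolynomial.eval₂Hom ((𝔸(Fin n; An.SC) ↘ An.SC).appTop).hom
      (AffineSpace.coord An.SC (n := Fin n))))).2 a
  refine ⟨MvPolynomial.map (Scheme.ΓSpecIso (CommRingCat.of ℂ)).hom.hom p, ?_⟩
  have : (MvPolynomial.eval₂Hom (strHom (𝔸(Fin n; An.SC))) fun i => AffineSpace.coord An.SC i).comp
      (MvPolynomial.map (Scheme.ΓSpecIso (CommRingCat.of ℂ)).hom.hom) =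
      MvPolynomial.eval₂Hom ((𝔸(Fin n; An.SC) ↘ An.SC).appTop).hom
        (AffineSpace.coord An.SC (n := Fin n)) := by
    refine MvPolynomial.ringHom_ext (fun c => ?_) (fun i => ?_)
    · simp [strHom]
    · simp
  exact RingHom.congr_fun this p

lemma isHomeomorph_coordMap (n : ℕ) : IsHomeomorph (coordMap n) := by
  refine isHomeomorph_iff_isEmbedding_surjective.2
    ⟨(isClosedEmbedding_of_generators _ (generators_affineSpace n)).isEmbedding, fun z => ?_⟩
  refine ⟨⟨AffineSpace.homOfVector (𝟙 An.SC)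
    (fun i => (Scheme.ΓSpecIso (CommRingCat.of ℂ)).inv (z i)), ?_⟩, funext fun i => ?_⟩
  · exact AffineSpace.homOfVector_over _ _
  · simp only [coordMap]
    rw [evTop_eq, AffineSpace.homOfVector_appTop_coord]
    exact Iso.inv_hom_id_apply (Scheme.ΓSpecIso (CommRingCat.of ℂ)) (z i)

end Groth.ZetaAn
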