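import Groth.Agent.ZetaAn.PtsBasic
import Mathlib.Topology.Compactness.LocallyCompact

/-! Affine pieces of the space of complex points, local compactness. -/

set_option autoImplicit false
set_option linter.style.haveILetI false

open CategoryTheory AlgebraicGeometry Topology TopologicalSpace Limits

namespace Groth.ZetaAn

open An

variable {X : Scheme.{0}} [X.Over An.SC]

/-- The evaluation of a polynomial in global sections. -/
lemma evTop_eval₂ {n : ℕ} (s : Fin n → Γ(X, ⊤)) (x : Pts X) (p : MvPolynomial (Fin n) ℂ) :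
    x.evTop (MvPolynomial.eval₂Hom (strHom X) s p) = MvPolynomial.eval (fun i => x.evTop (s i)) p := by
  have : (evTopHom x).comp (MvPolynomial.eval₂Hom (strHom X) s) =
      MvPolynomial.eval (fun i => x.evTop (s i)) := by
    refine MvPolynomial.ringHom_ext (fun c => ?_) (fun i => ?_)
    · simp [evHom_apply, evTop_strHom]
    · simp [evHom_apply]
  exact RingHom.congr_fun this p

lemma isClosedEmbedding_of_generators [IsAffine X] {n : ℕ} (s : Fin n → Γ(X, ⊤))
    (hs : Function.Surjective (MvPolynomial.eval₂Hom (strHom X) s)) :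
    IsClosedEmbedding (fun (x : Pts X) (i : Fin n) => x.evTop (s i)) := by
  have hcont : Continuous (fun (x : Pts X) (i : Fin n) => x.evTop (s i)) :=
    continuous_pi fun i => continuous_evTop (s i)
  choose p hp using hs
  have hfac : (fun (x : Pts X) (f : Γ(X, ⊤)) => x.evTop f) =
      (fun (z : Fin n → ℂ) (f : Γ(X, ⊤)) => MvPolynomial.eval z (p f)) ∘
        (fun (x : Pts X) (i : Fin n) => x.evTop (s i)) := by
    funext x f
    simp only [Function.comp_apply, ← evTop_eval₂, hp]
  have hind : IsInducing (fun (x : Pts X) (i : Fin n) => x.evTop (s i)) := by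
    refine IsInducing.of_comp hcont (g := fun (z : Fin n → ℂ) (f : Γ(X, ⊤)) =>
      MvPolynomial.eval z (p f)) (continuous_pi fun f => MvPolynomial.continuous_eval _) ?_
    rw [← hfac]
    exact isInducing_evTop
  have hinj : Function.Injective (fun (x : Pts X) (i : Fin n) => x.evTop (s i)) := by
    intro x y h
    refine ext_of_evTop fun f => ?_
    rw [← hp f, evTop_eval₂, evTop_eval₂]
    exact congrArg (fun z => MvPolynomial.eval z (p f)) h
  refine ⟨⟨hind, hinj⟩, ?_⟩
  have hrange : Set.range (fun (x : Pts X) (i : Fin n) => x.evTop (s i)) =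
      ⋂ q ∈ RingHom.ker (MvPolynomial.eval₂Hom (strHom X) s), {z | MvPolynomial.eval z q = 0} := by
    ext z
    constructor
    · rintro ⟨x, rfl⟩
      refine Set.mem_iInter₂.2 fun q hq => ?_
      rw [Set.mem_ofPred_eq, ← evTop_eval₂, (RingHom.mem_ker).1 hq]
      exact map_zero (evTopHom x)
    · intro hz
      have hz' : RingHom.ker (MvPolynomial.eval₂Hom (strHom X) s) ≤ RingHom.ker (MvPolynomial.eval z) :=
        fun q hq => Set.mem_iInter₂.1 hz q hq
      let φ : Γ(X, ⊤) →+* ℂ := RingHom.liftOfRightInverse (MvPolynomial.eval₂Hom (strHom X) s) p hp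
        ⟨MvPolynomial.eval z, hz'⟩
      have hφ : ∀ q, φ (MvPolynomial.eval₂Hom (strHom X) s q) = MvPolynomial.eval z q :=
        RingHom.liftOfRightInverse_comp_apply _ _ hp ⟨MvPolynomial.eval z, hz'⟩
      refine ⟨ofHom φ (RingHom.ext fun c => ?_), funext fun i => ?_⟩
      · simpa using hφ (MvPolynomial.C c)
      · simpa [evTop_ofHom] using hφ (MvPolynomial.X i)
  rw [hrange]
  exact isClosed_biInter fun q _ => isClosed_eq (MvPolynomial.continuous_eval q) continuous_const

lemma finiteType_strHom [IsAffine X] [LocallyOfFiniteType (X ↘ SC)] : (strHom X).FiniteType := by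
  have h := (HasRingHomProperty.iff_of_isAffine (P := @LocallyOfFiniteType) (f := X ↘ SC)).1
    inferInstance
  exact h.comp (RingHom.FiniteType.of_surjective _
    (ConcreteCategory.bijective_of_isIso (Scheme.ΓSpecIso (CommRingCat.of ℂ)).inv).2)

lemma exists_generators [IsAffine X] [LocallyOfFiniteType (X ↘ SC)] :
    ∃ (n : ℕ) (s : Fin n → Γ(X, ⊤)), Function.Surjective (MvPolynomial.eval₂Hom (strHom X) s) := by
  algebraize [strHom X]
  have : Algebra.FiniteType ℂ Γ(X, ⊤) := finiteType_strHom
  obtain ⟨n, f, hf⟩ := (Algebra.FiniteType.iff_quotient_mvPolynomial'' (R := ℂ) (S := Γ(X, ⊤))).1 this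
  refine ⟨n, fun i => f (MvPolynomial.X i), ?_⟩
  have : MvPolynomial.eval₂Hom (strHom X) (fun i => f (MvPolynomial.X i)) = f.toRingHom := by
    refine MvPolynomial.ringHom_ext (fun c => ?_) (fun i => ?_)
    · rw [MvPolynomial.eval₂Hom_C]
      exact (f.commutes c).symm
    · simp
  rw [this]
  exact hf

lemma exists_isClosedEmbedding_affine [IsAffine X] [LocallyOfFiniteType (X ↘ SC)] :
    ∃ (n : ℕ) (s : Fin n → Γ(X, ⊤)),
      IsClosedEmbedding (fun (x : Pts X) (i : Fin n) => x.evTop (s i)) :=
  let ⟨n, s, hs⟩ := exists_generators (X := X)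
  ⟨n, s, isClosedEmbedding_of_generators s hs⟩

/-- An open subscheme is a scheme over the base. -/
noncomputable abbrev opensOver (U : X.Opens) : (U : Scheme.{0}).Over SC := ⟨U.ι ≫ X ↘ SC⟩

lemma locallyCompactSpace_pts [LocallyOfFiniteType (X ↘ SC)] : LocallyCompactSpace (Pts X) := by
  constructor
  intro x N hN
  obtain ⟨_, ⟨U', hU, rfl⟩, hxU, -⟩ :=
    (X.isBasis_affineOpens).exists_subset_of_mem_open (Set.mem_univ x.pt) isOpen_univ
  let U : X.Opens := U'
  letI := opensOver U
  haveI : (U.ι).IsOver SC := ⟨rfl⟩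
  haveI : IsAffine (U : Scheme.{0}) := hU
  haveI : LocallyOfFiniteType ((U : Scheme.{0}) ↘ SC) :=
    inferInstanceAs (LocallyOfFiniteType (U.ι ≫ X ↘ SC))
  obtain ⟨n, s, hs⟩ := exists_isClosedEmbedding_affine (X := (U : Scheme.{0}))
  haveI : LocallyCompactSpace (Pts (U : Scheme.{0})) := hs.locallyCompactSpace
  have he := isOpenEmbedding_map U.ι
  obtain ⟨y, rfl⟩ : x ∈ Set.range (Pts.map U.ι) := by
    rw [range_map_of_isOpenImmersion]
    exact (Scheme.Opens.range_ι U).symm ▸ hxU
  obtain ⟨K, hK, hKN, hKc⟩ :=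
    local_compact_nhds ((he.continuous.tendsto y) hN)
  exact ⟨Pts.map U.ι '' K, he.isOpenMap.image_mem_nhds hK, Set.image_subset_iff.2 hKN,
    hKc.image he.continuous⟩

end Groth.ZetaAn
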