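import Groth.Prelude.Def_AnPts
import Mathlib.AlgebraicGeometry.AlgClosed.Basic
import Mathlib.AlgebraicGeometry.AffineSpace
import Mathlib.AlgebraicGeometry.Morphisms.Immersion
import Mathlib.Topology.Algebra.MvPolynomial
import Mathlib.Analysis.Complex.Polynomial.Basic

/-! Basics on complex points: evaluation, topology on affines, immersions. -/

set_option autoImplicit false

open CategoryTheory AlgebraicGeometry Topology TopologicalSpace Limits

namespace Groth.ZetaAn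

open An

variable {X Y : Scheme.{0}} [X.Over An.SC] [Y.Over An.SC]

/-- Evaluation at a complex point as a ring homomorphism. -/
noncomputable def evHom (x : Pts X) (U : X.Opens) (h : x.pt ∈ U) : Γ(X, U) →+* ℂ :=
  ((Scheme.ΓSpecIso (CommRingCat.of ℂ)).hom.hom).comp (x.1.appLE U ⊤ (Pts.top_le_preimage x h)).hom

lemma evHom_apply (x : Pts X) (U : X.Opens) (h : x.pt ∈ U) (f : Γ(X, U)) :
    evHom x U h f = x.ev U h f := rfl

lemma ev_res' (x : Pts X) {U U' : X.Opens} (i : U ⟶ U') (h : x.pt ∈ U) (f : Γ(X, U')) :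
    x.ev U h (X.presheaf.map i.op f) = x.ev U' (i.le h) f := by
  simp only [Pts.ev]
  congr 1
  change (X.presheaf.map i.op ≫ x.1.appLE U ⊤ _) f = _
  rw [Scheme.Hom.map_appLE]

lemma evTop_res (x : Pts X) (U : X.Opens) (h : x.pt ∈ U) (f : Γ(X, ⊤)) :
    x.ev U h (X.presheaf.map (homOfLE le_top).op f) = x.evTop f :=
  ev_res' x _ h f

lemma evTop_eq (x : Pts X) (f : Γ(X, ⊤)) :
    x.evTop f = (Scheme.ΓSpecIso (CommRingCat.of ℂ)).hom (x.1.appTop f) := by
  simp only [Pts.evTop, Pts.ev, Scheme.Hom.appTop, Scheme.Hom.app_eq_appLE]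
  congr 2

lemma evTop_strHom (x : Pts X) (c : ℂ) : x.evTop (An.strHom X c) = c := by
  have h : (X ↘ SC).appTop ≫ x.1.appTop = 𝟙 _ := by
    rw [← Scheme.Hom.comp_appTop, x.2, Scheme.Hom.id_appTop]
  rw [evTop_eq]
  change (Scheme.ΓSpecIso (CommRingCat.of ℂ)).hom
    (((X ↘ SC).appTop ≫ x.1.appTop) ((Scheme.ΓSpecIso (CommRingCat.of ℂ)).inv c)) = c
  rw [h]
  exact Iso.inv_hom_id_apply (Scheme.ΓSpecIso (CommRingCat.of ℂ)) c

/-- Evaluation of global sections as a ring homomorphism. -/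
noncomputable abbrev evTopHom (x : Pts X) : Γ(X, ⊤) →+* ℂ := evHom x ⊤ (Opens.mem_top _)

lemma evTopHom_comp_strHom (x : Pts X) : (evTopHom x).comp (strHom X) = RingHom.id ℂ :=
  RingHom.ext fun c => evTop_strHom x c

lemma mem_basicOpen_iff (x : Pts X) {U : X.Opens} (h : x.pt ∈ U) (f : Γ(X, U)) :
    x.pt ∈ X.basicOpen f ↔ x.ev U h f ≠ 0 := by
  have key := Scheme.basicOpen_appLE x.1 ⊤ U (Pts.top_le_preimage x h) f
  rw [top_inf_eq] at key
  change cpt ∈ x.1 ⁻¹ᵁ X.basicOpen f ↔ _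
  rw [← key]
  obtain ⟨g, hg⟩ : ∃ g, (Scheme.ΓSpecIso (CommRingCat.of ℂ)).inv g = x.1.appLE U ⊤ (Pts.top_le_preimage x h) f :=
    ⟨_, Iso.hom_inv_id_apply (Scheme.ΓSpecIso (CommRingCat.of ℂ)) _⟩
  rw [Pts.ev, ← hg, basicOpen_eq_of_affine, Iso.inv_hom_id_apply]
  constructor
  · intro hm hg0
    exact hm (by rw [hg0]; exact zero_mem _)
  · intro hg0 hm
    exact cpt.isPrime.ne_top (Ideal.eq_top_of_isUnit_mem _ hm (Ne.isUnit hg0))

/-- The complex point of an affine scheme attached to a character of its coordinate ring. -/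
noncomputable def ofHom [IsAffine X] (φ : Γ(X, ⊤) →+* ℂ) (hφ : φ.comp (strHom X) = RingHom.id ℂ) :
    Pts X :=
  ⟨Spec.map (CommRingCat.ofHom φ) ≫ X.isoSpec.inv, by
    have e : X ↘ SC = X.isoSpec.hom ≫ Spec.map (CommRingCat.ofHom (strHom X)) := by
      apply ext_of_isAffine
      rw [Scheme.Hom.comp_appTop, ← Iso.cancel_iso_inv_left (Scheme.ΓSpecIso (CommRingCat.of ℂ))]
      rw [← Category.assoc, ← Scheme.ΓSpecIso_inv_naturality, Category.assoc]
      simp [Scheme.isoSpec_hom, Scheme.toSpecΓ_appTop, strHom]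
    rw [Category.assoc, e, Iso.inv_hom_id_assoc, ← Spec.map_comp, ← CommRingCat.ofHom_comp, hφ]
    exact Spec.map_id _⟩

lemma evTop_ofHom [IsAffine X] (φ : Γ(X, ⊤) →+* ℂ) (hφ) (f : Γ(X, ⊤)) :
    (ofHom φ hφ).evTop f = φ f := by
  rw [evTop_eq]
  have h : X.isoSpec.inv.appTop ≫ (Spec.map (CommRingCat.ofHom φ)).appTop ≫
      (Scheme.ΓSpecIso (CommRingCat.of ℂ)).hom = CommRingCat.ofHom φ := by
    rw [Scheme.ΓSpecIso_naturality, ← Category.assoc]
    have : X.isoSpec.inv.appTop ≫ (Scheme.ΓSpecIso Γ(X, ⊤)).hom = 𝟙 _ := by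
      rw [← Scheme.toSpecΓ_appTop, ← Scheme.isoSpec_hom, ← Scheme.Hom.comp_appTop, Iso.hom_inv_id,
        Scheme.Hom.id_appTop]
    erw [this]
    exact Category.id_comp _
  exact congrArg (fun g : Γ(X, ⊤) ⟶ CommRingCat.of ℂ => g f) h

lemma ext_of_evTop [IsAffine X] {x y : Pts X} (h : ∀ f, x.evTop f = y.evTop f) : x = y := by
  apply Subtype.ext
  apply ext_of_isAffine
  ext f
  have := h f
  rw [evTop_eq, evTop_eq] at this
  exact (ConcreteCategory.bijective_of_isIso (Scheme.ΓSpecIso (CommRingCat.of ℂ)).hom).1 this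

lemma mem_basicSet {U : X.Opens} {f : Γ(X, U)} {V : Set ℂ} {x : Pts X} :
    x ∈ Pts.basicSet U f V ↔ ∃ h : x.pt ∈ U, x.ev U h f ∈ V := Iff.rfl

lemma continuous_ev (U : X.Opens) (f : Γ(X, U)) :
    Continuous (fun x : {x : Pts X // x.pt ∈ U} => x.1.ev U x.2 f) := by
  refine continuous_def.2 fun V hV => ⟨_, Pts.isOpen_basicSet U f hV, ?_⟩
  ext x
  exact ⟨fun ⟨_, h⟩ => h, fun h => ⟨x.2, h⟩⟩

lemma continuous_evTop (f : Γ(X, ⊤)) : Continuous (fun x : Pts X => x.evTop f) :=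
  Continuous.comp (g := fun x : {x : Pts X // x.pt ∈ (⊤ : X.Opens)} => x.1.ev ⊤ x.2 f)
    (f := fun x : Pts X => (⟨x, Opens.mem_top x.pt⟩ : {x : Pts X // x.pt ∈ (⊤ : X.Opens)}))
    (continuous_ev ⊤ f) (Continuous.subtype_mk continuous_id _)

/-- On an affine scheme the complex topology is induced by the values of global functions. -/
lemma isInducing_evTop [IsAffine X] :
    IsInducing (fun (x : Pts X) (f : Γ(X, ⊤)) => x.evTop f) := by
  constructor
  refine le_antisymm (continuous_pi fun f => continuous_evTop f).le_induced ?_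
  refine le_generateFrom ?_
  rintro _ ⟨U, f, V, hV, rfl⟩
  refine (@isOpen_iff_forall_mem_open _ (TopologicalSpace.induced _ inferInstance) _).2 ?_
  rintro x ⟨hx, hxV⟩
  obtain ⟨_, ⟨_, ⟨g, rfl⟩, rfl⟩, hxg, hgU⟩ :=
    (isBasis_basicOpen X).exists_subset_of_mem_open (show x.pt ∈ (U : Set X) from hx) U.2
  letI : Algebra Γ(X, ⊤) Γ(X, X.basicOpen g) :=
    (X.presheaf.map (homOfLE (X.basicOpen_le g)).op).hom.toAlgebra
  have : IsLocalization.Away g Γ(X, X.basicOpen g) := (isAffineOpen_top X).isLocalization_basicOpen g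
  obtain ⟨⟨a, ⟨_, n, rfl⟩⟩, hab⟩ :=
    IsLocalization.surj (Submonoid.powers g)
      (show Γ(X, X.basicOpen g) from X.presheaf.map (homOfLE (x := X.basicOpen g) (y := U) hgU).op f)
  have hmap : algebraMap Γ(X, ⊤) Γ(X, X.basicOpen g) =
      (X.presheaf.map (homOfLE (X.basicOpen_le g)).op).hom := rfl
  have key : ∀ (y : Pts X) (hy : y.pt ∈ X.basicOpen g),
      y.ev U (hgU hy) f = y.evTop a / (y.evTop g) ^ n := by
    intro y hy
    have h0 : y.evTop g ≠ 0 := (mem_basicOpen_iff y (Opens.mem_top _) g).1 hy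
    rw [eq_div_iff (pow_ne_zero _ h0)]
    have h2 := congrArg (evHom y (X.basicOpen g) hy) hab
    rw [map_mul, hmap] at h2
    simp only [evHom_apply] at h2
    rw [ev_res', ev_res', ev_res', ← evHom_apply y ⊤ _ (g ^ n), map_pow, evHom_apply] at h2
    exact h2
  let W : Set (Γ(X, ⊤) → ℂ) := {v | v g ≠ 0} ∩ (fun v => v a / (v g) ^ n) ⁻¹' V
  refine ⟨(fun y f => y.evTop f) ⁻¹' W, ?_, ⟨W, ?_, rfl⟩, ?_⟩
  · rintro y ⟨hy0, hyV⟩
    have hy : y.pt ∈ X.basicOpen g := (mem_basicOpen_iff y (Opens.mem_top _) g).2 hy0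
    refine ⟨hgU hy, ?_⟩
    rw [key y hy]
    exact hyV
  · refine ContinuousOn.isOpen_inter_preimage ?_ (isOpen_ne.preimage (continuous_apply g)) hV
    exact ((continuous_apply a).continuousOn).div₀ ((continuous_apply g).pow n).continuousOn
      fun v hv => pow_ne_zero _ hv
  · refine ⟨(mem_basicOpen_iff x (Opens.mem_top _) g).1 hxg, ?_⟩
    change x.evTop a / (x.evTop g) ^ n ∈ V
    rw [← key x hxg]
    exact hxV

lemma pt_mem_range_map (g : X ⟶ Y) [g.IsOver SC] (x : Pts X) :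
    (Pts.map g x).pt ∈ Set.range g.base := ⟨x.pt, (Pts.pt_map g x).symm⟩

lemma isClosed_pt [LocallyOfFiniteType (X ↘ SC)] (x : Pts X) : IsClosed ({x.pt} : Set X) := by
  have e : x.pt = x.1 (IsLocalRing.closedPoint ℂ) := congrArg x.1 (eq_cpt _).symm
  rw [e]
  exact (pointEquivClosedPoint (X ↘ SC) ⟨x.1, x.2⟩).2

lemma pt_injective [LocallyOfFiniteType (X ↘ SC)] : Function.Injective (Pts.pt : Pts X → X) := by
  intro x y h
  apply Subtype.ext
  refine ext_of_apply_closedPoint_eq (X ↘ SC) x.2 y.2 ?_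
  have e : ∀ z : Pts X, z.1 (IsLocalRing.closedPoint ℂ) = z.pt := fun z => congrArg z.1 (eq_cpt _)
  rw [e, e, h]

lemma exists_pt_eq [LocallyOfFiniteType (X ↘ SC)] (p : X) (hp : IsClosed ({p} : Set X)) :
    ∃ x : Pts X, x.pt = p :=
  ⟨⟨pointOfClosedPoint (X ↘ SC) p hp, pointOfClosedPoint_comp _ _ _⟩,
    pointOfClosedPoint_apply _ _ _ _⟩

lemma range_pt [LocallyOfFiniteType (X ↘ SC)] :
    Set.range (Pts.pt : Pts X → X) = closedPoints X := by
  ext p
  constructor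
  · rintro ⟨x, rfl⟩; exact isClosed_pt x
  · exact exists_pt_eq p

variable (X) in
lemma jacobsonSpace [LocallyOfFiniteType (X ↘ SC)] : JacobsonSpace ↥X :=
  LocallyOfFiniteType.jacobsonSpace (X ↘ SC)

lemma range_map [LocallyOfFiniteType (X ↘ SC)] [LocallyOfFiniteType (Y ↘ SC)]
    (g : X ⟶ Y) [g.IsOver SC] : Set.range (Pts.map g) = Pts.pt ⁻¹' Set.range g.base := by
  refine Set.Subset.antisymm (by rintro _ ⟨x, rfl⟩; exact pt_mem_range_map g x) ?_
  intro y hy
  have := jacobsonSpace X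
  obtain ⟨a, ha⟩ := hy
  obtain ⟨p, hp, hpc⟩ := nonempty_inter_closedPoints (Z := g.base ⁻¹' {y.pt}) ⟨a, ha⟩
    ((isClosed_pt y).preimage g.continuous).isLocallyClosed
  obtain ⟨x, rfl⟩ := exists_pt_eq p hpc
  exact ⟨x, pt_injective (by rw [Pts.pt_map]; exact hp)⟩

lemma map_injective (g : X ⟶ Y) [g.IsOver SC] [Mono g] : Function.Injective (Pts.map g) := by
  intro x y h
  exact Subtype.ext ((cancel_mono g).1 (congrArg Subtype.val h))

lemma isInducing_map_of_isOpenImmersion (g : X ⟶ Y) [g.IsOver SC] [IsOpenImmersion g] :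
    IsInducing (Pts.map g) := by
  constructor
  refine le_antisymm (Pts.continuous_map g).le_induced ?_
  refine le_generateFrom ?_
  rintro _ ⟨U, f, V, hV, rfl⟩
  refine ⟨_, Pts.isOpen_basicSet (g ''ᵁ U) ((g.appIso U).inv f) hV, ?_⟩
  rw [Pts.preimage_basicSet]
  have hmap : g.app (g ''ᵁ U) ((g.appIso U).inv f) =
      X.presheaf.map (eqToHom (g.preimage_image_eq U)).op f :=
    congrArg (fun m : Γ(X, U) ⟶ Γ(X, g ⁻¹ᵁ g ''ᵁ U) => m f) (g.appIso_inv_app U)
  rw [hmap]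
  ext x
  simp only [mem_basicSet, ev_res']
  exact ⟨fun ⟨h, h'⟩ => ⟨(eqToHom (g.preimage_image_eq U)).le h, h'⟩,
    fun ⟨h, h'⟩ => ⟨(eqToHom (g.preimage_image_eq U).symm).le h, h'⟩⟩

lemma range_map_of_isOpenImmersion (g : X ⟶ Y) [g.IsOver SC] [IsOpenImmersion g] :
    Set.range (Pts.map g) = Pts.pt ⁻¹' Set.range g.base := by
  refine Set.Subset.antisymm (by rintro _ ⟨x, rfl⟩; exact pt_mem_range_map g x) ?_
  intro y hy
  have hr : Set.range y.1.base ⊆ Set.range g.base := by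
    rintro _ ⟨p, rfl⟩
    rw [eq_cpt p]
    exact hy
  refine ⟨⟨IsOpenImmersion.lift g y.1 hr, ?_⟩, Subtype.ext (IsOpenImmersion.lift_fac g y.1 hr)⟩
  rw [← comp_over g (S := SC), IsOpenImmersion.lift_fac_assoc, y.2]

lemma isOpenEmbedding_map (g : X ⟶ Y) [g.IsOver SC] [IsOpenImmersion g] :
    IsOpenEmbedding (Pts.map g) where
  toIsEmbedding := ⟨isInducing_map_of_isOpenImmersion g, map_injective g⟩
  isOpen_range := by
    rw [range_map_of_isOpenImmersion]
    exact g.isOpenEmbedding.isOpen_range.preimage Pts.continuous_pt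

lemma isInducing_map_of_isClosedImmersion (g : X ⟶ Y) [g.IsOver SC] [IsClosedImmersion g] :
    IsInducing (Pts.map g) := by
  constructor
  refine le_antisymm (Pts.continuous_map g).le_induced ?_
  refine le_generateFrom ?_
  rintro _ ⟨U, f, V, hV, rfl⟩
  refine (@isOpen_iff_forall_mem_open _ (TopologicalSpace.induced _ inferInstance) _).2 ?_
  rintro x ⟨hx, hxV⟩
  obtain ⟨O, hO, hOU⟩ := g.isEmbedding.isInducing.isOpen_iff.1 U.2
  have hgx : g x.pt ∈ O := by
    have : x.pt ∈ (g : X → Y) ⁻¹' O := hOU.symm ▸ hx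
    exact this
  obtain ⟨W, hW, hxW, hWO⟩ := (Y.isBasis_affineOpens).exists_subset_of_mem_open hgx hO
  obtain ⟨W, hWaff, rfl⟩ : ∃ W' : Y.Opens, IsAffineOpen W' ∧ (W' : Set Y) = W := by
    obtain ⟨W', hW', h⟩ := hW; exact ⟨W', hW', h⟩
  have hle : g ⁻¹ᵁ W ≤ U := fun a ha => by
    have : a ∈ (g : X → Y) ⁻¹' O := hWO ha
    rw [hOU] at this
    exact this
  obtain ⟨F, hF⟩ := g.app_surjective W hWaff (X.presheaf.map (homOfLE hle).op f)
  refine ⟨Pts.map g ⁻¹' Pts.basicSet W F V, ?_, ⟨_, Pts.isOpen_basicSet W F hV, rfl⟩, ?_⟩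
  · rw [Pts.preimage_basicSet, hF]
    rintro y ⟨hy, hyV⟩
    exact ⟨hle hy, by rwa [ev_res'] at hyV⟩
  · rw [Pts.preimage_basicSet, hF]
    exact ⟨hxW, by
      change x.pt ∈ g ⁻¹ᵁ W at hxW
      exact (ev_res' x (homOfLE hle) hxW f).symm ▸ hxV⟩

lemma range_map_of_isClosedImmersion [LocallyOfFiniteType (Y ↘ SC)] (g : X ⟶ Y) [g.IsOver SC]
    [IsClosedImmersion g] : Set.range (Pts.map g) = Pts.pt ⁻¹' Set.range g.base := by
  have : LocallyOfFiniteType (X ↘ SC) := by rw [← comp_over g (S := SC)]; infer_instance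
  exact range_map g

lemma isClosedEmbedding_map [LocallyOfFiniteType (Y ↘ SC)] (g : X ⟶ Y) [g.IsOver SC]
    [IsClosedImmersion g] : IsClosedEmbedding (Pts.map g) where
  toIsEmbedding := ⟨isInducing_map_of_isClosedImmersion g, map_injective g⟩
  isClosed_range := by
    rw [range_map_of_isClosedImmersion]
    exact g.isClosedEmbedding.isClosed_range.preimage Pts.continuous_pt

end Groth.ZetaAn
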