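import Groth.Agent.ZetaAn.PtsAffine
import Mathlib.AlgebraicGeometry.Morphisms.Affine
import Mathlib.AlgebraicGeometry.PullbackCarrier

/-! Complex points of fibre products. -/

set_option autoImplicit false
set_option linter.style.haveILetI false

open CategoryTheory AlgebraicGeometry Topology TopologicalSpace Limits

namespace Groth.ZetaAn

open An

/-- A pushout of commutative rings is generated by the two images. -/
lemma mem_closure_of_isPushout {R A B P : CommRingCat.{0}} {f : R ⟶ A} {g : R ⟶ B} {a : A ⟶ P}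
    {b : B ⟶ P} (h : IsPushout f g a b) (p : P) :
    p ∈ Subring.closure (Set.range a.hom ∪ Set.range b.hom) := by
  set S := Subring.closure (Set.range a.hom ∪ Set.range b.hom)
  let a' : A →+* S := a.hom.codRestrict S fun x => Subring.subset_closure (Or.inl ⟨x, rfl⟩)
  let b' : B →+* S := b.hom.codRestrict S fun x => Subring.subset_closure (Or.inr ⟨x, rfl⟩)
  have hw : f ≫ CommRingCat.ofHom a' = g ≫ CommRingCat.ofHom b' := by
    ext r
    exact congrArg (fun m : R ⟶ P => m r) h.w
  let d : P ⟶ CommRingCat.of S := h.desc (CommRingCat.ofHom a') (CommRingCat.ofHom b') hw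
  have hd : d ≫ CommRingCat.ofHom S.subtype = 𝟙 P := by
    apply h.hom_ext
    · rw [← Category.assoc, h.inl_desc]; rfl
    · rw [← Category.assoc, h.inr_desc]; rfl
  have h2 : (d.hom p : P) = p := congrArg (fun m : P ⟶ P => m p) hd
  rw [← h2]
  exact (d.hom p).2

variable {X Y S : Scheme.{0}} [X.Over An.SC] [Y.Over An.SC] [S.Over An.SC]

lemma isInducing_pullback_affine [IsAffine X] [IsAffine Y] [IsAffine S]
    (f : X ⟶ S) (g : Y ⟶ S) [f.IsOver SC] [g.IsOver SC] :
    IsInducing (fun z : Pts (pullback f g) =>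
      (Pts.map (pullback.fst f g) z, Pts.map (pullback.snd f g) z)) := by
  set Z := pullback f g
  set fst := pullback.fst f g
  set snd := pullback.snd f g
  have hpush := isPushout_appTop_of_isPullback (IsPullback.of_hasPullback f g)
  set Φ : Pts Z → Pts X × Pts Y := fun z => (Pts.map fst z, Pts.map snd z)
  have hΦ : Continuous Φ := (Pts.continuous_map fst).prodMk (Pts.continuous_map snd)
  constructor
  refine le_antisymm hΦ.le_induced ?_
  have hev : ∀ p : Γ(Z, ⊤),
      @Continuous _ _ (TopologicalSpace.induced Φ inferInstance) _ (fun z => z.evTop p) := by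
    letI : TopologicalSpace (Pts Z) := TopologicalSpace.induced Φ inferInstance
    have hc : Continuous Φ := continuous_induced_dom
    intro p
    refine Subring.closure_induction (p := fun a _ => Continuous fun z : Pts Z => z.evTop a)
      ?_ ?_ ?_ ?_ ?_ ?_ (mem_closure_of_isPushout hpush p)
    · rintro _ (⟨a, rfl⟩ | ⟨b, rfl⟩)
      · refine ((continuous_evTop a).comp (continuous_fst.comp hc)).congr fun z => ?_
        exact Pts.ev_map fst z ⊤ (Opens.mem_top _) a
      · refine ((continuous_evTop b).comp (continuous_snd.comp hc)).congr fun z => ?_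
        exact Pts.ev_map snd z ⊤ (Opens.mem_top _) b
    · exact continuous_const.congr fun z => (map_zero (evTopHom z)).symm
    · exact continuous_const.congr fun z => (map_one (evTopHom z)).symm
    · exact fun _ _ _ _ ha hb => (ha.add hb).congr fun z => (map_add (evTopHom z) _ _).symm
    · exact fun _ _ ha => ha.neg.congr fun z => (map_neg (evTopHom z) _).symm
    · exact fun _ _ _ _ ha hb => (ha.mul hb).congr fun z => (map_mul (evTopHom z) _ _).symm
  refine le_of_le_of_eq ?_ (isInducing_evTop (X := Z)).eq_induced.symm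
  exact continuous_iff_le_induced.1
    (@continuous_pi _ _ _ (TopologicalSpace.induced Φ inferInstance) _ _ hev)

lemma isInducing_pullback (f : X ⟶ S) (g : Y ⟶ S) [f.IsOver SC] [g.IsOver SC] :
    IsInducing (fun z : Pts (pullback f g) =>
      (Pts.map (pullback.fst f g) z, Pts.map (pullback.snd f g) z)) := by
  set Z := pullback f g
  set Φ : Pts Z → Pts X × Pts Y :=
    fun z => (Pts.map (pullback.fst f g) z, Pts.map (pullback.snd f g) z)
  refine isInducing_iff_nhds.2 fun z => ?_
  set p := pullback.fst f g z.pt with hp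
  set q := pullback.snd f g z.pt with hq
  have hpq : f p = g q := by
    rw [hp, hq, ← Scheme.Hom.comp_apply, ← Scheme.Hom.comp_apply, pullback.condition]
  obtain ⟨_, ⟨W', hW, rfl⟩, hpW, -⟩ :=
    (S.isBasis_affineOpens).exists_subset_of_mem_open (Set.mem_univ (f p)) isOpen_univ
  let W : S.Opens := W'
  obtain ⟨_, ⟨U', hU, rfl⟩, hpU, hUW⟩ :=
    (X.isBasis_affineOpens).exists_subset_of_mem_open (show p ∈ (f ⁻¹ᵁ W : Set X) from hpW)
      (f ⁻¹ᵁ W).2
  let U : X.Opens := U'
  obtain ⟨_, ⟨V', hV, rfl⟩, hqV, hVW⟩ :=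
    (Y.isBasis_affineOpens).exists_subset_of_mem_open
      (show q ∈ (g ⁻¹ᵁ W : Set Y) from by change g q ∈ W; rw [← hpq]; exact hpW) (g ⁻¹ᵁ W).2
  let V : Y.Opens := V'
  haveI : IsAffine (W : Scheme.{0}) := hW
  haveI : IsAffine (U : Scheme.{0}) := hU
  haveI : IsAffine (V : Scheme.{0}) := hV
  letI := opensOver W
  letI := opensOver U
  letI := opensOver V
  haveI : (W.ι).IsOver SC := ⟨rfl⟩
  haveI : (U.ι).IsOver SC := ⟨rfl⟩
  haveI : (V.ι).IsOver SC := ⟨rfl⟩
  have hU' : U ≤ f ⁻¹ᵁ W := hUW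
  have hV' : V ≤ g ⁻¹ᵁ W := hVW
  let f' := f.resLE W U hU'
  let g' := g.resLE W V hV'
  haveI : f'.IsOver SC := ⟨by
    change f.resLE W U hU' ≫ W.ι ≫ S ↘ SC = U.ι ≫ X ↘ SC
    rw [← Category.assoc, Scheme.Hom.resLE_comp_ι, Category.assoc, comp_over f]⟩
  haveI : g'.IsOver SC := ⟨by
    change g.resLE W V hV' ≫ W.ι ≫ S ↘ SC = V.ι ≫ Y ↘ SC
    rw [← Category.assoc, Scheme.Hom.resLE_comp_ι, Category.assoc, comp_over g]⟩
  let j : pullback f' g' ⟶ Z := pullback.map f' g' f g U.ι V.ι W.ι
    (Scheme.Hom.resLE_comp_ι ..) (Scheme.Hom.resLE_comp_ι ..)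
  haveI : j.IsOver SC := ⟨by
    change j ≫ pullback.fst f g ≫ X ↘ SC = pullback.fst f' g' ≫ U.ι ≫ X ↘ SC
    rw [← Category.assoc, pullback.lift_fst, Category.assoc]⟩
  have hrj : Set.range j.base = pullback.fst f g ⁻¹' (U : Set X) ∩ pullback.snd f g ⁻¹' V := by
    have := Scheme.Pullback.range_map f' g' f g U.ι V.ι W.ι
      (Scheme.Hom.resLE_comp_ι ..) (Scheme.Hom.resLE_comp_ι ..)
    rw [Scheme.Opens.range_ι, Scheme.Opens.range_ι] at this
    exact this
  have hrange : Set.range (Pts.map j) =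
      Φ ⁻¹' ((Pts.pt ⁻¹' (U : Set X)) ×ˢ (Pts.pt ⁻¹' (V : Set Y))) := by
    rw [range_map_of_isOpenImmersion, hrj]
    ext w
    simp [Φ, Pts.pt_map]
  obtain ⟨w, hw⟩ : z ∈ Set.range (Pts.map j) := by
    rw [range_map_of_isOpenImmersion, hrj]
    exact ⟨hpU, hqV⟩
  set ι₂ : Pts (U : Scheme.{0}) × Pts (V : Scheme.{0}) → Pts X × Pts Y :=
    Prod.map (Pts.map U.ι) (Pts.map V.ι)
  have hι : IsInducing ι₂ :=
    (isOpenEmbedding_map U.ι).isInducing.prodMap (isOpenEmbedding_map V.ι).isInducing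
  have hcomp : Φ ∘ Pts.map j = ι₂ ∘ fun w : Pts (pullback f' g') =>
      (Pts.map (pullback.fst f' g') w, Pts.map (pullback.snd f' g') w) := by
    funext v
    refine Prod.ext (Subtype.ext ?_) (Subtype.ext ?_)
    · change (v.1 ≫ j) ≫ pullback.fst f g = (v.1 ≫ pullback.fst f' g') ≫ U.ι
      rw [Category.assoc, Category.assoc, pullback.lift_fst]
    · change (v.1 ≫ j) ≫ pullback.snd f g = (v.1 ≫ pullback.snd f' g') ≫ V.ι
      rw [Category.assoc, Category.assoc, pullback.lift_snd]
  have hind : IsInducing (Φ ∘ Pts.map j) := by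
    rw [hcomp]
    exact hι.comp (isInducing_pullback_affine f' g')
  have hj := isOpenEmbedding_map j
  have hopen : Φ ⁻¹' ((Pts.pt ⁻¹' (U : Set X)) ×ˢ (Pts.pt ⁻¹' (V : Set Y))) ∈
      Filter.comap Φ (𝓝 (Φ z)) :=
    Filter.preimage_mem_comap (((Pts.isOpen_preimage_pt U).prod (Pts.isOpen_preimage_pt V)).mem_nhds
      ⟨show (Pts.map _ z).pt ∈ U by rw [Pts.pt_map]; exact hpU,
        show (Pts.map _ z).pt ∈ V by rw [Pts.pt_map]; exact hqV⟩)
  rw [← hw, ← hj.map_nhds_eq, hind.nhds_eq_comap, Function.comp_apply, hw,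
    ← Filter.comap_comap, Filter.map_comap_of_mem]
  rw [hrange]
  exact hopen

lemma injective_pullback (f : X ⟶ S) (g : Y ⟶ S) [f.IsOver SC] [g.IsOver SC] :
    Function.Injective (fun z : Pts (pullback f g) =>
      (Pts.map (pullback.fst f g) z, Pts.map (pullback.snd f g) z)) := fun z w h => by
  apply Subtype.ext
  exact pullback.hom_ext (congrArg Subtype.val (congrArg Prod.fst h))
    (congrArg Subtype.val (congrArg Prod.snd h))

theorem isHomeomorph_pullback (f : X ⟶ S) (g : Y ⟶ S) [f.IsOver SC] [g.IsOver SC] :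
    IsHomeomorph (fun z : Pts (pullback f g) =>
      (⟨(Pts.map (pullback.fst f g) z, Pts.map (pullback.snd f g) z),
        Pts.map_pullback_condition f g z⟩ :
        {q : Pts X × Pts Y // Pts.map f q.1 = Pts.map g q.2})) := by
  refine isHomeomorph_iff_isEmbedding_surjective.2 ⟨?_, ?_⟩
  · refine IsEmbedding.of_comp ?_ continuous_subtype_val
      ⟨isInducing_pullback f g, injective_pullback f g⟩
    exact ((Pts.continuous_map _).prodMk (Pts.continuous_map _)).subtype_mk _
  · rintro ⟨⟨x, y⟩, h⟩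
    have e : x.1 ≫ f = y.1 ≫ g := congrArg Subtype.val h
    refine ⟨⟨pullback.lift x.1 y.1 e, ?_⟩, ?_⟩
    · change pullback.lift x.1 y.1 e ≫ pullback.fst f g ≫ X ↘ SC = 𝟙 _
      rw [← Category.assoc, pullback.lift_fst, x.2]
    · refine Subtype.ext (Prod.ext (Subtype.ext ?_) (Subtype.ext ?_))
      · exact pullback.lift_fst _ _ _
      · exact pullback.lift_snd _ _ _

end Groth.ZetaAn
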