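import Groth.Agent.ZetaAn.PtsClosure
import Groth.Agent.ZetaAn.PtsPullback
import Mathlib.AlgebraicGeometry.Morphisms.Separated
import Mathlib.Topology.SeparatedMap

/-! Properties of morphisms read on complex points. -/

set_option autoImplicit false
set_option linter.style.haveILetI false

open CategoryTheory AlgebraicGeometry Topology TopologicalSpace Limits

namespace Groth.ZetaAn

open An

variable {X Y : Scheme.{0}} [X.Over An.SC] [Y.Over An.SC]

lemma lft_of_over [LocallyOfFiniteType (X ↘ SC)] (f : X ⟶ Y) [f.IsOver SC] :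
    LocallyOfFiniteType f := by
  have : LocallyOfFiniteType (f ≫ Y ↘ SC) := by rw [comp_over f]; infer_instance
  exact locallyOfFiniteType_of_comp f (Y ↘ SC)

lemma isLocallyConstructible_range [LocallyOfFiniteType (X ↘ SC)] [LocallyOfFiniteType (Y ↘ SC)]
    (f : X ⟶ Y) [f.IsOver SC] [QuasiCompact f] : IsLocallyConstructible (Set.range f.base) := by
  have := isLocallyNoetherian Y
  have := lft_of_over f
  have : LocallyOfFinitePresentation f := LocallyOfFinitePresentation.iff_locallyOfFiniteType.2 this
  rw [← Set.image_univ]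
  exact f.isLocallyConstructible_image IsLocallyConstructible.univ

lemma isLocallyConstructible_of_isLocallyClosed {Z : Scheme.{0}} [IsLocallyNoetherian Z]
    {s : Set Z} (hs : IsLocallyClosed s) : IsLocallyConstructible s := by
  have key : ∀ U : Set Z, IsOpen U → IsRetrocompact U := by
    intro U hU V hV hVo
    obtain ⟨V, rfl⟩ : ∃ V' : Z.Opens, (V' : Set Z) = V := ⟨⟨V, hVo⟩, rfl⟩
    haveI : CompactSpace (V : Scheme.{0}) := isCompact_iff_compactSpace.1 hV
    haveI : IsLocallyNoetherian (V : Scheme.{0}) := isLocallyNoetherian_of_isOpenImmersion V.ι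
    haveI : IsNoetherian (V : Scheme.{0}) := {}
    have h2 := (NoetherianSpace.isCompact (V.ι ⁻¹' U)).image V.ι.continuous
    rw [Set.image_preimage_eq_inter_range, Scheme.Opens.range_ι] at h2
    exact h2
  obtain ⟨U, C, hU, hC, rfl⟩ := hs
  refine IsLocallyConstructible.inter ((key U hU).isLocallyConstructible hU) ?_
  rw [← compl_compl C]
  exact isLocallyConstructible_compl
    ((key _ hC.isOpen_compl).isLocallyConstructible hC.isOpen_compl)

theorem surjective_iff [LocallyOfFiniteType (X ↘ SC)] [LocallyOfFiniteType (Y ↘ SC)]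
    (f : X ⟶ Y) [f.IsOver SC] [QuasiCompact f] :
    Function.Surjective f.base ↔ Function.Surjective (Pts.map f) := by
  rw [← Set.range_eq_univ, ← Set.range_eq_univ, range_map]
  exact ⟨fun h => by rw [h]; rfl, eq_univ_of_preimage_pt (isLocallyConstructible_range f)⟩

theorem denseRange_iff [LocallyOfFiniteType (X ↘ SC)] [LocallyOfFiniteType (Y ↘ SC)]
    (f : X ⟶ Y) [f.IsOver SC] [QuasiCompact f] :
    DenseRange f.base ↔ DenseRange (Pts.map f) := by
  rw [DenseRange, DenseRange, range_map]
  exact dense_preimage_iff (isLocallyConstructible_range f)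

theorem discreteTopology_iff [LocallyOfFiniteType (X ↘ SC)] :
    DiscreteTopology X ↔ DiscreteTopology (Pts X) := by
  refine ⟨fun h => DiscreteTopology.of_continuous_injective Pts.continuous_pt pt_injective,
    fun h => ?_⟩
  have := jacobsonSpace X
  haveI := isLocallyNoetherian X
  have hopen : ∀ q : X, IsClosed ({q} : Set X) → IsOpen ({q} : Set X) := by
    intro q hq
    exact (isOpen_preimage_iff (isLocallyConstructible_of_isLocallyClosed
      hq.isLocallyClosed)).2 (isOpen_discrete _)
  rw [discreteTopology_iff_isOpen_singleton]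
  intro p
  obtain ⟨q, hq, hqc⟩ := nonempty_inter_closedPoints (Z := closure ({p} : Set X))
    ⟨p, subset_closure rfl⟩ isClosed_closure.isLocallyClosed
  have hqp : p = q := Set.mem_singleton_iff.1
    ((specializes_iff_mem_closure.2 hq).mem_open (hopen q hqc) rfl)
  rw [hqp]
  exact hopen q hqc

lemma lft_pullback [LocallyOfFiniteType (X ↘ SC)]
    [LocallyOfFiniteType (Y ↘ SC)] (f : X ⟶ Y) [f.IsOver SC] :
    LocallyOfFiniteType ((pullback f f) ↘ SC) := by
  have := lft_of_over f
  exact inferInstanceAs (LocallyOfFiniteType (pullback.fst f f ≫ X ↘ SC))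

instance isOver_diagonal (f : X ⟶ Y) [f.IsOver SC] : (pullback.diagonal f).IsOver SC :=
  ⟨by
    change pullback.diagonal f ≫ pullback.fst f f ≫ X ↘ SC = X ↘ SC
    rw [pullback.diagonal_fst_assoc]⟩

lemma preimage_range_diagonal [LocallyOfFiniteType (X ↘ SC)]
    [LocallyOfFiniteType (Y ↘ SC)] (f : X ⟶ Y) [f.IsOver SC] :
    (Pts.pt ⁻¹' Set.range (pullback.diagonal f).base : Set (Pts (pullback f f))) =
      {z | Pts.map (pullback.fst f f) z = Pts.map (pullback.snd f f) z} := by
  haveI := lft_pullback f
  rw [← range_map]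
  ext z
  constructor
  · rintro ⟨x, rfl⟩
    exact Subtype.ext (by simp)
  · intro hz
    refine ⟨Pts.map (pullback.fst f f) z, Subtype.ext ?_⟩
    change (z.1 ≫ pullback.fst f f) ≫ pullback.diagonal f = z.1
    apply pullback.hom_ext
    · simp
    · simpa using congrArg Subtype.val hz

theorem isSeparated_iff_pts [LocallyOfFiniteType (X ↘ SC)]
    [LocallyOfFiniteType (Y ↘ SC)] (f : X ⟶ Y) [f.IsOver SC] :
    IsSeparated f ↔ IsSeparatedMap (Pts.map f) := by
  haveI := lft_pullback f
  haveI := isLocallyNoetherian (pullback f f)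
  have hlc := (pullback.diagonal f).isLocallyClosed_range
  have hcon := isLocallyConstructible_of_isLocallyClosed hlc
  have hh := (isHomeomorph_pullback f f).isClosedEmbedding
  have hsurj := (isHomeomorph_pullback f f).surjective
  have key : IsSeparated f ↔ IsClosed (Set.range (pullback.diagonal f).base) := by
    refine ⟨fun h => (pullback.diagonal f).isClosedEmbedding.isClosed_range, fun h => ?_⟩
    constructor
    exact IsClosedImmersion.of_isPreimmersion _ h
  rw [key, ← isOpen_compl_iff, isOpen_preimage_iff (isLocallyConstructible_compl hcon),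
    Set.preimage_compl, isOpen_compl_iff, preimage_range_diagonal]
  constructor
  · intro hc x y hxy hne
    set D : Set {q : Pts X × Pts X // Pts.map f q.1 = Pts.map f q.2} := {q | q.1.1 = q.1.2}
    have hD : IsClosed D := by
      rw [← Set.image_preimage_eq (f := fun z : Pts (pullback f f) =>
        (⟨(Pts.map (pullback.fst f f) z, Pts.map (pullback.snd f f) z),
          Pts.map_pullback_condition f f z⟩ :
          {q : Pts X × Pts X // Pts.map f q.1 = Pts.map f q.2})) D hsurj]
      exact hh.isClosedMap _ hc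
    obtain ⟨U, hU, hUeq⟩ := isOpen_induced_iff.1 hD.isOpen_compl
    obtain ⟨A, B, hA, hB, hxA, hyB, hAB⟩ := isOpen_prod_iff.1 hU x y
      (hUeq.ge (show (⟨(x, y), hxy⟩ : {q : Pts X × Pts X // Pts.map f q.1 = Pts.map f q.2}) ∈ Dᶜ from hne))
    refine ⟨A, B, hA, hB, hxA, hyB, Set.disjoint_left.2 fun w hwA hwB => ?_⟩
    exact hUeq.le (show (⟨(w, w), rfl⟩ : {q : Pts X × Pts X // Pts.map f q.1 = Pts.map f q.2}) ∈ Subtype.val ⁻¹' U from
      hAB ⟨hwA, hwB⟩) rfl
  · intro hsep
    rw [← isOpen_compl_iff, isOpen_iff_forall_mem_open]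
    intro z hz
    obtain ⟨A, B, hA, hB, hxA, hyB, hAB⟩ := hsep _ _ (Pts.map_pullback_condition f f z) hz
    refine ⟨Pts.map (pullback.fst f f) ⁻¹' A ∩ Pts.map (pullback.snd f f) ⁻¹' B, ?_,
      (hA.preimage (Pts.continuous_map _)).inter (hB.preimage (Pts.continuous_map _)), hxA, hyB⟩
    rintro w ⟨hwA, hwB⟩ hw
    have hw' : Pts.map (pullback.fst f f) w = Pts.map (pullback.snd f f) w := hw
    exact Set.disjoint_left.1 hAB hwA (hw' ▸ hwB)

theorem injective_iff_pts [LocallyOfFiniteType (X ↘ SC)]
    [LocallyOfFiniteType (Y ↘ SC)] (f : X ⟶ Y) [f.IsOver SC] :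
    Function.Injective f.base ↔ Function.Injective (Pts.map f) := by
  constructor
  · intro h x y hxy
    apply pt_injective
    apply h
    rw [← Pts.pt_map, ← Pts.pt_map, hxy]
  · intro h p q hpq
    haveI := lft_pullback f
    haveI := isLocallyNoetherian (pullback f f)
    have huniv : Set.range (pullback.diagonal f).base = Set.univ := by
      refine eq_univ_of_preimage_pt
        (isLocallyConstructible_of_isLocallyClosed (pullback.diagonal f).isLocallyClosed_range) ?_
      rw [preimage_range_diagonal]
      exact Set.eq_univ_of_forall fun z => h (Pts.map_pullback_condition f f z)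
    obtain ⟨z, hz₁, hz₂⟩ := Scheme.Pullback.exists_preimage_pullback (f := f) (g := f) p q hpq
    obtain ⟨w, rfl⟩ := huniv.ge (Set.mem_univ z)
    rw [← hz₁, ← hz₂, ← Scheme.Hom.comp_apply, ← Scheme.Hom.comp_apply, pullback.diagonal_fst,
      pullback.diagonal_snd]

end Groth.ZetaAn
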