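import Mathlib.RingTheory.NoetherNormalization
import Mathlib.RingTheory.Jacobson.Ring
import Mathlib.FieldTheory.IsAlgClosed.Basic
import Mathlib.FieldTheory.Minpoly.IsIntegrallyClosed
import Mathlib.Analysis.Complex.Polynomial.Basic
import Mathlib.Topology.Algebra.MvPolynomial
import Mathlib.RingTheory.Polynomial.UniqueFactorization
import Mathlib.RingTheory.Polynomial.RationalRoot
import Mathlib.Algebra.MvPolynomial.Funext
import Mathlib.RingTheory.UniqueFactorizationDomain.GCDMonoid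

/-! Complex characters of finitely generated algebras: lifting along a Noether normalisation. -/

set_option autoImplicit false
set_option linter.style.haveILetI false

open Polynomial Filter Topology

namespace Groth.ZetaAn

variable {A R : Type} [CommRing A] [Algebra ℂ A] [CommRing R] [Algebra ℂ R]

lemma exists_algHom_ker_eq [Algebra.FiniteType ℂ A] (Q : Ideal A) [Q.IsMaximal] :
    ∃ ψ : A →ₐ[ℂ] ℂ, RingHom.ker ψ = Q := by
  letI := Ideal.Quotient.field Q
  haveI : Algebra.FiniteType ℂ (A ⧸ Q) :=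
    Algebra.FiniteType.of_surjective (Ideal.Quotient.mkₐ ℂ Q) Ideal.Quotient.mk_surjective
  haveI := finite_of_finite_type_of_isJacobsonRing ℂ (A ⧸ Q)
  let e : ℂ ≃ₐ[ℂ] (A ⧸ Q) := AlgEquiv.ofBijective (Algebra.ofId ℂ _)
    (IsAlgClosed.algebraMap_bijective_of_isIntegral (k := ℂ) (K := A ⧸ Q))
  refine ⟨e.symm.toAlgHom.comp (Ideal.Quotient.mkₐ ℂ Q), ?_⟩
  ext a
  simp [RingHom.mem_ker, Ideal.Quotient.eq_zero_iff_mem]

lemma algHom_eq_of_ker_le (φ ψ : R →ₐ[ℂ] ℂ) (h : RingHom.ker φ ≤ RingHom.ker ψ) : φ = ψ := by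
  refine AlgHom.ext fun r => ?_
  have : r - algebraMap ℂ R (φ r) ∈ RingHom.ker φ := by simp [RingHom.mem_ker]
  have h' := h this
  simp only [RingHom.mem_ker, map_sub, AlgHom.commutes, sub_eq_zero] at h'
  simpa using h'.symm

lemma exists_lift_of_isIntegral [Algebra.FiniteType ℂ A] (g : R →ₐ[ℂ] A)
    (hg : Function.Injective g) (hi : g.toRingHom.IsIntegral) (φ : R →ₐ[ℂ] ℂ) :
    ∃ ψ : A →ₐ[ℂ] ℂ, ψ.comp g = φ := by
  algebraize [g.toRingHom]
  haveI : Algebra.IsIntegral R A := ⟨hi⟩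
  haveI : (RingHom.ker φ).IsMaximal :=
    RingHom.ker_isMaximal_of_surjective φ fun c => ⟨algebraMap ℂ R c, by simp⟩
  obtain ⟨Q, hQ, hQ'⟩ := Ideal.exists_ideal_over_maximal_of_isIntegral (S := A) (RingHom.ker φ)
    (by rw [(RingHom.injective_iff_ker_eq_bot (algebraMap R A)).1 hg]; exact bot_le)
  obtain ⟨ψ, hψ⟩ := exists_algHom_ker_eq Q
  refine ⟨ψ, (algHom_eq_of_ker_le φ _ fun r hr => ?_).symm⟩
  rw [← hQ', ← hψ] at hr
  exact hr

lemma norm_root_le {F : ℂ[X]} (hF : F.Monic) {z : ℂ} (hz : F.IsRoot z) :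
    ‖z‖ ≤ 1 + ∑ i ∈ Finset.range F.natDegree, ‖F.coeff i‖ := by
  set S := ∑ i ∈ Finset.range F.natDegree, ‖F.coeff i‖
  have hS : 0 ≤ S := Finset.sum_nonneg fun i _ => norm_nonneg _
  rcases le_total ‖z‖ 1 with h | h
  · linarith
  obtain ⟨m, hm⟩ : ∃ m, F.natDegree = m + 1 := by
    refine Nat.exists_eq_add_one.2 (Nat.pos_of_ne_zero fun h0 => ?_)
    rw [hF.natDegree_eq_zero] at h0
    simp [h0] at hz
  have h1 : z ^ (m + 1) = - ∑ i ∈ Finset.range (m + 1), F.coeff i * z ^ i := by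
    have h2 : F.eval z = 0 := hz
    rw [eval_eq_sum_range, Finset.sum_range_succ, hF.coeff_natDegree, one_mul, hm] at h2
    linear_combination h2
  have h3 : ‖z‖ ^ (m + 1) ≤ S * ‖z‖ ^ m := by
    rw [← norm_pow, h1, norm_neg]
    refine (norm_sum_le _ _).trans ?_
    simp only [S, hm, Finset.sum_mul]
    refine Finset.sum_le_sum fun i hi => ?_
    rw [norm_mul, norm_pow]
    exact mul_le_mul_of_nonneg_left
      (pow_le_pow_right₀ h (Nat.lt_succ_iff.1 (Finset.mem_range.1 hi))) (norm_nonneg _)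
  rw [pow_succ'] at h3
  have := le_of_mul_le_mul_right h3 (by positivity)
  linarith

lemma exists_root_pow_norm_le {F : ℂ[X]} (hF : F.Monic) (hd : 0 < F.natDegree) :
    ∃ z, F.IsRoot z ∧ ‖z‖ ^ F.natDegree ≤ ‖F.coeff 0‖ := by
  have hs : F.Splits := IsAlgClosed.splits F
  have hc : F.roots.card = F.natDegree := splits_iff_card_roots.1 hs
  have hne : F.roots.toFinset.Nonempty := by
    obtain ⟨z, hz⟩ := Multiset.card_pos_iff_exists_mem.1 (hc ▸ hd)
    exact ⟨z, Multiset.mem_toFinset.2 hz⟩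
  obtain ⟨z, hz, hmin⟩ := F.roots.toFinset.exists_min_image (fun w => ‖w‖) hne
  rw [Multiset.mem_toFinset] at hz
  refine ⟨z, (mem_roots hF.ne_zero).1 hz, ?_⟩
  rw [coeff_zero_eq_eval_zero, hs.eval_eq_prod_roots_of_monic hF, ← hc]
  simp only [zero_sub]
  rw [show ‖(F.roots.map fun a => -a).prod‖ = ((F.roots.map fun a => -a).map norm).prod from
    map_multiset_prod (normHom : ℂ →*₀ ℝ) _, Multiset.map_map,
    ← Multiset.prod_replicate, ← Multiset.map_const']
  exact Multiset.prod_map_le_prod_map₀ _ _ (fun w _ => norm_nonneg z)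
    (fun w hw => by simpa using hmin w (Multiset.mem_toFinset.2 hw))

variable [IsDomain A] [Algebra.FiniteType ℂ A] {d : ℕ} (g : MvPolynomial (Fin d) ℂ →ₐ[ℂ] A)

/-- A character near a given one over each nearby point of the base of a normalisation. -/
theorem exists_lift_near (hg : Function.Injective g) (hi : g.toRingHom.IsIntegral)
    (φ : A →ₐ[ℂ] ℂ) {n : ℕ} (f : Fin n → A) {ε : ℝ} (hε : 0 < ε) :
    ∃ δ > 0, ∀ y : Fin d → ℂ, (∀ j, ‖y j - φ (g (MvPolynomial.X j))‖ < δ) →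
      ∃ ψ : A →ₐ[ℂ] ℂ, (∀ j, ψ (g (MvPolynomial.X j)) = y j) ∧ ∀ i, ‖ψ (f i) - φ (f i)‖ < ε := by
  classical
  algebraize [g.toRingHom]
  haveI : Algebra.IsIntegral (MvPolynomial (Fin d) ℂ) A := ⟨hi⟩
  haveI : IsScalarTower ℂ (MvPolynomial (Fin d) ℂ) A :=
    IsScalarTower.of_algebraMap_eq fun c => (g.commutes c).symm
  haveI : FaithfulSMul (MvPolynomial (Fin d) ℂ) A := (faithfulSMul_iff_algebraMap_injective _ _).2 hg
  set P := MvPolynomial (Fin d) ℂ
  have hint : ∀ a : A, IsIntegral P a := fun a => Algebra.IsIntegral.isIntegral a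
  have key : ∀ (ψ : A →ₐ[ℂ] ℂ) (y : Fin d → ℂ), (∀ j, ψ (g (MvPolynomial.X j)) = y j) →
      ψ.comp g = MvPolynomial.aeval y := by
    intro ψ y h
    refine MvPolynomial.algHom_ext fun j => ?_
    simp [h]
  have root : ∀ (ψ : A →ₐ[ℂ] ℂ) (y : Fin d → ℂ), (∀ j, ψ (g (MvPolynomial.X j)) = y j) →
      ∀ a, ((minpoly P a).map (MvPolynomial.eval y)).IsRoot (ψ a) := by
    intro ψ y h a
    have h1 : (ψ : A →+* ℂ).comp (algebraMap P A) = MvPolynomial.eval y := by
      refine RingHom.ext fun p => ?_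
      have := DFunLike.congr_fun (key ψ y h) p
      exact this
    have h2 := congrArg ψ (minpoly.aeval P a)
    rw [map_zero, Polynomial.aeval_def] at h2
    rw [Polynomial.IsRoot, Polynomial.eval_map, ← h1]
    exact (Polynomial.hom_eval₂ _ _ _ _).symm.trans h2
  obtain ⟨N, σ, hσ⟩ :=
    (Algebra.FiniteType.iff_quotient_mvPolynomial'' (R := ℂ) (S := A)).1 inferInstance
  set s : Fin N → A := fun i => σ (MvPolynomial.X i)
  have hσ' : ∀ (ψ : A →ₐ[ℂ] ℂ) p, ψ (σ p) = MvPolynomial.eval (fun i => ψ (s i)) p := fun ψ p => by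
    have : ψ.comp σ = MvPolynomial.aeval (fun i => ψ (s i)) :=
      MvPolynomial.algHom_ext fun i => by simp [s]
    simpa using DFunLike.congr_fun this p
  set y₀ : Fin d → ℂ := fun j => φ (g (MvPolynomial.X j))
  have hfin : {ψ : A →ₐ[ℂ] ℂ | ∀ j, ψ (g (MvPolynomial.X j)) = y₀ j}.Finite := by
    refine Set.Finite.of_finite_image (f := fun ψ : A →ₐ[ℂ] ℂ => fun i => ψ (s i)) ?_ ?_
    · refine (Set.Finite.pi' (t := fun i => {z | ((minpoly P (s i)).map
          (MvPolynomial.eval y₀)).IsRoot z}) fun i => ?_).subset ?_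
      · exact Polynomial.finite_setOfPred_isRoot ((minpoly.monic (hint _)).map _).ne_zero
      · rintro _ ⟨ψ, hψ, rfl⟩ i
        exact root ψ y₀ hψ (s i)
    · intro ψ _ ψ' _ h
      refine AlgHom.ext fun a => ?_
      obtain ⟨p, rfl⟩ := hσ a
      rw [hσ', hσ']
      exact congrArg (fun v => MvPolynomial.eval v p) h
  have hsep : ∀ ψ : A →ₐ[ℂ] ℂ, ∃ b : A, φ b = 0 ∧ (ψ ≠ φ → ψ b = 1) := by
    intro ψ
    by_cases h : ψ = φ
    · exact ⟨0, map_zero _, fun h' => absurd h h'⟩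
    obtain ⟨a, ha⟩ := DFunLike.exists_ne h
    exact ⟨algebraMap ℂ A (ψ a - φ a)⁻¹ * (a - algebraMap ℂ A (φ a)),
      by simp, fun _ => by simp [sub_ne_zero.2 ha]⟩
  choose b hb0 hb1 using hsep
  set e : A := 1 - ∏ ψ ∈ hfin.toFinset, (1 - b ψ)
  have he0 : φ e = 0 := by simp [e, map_prod, hb0]
  have he1 : ∀ ψ : A →ₐ[ℂ] ℂ, (∀ j, ψ (g (MvPolynomial.X j)) = y₀ j) → ψ ≠ φ → ψ e = 1 := by
    intro ψ hψ hne
    simp only [e, map_sub, map_one, map_prod, sub_eq_self]
    exact Finset.prod_eq_zero (hfin.mem_toFinset.2 hψ) (by simp [hb1 ψ hne])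
  -- every root of the minimal polynomial of `e` is a value of a character
  have hroot : ∀ (y : Fin d → ℂ) (r : ℂ), ((minpoly P e).map (MvPolynomial.eval y)).IsRoot r →
      ∃ ψ : A →ₐ[ℂ] ℂ, (∀ j, ψ (g (MvPolynomial.X j)) = y j) ∧ ψ e = r := by
    intro y r hr
    rw [Polynomial.IsRoot, Polynomial.eval_map] at hr
    let ρ₀ : Algebra.adjoin P ({e} : Set A) →+* ℂ :=
      (AdjoinRoot.lift (MvPolynomial.eval y) r hr).comp
        (minpoly.equivAdjoin (hint e)).symm.toAlgHom.toRingHom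
    have hρP : ∀ p : P, ρ₀ (algebraMap P _ p) = MvPolynomial.eval y p := fun p => by
      simp [ρ₀]
    let ρ : Algebra.adjoin P ({e} : Set A) →ₐ[ℂ] ℂ :=
      { ρ₀ with
        commutes' := fun c => by
          have := hρP (algebraMap ℂ P c)
          rw [← IsScalarTower.algebraMap_apply] at this
          refine this.trans ?_
          exact MvPolynomial.eval_C c }
    have hint' : ((Algebra.adjoin P ({e} : Set A)).val.restrictScalars ℂ).toRingHom.IsIntegral :=
      RingHom.IsIntegral.tower_top (algebraMap P (Algebra.adjoin P ({e} : Set A)))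
        (algebraMap (Algebra.adjoin P ({e} : Set A)) A) hi
    obtain ⟨ψ, hψ⟩ := exists_lift_of_isIntegral
      ((Algebra.adjoin P ({e} : Set A)).val.restrictScalars ℂ) Subtype.val_injective hint' ρ
    refine ⟨ψ, fun j => ?_, ?_⟩
    · have := DFunLike.congr_fun hψ (algebraMap P _ (MvPolynomial.X j))
      change ψ (g (MvPolynomial.X j)) = ρ₀ _ at this
      rw [this, hρP, MvPolynomial.eval_X]
    · have := DFunLike.congr_fun hψ ⟨e, Algebra.self_mem_adjoin_singleton P e⟩
      change ψ e = ρ₀ _ at this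
      rw [this]
      have h2 : (minpoly.equivAdjoin (hint e)).symm ⟨e, Algebra.self_mem_adjoin_singleton P e⟩ =
          AdjoinRoot.root _ := by
        rw [AlgEquiv.symm_apply_eq]
        refine Subtype.ext ?_
        simp [AdjoinRoot.Minpoly.toAdjoin]
      change AdjoinRoot.lift _ r hr ((minpoly.equivAdjoin (hint e)).symm _) = r
      rw [h2, AdjoinRoot.lift_root]
  by_contra hcon
  push Not at hcon
  choose y hy hbad using fun k : ℕ => hcon (1 / ((k : ℝ) + 1)) (by positivity)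
  have hylim : Tendsto y atTop (𝓝 y₀) := by
    refine tendsto_pi_nhds.2 fun j => ?_
    refine tendsto_iff_norm_sub_tendsto_zero.2 (squeeze_zero (fun _ => norm_nonneg _)
      (fun k => (hy k j).le) tendsto_one_div_add_atTop_nhds_zero_nat)
  set F := minpoly P e
  have hFdeg : 0 < F.natDegree := minpoly.natDegree_pos (hint e)
  have hFk : ∀ k, ∃ r, (F.map (MvPolynomial.eval (y k))).IsRoot r ∧
      ‖r‖ ^ F.natDegree ≤ ‖MvPolynomial.eval (y k) (F.coeff 0)‖ := by
    intro k
    have hnd := (minpoly.monic (hint e)).natDegree_map (MvPolynomial.eval (y k))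
    obtain ⟨r, hr, hr'⟩ := exists_root_pow_norm_le ((minpoly.monic (hint e)).map
      (MvPolynomial.eval (y k))) (by rw [hnd]; exact hFdeg)
    refine ⟨r, hr, ?_⟩
    rwa [hnd, Polynomial.coeff_map] at hr'
  choose r hr hrle using hFk
  choose ψ hψy hψe using fun k => hroot (y k) (r k) (hr k)
  have hF0 : MvPolynomial.eval y₀ (F.coeff 0) = 0 := by
    have := root φ y₀ (fun j => rfl) e
    rw [he0, Polynomial.IsRoot, ← Polynomial.coeff_zero_eq_eval_zero, Polynomial.coeff_map] at this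
    exact this
  have hr0 : Tendsto r atTop (𝓝 0) := by
    have h1 : Tendsto (fun k => ‖MvPolynomial.eval (y k) (F.coeff 0)‖) atTop (𝓝 0) := by
      have := (((MvPolynomial.continuous_eval (F.coeff 0)).tendsto y₀).comp hylim).norm
      rwa [hF0, norm_zero] at this
    rw [Metric.tendsto_atTop] at h1 ⊢
    intro η hη
    obtain ⟨K, hK⟩ := h1 (η ^ F.natDegree) (by positivity)
    refine ⟨K, fun k hk => ?_⟩
    have := (hrle k).trans_lt (by simpa using hK k hk)
    simpa using lt_of_pow_lt_pow_left₀ _ hη.le this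
  set v : ℕ → Fin N → ℂ := fun k i => ψ k (s i)
  set B : (Fin d → ℂ) → Fin N → ℝ := fun z i =>
    1 + ∑ l ∈ Finset.range (minpoly P (s i)).natDegree,
      ‖MvPolynomial.eval z ((minpoly P (s i)).coeff l)‖
  have hB : ∀ k i, ‖v k i‖ ≤ B (y k) i := by
    intro k i
    have := norm_root_le ((minpoly.monic (hint (s i))).map _) (root (ψ k) (y k) (hψy k) (s i))
    rw [(minpoly.monic (hint (s i))).natDegree_map] at this
    simpa only [Polynomial.coeff_map] using this
  have hbdd : ∀ i, ∃ C, ∀ k, ‖v k i‖ ≤ C := by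
    intro i
    have hc : Continuous fun z => B z i := continuous_const.add
      (continuous_finsetSum _ fun l _ => (MvPolynomial.continuous_eval _).norm)
    obtain ⟨C, hC⟩ := ((hc.tendsto y₀).comp hylim).bddAbove_range
    exact ⟨C, fun k => (hB k i).trans (hC ⟨k, rfl⟩)⟩
  choose C hC using hbdd
  obtain ⟨w, -, u, hu, hw⟩ :=
    (isCompact_univ_pi fun i => isCompact_closedBall (0 : ℂ) (C i)).tendsto_subseq
      (x := v) (fun k i _ => by simpa using hC i k)
  have hlimp : ∀ p : MvPolynomial (Fin N) ℂ,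
      Tendsto (fun k => ψ (u k) (σ p)) atTop (𝓝 (MvPolynomial.eval w p)) := by
    intro p
    refine (((MvPolynomial.continuous_eval p).tendsto w).comp hw).congr fun k => ?_
    simp only [Function.comp_apply, hσ', v]
  have hker : ∀ p, σ p = 0 → MvPolynomial.eval w p = 0 := fun p hp =>
    tendsto_nhds_unique (hlimp p) (by simp [hp])
  let ψ₀ : A →ₐ[ℂ] ℂ := (Ideal.Quotient.liftₐ (RingHom.ker σ) (MvPolynomial.aeval w)
    (fun p hp => by simpa using hker p hp)).comp
      (Ideal.quotientKerAlgEquivOfSurjective hσ).symm.toAlgHom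
  have hψ₀σ : ∀ p, ψ₀ (σ p) = MvPolynomial.eval w p := by
    intro p
    have : (Ideal.quotientKerAlgEquivOfSurjective hσ).symm (σ p) = Ideal.Quotient.mk _ p := by
      rw [AlgEquiv.symm_apply_eq]; rfl
    simp [ψ₀, this]
  have hlim : ∀ a, Tendsto (fun k => ψ (u k) a) atTop (𝓝 (ψ₀ a)) := by
    intro a
    obtain ⟨p, rfl⟩ := hσ a
    rw [hψ₀σ]
    exact hlimp p
  have hover : ∀ j, ψ₀ (g (MvPolynomial.X j)) = y₀ j := by
    intro j
    refine tendsto_nhds_unique (hlim _) ?_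
    exact (((continuous_apply j).tendsto y₀).comp (hylim.comp hu.tendsto_atTop)).congr
      fun k => (hψy _ j).symm
  have he : ψ₀ e = 0 :=
    tendsto_nhds_unique (hlim e) ((hr0.comp hu.tendsto_atTop).congr fun k => (hψe _).symm)
  have hφ : ψ₀ = φ := by
    by_contra hne
    exact one_ne_zero ((he1 ψ₀ hover hne).symm.trans he)
  subst hφ
  have hev : ∀ᶠ k in atTop, ∀ i, ‖ψ (u k) (f i) - ψ₀ (f i)‖ < ε :=
    eventually_all.2 fun i =>
      (tendsto_iff_norm_sub_tendsto_zero.1 (hlim (f i))).eventually (gt_mem_nhds hε)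
  obtain ⟨k, hk⟩ := hev.exists
  obtain ⟨i, hi'⟩ := hbad (u k) (ψ (u k)) (hψy (u k))
  exact (not_le.2 (hk i)) hi'

/-- In a finitely generated domain the characters not killing a given nonzero element are dense. -/
theorem exists_near_ne_zero (φ : A →ₐ[ℂ] ℂ) {h : A} (hh : h ≠ 0) {n : ℕ} (f : Fin n → A)
    {ε : ℝ} (hε : 0 < ε) :
    ∃ ψ : A →ₐ[ℂ] ℂ, ψ h ≠ 0 ∧ ∀ i, ‖ψ (f i) - φ (f i)‖ < ε := by
  obtain ⟨d, g, hg, hi⟩ := exists_integral_inj_algHom_of_fg ℂ A
  obtain ⟨δ, hδ, hy⟩ := exists_lift_near g hg hi φ f hε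
  algebraize [g.toRingHom]
  haveI : Algebra.IsIntegral (MvPolynomial (Fin d) ℂ) A := ⟨hi⟩
  haveI : FaithfulSMul (MvPolynomial (Fin d) ℂ) A := (faithfulSMul_iff_algebraMap_injective _ _).2 hg
  set P := MvPolynomial (Fin d) ℂ
  have hint : IsIntegral P h := Algebra.IsIntegral.isIntegral h
  set c := (minpoly P h).coeff 0
  have hc : c ≠ 0 := by
    intro h0
    obtain ⟨u, hu⟩ := Polynomial.X_dvd_iff.2 h0
    have hu0 : u ≠ 0 := fun h1 => minpoly.ne_zero hint (by rw [hu, h1, mul_zero])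
    have h2 : Polynomial.aeval h u = 0 := by
      have := minpoly.aeval P h
      rw [hu, map_mul, Polynomial.aeval_X, mul_eq_zero] at this
      exact this.resolve_left hh
    have h3 := Polynomial.natDegree_le_of_dvd (minpoly.isIntegrallyClosed_dvd hint h2) hu0
    rw [hu, Polynomial.natDegree_X_mul hu0] at h3
    omega
  obtain ⟨w, hw⟩ : ∃ w, MvPolynomial.eval w c ≠ 0 := by
    by_contra hcon
    push Not at hcon
    exact hc (MvPolynomial.funext fun w => by simpa using hcon w)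
  set y₀ : Fin d → ℂ := fun j => φ (g (MvPolynomial.X j))
  let q : ℂ[X] := MvPolynomial.aeval
    (fun j => Polynomial.C (y₀ j) + Polynomial.X * Polynomial.C (w j - y₀ j)) c
  have hq : ∀ t, q.eval t = MvPolynomial.eval (fun j => y₀ j + t * (w j - y₀ j)) c := by
    intro t
    have : (Polynomial.aeval t).comp (MvPolynomial.aeval
        (fun j => Polynomial.C (y₀ j) + Polynomial.X * Polynomial.C (w j - y₀ j))) =
        MvPolynomial.aeval (fun j => y₀ j + t * (w j - y₀ j)) :=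
      MvPolynomial.algHom_ext fun j => by simp
    exact (DFunLike.congr_fun this c)
  have hq0 : q ≠ 0 := fun h0 => hw (by simpa [h0] using (hq 1).symm)
  have hev : ∀ᶠ t in 𝓝[≠] (0 : ℂ), q.eval t ≠ 0 ∧ ∀ j, ‖t * (w j - y₀ j)‖ < δ := by
    refine Eventually.and ?_ ?_
    · exact nhdsNE_le_cofinite 0 (q.finite_setOfPred_isRoot hq0).compl_mem_cofinite
    · refine eventually_all.2 fun j => nhdsWithin_le_nhds ?_
      have : Tendsto (fun t : ℂ => ‖t * (w j - y₀ j)‖) (𝓝 0) (𝓝 0) := by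
        simpa using ((continuous_id.mul continuous_const).norm.tendsto (0 : ℂ) :
          Tendsto (fun t : ℂ => ‖t * (w j - y₀ j)‖) (𝓝 0) (𝓝 ‖(0 : ℂ) * (w j - y₀ j)‖))
      exact this.eventually (gt_mem_nhds hδ)
  obtain ⟨t, ht, htj⟩ := hev.exists
  obtain ⟨ψ, hψy, hψf⟩ := hy (fun j => y₀ j + t * (w j - y₀ j)) (fun j => by simpa [y₀] using htj j)
  refine ⟨ψ, fun h0 => ht ?_, hψf⟩
  have h1 : (ψ : A →+* ℂ).comp (algebraMap P A) =
      MvPolynomial.eval (fun j => y₀ j + t * (w j - y₀ j)) := by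
    refine MvPolynomial.ringHom_ext (fun z => ?_) (fun j => ?_)
    · simp [RingHom.algebraMap_toAlgebra]
    · simpa [RingHom.algebraMap_toAlgebra] using hψy j
  have h2 := congrArg (ψ : A →+* ℂ) (minpoly.aeval P h)
  rw [map_zero, Polynomial.aeval_def, Polynomial.hom_eval₂, h1] at h2
  rw [show (ψ : A →+* ℂ) h = 0 from h0, Polynomial.eval₂_at_zero] at h2
  rw [hq]
  exact h2

end Groth.ZetaAn
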