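import Groth.Agent.ZetaAn.PtsAffine
import Groth.Agent.ZetaAn.NormalizationPts
import Groth.Agent.ZetaAn.Constructible
import Mathlib.AlgebraicGeometry.Morphisms.FinitePresentation
import Mathlib.AlgebraicGeometry.Noetherian

/-! Closures of constructible sets and complex points. -/

set_option autoImplicit false
set_option linter.style.haveILetI false

open CategoryTheory AlgebraicGeometry Topology TopologicalSpace Limits

namespace Groth.ZetaAn

open An

variable {X : Scheme.{0}} [X.Over An.SC]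

variable (X) in
lemma isLocallyNoetherian [LocallyOfFiniteType (X ↘ SC)] : IsLocallyNoetherian X :=
  LocallyOfFiniteType.isLocallyNoetherian (X ↘ SC)

omit [X.Over An.SC] in
lemma mem_basicOpen_iff_notMem [IsAffine X] (p : X) (a : Γ(X, ⊤)) :
    p ∈ X.basicOpen a ↔ a ∉ (X.toSpecΓ p).asIdeal := by
  rw [← Scheme.toSpecΓ_preimage_basicOpen]
  exact Iff.rfl

/-- Near a complex point, complex points in a nonempty open part of an irreducible closed set. -/
lemma mem_closure_affine [IsAffine X] [LocallyOfFiniteType (X ↘ SC)] (x : Pts X) (η : X)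
    (hη : η ⤳ x.pt) (U : X.Opens) (hηU : η ∈ U) :
    x ∈ closure (Pts.pt ⁻¹' ((U : Set X) ∩ closure {η})) := by
  obtain ⟨_, ⟨_, ⟨h, rfl⟩, rfl⟩, hηh, hhU⟩ :=
    (isBasis_basicOpen X).exists_subset_of_mem_open (show η ∈ (U : Set X) from hηU) U.2
  set P : Ideal Γ(X, ⊤) := (X.toSpecΓ η).asIdeal
  haveI : P.IsPrime := (X.toSpecΓ η).isPrime
  obtain ⟨n, s, hs⟩ := exists_generators (X := X)
  have hemb := isClosedEmbedding_of_generators s hs
  letI : Algebra ℂ Γ(X, ⊤) := (strHom X).toAlgebra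
  haveI : Algebra.FiniteType ℂ Γ(X, ⊤) := finiteType_strHom
  haveI : Algebra.FiniteType ℂ (Γ(X, ⊤) ⧸ P) :=
    Algebra.FiniteType.of_surjective (Ideal.Quotient.mkₐ ℂ P) Ideal.Quotient.mk_surjective
  have hker : ∀ a ∈ P, x.evTop a = 0 := by
    intro a ha
    by_contra h0
    exact (mem_basicOpen_iff_notMem η a).1
      (hη.mem_open (X.basicOpen a).2 ((mem_basicOpen_iff x (Opens.mem_top _) a).2 h0)) ha
  let φ₀ : Γ(X, ⊤) →ₐ[ℂ] ℂ :=
    { evTopHom x with commutes' := fun c => evTop_strHom x c }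
  let φ : Γ(X, ⊤) ⧸ P →ₐ[ℂ] ℂ := Ideal.Quotient.liftₐ P φ₀ hker
  have hh : Ideal.Quotient.mkₐ ℂ P h ≠ 0 := fun h0 =>
    (mem_basicOpen_iff_notMem η h).1 hηh (Ideal.Quotient.eq_zero_iff_mem.1 h0)
  rw [hemb.isInducing.closure_eq_preimage_closure_image, Set.mem_preimage, Metric.mem_closure_iff]
  intro ε hε
  obtain ⟨ψ, hψh, hψ⟩ := exists_near_ne_zero φ hh (fun i => Ideal.Quotient.mkₐ ℂ P (s i)) hε
  let ψ' : Γ(X, ⊤) →+* ℂ := (ψ.comp (Ideal.Quotient.mkₐ ℂ P)).toRingHom
  let y : Pts X := ofHom ψ' (RingHom.ext fun c => (ψ.comp (Ideal.Quotient.mkₐ ℂ P)).commutes c)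
  have hy : ∀ a, y.evTop a = ψ (Ideal.Quotient.mkₐ ℂ P a) := fun a => evTop_ofHom ψ' _ a
  refine ⟨fun i => y.evTop (s i), ⟨y, ⟨hhU ?_, ?_⟩, rfl⟩, ?_⟩
  · refine (mem_basicOpen_iff y (Opens.mem_top _) h).2 ?_
    change y.evTop h ≠ 0
    rw [hy]
    exact hψh
  · rw [← specializes_iff_mem_closure]
    refine (isBasis_basicOpen X).nhds_hasBasis.specializes_iff.2 ?_
    rintro _ ⟨⟨_, ⟨a, rfl⟩, rfl⟩, hya⟩
    refine (mem_basicOpen_iff_notMem η a).2 fun ha => ?_
    refine (mem_basicOpen_iff y (Opens.mem_top _) a).1 hya ?_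
    change y.evTop a = 0
    rw [hy, Ideal.Quotient.mkₐ_eq_mk, Ideal.Quotient.eq_zero_iff_mem.2 ha, map_zero]
  · rw [dist_pi_lt_iff hε]
    intro i
    rw [dist_comm, dist_eq_norm, hy]
    exact hψ i

/-- The complex points over the closure of a locally constructible set. -/
theorem preimage_closure [LocallyOfFiniteType (X ↘ SC)] {T : Set X}
    (hT : IsLocallyConstructible T) :
    (Pts.pt ⁻¹' closure T : Set (Pts X)) = closure (Pts.pt ⁻¹' T) := by
  refine Set.Subset.antisymm ?_ (Pts.continuous_pt.closure_preimage_subset T)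
  intro x hx
  haveI := isLocallyNoetherian X
  obtain ⟨_, ⟨W', hW, rfl⟩, hxW, -⟩ :=
    (X.isBasis_affineOpens).exists_subset_of_mem_open (Set.mem_univ x.pt) isOpen_univ
  let W : X.Opens := W'
  haveI : IsAffine (W : Scheme.{0}) := hW
  letI := opensOver W
  haveI : (W.ι).IsOver SC := ⟨rfl⟩
  haveI : LocallyOfFiniteType ((W : Scheme.{0}) ↘ SC) :=
    inferInstanceAs (LocallyOfFiniteType (W.ι ≫ X ↘ SC))
  haveI : IsLocallyNoetherian (W : Scheme.{0}) := isLocallyNoetherian _
  haveI : IsNoetherian (W : Scheme.{0}) := {}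
  have he := W.ι.isOpenEmbedding
  obtain ⟨x', rfl⟩ : x ∈ Set.range (Pts.map W.ι) := by
    rw [range_map_of_isOpenImmersion]
    exact (Scheme.Opens.range_ι W).symm ▸ hxW
  have hT' : IsConstructible (W.ι ⁻¹' T) := (hT.preimage_of_isOpenEmbedding he).isConstructible
  have hcl : x'.pt ∈ closure (W.ι ⁻¹' T) := by
    rw [← he.isOpenMap.preimage_closure_eq_closure_preimage he.continuous]
    change W.ι x'.pt ∈ closure T
    rw [← Pts.pt_map]
    exact hx
  obtain ⟨η, hηT, hη⟩ := exists_specializes_of_mem_closure hT' hcl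
  obtain ⟨U, hU, hηU, hsub⟩ := (isConstructible_near hT' η).1 hηT
  have h := closure_mono (Set.preimage_mono hsub) (mem_closure_affine x' η hη ⟨U, hU⟩ hηU)
  exact closure_mono (by
    rintro _ ⟨z, hz, rfl⟩
    change (Pts.map W.ι z).pt ∈ T
    rw [Pts.pt_map]
    exact hz) (image_closure_subset_closure_image (Pts.continuous_map W.ι) ⟨x', h, rfl⟩)

theorem dense_preimage_iff [LocallyOfFiniteType (X ↘ SC)] {T : Set X}
    (hT : IsLocallyConstructible T) :
    Dense T ↔ Dense (Pts.pt ⁻¹' T : Set (Pts X)) := by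
  constructor
  · intro h x
    rw [← preimage_closure hT]
    exact h x.pt
  · intro h
    have := jacobsonSpace X
    rw [dense_iff_closure_eq, Set.eq_univ_iff_forall]
    intro p
    have h1 : closedPoints X ⊆ closure T := by
      intro q hq
      obtain ⟨x, rfl⟩ := exists_pt_eq q hq
      have := h x
      rw [← preimage_closure hT] at this
      exact this
    have h2 := closure_minimal h1 isClosed_closure
    rw [closure_closedPoints] at h2
    exact h2 trivial

lemma isLocallyConstructible_compl {α : Type*} [TopologicalSpace α] {s : Set α}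
    (hs : IsLocallyConstructible s) : IsLocallyConstructible sᶜ := fun x =>
  let ⟨U, hU, hUo, h⟩ := hs x
  ⟨U, hU, hUo, h.compl⟩

/-- A set all whose closed points lie in a locally constructible set lies in that set. -/
lemma subset_of_forall_closedPoints {α : Type*} [TopologicalSpace α] [JacobsonSpace α]
    {S T : Set α} (hS : IsLocallyConstructible S) (hT : IsLocallyConstructible T)
    (h : S ∩ closedPoints α ⊆ T) : S ⊆ T := by
  intro p hp
  by_contra hpT
  obtain ⟨U, hUp, hU, hUc⟩ := (hS.inter (isLocallyConstructible_compl hT)) p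
  have : JacobsonSpace U := .of_isOpenEmbedding hU.isOpenEmbedding_subtypeVal
  have hpU : p ∈ U := mem_of_mem_nhds hUp
  obtain ⟨V, hV, hpV, hsub⟩ := (isConstructible_near hUc (⟨p, hpU⟩ : U)).1 ⟨hp, hpT⟩
  obtain ⟨q, hq, hqc⟩ := nonempty_inter_closedPoints
    (Z := V ∩ closure {(⟨p, hpU⟩ : U)}) ⟨_, hpV, subset_closure rfl⟩
    (hV.isLocallyClosed.inter isClosed_closure.isLocallyClosed)
  rw [← hU.isOpenEmbedding_subtypeVal.preimage_closedPoints] at hqc
  exact (hsub hq).2 (h ⟨(hsub hq).1, hqc⟩)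

lemma eq_univ_of_preimage_pt [LocallyOfFiniteType (X ↘ SC)] {T : Set X}
    (hT : IsLocallyConstructible T) (h : (Pts.pt ⁻¹' T : Set (Pts X)) = Set.univ) :
    T = Set.univ := by
  have := jacobsonSpace X
  refine Set.eq_univ_of_univ_subset (subset_of_forall_closedPoints .univ hT ?_)
  rintro q ⟨-, hq⟩
  obtain ⟨x, rfl⟩ := exists_pt_eq q hq
  exact h.ge (Set.mem_univ x)

theorem isOpen_preimage_iff [LocallyOfFiniteType (X ↘ SC)] {T : Set X}
    (hT : IsLocallyConstructible T) :
    IsOpen T ↔ IsOpen (Pts.pt ⁻¹' T : Set (Pts X)) := by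
  refine ⟨fun h => h.preimage Pts.continuous_pt, fun h => ?_⟩
  have hc : closure (Pts.pt ⁻¹' Tᶜ : Set (Pts X)) = Pts.pt ⁻¹' Tᶜ :=
    (Set.preimage_compl ▸ h.isClosed_compl).closure_eq
  rw [← preimage_closure (isLocallyConstructible_compl hT)] at hc
  have := jacobsonSpace X
  rw [← isClosed_compl_iff, ← closure_subset_iff_isClosed]
  intro p hp
  by_contra hpT
  rw [Set.mem_compl_iff, not_not] at hpT
  haveI := isLocallyNoetherian X
  obtain ⟨U, hUp, hU, hUc⟩ := hT p
  have hpU : p ∈ U := mem_of_mem_nhds hUp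
  obtain ⟨V, hV, hpV, hsub⟩ := (isConstructible_near hUc (⟨p, hpU⟩ : U)).1 hpT
  have : JacobsonSpace U := .of_isOpenEmbedding hU.isOpenEmbedding_subtypeVal
  obtain ⟨q, hq, hqc⟩ := nonempty_inter_closedPoints
    (Z := V ∩ closure {(⟨p, hpU⟩ : U)}) ⟨_, hpV, subset_closure rfl⟩
    (hV.isLocallyClosed.inter isClosed_closure.isLocallyClosed)
  have hqp : p ⤳ (q : X) :=
    (specializes_iff_mem_closure.2 hq.2).map continuous_subtype_val
  rw [← hU.isOpenEmbedding_subtypeVal.preimage_closedPoints] at hqc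
  obtain ⟨x, hx⟩ := exists_pt_eq (q : X) hqc
  have hxcl : x ∈ Pts.pt ⁻¹' closure Tᶜ := by
    change x.pt ∈ closure Tᶜ
    rw [hx]
    exact closure_minimal (Set.singleton_subset_iff.2 hp) isClosed_closure
      (specializes_iff_mem_closure.1 hqp)
  rw [hc] at hxcl
  exact hxcl (by rw [hx]; exact hsub hq)

end Groth.ZetaAn
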