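import Mathlib.Order.Filter.FilterProduct
import Mathlib.Analysis.Complex.Basic
import Mathlib.RingTheory.Valuation.ValuationSubring
import Mathlib.Topology.MetricSpace.ProperSpace

/-! The valuation ring of bounded elements in an ultrapower of the complex numbers. -/

set_option autoImplicit false

open Filter Topology

namespace Groth.ZetaAn

variable {ι : Type} (F : Ultrafilter ι)

/-- The ultrapower of the complex numbers. -/
abbrev HC : Type := Germ (F : Filter ι) ℂ

/-- Being bounded along the ultrafilter. -/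
def BddGerm (g : HC F) : Prop := ∃ C : ℝ, g.LiftPred fun z => ‖z‖ ≤ C

lemma bddGerm_of_tendsto {a : ι → ℂ} {c : ℂ} (h : Tendsto a F (𝓝 c)) : BddGerm F (a : HC F) :=
  ⟨‖c‖ + 1, Germ.liftPred_coe.2 (h.norm.eventually (eventually_le_nhds (lt_add_one _)))⟩

/-- The valuation ring of bounded elements. -/
noncomputable def boundedGerms : ValuationSubring (HC F) where
  carrier := {g | BddGerm F g}
  mul_mem' {a b} ha hb := by
    obtain ⟨C, ha⟩ := ha
    obtain ⟨D, hb⟩ := hb
    induction a using Germ.inductionOn with | _ a =>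
    induction b using Germ.inductionOn with | _ b =>
    refine ⟨C * D, ?_⟩
    rw [← Germ.coe_mul, Germ.liftPred_coe]
    filter_upwards [Germ.liftPred_coe.1 ha, Germ.liftPred_coe.1 hb] with x h1 h2
    rw [Pi.mul_apply, norm_mul]
    exact mul_le_mul h1 h2 (norm_nonneg _) ((norm_nonneg _).trans h1)
  one_mem' := ⟨1, Germ.liftPred_coe.2 (.of_forall fun _ => by simp)⟩
  add_mem' {a b} ha hb := by
    obtain ⟨C, ha⟩ := ha
    obtain ⟨D, hb⟩ := hb
    induction a using Germ.inductionOn with | _ a =>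
    induction b using Germ.inductionOn with | _ b =>
    refine ⟨C + D, ?_⟩
    rw [← Germ.coe_add, Germ.liftPred_coe]
    filter_upwards [Germ.liftPred_coe.1 ha, Germ.liftPred_coe.1 hb] with x h1 h2
    exact (norm_add_le _ _).trans (add_le_add h1 h2)
  zero_mem' := ⟨0, Germ.liftPred_coe.2 (.of_forall fun _ => by simp)⟩
  neg_mem' {a} ha := by
    obtain ⟨C, ha⟩ := ha
    induction a using Germ.inductionOn with | _ a =>
    refine ⟨C, ?_⟩
    rw [← Germ.coe_neg, Germ.liftPred_coe]
    filter_upwards [Germ.liftPred_coe.1 ha] with x h1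
    simpa using h1
  mem_or_inv_mem' g := by
    induction g using Germ.inductionOn with | _ a =>
    rcases F.em (fun x => ‖a x‖ ≤ 1) with h | h
    · exact Or.inl ⟨1, Germ.liftPred_coe.2 h⟩
    · refine Or.inr ⟨1, ?_⟩
      rw [← Germ.coe_inv, Germ.liftPred_coe]
      filter_upwards [h] with x hx
      rw [Pi.inv_apply, norm_inv]
      exact inv_le_one_of_one_le₀ (le_of_lt (not_le.1 hx))

lemma mem_boundedGerms {g : HC F} : g ∈ boundedGerms F ↔ BddGerm F g := Iff.rfl

lemma exists_limit (g : boundedGerms F) : ∃ c : ℂ, (g : HC F).Tendsto (𝓝 c) := by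
  obtain ⟨g, C, hC⟩ := g
  induction g using Germ.inductionOn with | _ a =>
  have h : ∀ᶠ x in (F : Filter ι), a x ∈ Metric.closedBall (0 : ℂ) C :=
    (Germ.liftPred_coe.1 hC).mono fun x hx => by simpa using hx
  obtain ⟨c, -, hc⟩ := (isCompact_closedBall (0 : ℂ) C).ultrafilter_le_nhds (F.map a)
    (le_principal_iff.2 (by rw [Ultrafilter.coe_map]; exact h))
  exact ⟨c, Germ.coe_tendsto.2 hc⟩

/-- The standard part of a bounded element. -/
noncomputable def stFun (g : boundedGerms F) : ℂ := (exists_limit F g).choose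

lemma tendsto_stFun' (g : boundedGerms F) : (g : HC F).Tendsto (𝓝 (stFun F g)) :=
  (exists_limit F g).choose_spec

lemma stFun_eq {g : boundedGerms F} {a : ι → ℂ} {c : ℂ} (hg : (g : HC F) = (a : HC F))
    (hc : Tendsto a F (𝓝 c)) : stFun F g = c := by
  have h := tendsto_stFun' F g
  rw [hg, Germ.coe_tendsto] at h
  exact tendsto_nhds_unique h hc

lemma tendsto_stFun {g : boundedGerms F} {a : ι → ℂ} (hg : (g : HC F) = (a : HC F)) :
    Tendsto a F (𝓝 (stFun F g)) := by
  have h := tendsto_stFun' F g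
  rwa [hg, Germ.coe_tendsto] at h

lemma exists_rep (g : boundedGerms F) :
    ∃ a : ι → ℂ, (g : HC F) = (a : HC F) ∧ Tendsto a F (𝓝 (stFun F g)) := by
  obtain ⟨a, ha⟩ : ∃ a : ι → ℂ, (g : HC F) = (a : HC F) :=
    Germ.inductionOn (g : HC F) (fun a => ⟨a, rfl⟩)
  exact ⟨a, ha, tendsto_stFun F ha⟩

/-- The standard part as a ring homomorphism. -/
noncomputable def stHom : boundedGerms F →+* ℂ where
  toFun := stFun F
  map_one' := stFun_eq F (a := 1) rfl tendsto_const_nhds
  map_zero' := stFun_eq F (a := 0) rfl tendsto_const_nhds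
  map_mul' g g' := by
    obtain ⟨a, ha, hta⟩ := exists_rep F g
    obtain ⟨b, hb, htb⟩ := exists_rep F g'
    refine stFun_eq F (a := a * b) ?_ (hta.mul htb)
    change (g : HC F) * g' = _
    rw [ha, hb, Germ.coe_mul]
  map_add' g g' := by
    obtain ⟨a, ha, hta⟩ := exists_rep F g
    obtain ⟨b, hb, htb⟩ := exists_rep F g'
    refine stFun_eq F (a := a + b) ?_ (hta.add htb)
    change (g : HC F) + g' = _
    rw [ha, hb, Germ.coe_add]

lemma stHom_eq {g : boundedGerms F} {a : ι → ℂ} {c : ℂ} (hg : (g : HC F) = (a : HC F))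
    (hc : Tendsto a F (𝓝 c)) : stHom F g = c :=
  stFun_eq F hg hc

lemma tendsto_stHom {g : boundedGerms F} {a : ι → ℂ} (hg : (g : HC F) = (a : HC F)) :
    Tendsto a F (𝓝 (stHom F g)) :=
  tendsto_stFun F hg

end Groth.ZetaAn
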