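import Groth.Agent.ZetaAn.PtsMorphisms
import Groth.Agent.ZetaAn.GermBounded
import Mathlib.AlgebraicGeometry.ValuativeCriterion
import Mathlib.Topology.Maps.Proper.Basic

/-! Proper morphisms give proper maps of complex points, via an ultrapower valuation ring. -/

set_option autoImplicit false
set_option linter.style.haveILetI false

open CategoryTheory AlgebraicGeometry Topology TopologicalSpace Limits Filter

namespace Groth.ZetaAn

open An

section val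

variable {X Y : Scheme.{0}} {R : CommRingCat.{0}}

/-- The value of sections on an open through which a morphism from a spectrum factors. -/
noncomputable def valHom (s : Spec R ⟶ X) (W : X.Opens) (h : (⊤ : (Spec R).Opens) ≤ s ⁻¹ᵁ W) :
    Γ(X, W) ⟶ R :=
  s.appLE W ⊤ h ≫ (Scheme.ΓSpecIso R).hom

lemma valHom_res (s : Spec R ⟶ X) {W W' : X.Opens} (i : W ⟶ W')
    (h : (⊤ : (Spec R).Opens) ≤ s ⁻¹ᵁ W) (h' : (⊤ : (Spec R).Opens) ≤ s ⁻¹ᵁ W') :
    X.presheaf.map i.op ≫ valHom s W h = valHom s W' h' := by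
  rw [valHom, valHom, ← Category.assoc, Scheme.Hom.map_appLE]

lemma SpecMap_valHom (s : Spec R ⟶ X) {W : X.Opens} (hW : IsAffineOpen W)
    (h : (⊤ : (Spec R).Opens) ≤ s ⁻¹ᵁ W) :
    Spec.map (valHom s W h) ≫ hW.fromSpec = s := by
  rw [valHom, Spec.map_comp, Category.assoc,
    IsAffineOpen.SpecMap_appLE_fromSpec s hW (isAffineOpen_top (Spec R)) h, IsAffineOpen.fromSpec_top,
    Scheme.isoSpec_Spec_inv, ← Spec.map_comp_assoc]
  simp

lemma valHom_fromSpec {W : X.Opens} (hW : IsAffineOpen W) (φ : Γ(X, W) ⟶ R)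
    (h : (⊤ : (Spec R).Opens) ≤ (Spec.map φ ≫ hW.fromSpec) ⁻¹ᵁ W) :
    valHom (Spec.map φ ≫ hW.fromSpec) W h = φ :=
  Spec.map_injective ((cancel_mono hW.fromSpec).1 (SpecMap_valHom _ hW h))

lemma valHom_comp (s : Spec R ⟶ X) (f : X ⟶ Y) (W : Y.Opens) (U : X.Opens) (e : U ≤ f ⁻¹ᵁ W)
    (h : (⊤ : (Spec R).Opens) ≤ s ⁻¹ᵁ U) (h' : (⊤ : (Spec R).Opens) ≤ (s ≫ f) ⁻¹ᵁ W) :
    valHom (s ≫ f) W h' = f.appLE W U e ≫ valHom s U h := by
  rw [valHom, valHom, ← Category.assoc, Scheme.Hom.appLE_comp_appLE]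

lemma valHom_specMap {R' : CommRingCat.{0}} (φ : R ⟶ R') (s : Spec R' ⟶ X) (t : Spec R ⟶ X)
    (hst : Spec.map φ ≫ t = s) (W : X.Opens) (h : (⊤ : (Spec R).Opens) ≤ t ⁻¹ᵁ W)
    (h' : (⊤ : (Spec R').Opens) ≤ s ⁻¹ᵁ W) :
    valHom s W h' = valHom t W h ≫ φ := by
  subst hst
  have e : (⊤ : (Spec R').Opens) ≤ Spec.map φ ⁻¹ᵁ (⊤ : (Spec R).Opens) := le_rfl
  have h1 : (Spec.map φ).appLE ⊤ ⊤ e = (Spec.map φ).appTop := by
    simp [Scheme.Hom.appTop, Scheme.Hom.app_eq_appLE]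
  rw [valHom, valHom, Category.assoc, ← Scheme.ΓSpecIso_naturality, ← h1,
    ← Category.assoc (t.appLE W ⊤ h), Scheme.Hom.appLE_comp_appLE]

lemma mem_basicOpen_of_valHom_ne_zero {K : Type} [Field K] (s : Spec (CommRingCat.of K) ⟶ X)
    {U : X.Opens} (h : (⊤ : (Spec (CommRingCat.of K)).Opens) ≤ s ⁻¹ᵁ U) (f : Γ(X, U))
    (p : Spec (CommRingCat.of K)) :
    s p ∈ X.basicOpen f ↔ valHom s U h f ≠ 0 := by
  have key := Scheme.basicOpen_appLE s ⊤ U h f
  rw [top_inf_eq] at key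
  change p ∈ s ⁻¹ᵁ X.basicOpen f ↔ _
  rw [← key]
  obtain ⟨g, hg⟩ : ∃ g, (Scheme.ΓSpecIso (CommRingCat.of K)).inv g = s.appLE U ⊤ h f :=
    ⟨_, Iso.hom_inv_id_apply (Scheme.ΓSpecIso (CommRingCat.of K)) _⟩
  rw [valHom, CommRingCat.comp_apply, ← hg, basicOpen_eq_of_affine, Iso.inv_hom_id_apply]
  constructor
  · intro hm hg0
    exact hm (by rw [hg0]; exact zero_mem _)
  · intro hg0 hm
    exact p.isPrime.ne_top (Ideal.eq_top_of_isUnit_mem _ hm (Ne.isUnit hg0))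

end val

variable {X Y : Scheme.{0}} [X.Over An.SC] [Y.Over An.SC]

open Classical in
/-- Values of a section extended by zero. -/
noncomputable def evExt (U : X.Opens) (a : Γ(X, U)) (z : Pts X) : ℂ :=
  if h : z.pt ∈ U then z.ev U h a else 0

lemma evExt_of_mem {U : X.Opens} (a : Γ(X, U)) {z : Pts X} (h : z.pt ∈ U) :
    evExt U a z = z.ev U h a := by
  rw [evExt, dif_pos h]

/-- Germs of values along an ultrafilter concentrated on the points of `U`. -/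
noncomputable def evGerm (F : Ultrafilter (Pts X)) (U : X.Opens)
    (hU : ∀ᶠ z in (F : Filter (Pts X)), z.pt ∈ U) : Γ(X, U) →+* HC F where
  toFun a := (evExt U a : HC F)
  map_one' := Germ.coe_eq.2 (hU.mono fun z hz => by
    rw [evExt_of_mem _ hz, ← evHom_apply, map_one])
  map_zero' := Germ.coe_eq.2 (hU.mono fun z hz => by
    rw [evExt_of_mem _ hz, ← evHom_apply, map_zero])
  map_mul' a b := by
    rw [← Germ.coe_mul]
    exact Germ.coe_eq.2 (hU.mono fun z hz => by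
      rw [Pi.mul_apply, evExt_of_mem _ hz, evExt_of_mem _ hz, evExt_of_mem _ hz]
      exact map_mul (evHom z U hz) a b)
  map_add' a b := by
    rw [← Germ.coe_add]
    exact Germ.coe_eq.2 (hU.mono fun z hz => by
      rw [Pi.add_apply, evExt_of_mem _ hz, evExt_of_mem _ hz, evExt_of_mem _ hz]
      exact map_add (evHom z U hz) a b)

lemma tendsto_evExt {F : Filter (Pts Y)} {y : Pts Y} (hF : F ≤ 𝓝 y) {V : Y.Opens}
    (hy : y.pt ∈ V) (b : Γ(Y, V)) : Tendsto (evExt V b) F (𝓝 (y.ev V hy b)) := by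
  refine tendsto_nhds.2 fun O hO hyO => ?_
  have h1 : Pts.basicSet V b O ∈ F :=
    hF ((Pts.isOpen_basicSet V b hO).mem_nhds ⟨hy, hyO⟩)
  filter_upwards [h1] with z ⟨hz, hzO⟩
  rw [Set.mem_preimage, evExt_of_mem _ hz]
  exact hzO

lemma map_ev (g : X ⟶ Y) [g.IsOver SC] (z : Pts X) (U : X.Opens) (V : Y.Opens) (e : U ≤ g ⁻¹ᵁ V)
    (hz : z.pt ∈ U) (hV : (Pts.map g z).pt ∈ V) (b : Γ(Y, V)) :
    z.ev U hz (g.appLE V U e b) = (Pts.map g z).ev V hV b := by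
  simp only [Scheme.Hom.appLE, CommRingCat.comp_apply]
  rw [ev_res', Pts.ev_map]

theorem isProperMap_pts [LocallyOfFiniteType (X ↘ SC)] [LocallyOfFiniteType (Y ↘ SC)]
    (f : X ⟶ Y) [f.IsOver SC] [UniversallyClosed f] : IsProperMap (Pts.map f) := by
  refine isProperMap_iff_ultrafilter.2 ⟨Pts.continuous_map f, fun F y hFy => ?_⟩
  obtain ⟨_, ⟨V', hV, rfl⟩, hyV, -⟩ :=
    (Y.isBasis_affineOpens).exists_subset_of_mem_open (Set.mem_univ y.pt) isOpen_univ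
  let V : Y.Opens := V'
  replace hV : IsAffineOpen V := hV
  replace hyV : y.pt ∈ V := hyV
  -- an affine open of `X` containing almost all points
  have hfV : ∀ᶠ z in (F : Filter (Pts X)), z.pt ∈ f ⁻¹ᵁ V := by
    have h1 : ∀ᶠ w in 𝓝 y, w.pt ∈ V := (Pts.isOpen_preimage_pt V).mem_nhds hyV
    filter_upwards [hFy.eventually h1] with z hz
    rw [Pts.pt_map] at hz
    exact hz
  have hcpt : IsCompact ((f ⁻¹ᵁ V : X.Opens) : Set X) := f.isCompact_preimage hV.isCompact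
  obtain ⟨U, hU, hUV, hFU⟩ : ∃ U : X.Opens, IsAffineOpen U ∧ U ≤ f ⁻¹ᵁ V ∧
      ∀ᶠ z in (F : Filter (Pts X)), z.pt ∈ U := by
    obtain ⟨s, hs, hcov⟩ : ∃ s : Set X.Opens, s.Finite ∧
        ∀ p ∈ f ⁻¹ᵁ V, ∃ U ∈ s, IsAffineOpen U ∧ U ≤ f ⁻¹ᵁ V ∧ p ∈ U := by
      have hb : ∀ p : (f ⁻¹ᵁ V : X.Opens), ∃ U : X.Opens, IsAffineOpen U ∧ U ≤ f ⁻¹ᵁ V ∧ p.1 ∈ U := by
        intro p
        obtain ⟨_, ⟨U, hU, rfl⟩, hpU, hUV⟩ :=
          (X.isBasis_affineOpens).exists_subset_of_mem_open p.2 (f ⁻¹ᵁ V).2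
        exact ⟨U, hU, hUV, hpU⟩
      choose W hW hWV hpW using hb
      obtain ⟨t, ht⟩ := hcpt.elim_finite_subcover (fun p => ((W p : X.Opens) : Set X))
        (fun p => (W p).2) (fun p hp => Set.mem_iUnion.2 ⟨⟨p, hp⟩, hpW _⟩)
      refine ⟨W '' t, t.finite_toSet.image W, fun p hp => ?_⟩
      obtain ⟨i, hit, hpi⟩ := Set.mem_iUnion₂.1 (ht hp)
      exact ⟨W i, ⟨i, hit, rfl⟩, hW i, hWV i, hpi⟩
    have h2 : (⋃ U ∈ s, {z : Pts X | IsAffineOpen U ∧ U ≤ f ⁻¹ᵁ V ∧ z.pt ∈ U}) ∈ F :=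
      mem_of_superset hfV fun z hz => by
        obtain ⟨U, hUs, h⟩ := hcov z.pt hz
        exact Set.mem_iUnion₂.2 ⟨U, hUs, h⟩
    obtain ⟨U, -, hUF⟩ := (Ultrafilter.finite_biUnion_mem_iff hs).1 h2
    obtain ⟨z, hz⟩ := F.nonempty_of_mem hUF
    exact ⟨U, hz.1, hz.2.1, mem_of_superset hUF fun w hw => hw.2.2⟩
  -- the valuative square
  let φ : Γ(X, U) ⟶ CommRingCat.of (HC F) := CommRingCat.ofHom (evGerm F U hFU)
  have hmem : ∀ b : Γ(Y, V), ((evGerm F U hFU) (f.appLE V U hUV b) =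
      ((fun z => evExt V b (Pts.map f z)) : Pts X → ℂ)) ∧
      Tendsto (fun z => evExt V b (Pts.map f z)) F (𝓝 (y.ev V hyV b)) := by
    intro b
    refine ⟨Germ.coe_eq.2 (hFU.mono fun z hz => ?_),
      (tendsto_evExt (F := Filter.map (Pts.map f) F) hFy hyV b).comp tendsto_map⟩
    have hzV : (Pts.map f z).pt ∈ V := by rw [Pts.pt_map]; exact hUV hz
    beta_reduce
    rw [evExt_of_mem _ hz, evExt_of_mem _ hzV]
    exact map_ev f z U V hUV hz hzV b
  let ψ₀ : Γ(Y, V) →+* boundedGerms F :=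
    ((evGerm F U hFU).comp (f.appLE V U hUV).hom).codRestrict _ fun b => by
      rw [mem_boundedGerms, RingHom.comp_apply, (hmem b).1]
      exact bddGerm_of_tendsto F (hmem b).2
  let O := boundedGerms F
  let i₁ : Spec (CommRingCat.of (HC F)) ⟶ X := Spec.map φ ≫ hU.fromSpec
  let i₂ : Spec (CommRingCat.of O) ⟶ Y := Spec.map (CommRingCat.ofHom ψ₀) ≫ hV.fromSpec
  have hsq : CommSq i₁ (Spec.map (CommRingCat.ofHom (algebraMap O (HC F)))) f i₂ := ⟨by
    simp only [i₁, i₂]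
    rw [Category.assoc, ← IsAffineOpen.SpecMap_appLE_fromSpec f hV hU hUV, ← Spec.map_comp_assoc,
      ← Spec.map_comp_assoc]
    rfl⟩
  have hval := (UniversallyClosed.eq_valuativeCriterion.le _ _ f (inferInstance : UniversallyClosed f)).1
  obtain ⟨⟨⟨σ, hσ₁', hσ₂'⟩⟩⟩ := hval ⟨O, HC F, i₁, i₂, hsq⟩
  have hσ₁ : Spec.map (CommRingCat.ofHom (algebraMap O (HC F))) ≫ σ = i₁ := hσ₁'
  have hσ₂ : σ ≫ f = i₂ := hσ₂'
  let stO : CommRingCat.of O ⟶ CommRingCat.of ℂ := CommRingCat.ofHom (stHom F)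
  have hy1 : y.1 = Spec.map stO ≫ i₂ := by
    rw [← SpecMap_valHom y.1 hV (Pts.top_le_preimage y hyV)]
    simp only [i₂]
    rw [← Spec.map_comp_assoc]
    congr 2
    ext b
    exact (stHom_eq F (g := ψ₀ b) (hmem b).1 (hmem b).2).symm
  have hxover : (Spec.map stO ≫ σ) ≫ (X ↘ SC) = 𝟙 _ := by
    rw [← comp_over f (S := SC), Category.assoc, ← Category.assoc σ, hσ₂, ← Category.assoc,
      ← hy1, y.2]
  let x : Pts X := ⟨Spec.map stO ≫ σ, hxover⟩
  have hfx : Pts.map f x = y := Subtype.ext (by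
    change (Spec.map stO ≫ σ) ≫ f = y.1
    rw [Category.assoc, hσ₂, hy1])
  refine ⟨x, hfx, ?_⟩
  -- an affine neighbourhood of the limit
  obtain ⟨_, ⟨U₁, hU₁, rfl⟩, hxU₁, -⟩ := (X.isBasis_affineOpens).exists_subset_of_mem_open
    (Set.mem_univ (σ (IsLocalRing.closedPoint O))) isOpen_univ
  let U' : X.Opens := U₁
  replace hU₁ : IsAffineOpen U' := hU₁
  have hσtop : (⊤ : (Spec (CommRingCat.of O)).Opens) ≤ σ ⁻¹ᵁ U' := fun p _ =>
    (IsLocalRing.specializes_closedPoint p).mem_open (σ ⁻¹ᵁ U').2 hxU₁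
  have hxU' : x.pt ∈ U' := hσtop (Opens.mem_top (Spec.map stO cpt))
  let gp : Spec (CommRingCat.of (HC F)) := IsLocalRing.closedPoint (HC F)
  have hgpU' : i₁ gp ∈ U' := by
    rw [← hσ₁, Scheme.Hom.comp_apply]
    exact hσtop (Opens.mem_top _)
  have hgpU : i₁ gp ∈ U := by
    rw [← SetLike.mem_coe, ← hU.range_fromSpec]
    exact ⟨_, rfl⟩
  obtain ⟨g, g', hgg, hgpD⟩ := exists_basicOpen_le_affine_inter hU hU₁ (i₁ gp) ⟨hgpU, hgpU'⟩
  have htopU : (⊤ : (Spec (CommRingCat.of (HC F))).Opens) ≤ i₁ ⁻¹ᵁ U := fun p _ => by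
    change i₁ p ∈ U
    rw [Subsingleton.elim p gp]
    exact hgpU
  have htopU' : (⊤ : (Spec (CommRingCat.of (HC F))).Opens) ≤ i₁ ⁻¹ᵁ U' := fun p _ => by
    change i₁ p ∈ U'
    rw [Subsingleton.elim p gp]
    exact hgpU'
  have htopD : (⊤ : (Spec (CommRingCat.of (HC F))).Opens) ≤ i₁ ⁻¹ᵁ X.basicOpen g := fun p _ => by
    change i₁ p ∈ X.basicOpen g
    rw [Subsingleton.elim p gp]
    exact hgpD
  have hDU' : X.basicOpen g ≤ U' := hgg.le.trans (X.basicOpen_le g')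
  have hFD : ∀ᶠ z in (F : Filter (Pts X)), z.pt ∈ X.basicOpen g := by
    have h0 := (mem_basicOpen_of_valHom_ne_zero i₁ htopU g gp).1 hgpD
    rw [valHom_fromSpec hU φ] at h0
    have h1 : ∀ᶠ z in (F : Filter (Pts X)), evExt U g z ≠ 0 :=
      (Ultrafilter.eventually_not.2 fun hz => h0 (Germ.coe_eq.2 hz))
    filter_upwards [h1, hFU] with z hz hzU
    rw [evExt_of_mem _ hzU] at hz
    exact (mem_basicOpen_iff z hzU g).2 hz
  have hFU' : ∀ᶠ z in (F : Filter (Pts X)), z.pt ∈ U' := hFD.mono fun z hz => hDU' hz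
  -- both maps agree on `D(g)`
  have hD : valHom i₁ (X.basicOpen g) htopD = CommRingCat.ofHom (evGerm F _ hFD) := by
    letI : Algebra Γ(X, U) Γ(X, X.basicOpen g) :=
      (X.presheaf.map (homOfLE (X.basicOpen_le g)).op).hom.toAlgebra
    haveI : IsLocalization.Away g Γ(X, X.basicOpen g) := hU.isLocalization_basicOpen g
    ext1
    refine IsLocalization.ringHom_ext (Submonoid.powers g) (RingHom.ext fun a => ?_)
    have h1 := congrArg (fun m : Γ(X, U) ⟶ CommRingCat.of (HC F) => m a)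
      (valHom_res i₁ (homOfLE (X.basicOpen_le g)) htopD htopU)
    rw [valHom_fromSpec hU φ] at h1
    refine h1.trans (Germ.coe_eq.2 (hFD.mono fun z hz => ?_))
    change evExt U a z = evExt _ (X.presheaf.map (homOfLE (X.basicOpen_le g)).op a) z
    rw [evExt_of_mem _ hz, evExt_of_mem _ (X.basicOpen_le g hz), ev_res']
  have hkey : ∀ a : Γ(X, U'),
      Tendsto (evExt U' a) (F : Filter (Pts X)) (𝓝 (x.ev U' hxU' a)) := by
    intro a
    have h1 : ((valHom σ U' hσtop a : O) : HC F) = evGerm F U' hFU' a := by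
      have e1 := congrArg (fun m : Γ(X, U') ⟶ CommRingCat.of (HC F) => m a)
        (valHom_specMap (CommRingCat.ofHom (algebraMap O (HC F))) i₁ σ hσ₁ U' hσtop htopU')
      have e2 := congrArg (fun m : Γ(X, U') ⟶ CommRingCat.of (HC F) => m a)
        (valHom_res i₁ (homOfLE hDU') htopD htopU')
      rw [hD] at e2
      refine e1.symm.trans (e2.symm.trans (Germ.coe_eq.2 (hFD.mono fun z hz => ?_)))
      change evExt _ (X.presheaf.map (homOfLE hDU').op a) z = evExt U' a z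
      rw [evExt_of_mem _ hz, evExt_of_mem _ (hDU' hz), ev_res']
    have h2 : x.ev U' hxU' a = stHom F (valHom σ U' hσtop a) :=
      congrArg (fun m : Γ(X, U') ⟶ CommRingCat.of ℂ => m a)
        (valHom_specMap stO x.1 σ rfl U' hσtop (Pts.top_le_preimage x hxU'))
    rw [h2]
    exact tendsto_stHom F h1
  -- conclude through the coordinates of `U'`
  haveI : IsAffine (U' : Scheme.{0}) := hU₁
  letI := opensOver U'
  haveI : (U'.ι).IsOver SC := ⟨rfl⟩
  have he := isOpenEmbedding_map U'.ι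
  have hrange : ∀ z : Pts X, z.pt ∈ U' → z ∈ Set.range (Pts.map U'.ι) := fun z hz => by
    rw [range_map_of_isOpenImmersion]
    exact (Scheme.Opens.range_ι U').symm ▸ hz
  obtain ⟨x', hx'⟩ := hrange x hxU'
  have hF' : Filter.map (Pts.map U'.ι) (Filter.comap (Pts.map U'.ι) F) = (F : Filter (Pts X)) :=
    Filter.map_comap_of_mem (mem_of_superset hFU' hrange)
  rw [← hF', ← hx', ← he.map_nhds_eq]
  refine Filter.map_mono ?_
  rw [isInducing_evTop.nhds_eq_comap, ← Filter.map_le_iff_le_comap]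
  refine tendsto_pi_nhds.2 fun a => ?_
  set W : X.Opens := U'.ι ''ᵁ ⊤
  set b₀ : Γ(X, W) := (U'.ι.appIso ⊤).inv a
  have hW : U' = W := (Scheme.Opens.ι_image_top U').symm
  set b : Γ(X, U') := X.presheaf.map (eqToHom hW).op b₀
  have hzU : ∀ z' : Pts (U' : Scheme.{0}), (Pts.map U'.ι z').pt ∈ U' := fun z' => by
    rw [Pts.pt_map]; exact z'.pt.2
  have hrel : ∀ z' : Pts (U' : Scheme.{0}),
      z'.evTop a = (Pts.map U'.ι z').ev U' (hzU z') b := by
    intro z'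
    rw [ev_res', Pts.ev_map U'.ι z' W ((eqToHom hW).le (hzU z')) b₀]
    have hmap : U'.ι.app (U'.ι ''ᵁ ⊤) b₀ =
        (U' : Scheme.{0}).presheaf.map (eqToHom (U'.ι.preimage_image_eq ⊤)).op a :=
      congrArg (fun m : Γ((U' : Scheme.{0}), ⊤) ⟶ Γ((U' : Scheme.{0}), U'.ι ⁻¹ᵁ U'.ι ''ᵁ ⊤) => m a)
        (U'.ι.appIso_inv_app ⊤)
    rw [hmap]
    exact (ev_res' z' (eqToHom (U'.ι.preimage_image_eq ⊤)) _ a).symm
  have hlim := ((hkey b).comp (tendsto_comap (f := Pts.map U'.ι))).congr fun z' => by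
    rw [Function.comp_apply, evExt_of_mem _ (hzU z'), ← hrel]
  refine hlim.mono_right (le_of_eq ?_)
  rw [hrel]
  congr 1
  simp only [hx']

end Groth.ZetaAn
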