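import Groth.Agent.ZetaAn.SimpleRoots
import Groth.Agent.ZetaAn.PtsProperMap
import Groth.Prelude.Def_AnEps
import Mathlib.AlgebraicGeometry.Morphisms.Etale
import Mathlib.RingTheory.Unramified.LocalStructure

/-! Etale morphisms give local homeomorphisms of complex points. -/

set_option autoImplicit false
set_option linter.style.haveILetI false

open CategoryTheory AlgebraicGeometry Topology TopologicalSpace Limits Filter

namespace Groth.ZetaAn

open An

variable {X Y : Scheme.{0}} [X.Over An.SC] [Y.Over An.SC]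

lemma pts_ext_of_ev {U : X.Opens} (hU : IsAffineOpen U) {x y : Pts X} (hx : x.pt ∈ U) (hy : y.pt ∈ U)
    (h : ∀ a, x.ev U hx a = y.ev U hy a) : x = y := by
  apply Subtype.ext
  rw [← SpecMap_valHom x.1 hU (Pts.top_le_preimage x hx),
    ← SpecMap_valHom y.1 hU (Pts.top_le_preimage y hy)]
  congr 2
  exact CommRingCat.hom_ext (RingHom.ext h)

/-- A character of an affine open over a complex point of the target is a complex point. -/
lemma exists_pts_of_hom (g : X ⟶ Y) [g.IsOver SC] {W : Y.Opens} (hW : IsAffineOpen W)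
    {U : X.Opens} (hU : IsAffineOpen U) (e : U ≤ g ⁻¹ᵁ W) (y : Pts Y) (hy : y.pt ∈ W)
    (φ : Γ(X, U) →+* ℂ) (hφ : φ.comp (g.appLE W U e).hom = evHom y W hy) :
    ∃ (x : Pts X) (hx : x.pt ∈ U), Pts.map g x = y ∧ ∀ a, x.ev U hx a = φ a := by
  let s : SC ⟶ X := Spec.map (CommRingCat.ofHom φ) ≫ hU.fromSpec
  have hsg : s ≫ g = y.1 := by
    rw [← SpecMap_valHom y.1 hW (Pts.top_le_preimage y hy)]
    simp only [s]
    rw [Category.assoc, ← IsAffineOpen.SpecMap_appLE_fromSpec g hW hU e, ← Spec.map_comp_assoc]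
    congr 2
    exact CommRingCat.hom_ext hφ
  let x : Pts X := ⟨s, by rw [← comp_over g (S := SC), ← Category.assoc, hsg, y.2]⟩
  have hx : x.pt ∈ U := by
    change s cpt ∈ U
    rw [← SetLike.mem_coe, ← hU.range_fromSpec]
    exact ⟨_, (Scheme.Hom.comp_apply _ _ _).symm⟩
  refine ⟨x, hx, Subtype.ext hsg, fun a => ?_⟩
  exact congrArg (fun m : Γ(X, U) ⟶ CommRingCat.of ℂ => m a)
    (valHom_fromSpec hU (CommRingCat.ofHom φ) (Pts.top_le_preimage x hx))

/-- The complex topology on the points of an affine open is that of the values of its functions. -/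
lemma isInducing_ev {U : X.Opens} (hU : IsAffineOpen U) :
    IsInducing (fun (x : {x : Pts X // x.pt ∈ U}) (a : Γ(X, U)) => x.1.ev U x.2 a) := by
  haveI : IsAffine (U : Scheme.{0}) := hU
  letI := opensOver U
  haveI : (U.ι).IsOver SC := ⟨rfl⟩
  have he := isOpenEmbedding_map U.ι
  have hrange : Set.range (Pts.map U.ι) = {x : Pts X | x.pt ∈ U} := by
    rw [range_map_of_isOpenImmersion, Scheme.Opens.range_ι]
    rfl
  let e : Pts (U : Scheme.{0}) ≃ₜ {x : Pts X // x.pt ∈ U} :=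
    he.isEmbedding.toHomeomorph.trans (Homeomorph.setCongr hrange)
  have hmem : ∀ z : Pts (U : Scheme.{0}), (Pts.map U.ι z).pt ∈ U := fun z => (e z).2
  let W : X.Opens := U.ι ''ᵁ ⊤
  have hWU : U = W := (Scheme.Opens.ι_image_top U).symm
  let T : Γ((U : Scheme.{0}), ⊤) → Γ(X, U) := fun a =>
    X.presheaf.map (eqToHom hWU).op ((U.ι.appIso ⊤).inv a)
  have hrel : ∀ (z : Pts (U : Scheme.{0})) a,
      z.evTop a = (Pts.map U.ι z).ev U (hmem z) (T a) := by
    intro z a
    rw [ev_res', Pts.ev_map U.ι z W ((eqToHom hWU).le (hmem z)) _]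
    have hmap : U.ι.app (U.ι ''ᵁ ⊤) ((U.ι.appIso ⊤).inv a) =
        (U : Scheme.{0}).presheaf.map (eqToHom (U.ι.preimage_image_eq ⊤)).op a :=
      congrArg (fun m : Γ((U : Scheme.{0}), ⊤) ⟶ Γ((U : Scheme.{0}), U.ι ⁻¹ᵁ U.ι ''ᵁ ⊤) => m a)
        (U.ι.appIso_inv_app ⊤)
    rw [hmap]
    exact (ev_res' z (eqToHom (U.ι.preimage_image_eq ⊤)) _ a).symm
  have h1 : IsInducing ((fun (v : Γ(X, U) → ℂ) (a : Γ((U : Scheme.{0}), ⊤)) => v (T a)) ∘
      fun x : {x : Pts X // x.pt ∈ U} => fun a => x.1.ev U x.2 a) := by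
    have h0 : IsInducing ((fun (z : Pts (U : Scheme.{0})) a => z.evTop a) ∘ e.symm) :=
      isInducing_evTop.comp e.symm.isInducing
    convert h0 using 1
    funext x a
    obtain ⟨z, rfl⟩ := e.surjective x
    simp only [Function.comp_apply, e.symm_apply_apply]
    exact (hrel z a).symm
  exact IsInducing.of_comp (continuous_pi fun a => continuous_ev U a)
    (continuous_pi fun a => continuous_apply _) h1

open Polynomial in
/-- On a standard etale chart the map of complex points is a local homeomorphism. -/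
lemma isLocalHomeomorph_standard (g : X ⟶ Y) [g.IsOver SC] {W : Y.Opens} (hW : IsAffineOpen W)
    {U : X.Opens} (hU : IsAffineOpen U) (e : U ≤ g ⁻¹ᵁ W)
    (hst : @Algebra.IsStandardEtale Γ(Y, W) Γ(X, U) _ _ (g.appLE W U e).hom.toAlgebra) :
    IsLocalHomeomorph fun x : {x : Pts X // x.pt ∈ U} => Pts.map g x.1 := by
  letI := (g.appLE W U e).hom.toAlgebra
  obtain ⟨P⟩ := hst.nonempty_standardEtalePresentation
  let ev : {y : Pts Y // y.pt ∈ W} → Γ(Y, W) →+* ℂ := fun y => evHom y.1 W y.2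
  have hev : ∀ r, Continuous fun y => ev y r := fun r => continuous_ev W r
  have hder : ∀ b t, P.f.eval₂ (ev b) t = 0 → P.g.eval₂ (ev b) t ≠ 0 →
      (derivative P.f).eval₂ (ev b) t ≠ 0 := by
    intro b t hf hg h0
    obtain ⟨p₁, p₂, n, hn⟩ := P.cond
    have := congrArg (Polynomial.eval₂ (ev b) t) hn
    rw [eval₂_add, eval₂_mul, eval₂_mul, h0, hf, zero_mul, zero_mul, zero_add, eval₂_pow] at this
    exact pow_ne_zero _ hg this.symm
  have hπ := isLocalHomeomorph_roots ev hev P.f P.g P.monic_f hder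
  let Z := {z : {y : Pts Y // y.pt ∈ W} × ℂ //
    P.f.eval₂ (ev z.1) z.2 = 0 ∧ P.g.eval₂ (ev z.1) z.2 ≠ 0}
  have hgW : ∀ x : {x : Pts X // x.pt ∈ U}, (Pts.map g x.1).pt ∈ W := fun x => by
    rw [Pts.pt_map]; exact e x.2
  have hcomp : ∀ (x : {x : Pts X // x.pt ∈ U}) (p : Polynomial Γ(Y, W)),
      x.1.ev U x.2 (aeval P.x p) = p.eval₂ (ev ⟨_, hgW x⟩) (x.1.ev U x.2 P.x) := by
    intro x p
    change evHom x.1 U x.2 (aeval P.x p) = _
    rw [aeval_def, hom_eval₂]
    congr 1
    refine RingHom.ext fun r => ?_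
    exact map_ev g x.1 U W e x.2 (hgW x) r
  let F : {x : Pts X // x.pt ∈ U} → Z := fun x =>
    ⟨(⟨_, hgW x⟩, x.1.ev U x.2 P.x), by
      refine ⟨?_, ?_⟩
      · rw [← hcomp, P.hasMap.1]
        exact map_zero (evHom x.1 U x.2)
      · rw [← hcomp]
        exact (P.hasMap.2.map (evHom x.1 U x.2)).ne_zero⟩
  have hFc : Continuous F := by
    refine Continuous.subtype_mk (Continuous.prodMk ?_ (continuous_ev U P.x)) _
    exact ((Pts.continuous_map g).comp continuous_subtype_val).subtype_mk _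
  have hFi : IsInducing F := by
    let G : Z → (Γ(X, U) → ℂ) := fun z a =>
      (P.exists_mul_aeval_x_g_pow_eq_aeval_x a).choose.eval₂ (ev z.1.1) z.1.2 /
        P.g.eval₂ (ev z.1.1) z.1.2 ^ (P.exists_mul_aeval_x_g_pow_eq_aeval_x a).choose_spec.choose
    have hG : Continuous G := continuous_pi fun a =>
      ((continuous_eval₂_pair ev hev _).comp continuous_subtype_val).div₀
        (((continuous_eval₂_pair ev hev _).comp continuous_subtype_val).pow _)
        fun z => pow_ne_zero _ z.2.2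
    have hGF : G ∘ F = fun x a => x.1.ev U x.2 a := by
      funext x a
      have h := (P.exists_mul_aeval_x_g_pow_eq_aeval_x a).choose_spec.choose_spec
      have h' := congrArg (evHom x.1 U x.2) h
      rw [map_mul, map_pow, evHom_apply, evHom_apply, evHom_apply, hcomp, hcomp] at h'
      simp only [Function.comp_apply, G, F]
      rw [div_eq_iff (pow_ne_zero _ (by rw [← hcomp]; exact (P.hasMap.2.map (evHom x.1 U x.2)).ne_zero))]
      exact h'.symm
    exact IsInducing.of_comp hFc hG (hGF ▸ isInducing_ev hU)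
  have hFbij : Function.Bijective F := by
    constructor
    · intro x x' h
      have h1 : Pts.map g x.1 = Pts.map g x'.1 :=
        congrArg (fun z : Z => z.1.1.1) h
      have h2 : x.1.ev U x.2 P.x = x'.1.ev U x'.2 P.x := congrArg (fun z : Z => z.1.2) h
      refine Subtype.ext (pts_ext_of_ev hU x.2 x'.2 fun a => ?_)
      letI := (evHom (Pts.map g x.1) W (hgW x)).toAlgebra
      let f₁ : Γ(X, U) →ₐ[Γ(Y, W)] ℂ :=
        { evHom x.1 U x.2 with commutes' := fun r => map_ev g x.1 U W e x.2 (hgW x) r }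
      let f₂ : Γ(X, U) →ₐ[Γ(Y, W)] ℂ :=
        { evHom x'.1 U x'.2 with
          commutes' := fun r => (map_ev g x'.1 U W e x'.2 (hgW x') r).trans (by
            change (Pts.map g x'.1).ev W (hgW x') r = (Pts.map g x.1).ev W (hgW x) r
            simp only [h1]) }
      exact AlgHom.congr_fun (P.hom_ext (f₁ := f₁) (f₂ := f₂) h2) a
    · rintro ⟨⟨y, t⟩, hf, hg⟩
      letI := (evHom y.1 W y.2).toAlgebra
      have hm : P.HasMap t := ⟨hf, Ne.isUnit hg⟩
      let φ : Γ(X, U) →ₐ[Γ(Y, W)] ℂ := (P.P.lift t hm).comp P.equivRing.toAlgHom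
      obtain ⟨x, hx, hxy, hxφ⟩ := exists_pts_of_hom g hW hU e y.1 y.2 φ.toRingHom
        (RingHom.ext fun r => φ.commutes r)
      refine ⟨⟨x, hx⟩, Subtype.ext (Prod.ext (Subtype.ext hxy) ?_)⟩
      refine (hxφ P.x).trans ?_
      simp [φ]
  have hF : IsHomeomorph F :=
    isHomeomorph_iff_isEmbedding_surjective.2 ⟨⟨hFi, hFbij.1⟩, hFbij.2⟩
  exact ((W.2.preimage Pts.continuous_pt).isOpenEmbedding_subtypeVal.isLocalHomeomorph.comp hπ).comp
    hF.homeomorph.isLocalHomeomorph

theorem etaleLH : An.EtaleLH := by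
  intro X Y _ _ _ g _ _
  rw [isLocalHomeomorph_iff_isOpenEmbedding_restrict]
  intro x
  obtain ⟨_, ⟨W', hW, rfl⟩, hxW, -⟩ :=
    (Y.isBasis_affineOpens).exists_subset_of_mem_open (Set.mem_univ (g x.pt)) isOpen_univ
  let W : Y.Opens := W'
  replace hW : IsAffineOpen W := hW
  obtain ⟨_, ⟨U', hU, rfl⟩, hxU, hUW⟩ := (X.isBasis_affineOpens).exists_subset_of_mem_open
    (show x.pt ∈ (g ⁻¹ᵁ W : Set X) from hxW) (g ⁻¹ᵁ W).2
  let U : X.Opens := U'
  replace hU : IsAffineOpen U := hU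
  letI : Algebra Γ(Y, W) Γ(X, U) := (g.appLE W U hUW).hom.toAlgebra
  haveI : Algebra.Etale Γ(Y, W) Γ(X, U) := by
    have := HasRingHomProperty.appLE (P := @Etale) g inferInstance ⟨W, hW⟩ ⟨U, hU⟩ hUW
    exact RingHom.etale_algebraMap.1 this
  let Q : Ideal Γ(X, U) := RingHom.ker (evHom x U hxU)
  haveI : Q.IsPrime := RingHom.ker_isPrime _
  obtain ⟨f, hfQ, hst⟩ := Algebra.IsEtaleAt.exists_isStandardEtale (R := Γ(Y, W)) Q
  let D : X.Opens := X.basicOpen f
  have hD : IsAffineOpen D := hU.basicOpen f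
  have hxD : x.pt ∈ D := (mem_basicOpen_iff x hxU f).2 hfQ
  letI : Algebra Γ(X, U) Γ(X, D) := (X.presheaf.map (homOfLE (X.basicOpen_le f)).op).hom.toAlgebra
  haveI : IsLocalization.Away f Γ(X, D) := hU.isLocalization_basicOpen f
  have e : D ≤ g ⁻¹ᵁ W := (X.basicOpen_le f).trans hUW
  letI : Algebra Γ(Y, W) Γ(X, D) := (g.appLE W D e).hom.toAlgebra
  haveI : IsScalarTower Γ(Y, W) Γ(X, U) Γ(X, D) := IsScalarTower.of_algebraMap_eq fun r =>
    (congrArg (fun m : Γ(Y, W) ⟶ Γ(X, D) => m r)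
      (g.appLE_map hUW (homOfLE (X.basicOpen_le f)).op)).symm
  haveI := hst
  have hst' : Algebra.IsStandardEtale Γ(Y, W) Γ(X, D) := Algebra.IsStandardEtale.of_equiv
    ((IsLocalization.algEquiv (Submonoid.powers f) (Localization.Away f) Γ(X, D)).restrictScalars
      Γ(Y, W))
  obtain ⟨N, hN, hemb⟩ := isLocalHomeomorph_iff_isOpenEmbedding_restrict.1
    (isLocalHomeomorph_standard g hW hD e hst') ⟨x, hxD⟩
  have hop : IsOpenEmbedding (Subtype.val : {z : Pts X // z.pt ∈ D} → Pts X) :=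
    (Pts.isOpen_preimage_pt D).isOpenEmbedding_subtypeVal
  obtain ⟨O, hON, hO, hxO⟩ := mem_nhds_iff.1 hN
  refine ⟨Subtype.val '' O, (hop.isOpenMap O hO).mem_nhds ⟨_, hxO, rfl⟩, ?_⟩
  have h1 : IsOpenEmbedding (O.domRestrict fun z : {z : Pts X // z.pt ∈ D} => Pts.map g z.1) := by
    have : IsOpenEmbedding (Set.inclusion hON) :=
      ⟨IsEmbedding.inclusion hON, by
        rw [Set.range_inclusion]
        exact hO.preimage continuous_subtype_val⟩
    exact hemb.comp this
  let k : (Subtype.val '' O : Set (Pts X)) ≃ₜ O := (hop.isEmbedding.homeomorphImage O).symm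
  have h2 : (Subtype.val '' O).domRestrict (Pts.map g) =
      (O.domRestrict fun z : {z : Pts X // z.pt ∈ D} => Pts.map g z.1) ∘ k := by
    funext w
    obtain ⟨v, rfl⟩ := k.symm.surjective w
    simp only [Function.comp_apply, k.apply_symm_apply]
    rfl
  rw [h2]
  exact h1.comp k.isOpenEmbedding

end Groth.ZetaAn
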