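import Groth.Agent.ZetaAn.PtsProperMap
import Groth.Agent.ZetaAn.UnivClosedTest
import Mathlib.AlgebraicGeometry.Morphisms.Proper
import Mathlib.AlgebraicGeometry.ZariskisMainTheorem

/-! Proper and finite morphisms read on complex points. -/

set_option autoImplicit false
set_option linter.style.haveILetI false

open CategoryTheory AlgebraicGeometry Topology TopologicalSpace Limits Filter

namespace Groth.ZetaAn

open An

/-- Proper maps are stable under base change. -/
lemma isProperMap_snd_subtype {A B C : Type*} [TopologicalSpace A] [TopologicalSpace B]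
    [TopologicalSpace C] {φ : A → C} {ψ : B → C} (hφ : IsProperMap φ) (hψ : Continuous ψ) :
    IsProperMap (fun q : {q : A × B // φ q.1 = ψ q.2} => q.1.2) := by
  refine isProperMap_iff_ultrafilter.2 ⟨by fun_prop, fun 𝒰 b hb => ?_⟩
  have h1 : Tendsto (fun q : {q : A × B // φ q.1 = ψ q.2} => φ q.1.1) 𝒰 (𝓝 (ψ b)) :=
    ((hψ.tendsto b).comp hb).congr fun q => q.2.symm
  obtain ⟨a, ha, hle⟩ := hφ.ultrafilter_le_nhds_of_tendsto
    (𝒰 := Ultrafilter.map (fun q : {q : A × B // φ q.1 = ψ q.2} => q.1.1) 𝒰) (y := ψ b)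
    (show Tendsto φ (Filter.map (fun q : {q : A × B // φ q.1 = ψ q.2} => q.1.1) 𝒰) (𝓝 (ψ b)) from
      tendsto_map'_iff.2 h1)
  refine ⟨⟨(a, b), ha⟩, rfl, ?_⟩
  rw [IsEmbedding.subtypeVal.isInducing.nhds_eq_comap, ← Filter.map_le_iff_le_comap, nhds_prod_eq]
  exact Filter.le_prod.2 ⟨hle, hb⟩

variable {X Y : Scheme.{0}} [X.Over An.SC] [Y.Over An.SC]

lemma map_image_preimage_pt [LocallyOfFiniteType (X ↘ SC)] [LocallyOfFiniteType (Y ↘ SC)]
    (f : X ⟶ Y) [f.IsOver SC] {Z : Set X} (hZ : IsLocallyClosed Z) :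
    Pts.map f '' (Pts.pt ⁻¹' Z) = (Pts.pt ⁻¹' (f '' Z) : Set (Pts Y)) := by
  refine Set.Subset.antisymm ?_ ?_
  · rintro _ ⟨x, hx, rfl⟩
    exact ⟨x.pt, hx, (Pts.pt_map f x).symm⟩
  · rintro y ⟨a, ha, hay⟩
    have := jacobsonSpace X
    obtain ⟨p, ⟨hpZ, hp⟩, hpc⟩ := nonempty_inter_closedPoints (Z := Z ∩ f.base ⁻¹' {y.pt})
      ⟨a, ha, hay⟩ (hZ.inter ((isClosed_pt y).preimage f.continuous).isLocallyClosed)
    obtain ⟨x, rfl⟩ := exists_pt_eq p hpc
    exact ⟨x, hpZ, pt_injective (by rw [Pts.pt_map]; exact hp)⟩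

lemma isClosedMap_of_pts [LocallyOfFiniteType (X ↘ SC)] [LocallyOfFiniteType (Y ↘ SC)]
    (f : X ⟶ Y) [f.IsOver SC] [QuasiCompact f] (h : IsClosedMap (Pts.map f)) :
    IsClosedMap f.base := by
  intro Z hZ
  haveI := isLocallyNoetherian X
  haveI := isLocallyNoetherian Y
  have := lft_of_over f
  have : LocallyOfFinitePresentation f := LocallyOfFinitePresentation.iff_locallyOfFiniteType.2 this
  have hc : IsLocallyConstructible (f '' Z) :=
    f.isLocallyConstructible_image (isLocallyConstructible_of_isLocallyClosed hZ.isLocallyClosed)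
  rw [← isOpen_compl_iff, isOpen_preimage_iff (isLocallyConstructible_compl hc), Set.preimage_compl,
    isOpen_compl_iff]
  rw [← map_image_preimage_pt f hZ.isLocallyClosed]
  exact h _ (hZ.preimage Pts.continuous_pt)

theorem universallyClosed_of_isProperMap [LocallyOfFiniteType (X ↘ SC)]
    [LocallyOfFiniteType (Y ↘ SC)] (f : X ⟶ Y) [f.IsOver SC] [QuasiCompact f]
    (h : IsProperMap (Pts.map f)) : UniversallyClosed f := by
  refine universallyClosed_of_lfp f fun T g hg => ?_
  letI : T.Over SC := ⟨g ≫ Y ↘ SC⟩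
  haveI : g.IsOver SC := ⟨rfl⟩
  haveI : LocallyOfFiniteType (T ↘ SC) := inferInstanceAs (LocallyOfFiniteType (g ≫ Y ↘ SC))
  haveI := lft_of_over f
  haveI : LocallyOfFiniteType ((pullback f g) ↘ SC) :=
    inferInstanceAs (LocallyOfFiniteType (pullback.fst f g ≫ X ↘ SC))
  refine isClosedMap_of_pts (pullback.snd f g) ?_
  exact ((isProperMap_snd_subtype h (Pts.continuous_map g)).comp
    (isHomeomorph_pullback f g).isProperMap).isClosedMap

theorem isProper_iff_pts [LocallyOfFiniteType (X ↘ SC)] [LocallyOfFiniteType (Y ↘ SC)]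
    (f : X ⟶ Y) [f.IsOver SC] [QuasiCompact f] :
    IsProper f ↔ IsProperMap (Pts.map f) ∧ IsSeparatedMap (Pts.map f) := by
  constructor
  · intro h
    exact ⟨isProperMap_pts f, (isSeparated_iff_pts f).1 inferInstance⟩
  · rintro ⟨h₁, h₂⟩
    haveI := (isSeparated_iff_pts f).2 h₂
    haveI := universallyClosed_of_isProperMap f h₁
    haveI := lft_of_over f
    exact {}

set_option backward.isDefEq.respectTransparency.types false in
theorem isFinite_iff_pts [LocallyOfFiniteType (X ↘ SC)] [LocallyOfFiniteType (Y ↘ SC)]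
    (f : X ⟶ Y) [f.IsOver SC] [QuasiCompact f] :
    IsFinite f ↔ IsProperMap (Pts.map f) ∧ IsSeparatedMap (Pts.map f) ∧
      ∀ y : Pts Y, (Pts.map f ⁻¹' {y}).Finite := by
  constructor
  · intro h
    obtain ⟨h1, h2⟩ := (isProper_iff_pts f).1 inferInstance
    refine ⟨h1, h2, fun y => ?_⟩
    refine ((f.finite_preimage_singleton y.pt).preimage pt_injective.injOn).subset ?_
    intro x hx
    change f x.pt = y.pt
    rw [← Pts.pt_map, show Pts.map f x = y from hx]
  · rintro ⟨h1, h2, h3⟩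
    haveI : IsProper f := (isProper_iff_pts f).2 ⟨h1, h2⟩
    have := jacobsonSpace X
    have := jacobsonSpace Y
    have key : ∀ y : Pts Y, ∃ V : Y.Opens, y.pt ∈ V ∧ IsFinite (f ∣_ V) := by
      intro y
      refine exists_isFinite_morphismRestrict_of_finite_preimage_singleton f y.pt ?_
      have hfin : (f.base ⁻¹' {y.pt} ∩ closedPoints X).Finite := by
        refine ((h3 y).image Pts.pt).subset ?_
        rintro p ⟨hp, hpc⟩
        obtain ⟨x, rfl⟩ := exists_pt_eq p hpc
        exact ⟨x, pt_injective (by rw [Pts.pt_map]; exact hp), rfl⟩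
      have hclosed : IsClosed (f.base ⁻¹' {y.pt} ∩ closedPoints X) := by
        rw [← Set.biUnion_of_singleton (f.base ⁻¹' {y.pt} ∩ closedPoints X)]
        exact hfin.isClosed_biUnion fun p hp => hp.2
      refine hfin.subset fun p hp => ?_
      by_contra hpn
      obtain ⟨q, hq, hqc⟩ := nonempty_inter_closedPoints
        (Z := f.base ⁻¹' {y.pt} ∩ (f.base ⁻¹' {y.pt} ∩ closedPoints X)ᶜ) ⟨p, hp, hpn⟩
        (((isClosed_pt y).preimage f.continuous).isLocallyClosed.inter
          hclosed.isOpen_compl.isLocallyClosed)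
      exact hq.2 ⟨hq.1, hqc⟩
    choose V hyV hV using key
    refine IsZariskiLocalAtTarget.of_iSup_eq_top (P := @IsFinite.{0}) V ?_ hV
    by_contra hne
    obtain ⟨q, hq, hqc⟩ := nonempty_inter_closedPoints (Z := ((iSup V : Y.Opens) : Set Y)ᶜ)
      (Set.nonempty_compl.2 fun h => hne (Opens.ext h)) (iSup V).2.isClosed_compl.isLocallyClosed
    obtain ⟨y, rfl⟩ := exists_pt_eq q hqc
    exact hq (Opens.mem_iSup.2 ⟨y, hyV y⟩)

end Groth.ZetaAn
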