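import Groth.Agent.ZetaAn.EtaleLH
import Groth.Agent.ZetaAn.PtsProper
import Mathlib.Topology.Covering.Basic

/-! Finite etale morphisms give covering maps of complex points. -/

set_option autoImplicit false
set_option linter.style.haveILetI false

open CategoryTheory AlgebraicGeometry Topology TopologicalSpace Limits Filter

namespace Groth.ZetaAn

open An

variable {X Y : Scheme.{0}} [X.Over An.SC] [Y.Over An.SC]

theorem isCoveringMap_of_finite_etale [LocallyOfFiniteType (X ↘ SC)] [LocallyOfFiniteType (Y ↘ SC)]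
    (f : X ⟶ Y) [f.IsOver SC] [IsFinite f] [Etale f] :
    IsCoveringMap (Pts.map f) ∧ ∀ y : Pts Y, (Pts.map f ⁻¹' {y}).Finite := by
  obtain ⟨hprop, hsep, hfin⟩ := (isFinite_iff_pts f).1 inferInstance
  refine ⟨?_, hfin⟩
  rw [isCoveringMap_iff_isCoveringMapOn_univ]
  intro y _
  obtain ⟨_, ⟨W', hW, rfl⟩, hyW, -⟩ :=
    (Y.isBasis_affineOpens).exists_subset_of_mem_open (Set.mem_univ y.pt) isOpen_univ
  let W : Y.Opens := W'
  replace hW : IsAffineOpen W := hW
  let S : Set (Pts Y) := {z | z.pt ∈ W}
  have hS : IsOpen S := Pts.isOpen_preimage_pt W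
  haveI : T2Space S :=
    (show IsEmbedding (fun (x : {x : Pts Y // x.pt ∈ W}) (a : Γ(Y, W)) => x.1.ev W x.2 a) from
      ⟨isInducing_ev hW, fun a b h => Subtype.ext (pts_ext_of_ev hW a.2 b.2 (congrFun h))⟩).t2Space
  let π : Pts.map f ⁻¹' S → S := S.restrictPreimage (Pts.map f)
  have hπc : Continuous π := (Pts.continuous_map f).restrictPreimage
  haveI : T2Space (Pts.map f ⁻¹' S) := by
    refine ⟨fun a b hab => ?_⟩
    by_cases h : π a = π b
    · obtain ⟨A, B, hA, hB, haA, hbB, hAB⟩ :=
        hsep a.1 b.1 (congrArg Subtype.val h) (fun e => hab (Subtype.ext e))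
      exact ⟨_, _, hA.preimage continuous_subtype_val, hB.preimage continuous_subtype_val, haA, hbB,
        hAB.preimage _⟩
    · obtain ⟨A, B, hA, hB, haA, hbB, hAB⟩ := t2_separation h
      exact ⟨_, _, hA.preimage hπc, hB.preimage hπc, haA, hbB, hAB.preimage _⟩
  have hcl : IsClosedMap π := hprop.isClosedMap.restrictPreimage S
  have hπlh : IsLocalHomeomorph π := by
    refine IsLocalHomeomorph.of_comp ?_ hS.isOpenEmbedding_subtypeVal.isLocalHomeomorph hπc
    exact (etaleLH X Y f).comp
      (hS.preimage (Pts.continuous_map f)).isOpenEmbedding_subtypeVal.isLocalHomeomorph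
  have hcov : IsCoveringMap π := by
    rw [isCoveringMap_iff_isCoveringMapOn_univ]
    refine hcl.isCoveringMapOn_of_isLocalHomeomorphOn (fun z _ => ?_) ?_
    · refine ((hfin z.1).preimage Subtype.val_injective.injOn).subset fun a ha => ?_
      exact congrArg Subtype.val (show π a = z from ha)
    · rw [Set.preimage_univ, ← isLocalHomeomorph_iff_isLocalHomeomorphOn_univ]
      exact hπlh
  have h := IsCoveringMapOn.of_isCoveringMap_restrictPreimage (f := Pts.map f) S hS
    (hS.preimage (Pts.continuous_map f)) hcov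
  exact h y hyW

end Groth.ZetaAn
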