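import Groth.Agent.ZetaAn.PtsConnected
import Groth.Agent.ZetaAn.PtsMorphisms
import Groth.Prelude.Def_AnEps
import Mathlib.AlgebraicGeometry.Morphisms.FlatMono
import Mathlib.AlgebraicGeometry.Morphisms.FormallyUnramified
import Mathlib.AlgebraicGeometry.Morphisms.IsIso
import Mathlib.Topology.SeparatedMap

/-! Complex points of etale schemes: full faithfulness. -/

set_option autoImplicit false
set_option linter.style.haveILetI false

open CategoryTheory AlgebraicGeometry Topology TopologicalSpace Limits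

namespace Groth.ZetaAn

open An

variable {X Y : Scheme.{0}} [X.Over An.SC] [Y.Over An.SC]

/-- Open and closed sets of complex points come from the scheme. -/
theorem exists_clopen_preimage [LocallyOfFiniteType (X ↘ SC)] {C : Set (Pts X)} (hC : IsClopen C) :
    ∃ T : Set X, IsClopen T ∧ Pts.pt ⁻¹' T = C := by
  set T : Set X := {p | ∀ z : Pts X, z.pt ∈ closure ({p} : Set X) → z ∈ C}
  have := jacobsonSpace X
  haveI := isLocallyNoetherian X
  have hne : ∀ p : X, ∃ z : Pts X, z.pt ∈ closure ({p} : Set X) := by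
    intro p
    obtain ⟨q, hq, hqc⟩ := nonempty_inter_closedPoints (Z := closure ({p} : Set X))
      ⟨p, subset_closure rfl⟩ isClosed_closure.isLocallyClosed
    obtain ⟨z, rfl⟩ := exists_pt_eq q hqc
    exact ⟨z, hq⟩
  have hstab : ∀ a b : X, a ⤳ b → (a ∈ T ↔ b ∈ T) := by
    intro a b hab
    have hsub : closure ({b} : Set X) ⊆ closure {a} := specializes_iff_closure_subset.1 hab
    refine ⟨fun ha z hz => ha z (hsub hz), fun hb z hz => ?_⟩
    obtain ⟨w, hw⟩ := hne b
    exact hC.connectedComponent_subset (hb w hw)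
      (mem_connectedComponent_of_mem_closure a w z (hsub hw) hz)
  have hclosed : ∀ T : Set X, (∀ a b, a ⤳ b → (a ∈ T ↔ b ∈ T)) → IsClosed T := by
    intro T hT
    rw [← isOpen_compl_iff, isOpen_iff_forall_mem_open]
    intro p hp
    obtain ⟨_, ⟨W', hW, rfl⟩, hpW, -⟩ :=
      (X.isBasis_affineOpens).exists_subset_of_mem_open (Set.mem_univ p) isOpen_univ
    let W : X.Opens := W'
    haveI : IsAffine (W : Scheme.{0}) := hW
    haveI : IsLocallyNoetherian (W : Scheme.{0}) := isLocallyNoetherian_of_isOpenImmersion W.ι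
    haveI : IsNoetherian (W : Scheme.{0}) := {}
    have hcl : IsClosed (W.ι ⁻¹' T) := isClosed_of_stable
      fun a b hab => hT _ _ (hab.map W.ι.continuous)
    refine ⟨W.ι '' (W.ι ⁻¹' T)ᶜ, ?_, W.ι.isOpenEmbedding.isOpenMap _ hcl.isOpen_compl,
      ⟨⟨p, hpW⟩, hp, rfl⟩⟩
    rintro _ ⟨a, ha, rfl⟩
    exact ha
  refine ⟨T, ⟨hclosed T hstab, isClosed_compl_iff.1
    (hclosed Tᶜ fun a b hab => not_congr (hstab a b hab))⟩, ?_⟩
  ext z
  refine ⟨fun hz => hz z (subset_closure rfl), fun hz w hw => ?_⟩
  rw [(isClosed_pt z).closure_eq] at hw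
  rwa [pt_injective hw]

omit [Y.Over An.SC] in
lemma eq_univ_of_isOpen [LocallyOfFiniteType (X ↘ SC)] {T : Set X} (hT : IsOpen T)
    (h : ∀ z : Pts X, z.pt ∈ T) : T = Set.univ := by
  have := jacobsonSpace X
  by_contra hne
  obtain ⟨q, hq, hqc⟩ := nonempty_inter_closedPoints (Z := Tᶜ)
    (Set.nonempty_compl.2 hne) hT.isClosed_compl.isLocallyClosed
  obtain ⟨z, rfl⟩ := exists_pt_eq q hqc
  exact hq (h z)

/-- An etale morphism bijective on complex points is an isomorphism. -/
theorem isIso_of_bijective [LocallyOfFiniteType (X ↘ SC)] [LocallyOfFiniteType (Y ↘ SC)]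
    (f : X ⟶ Y) [f.IsOver SC] [Etale f] (h : Function.Bijective (Pts.map f)) : IsIso f := by
  haveI := lft_pullback f
  haveI : IsIso (pullback.diagonal f) := by
    rw [isIso_iff_isOpenImmersion_and_surjective]
    refine ⟨inferInstance, ⟨Set.range_eq_univ.1 ?_⟩⟩
    refine eq_univ_of_isOpen (pullback.diagonal f).isOpenEmbedding.isOpen_range fun z => ?_
    change z ∈ (Pts.pt ⁻¹' Set.range (pullback.diagonal f).base : Set (Pts (pullback f f)))
    rw [preimage_range_diagonal]
    exact h.1 (Pts.map_pullback_condition f f z)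
  haveI : Mono f := (pullback.isIso_diagonal_iff f).1 inferInstance
  haveI := IsOpenImmersion.of_flat_of_mono f
  rw [isIso_iff_isOpenImmersion_and_surjective]
  refine ⟨inferInstance, ⟨Set.range_eq_univ.1 ?_⟩⟩
  refine eq_univ_of_isOpen f.isOpenEmbedding.isOpen_range fun z => ?_
  obtain ⟨x, rfl⟩ := h.2 z
  exact pt_mem_range_map f x

/-- Two morphisms to an unramified scheme agreeing on complex points are equal. -/
theorem hom_ext_of_pts {U V : Scheme.{0}} [U.Over SC] [V.Over SC]
    [LocallyOfFiniteType (U ↘ SC)] (p : V ⟶ X) [p.IsOver SC] [FormallyUnramified p]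
    [LocallyOfFiniteType p] (g g' : U ⟶ V) [g.IsOver SC] [g'.IsOver SC] (hp : g ≫ p = g' ≫ p)
    (h : ∀ x : Pts U, Pts.map g x = Pts.map g' x) : g = g' := by
  let l : U ⟶ pullback p p := pullback.lift g g' hp
  have hr : Set.range l.base ⊆ Set.range (pullback.diagonal p).base := by
    rintro _ ⟨u, rfl⟩
    have huniv := eq_univ_of_isOpen ((pullback.diagonal p).isOpenEmbedding.isOpen_range.preimage
      l.continuous) (X := U) fun z => by
        refine ⟨(Pts.map g z).pt, ?_⟩
        have hz : z.1 ≫ g ≫ pullback.diagonal p = z.1 ≫ l := by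
          apply pullback.hom_ext
          · rw [Category.assoc, Category.assoc, Category.assoc, pullback.diagonal_fst,
              Category.comp_id, pullback.lift_fst g g' hp]
          · rw [Category.assoc, Category.assoc, Category.assoc, pullback.diagonal_snd,
              Category.comp_id, pullback.lift_snd g g' hp]
            exact congrArg Subtype.val (h z)
        calc pullback.diagonal p (Pts.map g z).pt = (z.1 ≫ g ≫ pullback.diagonal p) cpt := by
              rw [Pts.pt_map, ← Scheme.Hom.comp_apply]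
              exact (Scheme.Hom.comp_apply z.1 _ cpt).symm
          _ = l z.pt := by rw [hz, Scheme.Hom.comp_apply]; rfl
    exact huniv.ge (Set.mem_univ u)
  have hl := IsOpenImmersion.lift_fac (pullback.diagonal p) l hr
  have h1 := congrArg (· ≫ pullback.fst p p) hl
  have h2 := congrArg (· ≫ pullback.snd p p) hl
  simp only [Category.assoc, pullback.diagonal_fst, pullback.diagonal_snd, l, pullback.lift_fst,
    pullback.lift_snd, Category.comp_id] at h1 h2
  exact h1.symm.trans h2

/-- A continuous map between complex points of etale schemes over `X`, into a separated one, comes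
from a morphism. -/
theorem exists_hom_of_pts [LocallyOfFiniteType (X ↘ SC)] [hLH : Fact An.EtaleLH]
    {U V : Scheme.{0}} [U.Over SC] [V.Over SC] (q : U ⟶ X) (p : V ⟶ X) [q.IsOver SC] [p.IsOver SC]
    [Etale q] [Etale p] [IsSeparated p] (φ : Pts U → Pts V) (hφ : Continuous φ)
    (hover : ∀ x, Pts.map p (φ x) = Pts.map q x) :
    ∃ (g : U ⟶ V), g ≫ p = q ∧ ∀ x, x.1 ≫ g = (φ x).1 := by
  haveI : LocallyOfFiniteType (U ↘ SC) := by rw [← comp_over q (S := SC)]; infer_instance
  haveI : LocallyOfFiniteType (V ↘ SC) := by rw [← comp_over p (S := SC)]; infer_instance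
  set Z := pullback q p
  haveI : LocallyOfFiniteType (Z ↘ SC) :=
    inferInstanceAs (LocallyOfFiniteType (pullback.fst q p ≫ U ↘ SC))
  set a : Pts Z → Pts U := Pts.map (pullback.fst q p)
  set b : Pts Z → Pts V := Pts.map (pullback.snd q p)
  have hh := isHomeomorph_pullback q p
  let e := hh.homeomorph _
  let sec : Pts U → Pts Z := fun x => e.symm ⟨(x, φ x), (hover x).symm⟩
  have hsc : Continuous sec :=
    e.symm.continuous.comp ((continuous_id.prodMk hφ).subtype_mk _)
  have hsec : ∀ x, a (sec x) = x ∧ b (sec x) = φ x := fun x => by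
    have h1 := congrArg Subtype.val (e.apply_symm_apply ⟨(x, φ x), (hover x).symm⟩)
    exact ⟨congrArg Prod.fst h1, congrArg Prod.snd h1⟩
  let C : Set (Pts Z) := {z | φ (a z) = b z}
  have hCrange : C = Set.range sec := by
    ext z
    constructor
    · intro hz
      refine ⟨a z, injective_pullback q p (Prod.ext (hsec _).1 ?_)⟩
      exact (hsec _).2.trans hz
    · rintro ⟨x, rfl⟩
      change φ (a (sec x)) = b (sec x)
      rw [(hsec x).1, (hsec x).2]
  have hclosed : IsClosed C :=
    ((isSeparated_iff_pts p).1 inferInstance).isClosed_eqLocus (hφ.comp (Pts.continuous_map _))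
      (Pts.continuous_map _) (funext fun z => (hover _).trans (Pts.map_pullback_condition q p z))
  have hopen : IsOpen C := by
    rw [hCrange, isOpen_iff_forall_mem_open]
    rintro _ ⟨x, rfl⟩
    obtain ⟨E, hx, hE⟩ := hLH.out Z U (pullback.fst q p) (sec x)
    refine ⟨E.source ∩ a ⁻¹' (sec ⁻¹' E.source), ?_,
      E.open_source.inter ((E.open_source.preimage hsc).preimage (Pts.continuous_map _)), hx, ?_⟩
    · rintro z ⟨hz, hz'⟩
      refine ⟨a z, E.injOn hz' hz ?_⟩
      rw [← hE]
      exact (hsec _).1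
    · change sec (a (sec x)) ∈ E.source
      rwa [(hsec x).1]
  obtain ⟨T, hT, hTC⟩ := exists_clopen_preimage ⟨hclosed, hopen⟩
  let O : Z.Opens := ⟨T, hT.isOpen⟩
  letI := opensOver O
  haveI : (O.ι).IsOver SC := ⟨rfl⟩
  haveI : LocallyOfFiniteType ((O : Scheme.{0}) ↘ SC) :=
    inferInstanceAs (LocallyOfFiniteType (O.ι ≫ Z ↘ SC))
  let π : (O : Scheme.{0}) ⟶ U := O.ι ≫ pullback.fst q p
  haveI : π.IsOver SC := ⟨by
    change (O.ι ≫ pullback.fst q p) ≫ U ↘ SC = O.ι ≫ pullback.fst q p ≫ U ↘ SC
    rw [Category.assoc]⟩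
  have hmem : ∀ x, sec x ∈ Set.range (Pts.map O.ι) := fun x => by
    rw [range_map_of_isOpenImmersion, Scheme.Opens.range_ι]
    change sec x ∈ Pts.pt ⁻¹' T
    rw [hTC, hCrange]
    exact ⟨x, rfl⟩
  have hmem' : ∀ w, Pts.map O.ι w ∈ C := fun w => by
    rw [← hTC, Set.mem_preimage, Pts.pt_map]
    exact (O.ι.mem_opensRange.2 ⟨_, rfl⟩ : O.ι w.pt ∈ O.ι.opensRange) |> fun h => by
      rwa [Scheme.Opens.opensRange_ι] at h
  have hbij : Function.Bijective (Pts.map π) := by
    constructor
    · intro w w' hww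
      have hw : a (Pts.map O.ι w) = a (Pts.map O.ι w') := by
        change Pts.map _ (Pts.map _ w) = Pts.map _ (Pts.map _ w')
        rw [← Pts.map_comp, ← Pts.map_comp]
        exact hww
      refine map_injective O.ι (injective_pullback q p (Prod.ext hw ?_))
      exact ((hmem' w).symm.trans (congrArg φ hw)).trans (hmem' w')
    · intro x
      obtain ⟨w, hw⟩ := hmem x
      refine ⟨w, ?_⟩
      rw [Pts.map_comp, hw]
      exact (hsec x).1
  haveI := isIso_of_bijective π hbij
  refine ⟨inv π ≫ O.ι ≫ pullback.snd q p, ?_, fun x => ?_⟩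
  · rw [Category.assoc, Category.assoc, ← pullback.condition, ← Category.assoc O.ι,
      IsIso.inv_hom_id_assoc]
  · obtain ⟨w, hw⟩ := hmem x
    have hx : w.1 ≫ π = x.1 := by
      have := (hsec x).1
      rw [← hw] at this
      simpa [a, π] using congrArg Subtype.val this
    rw [← hx, Category.assoc, IsIso.hom_inv_id_assoc]
    have := (hsec x).2
    rw [← hw] at this
    simpa [b] using congrArg Subtype.val this

theorem eps_fullFaithful (X : Scheme.{0}) [X.Over An.SC] [LocallyOfFiniteType (X ↘ An.SC)]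
    [Fact An.EtaleLH] :
    (∀ (U V : X.Etale) [IsSeparated (V.left ↘ X)],
        Function.Surjective ((An.eps X).map : (U ⟶ V) → ((An.eps X).obj U ⟶ (An.eps X).obj V))) ∧
      (An.eps X).Faithful := by
  constructor
  · intro U V _ φ
    obtain ⟨g, hg, hgφ⟩ := exists_hom_of_pts (U.left ↘ X) (V.left ↘ X) φ.toFun φ.continuous φ.over
    refine ⟨MorphismProperty.Over.homMk g hg, Cl.hom_ext (funext fun x => Subtype.ext ?_)⟩
    exact hgφ x
  · refine ⟨fun {U V} g g' h => ?_⟩
    apply MorphismProperty.Over.Hom.ext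
    haveI : LocallyOfFiniteType (U.left ↘ SC) :=
      inferInstanceAs (LocallyOfFiniteType ((U.left ↘ X) ≫ X ↘ SC))
    exact hom_ext_of_pts (V.left ↘ X) g.left g'.left
      ((Over.w g.hom).trans (Over.w g'.hom).symm)
      fun x => Subtype.ext (congrArg Subtype.val (congrFun (congrArg Cl.Hom.toFun h) x))

end Groth.ZetaAn
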