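import Groth.Agent.ZetaAn.EpsFlat
import Groth.Agent.ZetaAn.EtaleLH

/-! The comparison functor is a morphism of sites. -/

set_option autoImplicit false
set_option linter.style.haveILetI false

open CategoryTheory AlgebraicGeometry Topology TopologicalSpace Limits

namespace Groth.ZetaAn

open An

variable (X : Scheme.{0}) [X.Over An.SC] [LocallyOfFiniteType (X ↘ An.SC)] [Fact An.EtaleLH]

omit [Fact An.EtaleLH] in
set_option backward.isDefEq.respectTransparency.types false in
lemma lft_etale_left (U : X.Etale) : LocallyOfFiniteType (U.left ↘ An.SC) := by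
  haveI : Etale U.hom := U.prop
  show LocallyOfFiniteType (U.hom ≫ X ↘ SC)
  infer_instance

set_option backward.isDefEq.respectTransparency.types false in
lemma eps_coverPreserving :
    CoverPreserving X.smallEtaleTopology (Cl.topology (Pts X)) (eps X) where
  cover_preserve {U S} hS := by
    obtain ⟨𝒰, h𝒰, hp, hle⟩ := (Scheme.mem_smallGrothendieckTopology (P := @Etale) U S).1 hS
    intro (a : Pts U.left)
    obtain ⟨Y, f, hf, hEt, y, hy⟩ : ∃ (Y : X.Etale) (f : Y ⟶ U),
        S f ∧ Etale f.left ∧ ∃ y, f.left.base y = a.pt := by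
      obtain ⟨i, y, hy⟩ : ∃ i y, (𝒰.f i).base y = a.pt := ⟨_, 𝒰.covers a.pt⟩
      exact ⟨_, (𝒰.f i).asOverProp X, hle _ _ ⟨i⟩, 𝒰.map_prop i, y, hy⟩
    haveI := lft_etale_left X U
    haveI := lft_etale_left X Y
    have ha : a ∈ Set.range (Pts.map f.left) := by
      rw [range_map]
      exact ⟨y, hy⟩
    obtain ⟨c, hc⟩ := ha
    have hlh : IsLocalHomeomorph (Pts.map f.left) := etaleLH Y.left U.left f.left
    obtain ⟨e, hce, hef⟩ := hlh c
    let ι := Cl.restrictOpenι ((eps X).obj Y) e.source e.open_source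
    refine ⟨_, ι ≫ (eps X).map f, ⟨Y, f, ι, hf, rfl⟩, ?_, ⟨c, hce⟩, hc⟩
    have h := e.isOpenEmbedding_restrict
    rw [← hef] at h
    exact h

theorem epsCont : EpsCont X :=
  have := eps_flat X
  Functor.isContinuous_of_coverPreserving (compatiblePreservingOfFlat _ _) (eps_coverPreserving X)

end Groth.ZetaAn
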