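import Groth.Prelude.Def_AnCl
import Mathlib.CategoryTheory.Sites.DenseSubsite.SheafEquiv

/-!
The opens of a space form a dense subsite of the site of local homeomorphisms over it.
-/

universe u

open CategoryTheory TopologicalSpace Topology Opposite

namespace Groth.ZetaAn

open An

variable (T : Type u) [TopologicalSpace T]

lemma opensToCl_full : (opensToCl T).Full where
  map_surjective {U V} g := by
    refine ⟨homOfLE fun x hx => ?_, ?_⟩
    · have h : (g.toFun ⟨x, hx⟩).1 = x := g.over ⟨x, hx⟩
      rw [← h]; exact (g.toFun ⟨x, hx⟩).2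
    · ext a
      exact Subtype.ext (g.over a).symm

lemma opensToCl_faithful : (opensToCl T).Faithful where
  map_injective _ := Subsingleton.elim _ _

lemma opensToCl_coverDense : (opensToCl T).IsCoverDense (Cl.topology T) where
  is_cover A := by
    intro a
    obtain ⟨e, hae, hep⟩ := A.lh a
    let U : Opens T := ⟨e.target, e.open_target⟩
    let g : (opensToCl T).obj U ⟶ A :=
      ⟨fun t => e.symm t.1, e.continuousOn_symm.comp_continuous continuous_subtype_val (fun t => t.2),
        fun t => by
          show A.p (e.symm t.1) = t.1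
          rw [hep]
          exact e.right_inv t.2⟩
    refine ⟨(opensToCl T).obj U, g, ⟨⟨U, 𝟙 _, g, Category.id_comp _⟩⟩, ?_, ?_⟩
    · exact e.symm.isOpenEmbedding_restrict
    · exact ⟨⟨e a, e.map_source hae⟩, e.left_inv hae⟩

lemma opensToCl_mem_iff {U : Opens T} (S : Sieve U) :
    S.functorPushforward (opensToCl T) ∈ Cl.topology T ((opensToCl T).obj U) ↔
      S ∈ Opens.grothendieckTopology T U := by
  constructor
  · intro h x hx
    obtain ⟨B, g, ⟨V, f, k, hf, hk⟩, -, b, hb⟩ := h (⟨x, hx⟩ : U)
    refine ⟨V, f, hf, ?_⟩
    have h1 : ((k.toFun b).1 : T) = x := by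
      have := congrArg (fun m => (m.toFun b).1) hk
      simp only [Cl.comp_toFun, Function.comp_apply] at this
      rw [hb] at this
      exact this.symm
    rw [← h1]; exact (k.toFun b).2
  · intro h a
    obtain ⟨V, f, hf, hx⟩ := h a.1 a.2
    refine ⟨(opensToCl T).obj V, (opensToCl T).map f, ⟨V, f, 𝟙 _, hf, (Category.id_comp _).symm⟩,
      ?_, ⟨a.1, hx⟩, rfl⟩
    exact IsOpenEmbedding.of_comp (Set.inclusion f.le)
      U.2.isOpenEmbedding_subtypeVal V.2.isOpenEmbedding_subtypeVal

lemma opensToCl_denseSubsite :
    (opensToCl T).IsDenseSubsite (Opens.grothendieckTopology T) (Cl.topology T) where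
  isCoverDense' := opensToCl_coverDense T
  isLocallyFull' := have := opensToCl_full T; inferInstance
  isLocallyFaithful' := have := opensToCl_faithful T; inferInstance
  functorPushforward_mem_iff := opensToCl_mem_iff T _

lemma opCont : OpCont T :=
  have := opensToCl_denseSubsite T
  inferInstance

lemma resOpens_isEquivalence [OpCont T] : (resOpens T).IsEquivalence :=
  have := opensToCl_denseSubsite T
  inferInstance

end Groth.ZetaAn
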