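import Groth.Agent.EtaleBase.LocConst
import Groth.Agent.ZetaAn.EpsFF
import Groth.Agent.ZetaAn.EpsCont

/-! The unit of the comparison adjunction on locally constant sheaves is an isomorphism, and the
inverse image of a locally constant sheaf is locally constant. -/

set_option autoImplicit false
set_option linter.style.haveILetI false
set_option backward.isDefEq.respectTransparency.types false
set_option linter.unusedSectionVars false

open CategoryTheory AlgebraicGeometry Topology TopologicalSpace Limits Opposite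

namespace Groth.ZetaAn.EpsUnit

open An

section cl

variable {T : Type} [TopologicalSpace T]

/-- Sheaf condition on underlying sets. -/
lemma isSheaf_forget (G : Cl.Ab T) :
    Presieve.IsSheaf (Cl.topology T) (G.obj ⋙ forget AddCommGrpCat.{1}) :=
  (isSheaf_iff_isSheaf_of_type _ _).1
    ((sheafCompose (Cl.topology T) (forget AddCommGrpCat.{1})).obj G).2

/-- Sections of a sheaf on the classical site agreeing near every point are equal. -/
lemma eq_of_locally (G : Cl.Ab T) {A : Cl T} (g g' : G.obj.obj (op A))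
    (h : ∀ a : A.E, ∃ (B : Cl T) (f : B ⟶ A), IsOpenEmbedding f.toFun ∧ a ∈ Set.range f.toFun ∧
      G.obj.map f.op g = G.obj.map f.op g') : g = g' := by
  let R : Sieve A :=
    { arrows := fun B f => G.obj.map f.op g = G.obj.map f.op g'
      downward_closed := fun {B C f} hf k => by
        simp only [op_comp, Functor.map_comp_apply, hf] }
  have hR : R ∈ Cl.topology T A := fun a => by
    obtain ⟨B, f, hf, ha, he⟩ := h a
    exact ⟨B, f, he, hf, ha⟩
  exact ((isSheaf_forget G).isSeparated _ hR).ext fun B f hf => hf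

end cl

variable {X : Scheme.{0}} [X.Over An.SC] [LocallyOfFiniteType (X ↘ An.SC)] [Fact An.EtaleLH]

/-- An etale morphism lifts complex points locally on the classical site. -/
lemma exists_local_lift {U V : X.Etale} (k : V ⟶ U) {A : Cl (Pts X)} (m : A ⟶ (eps X).obj U)
    (a : A.E) (v : ((eps X).obj V).E) (hv : ((eps X).map k).toFun v = m.toFun a) :
    ∃ (B : Cl (Pts X)) (f : B ⟶ A) (b : B.E) (m' : B ⟶ (eps X).obj V),
      IsOpenEmbedding f.toFun ∧ f.toFun b = a ∧ m' ≫ (eps X).map k = f ≫ m ∧ m'.toFun b = v := by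
  haveI : Etale U.hom := U.prop
  haveI : Etale V.hom := V.prop
  haveI : Etale (k.left ≫ U.hom) := by rw [Over.w k.hom]; infer_instance
  haveI : Etale k.left := Etale.of_comp k.left U.hom
  haveI := lft_etale_left X U
  have hlh : IsLocalHomeomorph (Pts.map k.left) :=
    (Fact.out : EtaleLH) V.left U.left k.left
  obtain ⟨e, hve, hek⟩ := hlh v
  let ι := Cl.restrictOpenι ((eps X).obj V) e.source e.open_source
  have hι : IsOpenEmbedding (ι ≫ (eps X).map k).toFun := by
    have h := e.isOpenEmbedding_restrict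
    rw [← hek] at h
    exact h
  have hl := Cl.liftThrough_comp m (ι ≫ (eps X).map k) hι
  have ha : a ∈ m.toFun ⁻¹' Set.range (ι ≫ (eps X).map k).toFun := ⟨⟨v, hve⟩, hv⟩
  refine ⟨_, Cl.restrictOpenι A _ ((hι.isOpen_range).preimage m.continuous), ⟨a, ha⟩,
    Cl.liftThrough m (ι ≫ (eps X).map k) hι ≫ ι,
    (hι.isOpen_range.preimage m.continuous).isOpenEmbedding_subtypeVal, rfl,
    (Category.assoc _ _ _).trans hl, ?_⟩
  have h1 := congrFun (congrArg Cl.Hom.toFun hl) ⟨a, ha⟩
  have h2 := hι.injective (a₁ := (Cl.liftThrough m _ hι).toFun ⟨a, ha⟩) (a₂ := ⟨v, hve⟩)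
    (h1.trans hv.symm)
  exact congrArg Subtype.val h2

/-- Two maps to complex points of etale schemes factor through a product. -/
lemma exists_prod_lift {U U' : X.Etale} {A : Cl (Pts X)} (m : A ⟶ (eps X).obj U)
    (m' : A ⟶ (eps X).obj U') :
    ∃ (P : X.Etale) (p : P ⟶ U) (q : P ⟶ U') (n : A ⟶ (eps X).obj P),
      n ≫ (eps X).map p = m ∧ n ≫ (eps X).map q = m' := by
  have hp := IsPullback.of_hasPullback ((EtCore.topIsTerminal X).from U)
    ((EtCore.topIsTerminal X).from U')
  have hq := eps_map_isPullback X hp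
  have hT : IsTerminal ((eps X).obj (EtCoh.top X)) :=
    (Cl.selfIsTerminal (Pts X)).ofIso (epsTopIso X).symm
  exact ⟨_, _, _, hq.lift m m' (hT.hom_ext _ _), hq.lift_fst _ _ _, hq.lift_snd _ _ _⟩

variable [An.EpsCont X] (F : EtCoh.Ab X)

/-- The unit on sections. -/
noncomputable def ev (U : X.Etale) :
    F.obj.obj (op U) →+ ((epsPull X).obj F).obj.obj (op ((eps X).obj U)) :=
  (((epsAdj X).unit.app F).hom.app (op U)).hom

lemma ev_naturality {U V : X.Etale} (k : V ⟶ U) (s : F.obj.obj (op U)) :
    ev F V (F.obj.map k.op s) = ((epsPull X).obj F).obj.map ((eps X).map k).op (ev F U s) :=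
  NatTrans.naturality_apply ((epsAdj X).unit.app F).hom k.op s

/-- Being locally the image of a section along the comparison functor. -/
def IsImg {A : Cl (Pts X)} (g : ((epsPull X).obj F).obj.obj (op A)) : Prop :=
  ∀ a : A.E, ∃ (B : Cl (Pts X)) (f : B ⟶ A) (U : X.Etale) (m : B ⟶ (eps X).obj U)
    (s : F.obj.obj (op U)), IsOpenEmbedding f.toFun ∧ a ∈ Set.range f.toFun ∧
      ((epsPull X).obj F).obj.map f.op g = ((epsPull X).obj F).obj.map m.op (ev F U s)

lemma isImg_zero (A : Cl (Pts X)) : IsImg F (A := A) 0 := fun a =>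
  ⟨A, 𝟙 A, EtCoh.top X, (Cl.selfIsTerminal (Pts X)).from A ≫ (epsTopIso X).inv, 0,
    IsOpenEmbedding.id, ⟨a, rfl⟩, by simp⟩

lemma isImg_neg {A : Cl (Pts X)} {g : ((epsPull X).obj F).obj.obj (op A)} (h : IsImg F g) :
    IsImg F (-g) := fun a => by
  obtain ⟨B, f, U, m, s, hf, ha, he⟩ := h a
  exact ⟨B, f, U, m, -s, hf, ha, by rw [map_neg, map_neg, map_neg, he]⟩

lemma isImg_add {A : Cl (Pts X)} {g g' : ((epsPull X).obj F).obj.obj (op A)} (h : IsImg F g)
    (h' : IsImg F g') : IsImg F (g + g') := fun a => by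
  obtain ⟨B, f, U, m, s, hf, ⟨b, hb⟩, he⟩ := h a
  obtain ⟨B', f', U', m', s', hf', ⟨b', hb'⟩, he'⟩ := h' a
  let ι := Cl.restrictOpenι B _ ((hf'.isOpen_range).preimage f.continuous)
  let l := Cl.liftThrough f f' hf'
  have hl : l ≫ f' = ι ≫ f := Cl.liftThrough_comp f f' hf'
  obtain ⟨P, p, q, n, hp, hq⟩ := exists_prod_lift (ι ≫ m) (l ≫ m')
  refine ⟨_, ι ≫ f, P, n, F.obj.map p.op s + F.obj.map q.op s',
    hf.comp ((hf'.isOpen_range).preimage f.continuous).isOpenEmbedding_subtypeVal,
    ⟨⟨b, ⟨b', hb'.trans hb.symm⟩⟩, hb⟩, ?_⟩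
  rw [map_add, map_add, map_add, ev_naturality, ev_naturality]
  simp only [← Functor.map_comp_apply, ← op_comp, hp, hq]
  congr 1
  · simp only [op_comp, Functor.map_comp_apply, he]
  · rw [← hl]
    simp only [op_comp, Functor.map_comp_apply, he']

lemma isImg_map {A A' : Cl (Pts X)} (k : A' ⟶ A) {g : ((epsPull X).obj F).obj.obj (op A)}
    (h : IsImg F g) : IsImg F (((epsPull X).obj F).obj.map k.op g) := fun a => by
  obtain ⟨B, f, U, m, s, hf, ⟨b, hb⟩, he⟩ := h (k.toFun a)
  refine ⟨_, Cl.restrictOpenι A' _ ((hf.isOpen_range).preimage k.continuous), U,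
    Cl.liftThrough k f hf ≫ m, s,
    ((hf.isOpen_range).preimage k.continuous).isOpenEmbedding_subtypeVal, ⟨⟨a, ⟨b, hb⟩⟩, rfl⟩, ?_⟩
  rw [← Functor.map_comp_apply, ← op_comp, ← Cl.liftThrough_comp k f hf]
  simp only [op_comp, Functor.map_comp_apply, he]

lemma isImg_ev (U : X.Etale) (s : F.obj.obj (op U)) : IsImg F (ev F U s) := fun a =>
  ⟨_, 𝟙 _, U, 𝟙 _, s, IsOpenEmbedding.id, ⟨a, rfl⟩, rfl⟩

/-- The subgroup of sections locally in the image. -/
def imgSub (A : Cl (Pts X)) : AddSubgroup (((epsPull X).obj F).obj.obj (op A)) where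
  carrier := {g | IsImg F g}
  zero_mem' := isImg_zero F A
  add_mem' := isImg_add F
  neg_mem' := isImg_neg F

/-- The subpresheaf of sections locally in the image. -/
noncomputable def imgPre : (Cl (Pts X))ᵒᵖ ⥤ AddCommGrpCat.{1} where
  obj A := AddCommGrpCat.of (imgSub F A.unop)
  map {A A'} k := AddCommGrpCat.ofHom
    (AddMonoidHom.mk' (fun g : imgSub F A.unop =>
      (⟨((epsPull X).obj F).obj.map k g.1, isImg_map F k.unop g.2⟩ : imgSub F A'.unop))
      fun g g' => Subtype.ext (map_add _ _ _))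
  map_id A := by
    ext g
    exact ConcreteCategory.congr_hom (((epsPull X).obj F).obj.map_id A) g.1
  map_comp {A A' A''} k k' := by
    ext g
    exact ConcreteCategory.congr_hom (((epsPull X).obj F).obj.map_comp k k') g.1

lemma imgPre_isSheaf : Presheaf.IsSheaf (Cl.topology (Pts X)) (imgPre F) := by
  rw [Presheaf.isSheaf_iff_isSheaf_forget _ _ (forget AddCommGrpCat.{1}),
    isSheaf_iff_isSheaf_of_type]
  intro A R hR x hx
  let y : Presieve.FamilyOfElements (((epsPull X).obj F).obj ⋙ forget AddCommGrpCat.{1}) R.arrows :=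
    fun B f hf => (x f hf).1
  have hy : y.Compatible := fun B₁ B₂ B f₁ f₂ g₁ g₂ h₁ h₂ e =>
    congrArg Subtype.val (hx f₁ f₂ h₁ h₂ e)
  obtain ⟨g, hg, hu⟩ := isSheaf_forget ((epsPull X).obj F) R hR y hy
  have himg : IsImg F (A := A) g := fun a => by
    obtain ⟨B, f, hf, hfo, b, hb⟩ := hR a
    obtain ⟨C, k, U, m, s, hk, ⟨c, hc⟩, he⟩ := (x f hf).2 b
    refine ⟨C, k ≫ f, U, m, s, hfo.comp hk, ⟨c, (congrArg f.toFun hc).trans hb⟩, ?_⟩
    rw [op_comp, Functor.map_comp_apply]
    exact (congrArg _ (hg f hf)).trans he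
  refine ⟨⟨g, himg⟩, fun B f hf => Subtype.ext (hg f hf), fun g' hg' => Subtype.ext ?_⟩
  exact hu g'.1 fun B f hf => congrArg Subtype.val (hg' f hf)

/-- Every section of the inverse image is locally the image of a section. -/
theorem isImg_all {A : Cl (Pts X)} (g : ((epsPull X).obj F).obj.obj (op A)) : IsImg F g := by
  let S : Cl.Ab (Pts X) := ⟨imgPre F, imgPre_isSheaf F⟩
  let i : S ⟶ (epsPull X).obj F :=
    ⟨{ app := fun A => AddCommGrpCat.ofHom (imgSub F A.unop).subtype
       naturality := fun A A' k => rfl }⟩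
  let η' : F ⟶ (epsPush X).obj S :=
    ⟨{ app := fun U => AddCommGrpCat.ofHom ((ev F U.unop).codRestrict _ (isImg_ev F U.unop))
       naturality := fun U V k => by
         ext s
         exact Subtype.ext (ev_naturality F k.unop s) }⟩
  let r := ((epsAdj X).homEquiv _ _).symm η'
  have hr : r ≫ i = 𝟙 _ := by
    apply ((epsAdj X).homEquiv _ _).injective
    rw [Adjunction.homEquiv_naturality_right, Equiv.apply_symm_apply, Adjunction.homEquiv_id]
    rfl
  have hg : i.hom.app (op A) (r.hom.app (op A) g) = g :=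
    ConcreteCategory.congr_hom (NatTrans.congr_app (congrArg (fun φ => φ.hom) hr) (op A)) g
  rw [← hg]
  exact (r.hom.app (op A) g).2

/-- The group receiving all germs at complex points. -/
abbrev Germs : Type 1 := ∀ t : Pts X, (EtCoh.stalk t.1).obj F

/-- A complex point of an etale scheme as a lift of the point below. -/
noncomputable def lift {U : X.Etale} (u : ((eps X).obj U).E) (t : Pts X)
    (h : ((eps X).obj U).p u = t) : (Scheme.pointSmallEtale t.1).fiber.obj U :=
  Over.homMk u.1 (congrArg Subtype.val h)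

open scoped Classical in
/-- The germs of a section at a complex point. -/
noncomputable def germK (U : X.Etale) (u : ((eps X).obj U).E) : F.obj.obj (op U) →+ Germs F :=
  AddMonoidHom.mk' (fun s t => if h : ((eps X).obj U).p u = t then
      Groth.EtaleBase.germ t.1 F U (lift u t h) s else 0) fun s s' => by
    funext t
    simp only [Pi.add_apply]
    split_ifs with h
    · exact map_add _ _ _
    · exact (add_zero _).symm

open scoped Classical in
lemma germK_apply_self (U : X.Etale) (u : ((eps X).obj U).E) (s : F.obj.obj (op U)) (t : Pts X)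
    (h : ((eps X).obj U).p u = t) :
    germK F U u s t = Groth.EtaleBase.germ t.1 F U (lift u t h) s := by
  simp [germK, h]

lemma germK_res {U V : X.Etale} (k : V ⟶ U) (v : ((eps X).obj V).E) (s : F.obj.obj (op U)) :
    germK F V v (F.obj.map k.op s) = germK F U (((eps X).map k).toFun v) s := by
  classical
  funext t
  have hp : ((eps X).obj U).p (((eps X).map k).toFun v) = ((eps X).obj V).p v :=
    ((eps X).map k).over v
  by_cases h : ((eps X).obj V).p v = t
  · rw [germK_apply_self F V v _ t h, germK_apply_self F U _ _ t (hp.trans h),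
      Groth.EtaleBase.LocConst.germ_res]
    rfl
  · have h' : ¬ ((eps X).obj U).p (((eps X).map k).toFun v) = t := fun e => h (hp.symm.trans e)
    simp [germK, h, h']

/-- The sheaf of all functions with values in the germs. -/
noncomputable def funPre : (Cl (Pts X))ᵒᵖ ⥤ AddCommGrpCat.{1} where
  obj A := AddCommGrpCat.of (A.unop.E → Germs F)
  map k := AddCommGrpCat.ofHom (AddMonoidHom.mk' (fun g a => g (k.unop.toFun a)) fun _ _ => rfl)
  map_id _ := rfl
  map_comp _ _ := rfl

lemma funPre_isSheaf : Presheaf.IsSheaf (Cl.topology (Pts X)) (funPre F) := by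
  rw [Presheaf.isSheaf_iff_isSheaf_forget _ _ (forget AddCommGrpCat.{1}),
    isSheaf_iff_isSheaf_of_type]
  intro A R hR x hx
  choose B h hh hho b hb using hR
  refine ⟨fun a => (x (h a) (hh a)) (b a), fun C f hf => funext fun c => ?_, fun g hg => funext fun a => ?_⟩
  · have e := hx (Cl.liftThrough f (h (f.toFun c)) (hho _))
      (Cl.restrictOpenι C _ ((hho (f.toFun c)).isOpen_range.preimage f.continuous))
      (hh (f.toFun c)) hf (Cl.liftThrough_comp _ _ _)
    have hw : (⟨c, ⟨b (f.toFun c), hb (f.toFun c)⟩⟩ :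
        {w : C.E // f.toFun w ∈ Set.range (h (f.toFun c)).toFun}).1 = c := rfl
    have e' := congrFun e ⟨c, ⟨b (f.toFun c), hb (f.toFun c)⟩⟩
    have hl : (Cl.liftThrough f (h (f.toFun c)) (hho _)).toFun
        ⟨c, ⟨b (f.toFun c), hb (f.toFun c)⟩⟩ = b (f.toFun c) := by
      apply (hho (f.toFun c)).injective
      exact (congrFun (congrArg Cl.Hom.toFun (Cl.liftThrough_comp f (h (f.toFun c)) (hho _))) _).trans
        (hb (f.toFun c)).symm
    exact ((congrArg (x (h _) (hh _)) hl).symm.trans e')
  · exact (congrArg g (hb a)).symm.trans (congrFun (hg (h a) (hh a)) (b a))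

/-- The sheaf of functions with values in the germs. -/
noncomputable def funSheaf : Cl.Ab (Pts X) := ⟨funPre F, funPre_isSheaf F⟩

/-- Germs, as a morphism to the direct image of the sheaf of functions. -/
noncomputable def germHom : F ⟶ (epsPush X).obj (funSheaf F) :=
  ⟨{ app := fun U => AddCommGrpCat.ofHom
       (AddMonoidHom.mk' (fun s u => germK F U.unop u s) fun s s' => funext fun u => map_add _ _ _)
     naturality := fun U V k => by
       ext s
       exact funext fun v => germK_res F k.unop v s }⟩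

/-- Evaluation of sections of the inverse image at points. -/
noncomputable def val : (epsPull X).obj F ⟶ funSheaf F :=
  ((epsAdj X).homEquiv _ _).symm (germHom F)

/-- The value of a section at a point. -/
noncomputable def valAt {A : Cl (Pts X)} (g : ((epsPull X).obj F).obj.obj (op A)) (a : A.E) : Germs F :=
  (show A.E → Germs F from (val F).hom.app (op A) g) a

lemma valAt_map {A A' : Cl (Pts X)} (k : A' ⟶ A) (g : ((epsPull X).obj F).obj.obj (op A)) (a : A'.E) :
    valAt F (((epsPull X).obj F).obj.map k.op g) a = valAt F g (k.toFun a) :=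
  congrFun (NatTrans.naturality_apply (val F).hom k.op g) a

lemma valAt_ev (U : X.Etale) (s : F.obj.obj (op U)) (u : ((eps X).obj U).E) :
    valAt F (ev F U s) u = germK F U u s := by
  have h : (epsAdj X).unit.app F ≫ (epsPush X).map (val F) = germHom F := by
    exact ((epsAdj X).homEquiv_unit F (funSheaf F) (val F)).symm.trans (Equiv.apply_symm_apply _ _)
  exact congrFun (ConcreteCategory.congr_hom
    (NatTrans.congr_app (congrArg (fun φ => φ.hom) h) (op U)) s) u

/-- A section with all germs zero at a point vanishes near it. -/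
lemma exists_nhd_of_germK {U : X.Etale} (u : ((eps X).obj U).E) {s : F.obj.obj (op U)}
    (h : germK F U u s = 0) :
    ∃ (W : X.Etale) (k : W ⟶ U) (w : ((eps X).obj W).E),
      ((eps X).map k).toFun w = u ∧ F.obj.map k.op s = 0 := by
  have h0 := congrFun h (((eps X).obj U).p u)
  rw [germK_apply_self F U u s _ rfl] at h0
  obtain ⟨W, k, w, hw, he⟩ := (Groth.EtaleBase.germ_eq_zero_iff _ F U _ s).1 h0
  have hc : w.left ≫ k.left = u.1 := congrArg CommaMorphism.left hw
  refine ⟨W, k, ⟨w.left, ?_⟩, Subtype.ext hc, he⟩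
  change w.left ≫ W.hom ≫ X ↘ SC = 𝟙 SC
  rw [← Category.assoc, show w.left ≫ W.hom = (((eps X).obj U).p u).1 from Over.w w]
  exact (((eps X).obj U).p u).2

/-- Sections of the inverse image are determined by their values at points. -/
lemma ext_valAt {A : Cl (Pts X)} (g g' : ((epsPull X).obj F).obj.obj (op A))
    (h : ∀ a, valAt F g a = valAt F g' a) : g = g' := by
  suffices hz : ∀ d : ((epsPull X).obj F).obj.obj (op A), (∀ a, valAt F d a = 0) → d = 0 by
    refine sub_eq_zero.1 (hz _ fun a => ?_)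
    show (show A.E → Germs F from (val F).hom.app (op A) (g - g')) a = 0
    rw [map_sub]
    exact sub_eq_zero.2 (h a)
  intro d hd
  refine eq_of_locally _ _ _ fun a => ?_
  obtain ⟨B, f, U, m, s, hf, ⟨b, hb⟩, he⟩ := isImg_all F d a
  have hs : germK F U (m.toFun b) s = 0 := by
    rw [← valAt_ev, ← valAt_map F m, ← he, valAt_map, hd]
  obtain ⟨W, k, w, hw, h0⟩ := exists_nhd_of_germK F _ hs
  obtain ⟨C, e, c, m', heo, hc, hm, -⟩ := exists_local_lift k m b w hw
  refine ⟨C, e ≫ f, hf.comp heo, ⟨c, (congrArg f.toFun hc).trans hb⟩, ?_⟩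
  rw [map_zero, op_comp, Functor.map_comp_apply, he, ← Functor.map_comp_apply, ← op_comp, ← hm,
    op_comp, Functor.map_comp_apply, ← ev_naturality, h0, map_zero, map_zero]

/-- The unit is injective on sections. -/
lemma ev_injective (U : X.Etale) : Function.Injective (ev F U) := by
  rw [injective_iff_map_eq_zero]
  intro s hs
  haveI := lft_etale_left X U
  have hg : ∀ u, germK F U u s = 0 := fun u => by
    rw [← valAt_ev, hs]
    exact congrFun (map_zero ((val F).hom.app (op ((eps X).obj U))).hom) u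
  let O : Set U.left := ⋃ (W : X.Etale) (k : W ⟶ U) (_ : F.obj.map k.op s = 0), Set.range k.left.base
  have hO : IsOpen O := isOpen_iUnion fun W => isOpen_iUnion fun k => isOpen_iUnion fun _ => by
    haveI : Etale U.hom := U.prop
    haveI : Etale W.hom := W.prop
    haveI : Etale (k.left ≫ U.hom) := by rw [Over.w k.hom]; infer_instance
    haveI : Etale k.left := Etale.of_comp k.left U.hom
    exact k.left.isOpenMap.isOpen_range
  have hu := eq_univ_of_isOpen hO fun u => by
    obtain ⟨W, k, w, hw, h0⟩ := exists_nhd_of_germK F u (hg u)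
    refine Set.mem_iUnion.2 ⟨W, Set.mem_iUnion.2 ⟨k, Set.mem_iUnion.2 ⟨h0, w.pt, ?_⟩⟩⟩
    rw [← hw]
    exact (Pts.pt_map k.left w).symm
  refine Groth.EtaleBase.section_eq_zero_of_germs F U s fun x => ?_
  have hx : x ∈ O := hu.ge (Set.mem_univ x)
  simp only [O, Set.mem_iUnion] at hx
  obtain ⟨W, k, h0, hv⟩ := hx
  exact ⟨W, k, hv, h0⟩

section triv

variable {F} {U : X.Etale} {M : Type 1} [AddCommGroup M] {c : M →+ F.obj.obj (op U)}

open Groth.EtaleBase.LocConst in
lemma germK_injective (hc : StalkBij F U c) {V : X.Etale} (k : V ⟶ U) (v : ((eps X).obj V).E)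
    {a b : M} (h : germK F V v (F.obj.map k.op (c a)) = germK F V v (F.obj.map k.op (c b))) :
    a = b := by
  refine ((hc.res k) ℂ _ _ (((eps X).obj V).p v).1 (lift v _ rfl)).1 ?_
  have h0 := congrFun h (((eps X).obj V).p v)
  rw [germK_apply_self F V v _ _ rfl, germK_apply_self F V v _ _ rfl] at h0
  exact h0

open Groth.EtaleBase.LocConst in
/-- Near every point a section is given by a constant. -/
lemma exists_const_nhd (hc : StalkBij F U c) {A : Cl (Pts X)} (y : A ⟶ (eps X).obj U)
    (g : ((epsPull X).obj F).obj.obj (op A)) (a : A.E) :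
    ∃ (B : Cl (Pts X)) (f : B ⟶ A) (μ : M), IsOpenEmbedding f.toFun ∧ a ∈ Set.range f.toFun ∧
      ((epsPull X).obj F).obj.map f.op g =
        ((epsPull X).obj F).obj.map (f ≫ y).op (ev F U (c μ)) := by
  obtain ⟨B, f, U', m, σ, hf, ⟨b, hb⟩, he⟩ := isImg_all F g a
  obtain ⟨P, p, q, n, hp, hq⟩ := exists_prod_lift m (f ≫ y)
  haveI := lft_etale_left X P
  obtain ⟨W, k, μ, ⟨w, hw⟩, hμ⟩ :=
    hc.exists_nhd q (F.obj.map p.op σ) (n.toFun b : Pts P.left).pt
  haveI := lft_etale_left X W
  obtain ⟨w', hw'⟩ : (n.toFun b : Pts P.left) ∈ Set.range (Pts.map k.left) := by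
    rw [range_map]
    exact ⟨w, hw⟩
  obtain ⟨C, e, c', m', heo, hc', hm, -⟩ := exists_local_lift k n b w' hw'
  refine ⟨C, e ≫ f, μ, hf.comp heo, ⟨c', (congrArg f.toFun hc').trans hb⟩, ?_⟩
  rw [Category.assoc, ← hq, ← reassoc_of% hm, ← Functor.map_comp, op_comp, Functor.map_comp_apply,
    he, ← hp, ← Functor.map_comp_apply, ← op_comp, ← reassoc_of% hm, ← Functor.map_comp]
  simp only [op_comp, Functor.map_comp_apply]
  rw [← ev_naturality, ← ev_naturality]
  simp only [op_comp, Functor.map_comp_apply] at hμ ⊢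
  rw [hμ]

open Groth.EtaleBase.LocConst in
/-- Over a trivializing object a section is, near every point, the image of a section. -/
lemma exists_ev_nhd (hc : StalkBij F U c) {P : X.Etale} (q : P ⟶ U)
    (g : ((epsPull X).obj F).obj.obj (op ((eps X).obj P))) (z : P.left) :
    ∃ (W : X.Etale) (k : W ⟶ P), z ∈ Set.range k.left.base ∧
      ∃ s : F.obj.obj (op W), ev F W s = ((epsPull X).obj F).obj.map ((eps X).map k).op g := by
  haveI := lft_etale_left X P
  let C : M → Set (Pts P.left) := fun a => {v | valAt F g v = germK F P v (F.obj.map q.op (c a))}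
  have hnhd : ∀ v : ((eps X).obj P).E, ∃ (μ : M) (O : Set ((eps X).obj P).E),
      IsOpen O ∧ v ∈ O ∧ O ⊆ C μ := fun v => by
    obtain ⟨B, f, μ, hf, hv, he⟩ := exists_const_nhd hc ((eps X).map q) g v
    refine ⟨μ, _, hf.isOpen_range, hv, ?_⟩
    rintro _ ⟨b, rfl⟩
    show valAt F g (f.toFun b) = _
    rw [← valAt_map F f, he, valAt_map, valAt_ev, germK_res]
    rfl
  have hdisj : ∀ (v : Pts P.left) (a b : M), v ∈ C a → v ∈ C b → a = b := fun v a b ha hb =>
    germK_injective hc q v (Eq.trans (Eq.symm ha) hb)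
  have hopen : ∀ a, IsOpen (C a) := fun a => isOpen_iff_forall_mem_open.2 fun v hv => by
    obtain ⟨μ, O, hO, hvO, hsub⟩ := hnhd v
    obtain rfl := hdisj v a μ hv (hsub hvO)
    exact ⟨O, hsub, hO, hvO⟩
  have hcl : ∀ a, IsClopen (C a) := fun a => by
    refine ⟨⟨isOpen_iff_forall_mem_open.2 fun v hv => ?_⟩, hopen a⟩
    obtain ⟨μ, O, hO, hvO, hsub⟩ := hnhd v
    exact ⟨O, fun w hw hwa => hv (hdisj w μ a (hsub hw) hwa ▸ hsub hvO), hO, hvO⟩
  choose T hT hTC using fun a => exists_clopen_preimage (hcl a)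
  have hu := eq_univ_of_isOpen (X := P.left) (T := ⋃ a, T a) (isOpen_iUnion fun a => (hT a).isOpen)
    fun v => by
      obtain ⟨μ, O, hO, hvO, hsub⟩ := hnhd v
      exact Set.mem_iUnion.2 ⟨μ, (hTC μ).ge (hsub hvO)⟩
  obtain ⟨a, ha⟩ := Set.mem_iUnion.1 (hu.ge (Set.mem_univ z))
  let O : P.left.Opens := ⟨T a, (hT a).isOpen⟩
  haveI : Etale P.hom := P.prop
  let W : X.Etale := MorphismProperty.Over.mk ⊤ (O.ι ≫ P.hom)
    (show Etale (O.ι ≫ P.hom) from inferInstance)
  let k : W ⟶ P := MorphismProperty.Over.homMk O.ι rfl trivial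
  refine ⟨W, k, ⟨⟨z, ha⟩, rfl⟩, F.obj.map (k ≫ q).op (c a), ext_valAt F _ _ fun w => ?_⟩
  have hw : (((eps X).map k).toFun w) ∈ C a := by
    rw [← hTC a]
    show (Pts.map k.left w : Pts P.left).pt ∈ T a
    rw [Pts.pt_map]
    exact (w : Pts W.left).pt.2
  rw [valAt_ev, valAt_map, hw, op_comp, Functor.map_comp_apply, germK_res]

/-- The constant presheaf on the slice of the classical site. -/
abbrev clConst (A : Cl (Pts X)) (M : Type 1) [AddCommGroup M] : (Over A)ᵒᵖ ⥤ AddCommGrpCat.{1} :=
  (Functor.const (Over A)ᵒᵖ).obj (AddCommGrpCat.of M)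

lemma mem_over_topology {A : Cl (Pts X)} {Y : Over A} (S : Sieve Y) :
    S ∈ (Cl.topology (Pts X)).over A Y ↔ ∀ a : Y.left.E, ∃ (B : Cl (Pts X)) (f : B ⟶ Y.left),
      S (Over.homMk f : Over.mk (f ≫ Y.hom) ⟶ Y) ∧ IsOpenEmbedding f.toFun ∧ a ∈ Set.range f.toFun := by
  rw [GrothendieckTopology.mem_over_iff]
  refine forall_congr' fun a => exists_congr fun B => exists_congr fun f => ?_
  rw [Sieve.overEquiv_iff]

/-- The map from a constant presheaf given by sections over `U`. -/
noncomputable def toSlice (F : EtCoh.Ab X) (U : X.Etale) (c : M →+ F.obj.obj (op U)) :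
    clConst ((eps X).obj U) M ⟶ (((epsPull X).obj F).over ((eps X).obj U)).obj where
  app Y := AddCommGrpCat.ofHom
    ((((epsPull X).obj F).obj.map Y.unop.hom.op).hom.comp ((ev F U).comp c))
  naturality Y Y' φ := by
    ext a
    show ((epsPull X).obj F).obj.map Y'.unop.hom.op (ev F U (c a)) =
      ((epsPull X).obj F).obj.map φ.unop.left.op
        (((epsPull X).obj F).obj.map Y.unop.hom.op (ev F U (c a)))
    rw [← Functor.map_comp_apply, ← op_comp, Over.w φ.unop]

open Groth.EtaleBase.LocConst in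
lemma toSlice_locallyBijective (hc : StalkBij F U c) :
    Presheaf.IsLocallyInjective ((Cl.topology (Pts X)).over ((eps X).obj U)) (toSlice F U c) ∧
      Presheaf.IsLocallySurjective ((Cl.topology (Pts X)).over ((eps X).obj U)) (toSlice F U c) := by
  refine ⟨⟨fun {Y} a b e => ?_⟩, ⟨fun {Y} g => ?_⟩⟩
  · rw [mem_over_topology]
    intro y
    have e' : valAt F _ y = valAt F _ y := congrArg (fun z => valAt F z y) e
    have h' : germK F U (Y.unop.hom.toFun y) (F.obj.map (𝟙 U).op (c a)) =
        germK F U (Y.unop.hom.toFun y) (F.obj.map (𝟙 U).op (c b)) := by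
      have hid : ∀ s : F.obj.obj (op U), F.obj.map (𝟙 U).op s = s := fun s => by simp
      rw [hid, hid]
      rw [← valAt_ev, ← valAt_ev, ← valAt_map, ← valAt_map]
      exact e'
    obtain rfl := germK_injective hc (𝟙 U) _ h'
    exact ⟨_, 𝟙 _, rfl, IsOpenEmbedding.id, ⟨y, rfl⟩⟩
  · refine (mem_over_topology (Y := Y) _).2 fun y => ?_
    obtain ⟨B, f, μ, hf, hy, he⟩ := exists_const_nhd hc Y.hom g y
    exact ⟨B, f, ⟨μ, he.symm⟩, hf, hy⟩

/-- The sheafification map of a constant presheaf, restricted to a slice. -/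
noncomputable def toConstSlice (A : Cl (Pts X)) (M : Type 1) [AddCommGroup M] :
    clConst A M ⟶ (((constantSheaf (Cl.topology (Pts X)) AddCommGrpCat.{1}).obj
      (AddCommGrpCat.of M)).over A).obj :=
  Functor.whiskerLeft (Over.forget A).op
    (CategoryTheory.toSheafify (Cl.topology (Pts X)) ((Functor.const _).obj (AddCommGrpCat.of M)))

lemma toConstSlice_locallyBijective (A : Cl (Pts X)) (M : Type 1) [AddCommGroup M] :
    Presheaf.IsLocallyInjective ((Cl.topology (Pts X)).over A) (toConstSlice A M) ∧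
      Presheaf.IsLocallySurjective ((Cl.topology (Pts X)).over A) (toConstSlice A M) := by
  refine ⟨⟨fun {Y} a b e => ?_⟩, ⟨fun {Y} g => ?_⟩⟩
  · rw [mem_over_topology]
    intro y
    obtain ⟨B, f, hf, hfo, hy⟩ := Presheaf.equalizerSieve_mem (Cl.topology (Pts X))
      (CategoryTheory.toSheafify (Cl.topology (Pts X)) ((Functor.const _).obj (AddCommGrpCat.of M)))
      (X := op Y.unop.left) a b e y
    exact ⟨B, f, hf, hfo, hy⟩
  · refine (mem_over_topology (Y := Y) _).2 fun y => ?_
    obtain ⟨B, f, hf, hfo, hy⟩ := Presheaf.imageSieve_mem (Cl.topology (Pts X))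
      (CategoryTheory.toSheafify (Cl.topology (Pts X)) ((Functor.const _).obj (AddCommGrpCat.of M)))
      (U := op Y.left) g y
    exact ⟨B, f, hf, hfo, hy⟩

open Groth.EtaleBase.LocConst in
/-- Over a trivializing object the inverse image is constant. -/
theorem slice_iso (hc : StalkBij F U c) :
    Nonempty (((epsPull X).obj F).over ((eps X).obj U) ≅
      ((constantSheaf (Cl.topology (Pts X)) AddCommGrpCat.{1}).obj (AddCommGrpCat.of M)).over
        ((eps X).obj U)) := by
  set J := (Cl.topology (Pts X)).over ((eps X).obj U)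
  have key : ∀ (S : Sheaf J AddCommGrpCat.{1}) (p : clConst ((eps X).obj U) M ⟶ S.obj),
      Presheaf.IsLocallyInjective J p → Presheaf.IsLocallySurjective J p →
      IsIso (((sheafificationAdjunction J AddCommGrpCat.{1}).homEquiv _ _).symm p) := by
    intro S p _ _
    have h1 : IsIso ((presheafToSheaf J AddCommGrpCat.{1}).map p) :=
      (GrothendieckTopology.W_iff _ _).1 (J.W_of_isLocallyBijective p)
    rw [Adjunction.homEquiv_symm_apply]
    exact @IsIso.comp_isIso _ _ _ _ _ _ _ h1 inferInstance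
  haveI := key _ _ (toSlice_locallyBijective hc).1 (toSlice_locallyBijective hc).2
  haveI := key _ _ (toConstSlice_locallyBijective ((eps X).obj U) M).1
    (toConstSlice_locallyBijective ((eps X).obj U) M).2
  exact ⟨(asIso (((sheafificationAdjunction J AddCommGrpCat.{1}).homEquiv _ _).symm
    (toSlice F U c))).symm ≪≫ asIso (((sheafificationAdjunction J AddCommGrpCat.{1}).homEquiv _ _).symm
    (toConstSlice ((eps X).obj U) M))⟩

end triv

open Groth.EtaleBase.LocConst in
/-- On a finite locally constant sheaf the unit is an isomorphism and the inverse image is finite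
locally constant. -/
theorem unit_isIso_and_isFiniteLocallyConstant (hF : EtCoh.IsFiniteLocallyConstant F) :
    IsIso ((An.epsAdj X).unit.app F) ∧ An.Cl.IsFiniteLocallyConstant ((An.epsPull X).obj F) := by
  obtain ⟨ι, U, hU, hM⟩ := hF
  refine ⟨?_, ι, fun i => (eps X).obj (U i), fun t => ?_, fun i => ?_⟩
  · haveI : Presheaf.IsLocallyInjective X.smallEtaleTopology ((epsAdj X).unit.app F).hom :=
      Presheaf.isLocallyInjective_of_injective _ _ fun V => ev_injective F V.unop
    haveI : Presheaf.IsLocallySurjective X.smallEtaleTopology ((epsAdj X).unit.app F).hom := by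
      refine ⟨fun {V} g => ?_⟩
      rw [Groth.EtaleBase.mem_topology_iff]
      intro x
      obtain ⟨i, y, hy⟩ := hU (V.hom.base x)
      obtain ⟨M, _, _, ⟨e⟩⟩ := hM i
      obtain ⟨c, hc, -⟩ := exists_stalkBij_of_iso e
      obtain ⟨P, p, q, h⟩ : ∃ (P : X.Etale) (p : P ⟶ V) (q : P ⟶ U i), IsPullback p q
          ((EtCore.topIsTerminal X).from V) ((EtCore.topIsTerminal X).from (U i)) :=
        ⟨_, _, _, IsPullback.of_hasPullback _ _⟩
      have h' := h.map (Scheme.Etale.forget X ⋙ Over.forget X)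
      obtain ⟨z0, hz0, -⟩ := Scheme.Pullback.exists_preimage_pullback x y (f := _) (g := _) (by
        have e1 : ∀ (W : X.Etale) (w : W.left),
            ((EtCore.topIsTerminal X).from W).left.base w = W.hom.base w := fun W w => by
          have e2 : ((EtCore.topIsTerminal X).from W).left = W.hom :=
            (Category.comp_id _).symm.trans (Over.w ((EtCore.topIsTerminal X).from W).hom)
          exact congrArg (fun f : W.left ⟶ X => f.base w) e2
        exact (e1 V x).trans (hy.symm.trans (e1 (U i) y).symm))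
      have hz : p.left.base (h'.isoPullback.inv.base z0) = x := by
        refine Eq.trans ?_ hz0
        exact (Scheme.Hom.comp_apply h'.isoPullback.inv p.left z0).symm.trans
          (congrArg (fun k : _ ⟶ V.left => k.base z0) h'.isoPullback_inv_fst)
      obtain ⟨z, hz⟩ : ∃ z, p.left.base z = x := ⟨_, hz⟩
      obtain ⟨W, k, ⟨w, hw⟩, s, hs⟩ := exists_ev_nhd hc q
        (((epsPull X).obj F).obj.map ((eps X).map p).op g) z
      refine ⟨W, k ≫ p, w, ⟨s, ?_⟩, ?_⟩
      · refine hs.trans ?_
        rw [← Functor.map_comp_apply, ← op_comp, ← Functor.map_comp]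
        rfl
      · show p.left.base (k.left.base w) = x
        rw [hw]
        exact hz
    exact (CategoryTheory.Sheaf.isLocallyBijective_iff_isIso _).1 ⟨inferInstance, inferInstance⟩
  · obtain ⟨i, y, hy⟩ := hU t.pt
    haveI := lft_etale_left X (U i)
    have ht : t ∈ Set.range (Pts.map ((U i).left ↘ X)) := by
      rw [range_map]
      exact ⟨y, hy⟩
    exact ⟨i, ht⟩
  · obtain ⟨M, hM1, hM2, ⟨e⟩⟩ := hM i
    obtain ⟨c, hc, -⟩ := exists_stalkBij_of_iso e
    exact ⟨M, hM1, hM2, slice_iso hc⟩

end Groth.ZetaAn.EpsUnit
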