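import Groth.Agent.ZetaAn.SCVDivision
import Mathlib.Order.Filter.Germ.Basic
import Mathlib.Topology.Germ
import Mathlib.RingTheory.Noetherian.Basic
import Mathlib.RingTheory.Ideal.Quotient.Operations
import Mathlib.RingTheory.Finiteness.Cardinality

/-! The ring of germs at `0` of differentiable functions of several complex variables is Noetherian,
and its maximal ideal is generated by the linear functionals. -/

set_option autoImplicit false
set_option linter.style.haveILetI false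

open Filter Topology Metric Set

namespace Groth.SCV

variable {E F : Type} [NormedAddCommGroup E] [NormedSpace ℂ E] [NormedAddCommGroup F] [NormedSpace ℂ F]

variable (E) in
/-- Germs at `0` of complex differentiable functions. -/
def germO : Subring (Filter.Germ (𝓝 (0 : E)) ℂ) where
  carrier := {g | ∃ f : E → ℂ, (∀ᶠ z in 𝓝 0, DifferentiableAt ℂ f z) ∧ g = ↑f}
  one_mem' := ⟨1, Eventually.of_forall fun _ => differentiableAt_const 1, rfl⟩
  zero_mem' := ⟨0, Eventually.of_forall fun _ => differentiableAt_const 0, rfl⟩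
  add_mem' := by
    rintro _ _ ⟨f, hf, rfl⟩ ⟨g, hg, rfl⟩
    exact ⟨f + g, (hf.and hg).mono fun z h => h.1.add h.2, rfl⟩
  mul_mem' := by
    rintro _ _ ⟨f, hf, rfl⟩ ⟨g, hg, rfl⟩
    exact ⟨f * g, (hf.and hg).mono fun z h => h.1.mul h.2, rfl⟩
  neg_mem' := by
    rintro _ ⟨f, hf, rfl⟩
    exact ⟨-f, hf.mono fun z h => h.neg, rfl⟩

/-- The germ of a function differentiable near `0`. -/
def mk (f : E → ℂ) (hf : ∀ᶠ z in 𝓝 0, DifferentiableAt ℂ f z) : germO E := ⟨↑f, f, hf, rfl⟩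

lemma exists_mk (g : germO E) :
    ∃ (f : E → ℂ) (hf : ∀ᶠ z in 𝓝 0, DifferentiableAt ℂ f z), g = mk f hf := by
  obtain ⟨f, hf, h⟩ := g.2
  exact ⟨f, hf, Subtype.ext h⟩

lemma mk_eq_mk {f g : E → ℂ} {hf : ∀ᶠ z in 𝓝 0, DifferentiableAt ℂ f z}
    {hg : ∀ᶠ z in 𝓝 0, DifferentiableAt ℂ g z} : mk f hf = mk g hg ↔ f =ᶠ[𝓝 0] g :=
  ⟨fun h => Filter.Germ.coe_eq.1 (congrArg Subtype.val h), fun h => Subtype.ext (Filter.Germ.coe_eq.2 h)⟩

lemma mk_eq_zero {f : E → ℂ} {hf : ∀ᶠ z in 𝓝 0, DifferentiableAt ℂ f z} :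
    mk f hf = 0 ↔ ∀ᶠ z in 𝓝 0, f z = 0 :=
  ⟨fun h => Filter.Germ.coe_eq.1 (congrArg Subtype.val h), fun h => Subtype.ext (Filter.Germ.coe_eq.2 h)⟩

lemma tendsto_clm (L : E →L[ℂ] F) : Tendsto L (𝓝 0) (𝓝 0) := by
  simpa using L.continuous.tendsto 0

/-- Pullback of germs along a linear map. -/
def pull (L : E →L[ℂ] F) : germO F →+* germO E where
  toFun g := ⟨g.1.compTendsto L (tendsto_clm L), by
    obtain ⟨f, hf, rfl⟩ := exists_mk g
    exact ⟨f ∘ L, ((tendsto_clm L).eventually hf).mono fun z h => h.comp z L.differentiableAt, rfl⟩⟩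
  map_one' := rfl
  map_zero' := rfl
  map_add' g h := by
    obtain ⟨f, hf, rfl⟩ := exists_mk g
    obtain ⟨f', hf', rfl⟩ := exists_mk h
    rfl
  map_mul' g h := by
    obtain ⟨f, hf, rfl⟩ := exists_mk g
    obtain ⟨f', hf', rfl⟩ := exists_mk h
    rfl

lemma pull_pull_symm (e : E ≃L[ℂ] F) (g : germO E) :
    pull (e : E →L[ℂ] F) (pull (e.symm : F →L[ℂ] E) g) = g := by
  obtain ⟨f, hf, rfl⟩ := exists_mk g
  refine Subtype.ext (Filter.Germ.coe_eq.2 (Eventually.of_forall fun z => ?_))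
  simp

/-- Germs transported along a linear equivalence. -/
noncomputable def pullEquiv (e : E ≃L[ℂ] F) : germO F ≃+* germO E :=
  RingEquiv.ofRingHom (pull (e : E →L[ℂ] F)) (pull (e.symm : F →L[ℂ] E))
    (RingHom.ext fun g => pull_pull_symm e g)
    (RingHom.ext fun g => pull_pull_symm e.symm g)

/-- Constant germs. -/
def const : ℂ →+* germO E where
  toFun c := mk (fun _ => c) (Eventually.of_forall fun _ => differentiableAt_const c)
  map_one' := rfl
  map_zero' := rfl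
  map_add' _ _ := rfl
  map_mul' _ _ := rfl

/-- The value of a germ at `0`. -/
def value : germO E →+* ℂ where
  toFun g := g.1.value
  map_one' := rfl
  map_zero' := rfl
  map_add' g h := by
    obtain ⟨f, hf, rfl⟩ := exists_mk g
    obtain ⟨f', hf', rfl⟩ := exists_mk h
    rfl
  map_mul' g h := by
    obtain ⟨f, hf, rfl⟩ := exists_mk g
    obtain ⟨f', hf', rfl⟩ := exists_mk h
    rfl

@[simp] lemma value_mk (f : E → ℂ) (hf : ∀ᶠ z in 𝓝 0, DifferentiableAt ℂ f z) :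
    value (mk f hf) = f 0 := rfl

/-- The germ of a linear functional. -/
noncomputable def lin (φ : E →L[ℂ] ℂ) : germO E := mk φ (Eventually.of_forall fun _ => φ.differentiableAt)

lemma eq_const_of_subsingleton [Subsingleton E] (g : germO E) : g = const (value g) := by
  obtain ⟨f, hf, rfl⟩ := exists_mk g
  show mk f hf = mk (fun _ => f 0) (Eventually.of_forall fun _ => differentiableAt_const (f 0))
  exact mk_eq_mk.2 (Eventually.of_forall fun z => by rw [Subsingleton.elim z 0])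

lemma exists_regular_direction [Nontrivial F] {f : F → ℂ}
    (hf : ∀ᶠ z in 𝓝 0, DifferentiableAt ℂ f z) (hne : ¬ ∀ᶠ z in 𝓝 0, f z = 0) :
    ∃ v : F, v ≠ 0 ∧ ¬ ∀ᶠ t : ℂ in 𝓝 0, f (t • v) = 0 := by
  by_cases h0 : f 0 = 0
  · obtain ⟨R, hR, hfd, -⟩ := exists_ball_bounded hf
    obtain ⟨z, hz, hzne⟩ : ∃ z ∈ ball (0 : F) R, f z ≠ 0 := by
      by_contra hcon
      push Not at hcon
      exact hne (eventually_of_mem (ball_mem_nhds _ hR) hcon)
    have hz0 : z ≠ 0 := fun h => hzne (h ▸ h0)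
    refine ⟨z, hz0, fun hev => ?_⟩
    have hzn : 0 < ‖z‖ := norm_pos_iff.2 hz0
    have hd : DifferentiableOn ℂ (fun t : ℂ => f (t • z)) (ball 0 (R / ‖z‖)) :=
      hfd.comp (differentiableOn_id.smul_const z) fun t ht => by
        rw [mem_ball_zero_iff, norm_smul] at *
        simpa [← lt_div_iff₀ hzn] using ht
    have h1 : (1 : ℂ) ∈ ball (0 : ℂ) (R / ‖z‖) := by
      rw [mem_ball_zero_iff, norm_one, one_lt_div hzn]
      exact mem_ball_zero_iff.1 hz
    refine hzne ?_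
    have := (hd.analyticOnNhd isOpen_ball).eqOn_zero_of_preconnected_of_eventuallyEq_zero
      (convex_ball _ _).isPreconnected (mem_ball_self (div_pos hR hzn)) hev h1
    simpa using this
  · obtain ⟨v, hv⟩ := exists_ne (0 : F)
    exact ⟨v, hv, fun hev => h0 (by simpa using hev.self_of_nhds)⟩

lemma exists_prod_equiv [FiniteDimensional ℂ F] {v : F} (hv : v ≠ 0) :
    ∃ (φ : F →L[ℂ] ℂ) (e : (φ.ker × ℂ) ≃L[ℂ] F), (∀ x, e x = (x.1 : F) + x.2 • v) ∧ φ v = 1 ∧
      Module.finrank ℂ φ.ker + 1 = Module.finrank ℂ F := by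
  obtain ⟨φ, hφ⟩ := exists_dual_vector ℂ v (norm_ne_zero_iff.2 hv)
  set ψ := ((‖v‖ : ℂ))⁻¹ • φ
  have hψ : ψ v = 1 := by
    simp [ψ, hφ.2, norm_ne_zero_iff.2 hv]
  let l : (ψ.ker × ℂ) ≃ₗ[ℂ] F :=
    { toFun := fun x => (x.1 : F) + x.2 • v
      map_add' := fun x y => by simp only [Prod.fst_add, Prod.snd_add, Submodule.coe_add, add_smul]; abel
      map_smul' := fun c x => by simp [smul_add, smul_smul]
      invFun := fun y => (⟨y - ψ y • v, by simp [hψ]⟩, ψ y)
      left_inv := fun x => by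
        have hx : ψ (x.1 : F) = 0 := x.1.2
        refine Prod.ext (Subtype.ext ?_) ?_ <;> simp [map_add, hx, hψ]
      right_inv := fun y => by simp }
  refine ⟨ψ, l.toContinuousLinearEquiv, fun x => rfl, hψ, ?_⟩
  rw [← l.finrank_eq, Module.finrank_prod, Module.finrank_self]

/-- Division by a germ regular in the last variable, at the level of germs. -/
lemma exists_finite_quotient {E : Type} [NormedAddCommGroup E] [NormedSpace ℂ E] [FiniteDimensional ℂ E]
    {f : E × ℂ → ℂ} (hf : ∀ᶠ z in 𝓝 0, DifferentiableAt ℂ f z)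
    (hne : ¬ ∀ᶠ w in 𝓝 (0 : ℂ), f (0, w) = 0) :
    ∃ k : ℕ, ∀ g : germO (E × ℂ), ∃ a : ℕ → germO E,
      g - ∑ j ∈ Finset.range k, pull (ContinuousLinearMap.fst ℂ E ℂ) (a j) *
        lin (ContinuousLinearMap.snd ℂ E ℂ) ^ j ∈ Ideal.span {mk f hf} := by
  obtain ⟨k, hk⟩ := exists_division hf hne
  refine ⟨k, fun g => ?_⟩
  obtain ⟨g, hg, rfl⟩ := exists_mk g
  obtain ⟨q, a, hq, ha, heq⟩ := hk g hg
  refine ⟨fun j => mk (a j) (ha j), Ideal.mem_span_singleton'.2 ⟨mk q hq, eq_sub_iff_add_eq.2 ?_⟩⟩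
  refine Subtype.ext ?_
  push_cast
  have hcoe : ∀ (s : Finset ℕ) (F' : ℕ → E × ℂ → ℂ),
      ((∑ j ∈ s, F' j : E × ℂ → ℂ) : Filter.Germ (𝓝 (0 : E × ℂ)) ℂ) =
        ∑ j ∈ s, (F' j : Filter.Germ (𝓝 (0 : E × ℂ)) ℂ) := fun s F' =>
    map_sum (Filter.Germ.coeAddHom (𝓝 (0 : E × ℂ))) F' s
  show (↑q * ↑f : Filter.Germ (𝓝 (0 : E × ℂ)) ℂ) +
      ∑ j ∈ Finset.range k, ((fun z : E × ℂ => a j z.1) : Filter.Germ (𝓝 (0 : E × ℂ)) ℂ) *
        ((fun z : E × ℂ => z.2) : Filter.Germ (𝓝 (0 : E × ℂ)) ℂ) ^ j = ↑g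
  simp only [← Filter.Germ.coe_pow, ← Filter.Germ.coe_mul]
  rw [← hcoe, ← Filter.Germ.coe_add, Filter.Germ.coe_eq]
  filter_upwards [heq] with z hz
  rw [hz]
  simp [Finset.sum_apply]

/-- An ideal containing a germ regular in the last variable is finitely generated. -/
lemma fg_of_regular {E : Type} [NormedAddCommGroup E] [NormedSpace ℂ E] [FiniteDimensional ℂ E]
    [IsNoetherianRing (germO E)] (J : Ideal (germO (E × ℂ))) {f : E × ℂ → ℂ}
    (hf : ∀ᶠ z in 𝓝 0, DifferentiableAt ℂ f z) (hne : ¬ ∀ᶠ w in 𝓝 (0 : ℂ), f (0, w) = 0)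
    (hfJ : mk f hf ∈ J) : J.FG := by
  obtain ⟨k, hk⟩ := exists_finite_quotient hf hne
  letI : Algebra (germO E) (germO (E × ℂ)) := (pull (ContinuousLinearMap.fst ℂ E ℂ)).toAlgebra
  let Q : Ideal (germO (E × ℂ)) := Ideal.span {mk f hf}
  haveI : Module.Finite (germO E) (germO (E × ℂ) ⧸ Q) := by
    refine Module.Finite.of_surjective
      (Fintype.linearCombination (germO E)
        fun j : Fin k => Ideal.Quotient.mk Q (lin (ContinuousLinearMap.snd ℂ E ℂ) ^ (j : ℕ))) ?_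
    intro x
    obtain ⟨x, rfl⟩ := Ideal.Quotient.mk_surjective x
    obtain ⟨a, ha⟩ := hk x
    refine ⟨fun j => a j, ?_⟩
    rw [Fintype.linearCombination_apply,
      Fin.sum_univ_eq_sum_range (fun j => a j • Ideal.Quotient.mk Q (lin (ContinuousLinearMap.snd ℂ E ℂ) ^ j)),
      Ideal.Quotient.eq.2 ha, map_sum]
    refine Finset.sum_congr rfl fun j _ => ?_
    rw [map_mul, Algebra.smul_def]
    rfl
  haveI : IsNoetherian (germO (E × ℂ)) (germO (E × ℂ) ⧸ Q) :=
    isNoetherian_of_tower (germO E) inferInstance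
  refine Submodule.fg_of_fg_map_of_fg_inf_ker (Submodule.mkQ Q) (IsNoetherian.noetherian _) ?_
  rw [Submodule.ker_mkQ, inf_eq_right.2 ((Ideal.span_singleton_le_iff_mem _).2 hfJ)]
  exact Submodule.fg_span_singleton _

lemma isNoetherianRing_germO_succ {F : Type} [NormedAddCommGroup F] [NormedSpace ℂ F]
    [FiniteDimensional ℂ F] [Nontrivial F]
    (ih : ∀ φ : F →L[ℂ] ℂ, Module.finrank ℂ φ.ker + 1 = Module.finrank ℂ F →
      IsNoetherianRing (germO φ.ker)) : IsNoetherianRing (germO F) := by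
  refine (isNoetherianRing_iff_ideal_fg _).2 fun I => ?_
  rcases eq_or_ne I ⊥ with rfl | hI
  · exact Submodule.fg_bot
  obtain ⟨g, hgI, hg0⟩ := Submodule.exists_mem_ne_zero_of_ne_bot hI
  obtain ⟨f, hf, rfl⟩ := exists_mk g
  obtain ⟨v, hv, hreg⟩ := exists_regular_direction hf (fun h => hg0 (mk_eq_zero.2 h))
  obtain ⟨φ, e, he, -, hrank⟩ := exists_prod_equiv hv
  haveI := ih φ hrank
  have hf' : ∀ᶠ z in 𝓝 0, DifferentiableAt ℂ (f ∘ e) z :=
    ((tendsto_clm (e : (φ.ker × ℂ) →L[ℂ] F)).eventually hf).mono fun z h =>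
      h.comp z e.differentiableAt
  have hne' : ¬ ∀ᶠ w in 𝓝 (0 : ℂ), (f ∘ e) (0, w) = 0 := by
    simpa [he] using hreg
  have hmem : mk (f ∘ e) hf' ∈ I.map (pullEquiv e) :=
    Ideal.mem_map_of_mem (pullEquiv e) hgI
  obtain ⟨s, hs⟩ := fg_of_regular _ hf' hne' hmem
  classical
  refine ⟨s.image (pullEquiv e).symm, ?_⟩
  have h1 : (I.map (pullEquiv e)).map (pullEquiv e).symm = I := Ideal.map_of_equiv (pullEquiv e)
  rw [Finset.coe_image, ← h1, ← hs]
  exact (Ideal.map_span (pullEquiv e).symm _).symm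

lemma ker_value_le_span_succ {F : Type} [NormedAddCommGroup F] [NormedSpace ℂ F]
    [FiniteDimensional ℂ F] [Nontrivial F]
    (ih : ∀ φ : F →L[ℂ] ℂ, Module.finrank ℂ φ.ker + 1 = Module.finrank ℂ F →
      RingHom.ker (value (E := φ.ker)) ≤ Ideal.span (Set.range (lin (E := φ.ker)))) :
    RingHom.ker (value (E := F)) ≤ Ideal.span (Set.range (lin (E := F))) := by
  intro g hg
  obtain ⟨v, hv⟩ := exists_ne (0 : F)
  obtain ⟨φ, e, he, hφv, hrank⟩ := exists_prod_equiv hv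
  have hfw : ∀ z : φ.ker × ℂ, φ (e z) = z.2 := fun z => by
    have : φ (z.1 : F) = 0 := z.1.2
    simp [he, map_add, this, hφv]
  have hf' : ∀ᶠ z in 𝓝 0, DifferentiableAt ℂ (φ ∘ e) z :=
    Eventually.of_forall fun z => φ.differentiableAt.comp z e.differentiableAt
  have hne' : ¬ ∀ᶠ w in 𝓝 (0 : ℂ), (φ ∘ e) (0, w) = 0 := by
    intro h
    obtain ⟨w, hw, hw0⟩ := ((eventually_nhdsWithin_of_eventually_nhds h).and
      (self_mem_nhdsWithin (s := {(0 : ℂ)}ᶜ))).exists
    exact hw0 (by simpa [hfw] using hw)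
  obtain ⟨k, hk⟩ := exists_finite_quotient hf' hne'
  set T := Ideal.span (Set.range (lin (E := φ.ker × ℂ)))
  suffices hT : pull (e : φ.ker × ℂ →L[ℂ] F) g ∈ T by
    have h1 := Ideal.mem_map_of_mem (pull (e.symm : F →L[ℂ] φ.ker × ℂ)) hT
    have h2 : pull (e.symm : F →L[ℂ] φ.ker × ℂ) (pull (e : φ.ker × ℂ →L[ℂ] F) g) = g :=
      pull_pull_symm e.symm g
    rw [h2] at h1
    refine (Ideal.map_span _ _).trans_le (Ideal.span_le.2 ?_) h1
    rintro _ ⟨_, ⟨ψ, rfl⟩, rfl⟩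
    exact Ideal.subset_span ⟨ψ.comp (e.symm : F →L[ℂ] φ.ker × ℂ), rfl⟩
  set p := pull (ContinuousLinearMap.fst ℂ φ.ker ℂ)
  set w := lin (ContinuousLinearMap.snd ℂ φ.ker ℂ)
  obtain ⟨a, ha⟩ := hk (pull (e : φ.ker × ℂ →L[ℂ] F) g)
  have hfT : Ideal.span {mk (φ ∘ e) hf'} ≤ T := by
    rw [Ideal.span_le, Set.singleton_subset_iff]
    exact Ideal.subset_span ⟨φ.comp (e : φ.ker × ℂ →L[ℂ] F), rfl⟩
  have hw : w ∈ T := Ideal.subset_span ⟨_, rfl⟩
  have hval : ∀ (a : germO φ.ker), value (p a) = value a := by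
    intro a
    obtain ⟨a, ha', rfl⟩ := exists_mk a
    rfl
  have hgval : value (pull (e : φ.ker × ℂ →L[ℂ] F) g) = 0 := by
    obtain ⟨g, hg', rfl⟩ := exists_mk g
    show g (e 0) = 0
    rw [map_zero]
    exact RingHom.mem_ker.1 hg
  have hTker : T ≤ RingHom.ker (value (E := φ.ker × ℂ)) := Ideal.span_le.2 <| by
    rintro _ ⟨ψ, rfl⟩
    exact map_zero ψ
  rw [← sub_add_cancel (pull (e : φ.ker × ℂ →L[ℂ] F) g) (∑ j ∈ Finset.range k, p (a j) * w ^ j)]
  refine add_mem (hfT ha) ?_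
  rcases k with - | k
  · simp
  rw [Finset.sum_range_succ']
  refine add_mem (sum_mem fun j _ => Ideal.mul_mem_left _ _ (Ideal.pow_mem_of_mem _ hw _ (Nat.succ_pos j))) ?_
  rw [pow_zero, mul_one]
  have ha0 : a 0 ∈ RingHom.ker (value (E := φ.ker)) := by
    have h1 := hTker (hfT ha)
    rw [RingHom.mem_ker, map_sub, hgval, map_sum, Finset.sum_range_succ'] at h1
    have hsnd : value w = 0 := rfl
    simp only [map_mul, map_pow, hsnd, ne_eq, Nat.succ_ne_zero, not_false_eq_true, zero_pow,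
      mul_zero, Finset.sum_const_zero, pow_zero, mul_one, zero_add, hval, zero_sub, neg_eq_zero] at h1
    exact h1
  have h2 := Ideal.mem_map_of_mem p (ih φ hrank ha0)
  refine (Ideal.map_span _ _).trans_le (Ideal.span_le.2 ?_) h2
  rintro _ ⟨_, ⟨ψ, rfl⟩, rfl⟩
  exact Ideal.subset_span ⟨ψ.comp (ContinuousLinearMap.fst ℂ φ.ker ℂ), rfl⟩

lemma isNoetherianRing_germO_aux : ∀ (n : ℕ) (F : Type) [NormedAddCommGroup F] [NormedSpace ℂ F]
    [FiniteDimensional ℂ F], Module.finrank ℂ F = n →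
    IsNoetherianRing (germO F) ∧
      RingHom.ker (value (E := F)) ≤ Ideal.span (Set.range (lin (E := F))) := by
  intro n
  induction n with
  | zero =>
    intro F _ _ _ hF
    haveI : Subsingleton F := Module.finrank_zero_iff.1 hF
    refine ⟨isNoetherianRing_of_surjective ℂ _ const fun g => ⟨value g, (eq_const_of_subsingleton g).symm⟩,
      fun g hg => ?_⟩
    rw [eq_const_of_subsingleton g, RingHom.mem_ker.1 hg, map_zero]
    exact zero_mem _
  | succ n ih =>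
    intro F _ _ _ hF
    haveI : Nontrivial F := Module.finrank_pos_iff.1 (by rw [hF]; exact Nat.succ_pos n)
    exact ⟨isNoetherianRing_germO_succ fun φ h => (ih φ.ker (by omega)).1,
      ker_value_le_span_succ fun φ h => (ih φ.ker (by omega)).2⟩

/-- The ring of germs of differentiable functions is Noetherian. -/
theorem isNoetherianRing_germO (F : Type) [NormedAddCommGroup F] [NormedSpace ℂ F]
    [FiniteDimensional ℂ F] : IsNoetherianRing (germO F) :=
  (isNoetherianRing_germO_aux _ F rfl).1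

/-- **Hadamard's lemma.** A germ vanishing at `0` lies in the ideal of the linear functionals. -/
theorem ker_value_eq_span (F : Type) [NormedAddCommGroup F] [NormedSpace ℂ F]
    [FiniteDimensional ℂ F] : RingHom.ker (value (E := F)) = Ideal.span (Set.range (lin (E := F))) := by
  refine le_antisymm (isNoetherianRing_germO_aux _ F rfl).2 (Ideal.span_le.2 ?_)
  rintro _ ⟨ψ, rfl⟩
  exact map_zero ψ

end Groth.SCV
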