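import Groth.Agent.ZetaAn.StalkChart
import Groth.Agent.ZetaAn.SCVGerms
import Mathlib.Topology.Category.TopCat.OpenNhds
import Mathlib.Topology.Sheaves.Stalks

/-!
The stalks of the sheaf of holomorphic functions on the complex points: they are quotients of rings
of holomorphic germs of ℂⁿ, hence Noetherian local rings with maximal ideal generated by the
maximal ideal of the algebraic local ring.
-/

set_option autoImplicit false
set_option linter.style.haveILetI false
set_option backward.isDefEq.respectTransparency false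

open CategoryTheory AlgebraicGeometry Topology TopologicalSpace Filter

namespace Groth.ZetaAn

open An

variable {X : Scheme.{0}} [X.Over An.SC]

/-- The stalk of the sheaf of holomorphic functions. -/
noncomputable abbrev anStalk (x : Pts X) : CommRingCat.{0} := (holPresheaf X).stalk x

open Classical in
/-- A function on an open extended by zero. -/
noncomputable def ext0 (U : Opens (An.top X)) (f : U → ℂ) (y : Pts X) : ℂ :=
  if h : y ∈ U then f ⟨y, h⟩ else 0

lemma ext0_apply (U : Opens (An.top X)) (f : U → ℂ) {y : Pts X} (h : y ∈ U) :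
    ext0 U f y = f ⟨y, h⟩ := dif_pos h

/-- The class of a holomorphic function on an open around `x` as a germ of functions. -/
noncomputable def toGermApp (x : Pts X) (U : Opens (An.top X)) (hx : x ∈ U) :
    (holSub U) →+* Filter.Germ (𝓝 x) ℂ where
  toFun f := (ext0 U f.1 : Filter.Germ (𝓝 x) ℂ)
  map_one' := Filter.Germ.coe_eq.2 <| eventually_of_mem (U.2.mem_nhds hx)
    fun y hy => by simp [ext0_apply _ _ hy]
  map_zero' := Filter.Germ.coe_eq.2 <| eventually_of_mem (U.2.mem_nhds hx)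
    fun y hy => by simp [ext0_apply _ _ hy]
  map_mul' f g := (Filter.Germ.coe_eq.2 <| eventually_of_mem (U.2.mem_nhds hx)
    fun y hy => by show _ = ext0 U f.1 y * ext0 U g.1 y; simp [ext0_apply _ _ hy]).trans (Filter.Germ.coe_mul _ _)
  map_add' f g := (Filter.Germ.coe_eq.2 <| eventually_of_mem (U.2.mem_nhds hx)
    fun y hy => by show _ = ext0 U f.1 y + ext0 U g.1 y; simp [ext0_apply _ _ hy]).trans (Filter.Germ.coe_add _ _)

lemma exists_germRep (x : Pts X) (b : anStalk x) :
    ∃ (U : Opens (An.top X)) (hx : x ∈ U) (f : (holPresheaf X).obj (Opposite.op U)),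
      (holPresheaf X).germ U x hx f = b :=
  TopCat.Presheaf.exists_germ_eq _ b

open Classical in
/-- The underlying function of `toGerm`. -/
noncomputable def toGermFun (x : Pts X) (b : anStalk x) : Filter.Germ (𝓝 x) ℂ :=
  (ext0 (exists_germRep x b).choose (exists_germRep x b).choose_spec.choose_spec.choose.1 :
    Filter.Germ (𝓝 x) ℂ)

lemma toGermFun_germ (x : Pts X) (U : Opens (An.top X)) (hx : x ∈ U)
    (f : (holPresheaf X).obj (Opposite.op U)) :
    toGermFun x ((holPresheaf X).germ U x hx f) = (ext0 U f.1 : Filter.Germ (𝓝 x) ℂ) := by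
  set b := (holPresheaf X).germ U x hx f with hb
  obtain ⟨hV, hspec⟩ : ∃ (hV : x ∈ (exists_germRep x b).choose),
      (holPresheaf X).germ _ x hV (exists_germRep x b).choose_spec.choose_spec.choose = b :=
    ⟨_, (exists_germRep x b).choose_spec.choose_spec.choose_spec⟩
  obtain ⟨W, hW, i, j, h⟩ := TopCat.Presheaf.germ_eq (holPresheaf X) x hV hx _ f (hspec.trans hb)
  refine Filter.Germ.coe_eq.2 (eventually_of_mem (W.2.mem_nhds hW) fun y hy => ?_)
  rw [ext0_apply _ _ (i.le hy), ext0_apply _ _ (j.le hy)]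
  exact congrFun (congrArg Subtype.val h) ⟨y, hy⟩

lemma exists_germRep₂ (x : Pts X) (a b : anStalk x) :
    ∃ (U : Opens (An.top X)) (hx : x ∈ U) (f g : (holPresheaf X).obj (Opposite.op U)),
      (holPresheaf X).germ U x hx f = a ∧ (holPresheaf X).germ U x hx g = b := by
  obtain ⟨U, hU, f, rfl⟩ := exists_germRep x a
  obtain ⟨V, hV, g, rfl⟩ := exists_germRep x b
  exact ⟨U ⊓ V, ⟨hU, hV⟩, _, _, TopCat.Presheaf.germ_res_apply _ (Opens.infLELeft U V) x ⟨hU, hV⟩ f,
    TopCat.Presheaf.germ_res_apply _ (Opens.infLERight U V) x ⟨hU, hV⟩ g⟩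

/-- A germ of a holomorphic function as a germ of functions. -/
noncomputable def toGerm (x : Pts X) : anStalk x ⟶ CommRingCat.of (Filter.Germ (𝓝 x) ℂ) :=
  CommRingCat.ofHom
    { toFun := toGermFun x
      map_one' := by
        rw [← map_one ((holPresheaf X).germ ⊤ x trivial).hom]
        exact (toGermFun_germ x ⊤ trivial 1).trans (map_one (toGermApp x ⊤ trivial))
      map_zero' := by
        rw [← map_zero ((holPresheaf X).germ ⊤ x trivial).hom]
        exact (toGermFun_germ x ⊤ trivial 0).trans (map_zero (toGermApp x ⊤ trivial))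
      map_mul' := fun a b => by
        obtain ⟨U, hU, f, g, rfl, rfl⟩ := exists_germRep₂ x a b
        exact ((congrArg (toGermFun x) (map_mul ((holPresheaf X).germ U x hU).hom f g).symm).trans
          (toGermFun_germ x U hU (f * g))).trans ((map_mul (toGermApp x U hU) f g).trans
            (congrArg₂ (· * ·) (toGermFun_germ x U hU f).symm (toGermFun_germ x U hU g).symm))
      map_add' := fun a b => by
        obtain ⟨U, hU, f, g, rfl, rfl⟩ := exists_germRep₂ x a b
        exact ((congrArg (toGermFun x) (map_add ((holPresheaf X).germ U x hU).hom f g).symm).trans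
          (toGermFun_germ x U hU (f + g))).trans ((map_add (toGermApp x U hU) f g).trans
            (congrArg₂ (· + ·) (toGermFun_germ x U hU f).symm (toGermFun_germ x U hU g).symm)) }

lemma toGerm_germ (x : Pts X) (U : Opens (An.top X)) (hx : x ∈ U)
    (f : (holPresheaf X).obj (Opposite.op U)) :
    toGerm x ((holPresheaf X).germ U x hx f) = (ext0 U f.1 : Filter.Germ (𝓝 x) ℂ) :=
  toGermFun_germ x U hx f

lemma toGerm_injective (x : Pts X) : Function.Injective (toGerm x) := by
  intro a b h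
  obtain ⟨U, hxU, f, rfl⟩ := exists_germRep x a
  obtain ⟨V, hxV, g, rfl⟩ := exists_germRep x b
  rw [toGerm_germ, toGerm_germ] at h
  have h' : ext0 U f.1 =ᶠ[𝓝 x] ext0 V g.1 := Filter.Germ.coe_eq.1 h
  obtain ⟨W, hW, hWo, hxW⟩ := _root_.mem_nhds_iff.1
    ((h'.and (eventually_of_mem (U.2.mem_nhds hxU) fun y hy => hy)).and
      (eventually_of_mem (V.2.mem_nhds hxV) fun y hy => hy))
  let W' : Opens (An.top X) := ⟨W, hWo⟩
  refine TopCat.Presheaf.germ_ext _ W' hxW (homOfLE fun y hy => (hW hy).1.2)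
    (homOfLE fun y hy => (hW hy).2) (Subtype.ext (funext fun y => ?_))
  exact ((ext0_apply _ _ (hW y.2).1.2).symm.trans (hW y.2).1.1).trans (ext0_apply _ _ (hW y.2).2)

/-- The subring of germs of holomorphic functions. -/
noncomputable def holGerms (x : Pts X) : Subring (Filter.Germ (𝓝 x) ℂ) := (toGerm x).hom.range

/-! ### Chart functions -/

open Classical in
/-- Chart coordinates centred at `x`. -/
noncomputable def coord {n : ℕ} {W : X.Opens} (s : Fin n → Γ(X, W)) (x : Pts X) (hx : x.pt ∈ W)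
    (y : Pts X) : Fin n → ℂ :=
  fun i => if h : y.pt ∈ W then y.ev W h (s i) - x.ev W hx (s i) else 0

lemma coord_self {n : ℕ} {W : X.Opens} (s : Fin n → Γ(X, W)) (x : Pts X) (hx : x.pt ∈ W) :
    coord s x hx x = 0 := by
  funext i; simp [coord, hx]

lemma tendsto_coord {n : ℕ} {W : X.Opens} (s : Fin n → Γ(X, W)) (x : Pts X) (hx : x.pt ∈ W) :
    Tendsto (coord s x hx) (𝓝 x) (𝓝 0) := by
  have h : ContinuousOn (coord s x hx) (Pts.pt ⁻¹' (W : Set X)) := by
    rw [continuousOn_iff_continuous_domRestrict]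
    refine continuous_pi fun i => ?_
    have := (continuous_ev W (s i)).sub (continuous_const (y := x.ev W hx (s i)))
    refine this.congr fun y => ?_
    simp [coord, Set.domRestrict_apply, show y.1.pt ∈ W from y.2]
  have := (h.continuousAt ((Pts.isOpen_preimage_pt W).mem_nhds hx)).tendsto
  rwa [coord_self] at this

/-- Composition of germs at `0` of `ℂⁿ` with chart coordinates. -/
noncomputable def psi {n : ℕ} {W : X.Opens} (s : Fin n → Γ(X, W)) (x : Pts X) (hx : x.pt ∈ W) :
    SCV.germO (Fin n → ℂ) →+* Filter.Germ (𝓝 x) ℂ where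
  toFun g := g.1.compTendsto (coord s x hx) (tendsto_coord s x hx)
  map_one' := rfl
  map_zero' := rfl
  map_add' g h := by
    obtain ⟨f, hf, rfl⟩ := SCV.exists_mk g
    obtain ⟨f', hf', rfl⟩ := SCV.exists_mk h
    rfl
  map_mul' g h := by
    obtain ⟨f, hf, rfl⟩ := SCV.exists_mk g
    obtain ⟨f', hf', rfl⟩ := SCV.exists_mk h
    rfl

lemma psi_mk {n : ℕ} {W : X.Opens} (s : Fin n → Γ(X, W)) (x : Pts X) (hx : x.pt ∈ W)
    (F : (Fin n → ℂ) → ℂ) (hF : ∀ᶠ z in 𝓝 0, DifferentiableAt ℂ F z) :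
    psi s x hx (SCV.mk F hF) = ((F ∘ coord s x hx : Pts X → ℂ) : Filter.Germ (𝓝 x) ℂ) := rfl

lemma psi_mem_holGerms {n : ℕ} {W : X.Opens} (s : Fin n → Γ(X, W)) (x : Pts X) (hx : x.pt ∈ W)
    (g : SCV.germO (Fin n → ℂ)) : psi s x hx g ∈ holGerms x := by
  obtain ⟨F, hF, rfl⟩ := SCV.exists_mk g
  obtain ⟨V, hV, hVo, h0⟩ := _root_.mem_nhds_iff.1 hF
  have hU : ∀ᶠ y in 𝓝 x, y.pt ∈ W ∧ coord s x hx y ∈ V :=
    Eventually.and ((Pts.isOpen_preimage_pt W).mem_nhds hx)
      ((tendsto_coord s x hx).eventually (hVo.mem_nhds h0))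
  obtain ⟨U, hUs, hUo, hxU⟩ := _root_.mem_nhds_iff.1 hU
  let U' : Opens (An.top X) := ⟨U, hUo⟩
  set c : Fin n → ℂ := fun i => x.ev W hx (s i)
  have hc : ∀ y : U', coord s x hx y.1 = (fun i => Pts.ev y.1 W (hUs y.2).1 (s i)) - c := fun y => by
    funext i; simp [coord, (hUs y.2).1, c]
  have hchart : IsChartFun U' (fun y : U' => F (coord s x hx y.1)) := by
    refine ⟨W, fun y => (hUs y.2).1, n, s, (fun z => z - c) ⁻¹' V, fun z => F (z - c),
      hVo.preimage (continuous_id.sub continuous_const), ?_, fun y => ⟨?_, ?_⟩⟩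
    · exact fun z hz => (DifferentiableAt.comp z (g := F) (by exact hV hz)
        (differentiableAt_id.sub_const c)).differentiableWithinAt
    · show _ - c ∈ V
      rw [← hc]; exact (hUs y.2).2
    · exact congrArg F (hc y)
  refine ⟨(holPresheaf X).germ U' x hxU ⟨_, holPred_of_chartAlg (Algebra.subset_adjoin hchart)⟩, ?_⟩
  refine (toGerm_germ x U' hxU _).trans ?_
  rw [psi_mk, Filter.Germ.coe_eq]
  exact eventually_of_mem (hUo.mem_nhds hxU) fun y hy => ext0_apply U' _ hy

section Chart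

variable [LocallyOfFiniteType (X ↘ SC)] {W : X.Opens} {x : Pts X} (hx : x.pt ∈ W) {n : ℕ}
  (s : Fin n → Γ(X, W))

/-- The generators `s` generate the chart as a ℂ-algebra. -/
def Generates (s : Fin n → Γ(X, W)) : Prop :=
  letI := algSec W
  Function.Surjective (MvPolynomial.aeval (R := ℂ) s)

omit [LocallyOfFiniteType (X ↘ SC)] in
lemma ev_eq_eval (hs : Generates s) (r : Γ(X, W)) :
    ∃ p : MvPolynomial (Fin n) ℂ, ∀ (y : Pts X) (hy : y.pt ∈ W),
      y.ev W hy r = MvPolynomial.eval (fun i => y.ev W hy (s i)) p := by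
  letI := algSec W
  obtain ⟨p, rfl⟩ := hs r
  refine ⟨p, fun y hy => ?_⟩
  rw [← evAlgHom_apply, algHom_eq_of_gens hs (evAlgHom W y hy) p]
  simp [evAlgHom_apply]

omit [LocallyOfFiniteType (X ↘ SC)] in
lemma differentiable_eval_shift (p : MvPolynomial (Fin n) ℂ) (c : Fin n → ℂ) :
    Differentiable ℂ fun z : Fin n → ℂ => MvPolynomial.eval (z + c) p := by
  induction p using MvPolynomial.induction_on with
  | C a => simp
  | add p q hp hq => simp only [map_add]; exact hp.add hq
  | mul_X p i hp =>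
    simp only [map_mul, MvPolynomial.eval_X, Pi.add_apply]
    exact hp.mul ((differentiable_apply i).add_const _)

omit [LocallyOfFiniteType (X ↘ SC)] in
/-- Near `x` a section over any open is a rational function of the chart coordinates. -/
lemma exists_rational (hW : IsAffineOpen W) (hs : Generates s) {W' : X.Opens} (hx' : x.pt ∈ W')
    (t : Γ(X, W')) :
    ∃ τ : (Fin n → ℂ) → ℂ, (∀ᶠ z in 𝓝 0, DifferentiableAt ℂ τ z) ∧
      ∀ᶠ y in 𝓝 x, ∃ h : y.pt ∈ W', y.ev W' h t = τ (coord s x hx y) := by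
  obtain ⟨a, hle, hxa⟩ := hW.exists_basicOpen_le (V := W') ⟨x.pt, hx'⟩ hx
  haveI := hW.isLocalization_basicOpen a
  obtain ⟨⟨r, ⟨_, k, rfl⟩⟩, hr⟩ := IsLocalization.surj (Submonoid.powers a)
    (S := Γ(X, X.basicOpen a)) (X.presheaf.map (homOfLE hle).op t)
  obtain ⟨P, hP⟩ := ev_eq_eval s hs r
  obtain ⟨Q, hQ⟩ := ev_eq_eval s hs a
  set c : Fin n → ℂ := fun i => x.ev W hx (s i)
  refine ⟨fun z => MvPolynomial.eval (z + c) P * ((MvPolynomial.eval (z + c) Q) ^ k)⁻¹, ?_, ?_⟩
  · have hne : MvPolynomial.eval ((0 : Fin n → ℂ) + c) Q ≠ 0 := by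
      rw [zero_add, ← hQ x hx]
      exact (mem_basicOpen_iff x hx a).1 hxa
    filter_upwards [(differentiable_eval_shift Q c).continuous.continuousAt.eventually_ne hne] with z hz
    exact ((differentiable_eval_shift P c) z).fun_mul
      (((differentiable_eval_shift Q c) z).fun_pow k |>.fun_inv (pow_ne_zero _ hz))
  · filter_upwards [(Pts.isOpen_preimage_pt (X.basicOpen a)).mem_nhds hxa,
      (Pts.isOpen_preimage_pt W).mem_nhds hx] with y hya hyW
    refine ⟨hle hya, ?_⟩
    have hz : coord s x hx y + c = fun i => y.ev W hyW (s i) := by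
      funext i; simp [coord, show y.pt ∈ W from hyW, c]
    rw [hz, ← hP, ← hQ]
    have h := congrArg (evHom y (X.basicOpen a) hya) hr
    rw [map_mul, RingHom.algebraMap_toAlgebra, evHom_apply, evHom_apply, evHom_apply] at h
    change y.ev _ hya (X.presheaf.map (homOfLE hle).op t) * y.ev _ hya (X.presheaf.map _ (a ^ k)) =
      y.ev _ hya (X.presheaf.map _ r) at h
    rw [ev_res', ev_res', ev_res'] at h
    have hne : y.ev W hyW a ≠ 0 := (mem_basicOpen_iff y hyW a).1 hya
    have hpow : y.ev W hyW (a ^ k) = y.ev W hyW a ^ k := map_pow (evHom y W hyW) a k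
    rw [eq_mul_inv_iff_mul_eq₀ (pow_ne_zero _ hne), ← hpow]
    exact h

omit [LocallyOfFiniteType (X ↘ SC)] in
lemma range_psi (hW : IsAffineOpen W) (hs : Generates s) : (psi s x hx).range = holGerms x := by
  refine le_antisymm ?_ ?_
  · rintro _ ⟨g, rfl⟩; exact psi_mem_holGerms s x hx g
  rintro _ ⟨b, rfl⟩
  obtain ⟨U, hxU, f, rfl⟩ := exists_germRep x b
  change toGerm x ((holPresheaf X).germ U x hxU f) ∈ _
  rw [toGerm_germ]
  obtain ⟨V, hxV, i, hV⟩ := f.2 ⟨x, hxU⟩
  have hfV : (ext0 U f.1 : Filter.Germ (𝓝 x) ℂ) = ext0 V (fun y => f.1 (i y)) :=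
    Filter.Germ.coe_eq.2 <| eventually_of_mem (V.2.mem_nhds hxV) fun y hy => by
      rw [ext0_apply _ _ (i.le hy), ext0_apply _ _ hy]; rfl
  rw [hfV]
  let B : Subalgebra ℂ (V → ℂ) :=
    { carrier := {g | (ext0 V g : Filter.Germ (𝓝 x) ℂ) ∈ (psi s x hx).range}
      add_mem' := fun {g g'} hg hg' => by
        show ((ext0 V (g + g') : Pts X → ℂ) : Filter.Germ (𝓝 x) ℂ) ∈ (psi s x hx).range
        have : (ext0 V (g + g') : Filter.Germ (𝓝 x) ℂ) = ↑(ext0 V g) + ↑(ext0 V g') :=
          (Filter.Germ.coe_eq.2 <| eventually_of_mem (V.2.mem_nhds hxV) fun y hy => by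
            simp [ext0_apply _ _ hy]).trans (Filter.Germ.coe_add _ _)
        rw [this]; exact add_mem hg hg'
      mul_mem' := fun {g g'} hg hg' => by
        show ((ext0 V (g * g') : Pts X → ℂ) : Filter.Germ (𝓝 x) ℂ) ∈ (psi s x hx).range
        have : (ext0 V (g * g') : Filter.Germ (𝓝 x) ℂ) = ↑(ext0 V g) * ↑(ext0 V g') :=
          (Filter.Germ.coe_eq.2 <| eventually_of_mem (V.2.mem_nhds hxV) fun y hy => by
            simp [ext0_apply _ _ hy]).trans (Filter.Germ.coe_mul _ _)
        rw [this]; exact mul_mem hg hg'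
      algebraMap_mem' := fun c => ⟨SCV.const c, (Filter.Germ.coe_eq.2 <|
        eventually_of_mem (V.2.mem_nhds hxV) fun y hy => by
          simp [ext0_apply _ _ hy, SCV.const] : _)⟩ }
  refine (Algebra.adjoin_le (S := B) ?_ : chartAlg V ≤ B) hV
  rintro g ⟨W', hW', m, t, D, G, hDo, hG, hg⟩
  choose τ hτd hτ using fun j => exists_rational hx s hW hs (hW' ⟨x, hxV⟩) (t j)
  let T : (Fin n → ℂ) → (Fin m → ℂ) := fun z j => τ j z
  have hTd : ∀ᶠ z in 𝓝 0, DifferentiableAt ℂ T z :=
    (eventually_all.2 hτd).mono fun z h => differentiableAt_pi.2 h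
  have hT0 : T 0 ∈ D := by
    obtain ⟨h1, -⟩ := hg ⟨x, hxV⟩
    convert h1 using 1
    funext j
    obtain ⟨h, hj⟩ := (hτ j).self_of_nhds
    rw [coord_self] at hj
    exact hj.symm
  have hd : ∀ᶠ z in 𝓝 0, DifferentiableAt ℂ (G ∘ T) z := by
    filter_upwards [hTd, hTd.self_of_nhds.continuousAt.eventually_mem (hDo.mem_nhds hT0)] with z hz hzD
    exact (hG.differentiableAt (hDo.mem_nhds hzD)).comp z hz
  refine ⟨SCV.mk (G ∘ T) hd, ?_⟩
  rw [psi_mk, Filter.Germ.coe_eq]
  filter_upwards [eventually_all.2 hτ, V.2.mem_nhds hxV] with y hy hyV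
  obtain ⟨-, h2⟩ := hg ⟨y, hyV⟩
  rw [ext0_apply _ _ hyV, h2]
  show G (T (coord s x hx y)) = G _
  congr 1
  funext j
  obtain ⟨h, hj⟩ := hy j
  exact hj.symm

/-- The chart presentation of the holomorphic stalk. -/
noncomputable def chartHom (hW : IsAffineOpen W) (hs : Generates s) :
    SCV.germO (Fin n → ℂ) →+* anStalk x :=
  ((RingEquiv.ofBijective (toGerm x).hom.rangeRestrict
    ⟨fun _ _ h => toGerm_injective x (congrArg Subtype.val h), (toGerm x).hom.rangeRestrict_surjective⟩).symm.toRingHom).comp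
    ((psi s x hx).codRestrict (holGerms x) fun g => psi_mem_holGerms s x hx g)

omit [LocallyOfFiniteType (X ↘ SC)] in
lemma toGerm_chartHom (hW : IsAffineOpen W) (hs : Generates s) (g : SCV.germO (Fin n → ℂ)) :
    toGerm x (chartHom hx s hW hs g) = psi s x hx g :=
  congrArg Subtype.val ((RingEquiv.ofBijective (toGerm x).hom.rangeRestrict
    ⟨fun _ _ h => toGerm_injective x (congrArg Subtype.val h),
      (toGerm x).hom.rangeRestrict_surjective⟩).apply_symm_apply ⟨_, psi_mem_holGerms s x hx g⟩)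

omit [LocallyOfFiniteType (X ↘ SC)] in
lemma chartHom_surjective (hW : IsAffineOpen W) (hs : Generates s) :
    Function.Surjective (chartHom hx s hW hs) := by
  intro b
  obtain ⟨g, hg⟩ : toGerm x b ∈ (psi s x hx).range := by
    rw [range_psi hx s hW hs]; exact ⟨b, rfl⟩
  exact ⟨g, toGerm_injective x ((toGerm_chartHom hx s hW hs g).trans hg)⟩

end Chart

lemma exists_chart [LocallyOfFiniteType (X ↘ SC)] (x : Pts X) :
    ∃ (W : X.Opens) (_ : IsAffineOpen W) (_ : x.pt ∈ W) (n : ℕ) (s : Fin n → Γ(X, W)), Generates s := by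
  obtain ⟨W, hW, hx⟩ := exists_affine_chart x
  letI := algSec W
  haveI := finiteType_algSec hW
  obtain ⟨n, f, hf⟩ := (Algebra.FiniteType.iff_quotient_mvPolynomial'' (R := ℂ) (S := Γ(X, W))).1 inferInstance
  refine ⟨W, hW, hx, n, fun i => f (MvPolynomial.X i), ?_⟩
  show Function.Surjective (MvPolynomial.aeval (R := ℂ) fun i => f (MvPolynomial.X i))
  rw [show (fun i => f (MvPolynomial.X i)) = f ∘ MvPolynomial.X from rfl, ← MvPolynomial.aeval_unique f]
  exact hf

theorem isNoetherianRing_anStalk [LocallyOfFiniteType (X ↘ SC)] (x : Pts X) :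
    IsNoetherianRing (anStalk x) := by
  obtain ⟨W, hW, hx, n, s, hs⟩ := exists_chart x
  haveI := SCV.isNoetherianRing_germO (Fin n → ℂ)
  exact isNoetherianRing_of_surjective _ _ _ (chartHom_surjective hx s hW hs)

/-- The value at `x` of a germ. -/
noncomputable def valueAn (x : Pts X) : anStalk x →+* ℂ where
  toFun b := (toGerm x b).value
  map_one' := by rw [map_one]; rfl
  map_zero' := by rw [map_zero]; rfl
  map_add' a b := by
    rw [map_add]
    exact Filter.Germ.inductionOn₂ (toGerm x a) (toGerm x b) fun _ _ => rfl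
  map_mul' a b := by
    rw [map_mul]
    exact Filter.Germ.inductionOn₂ (toGerm x a) (toGerm x b) fun _ _ => rfl

lemma valueAn_chartHom {W : X.Opens} {x : Pts X} (hx : x.pt ∈ W) {n : ℕ} (s : Fin n → Γ(X, W))
    (hW : IsAffineOpen W) (hs : Generates s) (g : SCV.germO (Fin n → ℂ)) :
    valueAn x (chartHom hx s hW hs g) = SCV.value g := by
  show (toGerm x _).value = _
  rw [toGerm_chartHom]
  obtain ⟨F, hF, rfl⟩ := SCV.exists_mk g
  show F (coord s x hx x) = F 0
  rw [coord_self]

lemma isUnit_germO_of_value_ne_zero {E : Type} [NormedAddCommGroup E] [NormedSpace ℂ E]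
    {g : SCV.germO E} (h : SCV.value g ≠ 0) : IsUnit g := by
  obtain ⟨f, hf, rfl⟩ := SCV.exists_mk g
  have hne : ∀ᶠ z in 𝓝 (0 : E), f z ≠ 0 := hf.self_of_nhds.continuousAt.eventually_ne h
  refine IsUnit.of_mul_eq_one (SCV.mk (fun z => (f z)⁻¹) ((hf.and hne).mono fun z hz => hz.1.fun_inv hz.2)) ?_
  exact Subtype.ext (Filter.Germ.coe_eq.2 (hne.mono fun z hz => mul_inv_cancel₀ hz))

theorem isUnit_of_valueAn_ne_zero [LocallyOfFiniteType (X ↘ SC)] {x : Pts X} {b : anStalk x}
    (h : valueAn x b ≠ 0) : IsUnit b := by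
  obtain ⟨W, hW, hx, n, s, hs⟩ := exists_chart x
  obtain ⟨g, rfl⟩ := chartHom_surjective hx s hW hs b
  rw [valueAn_chartHom] at h
  exact (isUnit_germO_of_value_ne_zero h).map _

theorem isLocalRing_anStalk [LocallyOfFiniteType (X ↘ SC)] (x : Pts X) : IsLocalRing (anStalk x) := by
  haveI : Nontrivial (anStalk x) := RingHom.domain_nontrivial (valueAn x)
  refine IsLocalRing.of_isUnit_or_isUnit_one_sub_self fun a => ?_
  by_cases ha : valueAn x a = 0
  · exact Or.inr (isUnit_of_valueAn_ne_zero (by rw [map_sub, map_one, ha, sub_zero]; exact one_ne_zero))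
  · exact Or.inl (isUnit_of_valueAn_ne_zero ha)

theorem maximalIdeal_anStalk [LocallyOfFiniteType (X ↘ SC)] (x : Pts X) {I : Ideal (anStalk x)}
    (hI : I.IsMaximal) : I = RingHom.ker (valueAn x) := by
  refine hI.eq_of_le (RingHom.ker_ne_top _) fun b hb => ?_
  by_contra hne
  exact hI.ne_top (I.eq_top_of_isUnit_mem hb (isUnit_of_valueAn_ne_zero hne))

theorem isMaximal_ker_valueAn (x : Pts X) : (RingHom.ker (valueAn x)).IsMaximal := by
  refine RingHom.ker_isMaximal_of_surjective _ fun c => ?_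
  refine ⟨(holPresheaf X).germ (⊤ : Opens (An.top X)) x trivial ⟨fun _ => c, holPred_algebraMap c⟩, ?_⟩
  show (toGerm x _).value = c
  rw [toGerm_germ]
  exact ext0_apply _ _ (Opens.mem_top x)

end Groth.ZetaAn
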