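import Groth.Agent.ZetaAn.PtsAffineSpace
import Groth.Agent.ZetaAn.StalkAn

/-! Holomorphic functions on affine space. -/

set_option autoImplicit false
set_option linter.style.haveILetI false
set_option backward.isDefEq.respectTransparency false

open CategoryTheory AlgebraicGeometry Topology TopologicalSpace Filter

namespace Groth.ZetaAn

open An

theorem holPred_affineSpace_iff (n : ℕ) (U : Opens (An.Pts (𝔸(Fin n; An.SC)))) (g : U → ℂ) :
    (An.holPred (𝔸(Fin n; An.SC))).pred g ↔
      ∃ G : (Fin n → ℂ) → ℂ, DifferentiableOn ℂ G (coordMap n '' (U : Set _)) ∧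
        ∀ x : U, g x = G (coordMap n x.1) := by
  set X := 𝔸(Fin n; An.SC) with hX
  set s : Fin n → Γ(X, ⊤) := fun i => AffineSpace.coord An.SC i
  have hgen : Generates s := by
    letI := algSec (⊤ : X.Opens)
    show Function.Surjective (MvPolynomial.aeval (R := ℂ) s)
    intro a
    obtain ⟨p, hp⟩ := generators_affineSpace n a
    refine ⟨p, Eq.trans ?_ hp⟩
    have h : ((MvPolynomial.aeval (R := ℂ) s).toRingHom : MvPolynomial (Fin n) ℂ →+* Γ(X, ⊤)) =
        MvPolynomial.eval₂Hom (strHom X) s := by
      refine MvPolynomial.ringHom_ext (fun c => ?_) (fun i => ?_)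
      · simp [RingHom.algebraMap_toAlgebra]
      · simp
    exact RingHom.congr_fun h p
  have hemb := isHomeomorph_coordMap n
  constructor
  · intro hg
    classical
    let G : (Fin n → ℂ) → ℂ := fun z =>
      if h : ∃ x : U, coordMap n x.1 = z then g h.choose else 0
    have hG : ∀ x : U, G (coordMap n x.1) = g x := by
      intro x
      have h : ∃ y : U, coordMap n y.1 = coordMap n x.1 := ⟨x, rfl⟩
      simp only [G, dif_pos h]
      exact congrArg g (Subtype.ext (hemb.injective h.choose_spec))
    refine ⟨G, ?_, fun x => (hG x).symm⟩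
    rintro _ ⟨x, hx, rfl⟩
    refine DifferentiableAt.differentiableWithinAt ?_
    -- the germ at `x` is that of a function of the coordinates
    obtain ⟨F₀, hF₀⟩ : toGerm x ((holPresheaf X).germ U x hx ⟨g, hg⟩) ∈
        (psi s x (Opens.mem_top _)).range := by
      rw [range_psi (Opens.mem_top _) s (isAffineOpen_top X) hgen]
      exact ⟨_, rfl⟩
    obtain ⟨F, hF, rfl⟩ := SCV.exists_mk F₀
    rw [toGerm_germ, psi_mk] at hF₀
    have heq : G =ᶠ[𝓝 (coordMap n x)] fun z => F (z - coordMap n x) := by
      rw [EventuallyEq, show 𝓝 (coordMap n x) = Filter.map (coordMap n) (𝓝 x) from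
        (hemb.homeomorph.map_nhds_eq x).symm, eventually_map]
      filter_upwards [Filter.Germ.coe_eq.1 hF₀, U.2.mem_nhds hx] with y hy hyU
      show G (coordMap n y) = F (coordMap n y - coordMap n x)
      rw [hG ⟨y, hyU⟩]
      refine ((ext0_apply U g hyU).symm.trans hy.symm).trans (congrArg F ?_)
      funext i
      simp [coord, coordMap, s]
    refine DifferentiableAt.congr_of_eventuallyEq ?_ heq
    have h0 := hF.self_of_nhds
    rw [← sub_self (coordMap n x)] at h0
    exact DifferentiableAt.comp (f := fun z => z - coordMap n x) (coordMap n x) h0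
      (differentiableAt_id.sub_const _)
  · rintro ⟨G, hG, hgG⟩
    refine holPred_of_chartAlg (Algebra.subset_adjoin ?_)
    exact ⟨⊤, fun _ => Opens.mem_top _, n, s, _, G, hemb.isOpenMap _ U.2, hG,
      fun x => ⟨⟨x.1, x.2, rfl⟩, hgG x⟩⟩

end Groth.ZetaAn
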