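import Groth.Agent.ZetaAn.StalkProps
import Groth.Agent.SitesTopoi.Mod.SpaceFlat
import Groth.Agent.SitesTopoi.Mod.PullMono
import Groth.Agent.QCohMod.Pullback
import Groth.Agent.EtaleAlgebra.WeaklyEtale

/-! Exactness and faithfulness of analytification of modules. -/

set_option autoImplicit false
set_option linter.style.haveILetI false
set_option backward.isDefEq.respectTransparency false
set_option backward.isDefEq.respectTransparency.types false

open CategoryTheory CategoryTheory.Limits AlgebraicGeometry Topology TopologicalSpace Opposite TensorProduct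

namespace Groth.ZetaAn

open An

variable {X : Scheme.{0}} [X.Over An.SC]

/-- The comparison map of sheaves of rings, with values in commutative rings. -/
noncomputable def anSharp (X : Scheme.{0}) [X.Over An.SC] :
    X.sheaf ⟶ ((baseF X).sheafPushforwardContinuous CommRingCat.{0} (JX X) (JA X)).obj (hol X) :=
  { hom := (anToScheme X).c }

theorem preservesFiniteLimits_analytify [LocallyOfFiniteType (X ↘ SC)] [IsReduced X] :
    PreservesFiniteLimits (analytify X) :=
  haveI : (Opens.map (anToScheme X).base).IsContinuous
      (Opens.grothendieckTopology (X : TopCat.{0})) (Opens.grothendieckTopology (An.top X)) :=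
    baseF_isContinuous X
  haveI : (Opens.map (anToScheme X).base).IsContinuous (JX X) (JA X) := baseF_isContinuous X
  Groth.SitesTopoi.ModH.preservesFiniteLimits_pull_of_flat
    (f := ModSite.RMor.ofFlat (Opens.map (anToScheme X).base) (anSharp X))
    (Groth.SitesTopoi.SpaceFlat.isFlat_baseMod (anToScheme X).base (anSharp X) fun x => flat_phiAn x)

section Sky

variable (x : Pts X) (N : Type) [AddCommGroup N] [Module (anStalk x) N]

/-- Sections of the skyscraper module at a complex point. -/
abbrev AnSkyObj (U : Opens (An.top X)) : Type := PLift.{0} (x ∈ U) → N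

/-- Holomorphic functions act on skyscraper sections through their germ. -/
noncomputable instance anSkyModule (U : Opens (An.top X)) :
    Module ((holPresheaf X).obj (op U)) (AnSkyObj x N U) where
  smul r s := fun h ↦ (holPresheaf X).germ U x h.down r • s h
  one_smul s := funext fun h ↦ by
    change (holPresheaf X).germ U x h.down 1 • s h = s h
    rw [map_one, one_smul]
  mul_smul r r' s := funext fun h ↦ by
    change (holPresheaf X).germ U x h.down (r * r') • s h = _
    rw [map_mul, mul_smul]; rfl
  smul_zero r := funext fun h ↦ smul_zero ((holPresheaf X).germ U x h.down r)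
  smul_add r s s' := funext fun h ↦ smul_add ((holPresheaf X).germ U x h.down r) _ _
  add_smul r r' s := funext fun h ↦ by
    change (holPresheaf X).germ U x h.down (r + r') • s h = _
    rw [map_add, add_smul]; rfl
  zero_smul s := funext fun h ↦ by
    change (holPresheaf X).germ U x h.down 0 • s h = _
    rw [map_zero, zero_smul]; rfl

noncomputable instance (U : (Opens (An.top X))ᵒᵖ) :
    Module ((holRing X).obj.obj U) (AnSkyObj x N U.unop) :=
  anSkyModule x N U.unop

/-- The skyscraper module at a complex point, as a presheaf of modules. -/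
noncomputable def anSkyPre : PresheafOfModules.{0} (holRing X).obj where
  obj U := ModuleCat.of _ (AnSkyObj x N U.unop)
  map {U V} i := ModuleCat.ofHom
      (Y := (ModuleCat.restrictScalars ((holRing X).obj.map i).hom).obj
        (ModuleCat.of _ (AnSkyObj x N V.unop)))
    { toFun := fun s h ↦ s ⟨leOfHom i.unop h.down⟩
      map_add' := fun _ _ ↦ rfl
      map_smul' := fun r s ↦ funext fun h ↦ congrArg (· • s ⟨leOfHom i.unop h.down⟩)
        (TopCat.Presheaf.germ_res_apply (holPresheaf X) i.unop x h.down r).symm }
  map_id U := by ext; rfl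
  map_comp i j := by ext; rfl

lemma anSkyPre_isSheaf :
    Presheaf.IsSheaf (Opens.grothendieckTopology (An.top X)) (anSkyPre x N).presheaf := by
  change TopCat.Presheaf.IsSheaf (anSkyPre x N).presheaf
  rw [TopCat.Presheaf.isSheaf_iff_isSheafUniqueGluing]
  intro ι U sf hsf
  classical
  refine ⟨fun h ↦ ?_, fun i ↦ ?_, fun s hs ↦ ?_⟩
  · have hi := Opens.mem_iSup.mp h.down
    exact sf hi.choose ⟨hi.choose_spec⟩
  · funext h
    have hi : ∃ j, x ∈ U j := ⟨i, h.down⟩
    exact (congrFun (hsf i hi.choose) ⟨⟨h.down, hi.choose_spec⟩⟩).symm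
  · funext h
    have hi := Opens.mem_iSup.mp h.down
    exact congrFun (hs hi.choose) ⟨hi.choose_spec⟩

/-- The skyscraper module at a complex point. -/
noncomputable def anSky : AnMod X where
  val := anSkyPre x N
  isSheaf := anSkyPre_isSheaf x N

end Sky

variable (x : Pts X) (M : X.Modules)

/-- The base change of an algebraic stalk to the holomorphic local ring. -/
abbrev anBC : Type :=
  letI := algAn x
  anStalk x ⊗[X.presheaf.stalk x.pt] M.presheaf.stalk x.pt

lemma phiAn_germ (U : X.Opens) (h : x.pt ∈ U) (r : Γ(X, U)) :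
    phiAn x (X.presheaf.germ U x.pt h r) =
      (holPresheaf X).germ ((Opens.map (anToScheme X).base).obj U) x h (toHolApp U r) :=
  congrArg (fun m : Γ(X, U) ⟶ anStalk x => m r)
    (PresheafedSpace.stalkMap_germ (An.anToScheme X) U x h)

/-- Germs followed by base change, into the skyscraper at a complex point. -/
noncomputable def toAnBC : M ⟶ (anPush X).obj (anSky x (anBC x M)) :=
  letI := algAn x
  ⟨{ app := fun U ↦ ModuleCat.ofHom (X := M.val.obj U)
        (Y := (((anPush X).obj (anSky x (anBC x M))).val.obj U))
      { toFun := fun m (h : PLift.{0} (x.pt ∈ U.unop)) ↦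
          ((1 : anStalk x) ⊗ₜ Groth.QCohMod.germ M x.pt h.down m : anBC x M)
        map_add' := fun m m' ↦ funext fun (h : PLift.{0} (x.pt ∈ U.unop)) ↦ by
          show (1 : anStalk x) ⊗ₜ[X.presheaf.stalk x.pt] Groth.QCohMod.germ M x.pt h.down (m + m') = _
          erw [map_add, tmul_add]; rfl
        map_smul' := fun r m ↦ funext fun (h : PLift.{0} (x.pt ∈ U.unop)) ↦ by
          show (1 : anStalk x) ⊗ₜ[X.presheaf.stalk x.pt] Groth.QCohMod.germ M x.pt h.down (r • m) =
            (holPresheaf X).germ ((Opens.map (anToScheme X).base).obj U.unop) x h.down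
                (toHolApp U.unop r) •
              ((1 : anStalk x) ⊗ₜ[X.presheaf.stalk x.pt] Groth.QCohMod.germ M x.pt h.down m)
          erw [Groth.QCohMod.germ_smul, tmul_smul, ← algebraMap_smul (anStalk x)]
          congr 1
          exact phiAn_germ x U.unop h.down r }
     naturality := fun {U V} i ↦ by
      ext m
      exact funext fun (h : PLift.{0} (x.pt ∈ V.unop)) ↦
        congrArg (fun z ↦ (1 : anStalk x) ⊗ₜ[X.presheaf.stalk x.pt] z)
          (Groth.QCohMod.germ_res M (leOfHom i.unop) x.pt h.down m) }⟩

theorem faithful_analytify [LocallyOfFiniteType (X ↘ SC)] [IsReduced X] :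
    (analytify X).Faithful where
  map_injective {M M'} φ ψ h := by
    have hT : ∀ (x : Pts X), φ ≫ toAnBC x M' = ψ ≫ toAnBC x M' := fun x => by
      apply ((analytifyAdj X).homEquiv M _).symm.injective
      rw [Adjunction.homEquiv_naturality_left_symm, Adjunction.homEquiv_naturality_left_symm, h]
    have := jacobsonSpace X
    ext U m
    refine Groth.PicAux.res_ext (M := M') (fun W : {W : X.Opens // ∃ hW : W ≤ U,
        Groth.PicAux.res M' hW (φ.app U m) = Groth.PicAux.res M' hW (ψ.app U m)} => W.1)
      (fun W => W.2.1) ?_ (fun W => W.2.2)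
    intro p hp
    by_contra hne
    -- a closed point of the bad locus
    set A : X.Opens := iSup fun W : {W : X.Opens // ∃ hW : W ≤ U,
      Groth.PicAux.res M' hW (φ.app U m) = Groth.PicAux.res M' hW (ψ.app U m)} => W.1
    obtain ⟨q, hq, hqc⟩ := nonempty_inter_closedPoints (Z := (U : Set X) ∩ (A : Set X)ᶜ) ⟨p, hp, hne⟩
      (U.isOpen.isLocallyClosed.inter A.isOpen.isClosed_compl.isLocallyClosed)
    obtain ⟨x, rfl⟩ := exists_pt_eq q hqc
    haveI := isLocalRing_anStalk x
    haveI := isNoetherianRing_anStalk x
    haveI := isNoetherianRing_stalk x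
    letI := algAn x
    haveI := (cplEquiv x).flat
    haveI := (cplEquiv x).isLocalHom
    haveI : Module.FaithfullyFlat (X.presheaf.stalk x.pt) (anStalk x) :=
      Module.FaithfullyFlat.of_flat_of_isLocalHom
    have h1 : Groth.QCohMod.germ M' x.pt hq.1 (φ.app U m) = Groth.QCohMod.germ M' x.pt hq.1 (ψ.app U m) := by
      refine Module.FaithfullyFlat.tensorProduct_mk_injective (A := X.presheaf.stalk x.pt)
        (B := anStalk x) (M := M'.presheaf.stalk x.pt) ?_
      exact congrFun (congrArg (fun χ : M ⟶ (anPush X).obj (anSky x (anBC x M')) => χ.app U m) (hT x)) ⟨hq.1⟩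
    obtain ⟨W, hxW, i, j, e⟩ := TopCat.Presheaf.germ_eq M'.presheaf x.pt hq.1 hq.1 _ _ h1
    exact hq.2 (Opens.mem_iSup.2 ⟨⟨W, leOfHom i, e⟩, hxW⟩)

end Groth.ZetaAn
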