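import Mathlib.RingTheory.Flat.Equalizer
import Mathlib.RingTheory.Flat.FaithfullyFlat.Algebra
import Mathlib.RingTheory.Filtration
import Mathlib.RingTheory.RegularLocalRing.Defs
import Mathlib.RingTheory.Ideal.GoingDown
import Mathlib.RingTheory.Ideal.KrullsHeightTheorem

/-!
A local homomorphism of Noetherian local rings inducing bijections modulo all powers of the maximal
ideals is flat and preserves dimension and regularity.
-/

set_option autoImplicit false
set_option linter.style.haveILetI false

open IsLocalRing TensorProduct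

namespace Groth.ZetaAn

variable {A B : Type} [CommRing A] [CommRing B] [Algebra A B] [IsLocalRing A] [IsLocalRing B]

/-- `A → B` induces isomorphisms `A/m^n ≅ B/m^n B` with `mB` the maximal ideal of `B`. -/
structure CplEquiv (A B : Type) [CommRing A] [CommRing B] [Algebra A B] [IsLocalRing A]
    [IsLocalRing B] : Prop where
  map_max : (maximalIdeal A).map (algebraMap A B) = maximalIdeal B
  surj : ∀ (n : ℕ) (b : B), ∃ a, algebraMap A B a - b ∈ maximalIdeal B ^ n
  inj : ∀ (n : ℕ) (a : A), algebraMap A B a ∈ maximalIdeal B ^ n → a ∈ maximalIdeal A ^ n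

variable [IsNoetherianRing A] [IsNoetherianRing B]

theorem CplEquiv.flat (h : CplEquiv A B) : Module.Flat A B := by
  rw [Module.Flat.iff_lTensor_injective']
  intro I
  rw [← LinearMap.ker_eq_bot, LinearMap.ker_eq_bot']
  intro x hx
  haveI : Module.Finite A I := Module.Finite.of_fg (IsNoetherian.noetherian I)
  suffices hk : ∀ k, x ∈ (maximalIdeal B ^ k • ⊤ : Submodule B (B ⊗[A] I)) by
    have := Ideal.iInf_pow_smul_eq_bot_of_isLocalRing (M := B ⊗[A] I) (maximalIdeal B)
      (maximalIdeal.isMaximal B).ne_top
    rw [← Submodule.mem_bot B, ← this]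
    exact (Submodule.mem_iInf _).2 hk
  obtain ⟨c, hc⟩ := (maximalIdeal A).exists_pow_inf_eq_pow_smul I
  intro k
  -- approximate `x` by `1 ⊗ i`
  have happ : ∀ y : B ⊗[A] I, ∃ i : I,
      y - (1 : B) ⊗ₜ[A] i ∈ (maximalIdeal B ^ (k + c) • ⊤ : Submodule B (B ⊗[A] I)) := by
    intro y
    induction y using TensorProduct.induction_on with
    | zero => exact ⟨0, by simp⟩
    | tmul b i =>
      obtain ⟨a, ha⟩ := h.surj (k + c) b
      refine ⟨a • i, ?_⟩
      have : b ⊗ₜ[A] i - (1 : B) ⊗ₜ[A] (a • i) = (b - algebraMap A B a) • ((1 : B) ⊗ₜ[A] i) := by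
        rw [show b ⊗ₜ[A] i = b • ((1 : B) ⊗ₜ[A] i) by rw [smul_tmul', smul_eq_mul, mul_one], tmul_smul,
          ← algebraMap_smul B a]
        exact (sub_smul b (algebraMap A B a) ((1 : B) ⊗ₜ[A] i)).symm
      rw [this]
      exact Submodule.smul_mem_smul (by rw [← neg_sub]; exact neg_mem ha) Submodule.mem_top
    | add y z hy hz =>
      obtain ⟨i, hi⟩ := hy
      obtain ⟨j, hj⟩ := hz
      exact ⟨i + j, by rw [tmul_add, add_sub_add_comm]; exact add_mem hi hj⟩
  obtain ⟨i, hi⟩ := happ x
  let μ : B ⊗[A] I →ₗ[B] B :=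
    (TensorProduct.AlgebraTensorModule.rid A B B).toLinearMap.comp
      (TensorProduct.AlgebraTensorModule.map LinearMap.id (Submodule.subtype I))
  have hμ : μ x = 0 := by
    have : μ x = TensorProduct.rid A B (I.subtype.lTensor B x) := rfl
    rw [this, hx, map_zero]
  have hμi : μ ((1 : B) ⊗ₜ[A] i) = algebraMap A B i := by
    simp [μ, Algebra.smul_def]
  have hi' : algebraMap A B i ∈ maximalIdeal B ^ (k + c) := by
    have h1 : μ (x - (1 : B) ⊗ₜ[A] i) ∈ (maximalIdeal B ^ (k + c) • ⊤ : Submodule B B) := by
      have := Submodule.mem_map_of_mem (f := μ) hi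
      rw [Submodule.map_smul''] at this
      exact Submodule.smul_mono le_rfl le_top this
    rw [map_sub, hμ, hμi, zero_sub, Submodule.neg_mem_iff, smul_eq_mul, Ideal.mul_top] at h1
    exact h1
  have hmem : (i : A) ∈ maximalIdeal A ^ k • (I : Submodule A A) := by
    have h1 : (i : A) ∈ (maximalIdeal A ^ (k + c) • ⊤ : Submodule A A) ⊓ I :=
      ⟨by rw [smul_eq_mul, Ideal.mul_top]; exact h.inj _ _ hi', i.2⟩
    rw [hc _ (Nat.le_add_left c k), Nat.add_sub_cancel] at h1
    exact Submodule.smul_mono le_rfl inf_le_right h1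
  rw [Submodule.mem_smul_top_iff _ I i |>.symm] at hmem
  have h2 : (1 : B) ⊗ₜ[A] i ∈ (maximalIdeal B ^ k • ⊤ : Submodule B (B ⊗[A] I)) := by
    refine Submodule.smul_induction_on hmem (fun r hr j _ => ?_) (fun u v hu hv => ?_)
    · have : (1 : B) ⊗ₜ[A] (r • j) = algebraMap A B r • ((1 : B) ⊗ₜ[A] j) := by
        rw [tmul_smul, algebraMap_smul]
      rw [this]
      refine Submodule.smul_mem_smul ?_ Submodule.mem_top
      rw [← h.map_max, ← Ideal.map_pow]
      exact Ideal.mem_map_of_mem _ hr
    · rw [tmul_add]; exact add_mem hu hv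
  have h3 := add_mem (Submodule.smul_mono (Ideal.pow_le_pow_right (Nat.le_add_right k c)) le_rfl hi) h2
  simpa using h3

omit [IsNoetherianRing A] [IsNoetherianRing B] in
theorem CplEquiv.isLocalHom (h : CplEquiv A B) : IsLocalHom (algebraMap A B) :=
  ((local_hom_TFAE (algebraMap A B)).out 0 2 rfl rfl).2 h.map_max.le

theorem CplEquiv.ringKrullDim_eq (h : CplEquiv A B) : ringKrullDim A = ringKrullDim B := by
  haveI := h.flat
  haveI := h.isLocalHom
  haveI : (maximalIdeal B).LiesOver (maximalIdeal A) :=
    ⟨(IsLocalRing.maximalIdeal_comap (algebraMap A B)).symm⟩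
  have h1 := Ideal.height_eq_height_add_of_liesOver_of_hasGoingDown (maximalIdeal A) (maximalIdeal B)
  have h0 : (maximalIdeal B).map (Ideal.Quotient.mk <| (maximalIdeal A).map (algebraMap A B)) = ⊥ := by
    rw [h.map_max]; exact Ideal.map_quotient_self _
  rw [h0] at h1
  have : Nontrivial (B ⧸ (maximalIdeal A).map (algebraMap A B)) := by
    rw [Ideal.Quotient.nontrivial_iff, h.map_max]
    exact (maximalIdeal.isMaximal B).ne_top
  rw [Ideal.height_bot, add_zero] at h1
  rw [← maximalIdeal_height_eq_ringKrullDim, ← maximalIdeal_height_eq_ringKrullDim, h1]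

theorem CplEquiv.spanFinrank_eq (h : CplEquiv A B) :
    (maximalIdeal A).spanFinrank = (maximalIdeal B).spanFinrank := by
  classical
  haveI := h.flat
  haveI := h.isLocalHom
  haveI : Module.FaithfullyFlat A B := Module.FaithfullyFlat.of_flat_of_isLocalHom
  refine le_antisymm ?_ ?_
  · have fg : (maximalIdeal B).FG := IsNoetherian.noetherian _
    have hfin := Submodule.FG.finite_generators fg
    choose a ha using h.surj 2
    have hle : maximalIdeal B ≤
        (Ideal.span (a '' (maximalIdeal B).generators)).map (algebraMap A B) := by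
      refine Submodule.le_of_le_smul_of_le_jacobson_bot fg (maximalIdeal_le_jacobson ⊥) ?_
      refine (Submodule.span_generators (maximalIdeal B)).symm.trans_le
        (Submodule.span_le.2 fun b hb => ?_)
      rw [← sub_sub_cancel (algebraMap A B (a b)) b]
      refine Submodule.sub_mem _ (Submodule.mem_sup_left (Ideal.mem_map_of_mem _
        (Ideal.subset_span ⟨b, hb, rfl⟩))) (Submodule.mem_sup_right ?_)
      rw [smul_eq_mul, ← pow_two]
      exact ha b
    have heq : maximalIdeal A = Ideal.span (a '' (maximalIdeal B).generators) := by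
      refine le_antisymm ?_ (Ideal.span_le.2 ?_)
      · rw [← Ideal.comap_map_eq_self_of_faithfullyFlat (B := B)
          (Ideal.span (a '' (maximalIdeal B).generators))]
        intro x hx
        exact hle (h.map_max ▸ Ideal.mem_map_of_mem _ hx)
      · rintro _ ⟨b, hb, rfl⟩
        have hbm : b ∈ maximalIdeal B := by
          rw [← Submodule.span_generators (maximalIdeal B)]
          exact Submodule.subset_span hb
        have h1 : algebraMap A B (a b) ∈ maximalIdeal B := by
          have := add_mem (Ideal.pow_le_self two_ne_zero (ha b)) hbm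
          simpa using this
        rw [← IsLocalRing.maximalIdeal_comap (algebraMap A B)]
        exact h1
    rw [heq]
    exact (Submodule.spanFinrank_span_le_ncard_of_finite (hfin.image a)).trans
      ((Set.ncard_image_le hfin).trans_eq (Submodule.FG.generators_ncard fg))
  · have fg : (maximalIdeal A).FG := IsNoetherian.noetherian _
    have hfin := Submodule.FG.finite_generators fg
    rw [← h.map_max]
    conv_lhs => rw [← Submodule.span_generators (maximalIdeal A), Ideal.map_span]
    exact (Submodule.spanFinrank_span_le_ncard_of_finite (hfin.image _)).trans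
      ((Set.ncard_image_le hfin).trans_eq (Submodule.FG.generators_ncard fg))

theorem CplEquiv.isRegularLocalRing_iff (h : CplEquiv A B) :
    IsRegularLocalRing A ↔ IsRegularLocalRing B := by
  rw [_root_.isRegularLocalRing_iff, _root_.isRegularLocalRing_iff, h.ringKrullDim_eq, h.spanFinrank_eq]

end Groth.ZetaAn
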