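import Groth.Agent.ZetaAn.StalkCompletion
import Groth.Agent.ZetaAn.CompleteEquiv
import Groth.Agent.ZetaAn.PtsMorphisms
import Groth.Agent.Calg4.FlatDepth

/-! Properties of the map from algebraic to holomorphic local rings at complex points. -/

set_option autoImplicit false
set_option linter.style.haveILetI false
set_option backward.isDefEq.respectTransparency false

open CategoryTheory AlgebraicGeometry Topology TopologicalSpace Filter

namespace Groth.ZetaAn

open An

variable {X : Scheme.{0}} [X.Over An.SC] [LocallyOfFiniteType (X ↘ SC)] [IsReduced X]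

/-- The algebra structure of the holomorphic local ring over the algebraic one. -/
noncomputable abbrev algAn (x : Pts X) : Algebra (X.presheaf.stalk x.pt) (anStalk x) :=
  (phiAn x).hom.toAlgebra

omit [IsReduced X] in
lemma isNoetherianRing_stalk (x : Pts X) : IsNoetherianRing (X.presheaf.stalk x.pt) := by
  haveI := isLocallyNoetherian X
  infer_instance

omit [IsReduced X] in
lemma maximalIdeal_eq_maxAn (x : Pts X) [IsLocalRing (anStalk x)] :
    IsLocalRing.maximalIdeal (anStalk x) = maxAn x :=
  (maximalIdeal_anStalk x (IsLocalRing.maximalIdeal.isMaximal _)).trans (maxAn_eq_ker x).symm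

lemma cplEquiv (x : Pts X) [IsLocalRing (anStalk x)] :
    letI := algAn x
    CplEquiv (X.presheaf.stalk x.pt) (anStalk x) :=
  letI := algAn x
  { map_max := (maximalIdeal_eq_maxAn x).symm
    surj := fun n b => by
      rw [maximalIdeal_eq_maxAn]
      exact exists_phiAn_sub_mem x n b
    inj := fun n a ha => by
      rw [maximalIdeal_eq_maxAn] at ha
      exact mem_pow_of_phiAn_mem x n a ha }

theorem flat_phiAn (x : Pts X) : (phiAn x).hom.Flat := by
  haveI := isLocalRing_anStalk x
  haveI := isNoetherianRing_anStalk x
  haveI := isNoetherianRing_stalk x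
  letI := algAn x
  exact (cplEquiv x).flat

theorem ringKrullDim_anStalk (x : Pts X) :
    ringKrullDim (X.presheaf.stalk x.pt) = ringKrullDim (anStalk x) := by
  haveI := isLocalRing_anStalk x
  haveI := isNoetherianRing_anStalk x
  haveI := isNoetherianRing_stalk x
  letI := algAn x
  exact (cplEquiv x).ringKrullDim_eq

theorem isRegularLocalRing_anStalk_iff (x : Pts X) :
    IsRegularLocalRing (X.presheaf.stalk x.pt) ↔ IsRegularLocalRing (anStalk x) := by
  haveI := isLocalRing_anStalk x
  haveI := isNoetherianRing_anStalk x
  haveI := isNoetherianRing_stalk x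
  letI := algAn x
  exact (cplEquiv x).isRegularLocalRing_iff

theorem depth_anStalk (x : Pts X) :
    LocCoh.depth (X.presheaf.stalk x.pt) (X.presheaf.stalk x.pt) =
      @LocCoh.depth (anStalk x) _ (isLocalRing_anStalk x) (anStalk x) _ _ := by
  haveI := isLocalRing_anStalk x
  haveI := isNoetherianRing_anStalk x
  haveI := isNoetherianRing_stalk x
  letI := algAn x
  haveI := (cplEquiv x).flat
  haveI := (cplEquiv x).isLocalHom
  refine le_antisymm Groth.Calg4.le_depth_of_flat (Groth.Calg4.depth_le_of_flat ?_)
  rw [(cplEquiv x).map_max]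
  exact Ideal.le_radical

theorem isCohenMacaulay_anStalk_iff (x : Pts X) :
    LocCoh.IsCohenMacaulayLocalRing (X.presheaf.stalk x.pt) ↔
      LocCoh.IsCohenMacaulayLocalRing (anStalk x) := by
  haveI := isLocalRing_anStalk x
  haveI := isNoetherianRing_anStalk x
  haveI := isNoetherianRing_stalk x
  constructor <;> intro h
  · refine ⟨?_⟩
    rw [Module.supportDim_self_eq_ringKrullDim, ← ringKrullDim_anStalk x, ← depth_anStalk x,
      ← Module.supportDim_self_eq_ringKrullDim]
    exact h.supportDim_eq_depth
  · refine ⟨?_⟩
    rw [Module.supportDim_self_eq_ringKrullDim, ringKrullDim_anStalk x, depth_anStalk x,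
      ← Module.supportDim_self_eq_ringKrullDim]
    exact h.supportDim_eq_depth

end Groth.ZetaAn
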