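import Groth.Agent.ZetaAn.StalkAn
import Groth.Agent.ZetaAn.PtsProperMap
import Mathlib.RingTheory.Localization.AtPrime.Basic

/-!
The map from the algebraic local ring at a complex point to the ring of holomorphic germs
induces an isomorphism on completions.
-/

set_option autoImplicit false
set_option linter.style.haveILetI false
set_option backward.isDefEq.respectTransparency false

open CategoryTheory AlgebraicGeometry Topology TopologicalSpace Filter

namespace Groth.ZetaAn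

open An

variable {X : Scheme.{0}} [X.Over An.SC]

/-- The map from the algebraic to the analytic local ring. -/
noncomputable abbrev phiAn (x : Pts X) : X.presheaf.stalk x.pt ⟶ anStalk x :=
  PresheafedSpace.Hom.stalkMap (An.anToScheme X) x

lemma toGerm_phiAn (x : Pts X) (W : X.Opens) (hx : x.pt ∈ W) (a : Γ(X, W)) :
    toGerm x (phiAn x (X.presheaf.germ W x.pt hx a)) = (evExt W a : Filter.Germ (𝓝 x) ℂ) := by
  let U : Opens (An.top X) := (Opens.map (TopCat.ofHom ⟨Pts.pt, Pts.continuous_pt⟩)).obj W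
  have h : phiAn x (X.presheaf.germ W x.pt hx a) = (holPresheaf X).germ U x hx (toHolApp W a) := by
    have := congrArg (fun m : Γ(X, W) ⟶ anStalk x => m a)
      (PresheafedSpace.stalkMap_germ (An.anToScheme X) W x hx)
    exact this
  rw [h, toGerm_germ]
  exact Filter.Germ.coe_eq.2 (eventually_of_mem ((Pts.isOpen_preimage_pt W).mem_nhds hx)
    fun y hy => (ext0_apply U _ hy).trans (evExt_of_mem a hy).symm)

lemma valueAn_phiAn (x : Pts X) (W : X.Opens) (hx : x.pt ∈ W) (a : Γ(X, W)) :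
    valueAn x (phiAn x (X.presheaf.germ W x.pt hx a)) = x.ev W hx a := by
  show (toGerm x _).value = _
  rw [toGerm_phiAn]
  exact evExt_of_mem a hx

variable [LocallyOfFiniteType (X ↘ SC)]

/-- Every holomorphic germ is represented by a function continuous at the point. -/
lemma exists_tendsto_rep (x : Pts X) (b : anStalk x) :
    ∃ f : Pts X → ℂ, toGerm x b = (f : Filter.Germ (𝓝 x) ℂ) ∧ Tendsto f (𝓝 x) (𝓝 (valueAn x b)) := by
  obtain ⟨W, hW, hx, n, s, hs⟩ := exists_chart x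
  obtain ⟨g, rfl⟩ := chartHom_surjective hx s hW hs b
  obtain ⟨F, hF, rfl⟩ := SCV.exists_mk g
  refine ⟨F ∘ coord s x hx, (toGerm_chartHom hx s hW hs _).trans (psi_mk s x hx F hF), ?_⟩
  rw [valueAn_chartHom, SCV.value_mk]
  exact hF.self_of_nhds.continuousAt.tendsto.comp (tendsto_coord s x hx)

/-- Germs bounded by a multiple of `ρ` near `x`. -/
noncomputable def anBigO (x : Pts X) (ρ : Pts X → ℝ) : Ideal (anStalk x) where
  carrier := {b | ∃ f : Pts X → ℂ, toGerm x b = (f : Filter.Germ (𝓝 x) ℂ) ∧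
    ∃ C : ℝ, 0 ≤ C ∧ ∀ᶠ y in 𝓝 x, ‖f y‖ ≤ C * |ρ y|}
  zero_mem' := ⟨0, map_zero _, 0, le_rfl, Eventually.of_forall fun y => by simp⟩
  add_mem' := by
    rintro a b ⟨f, hf, C, hC, hfC⟩ ⟨g, hg, D, hD, hgD⟩
    refine ⟨f + g, by rw [map_add, hf, hg]; rfl, C + D, add_nonneg hC hD,
      (hfC.and hgD).mono fun y h => ?_⟩
    rw [Pi.add_apply, add_mul]
    exact (norm_add_le _ _).trans (add_le_add h.1 h.2)
  smul_mem' := by
    rintro c a ⟨f, hf, C, hC, hfC⟩
    obtain ⟨g, hg, hgt⟩ := exists_tendsto_rep x c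
    refine ⟨g * f, by rw [smul_eq_mul, map_mul, hf, hg]; rfl, (‖valueAn x c‖ + 1) * C, by positivity,
      (hfC.and (hgt.norm.eventually (gt_mem_nhds (lt_add_one _)))).mono fun y h => ?_⟩
    rw [Pi.mul_apply, norm_mul, mul_assoc]
    exact mul_le_mul h.2.le h.1 (norm_nonneg _) (by positivity)

lemma anBigO_mul_le (x : Pts X) (ρ σ : Pts X → ℝ) :
    anBigO x ρ * anBigO x σ ≤ anBigO x (fun y => ρ y * σ y) := by
  rw [Ideal.mul_le]
  rintro a ⟨f, hf, C, hC, hfC⟩ b ⟨g, hg, D, hD, hgD⟩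
  refine ⟨f * g, by rw [map_mul, hf, hg]; rfl, C * D, mul_nonneg hC hD,
    (hfC.and hgD).mono fun y h => ?_⟩
  rw [Pi.mul_apply, norm_mul, abs_mul, mul_mul_mul_comm]
  exact mul_le_mul h.1 h.2 (norm_nonneg _) (mul_nonneg hC (abs_nonneg _))

lemma anBigO_pow_le (x : Pts X) (ρ : Pts X → ℝ) (k : ℕ) :
    anBigO x ρ ^ k ≤ anBigO x (fun y => ρ y ^ k) := by
  induction k with
  | zero =>
    intro b _
    obtain ⟨f, hf, hft⟩ := exists_tendsto_rep x b
    exact ⟨f, hf, ‖valueAn x b‖ + 1, by positivity,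
      (hft.norm.eventually (gt_mem_nhds (lt_add_one _))).mono fun y h => by simpa using h.le⟩
  | succ k ih =>
    rw [pow_succ]
    refine ((Ideal.mul_mono ih le_rfl).trans (anBigO_mul_le x _ _)).trans (le_of_eq ?_)
    simp only [pow_succ]

/-- `m·O_an` -/
noncomputable abbrev maxAn (x : Pts X) : Ideal (anStalk x) :=
  (IsLocalRing.maximalIdeal (X.presheaf.stalk x.pt)).map (phiAn x).hom

section

variable {W : X.Opens} (hW : IsAffineOpen W) {x : Pts X} (hx : x.pt ∈ W)

include hW hx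

omit [LocallyOfFiniteType (X ↘ SC)] in
lemma maxAn_eq_map :
    letI := algSec W
    maxAn x = (RingHom.ker (evAlgHom W x hx)).map
      ((phiAn x).hom.comp (X.presheaf.germ W x.pt hx).hom) := by
  letI := algSec W
  letI : Algebra Γ(X, W) (X.presheaf.stalk x.pt) := (X.presheaf.germ W x.pt hx).hom.toAlgebra
  haveI : IsLocalization.AtPrime (X.presheaf.stalk x.pt) (hW.primeIdealOf ⟨x.pt, hx⟩).asIdeal :=
    hW.isLocalization_stalk ⟨x.pt, hx⟩
  rw [maxAn, ← Ideal.map_map, ker_evAlgHom hW hx]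
  congr 1
  exact (IsLocalization.AtPrime.map_eq_maximalIdeal (hW.primeIdealOf ⟨x.pt, hx⟩).asIdeal
    (X.presheaf.stalk x.pt)).symm

omit [LocallyOfFiniteType (X ↘ SC)] in
lemma maxAn_eq_ker_of_generates {n : ℕ} (s : Fin n → Γ(X, W)) (hs : Generates s) :
    maxAn x = RingHom.ker (valueAn x) := by
  letI := algSec W
  rw [maxAn_eq_map hW hx]
  refine le_antisymm (Ideal.map_le_iff_le_comap.2 fun r hr => ?_) fun b hb => ?_
  · show valueAn x _ = 0
    exact (valueAn_phiAn x W hx r).trans hr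
  · obtain ⟨g, rfl⟩ := chartHom_surjective hx s hW hs b
    rw [RingHom.mem_ker, valueAn_chartHom] at hb
    have hg : g ∈ Ideal.span (Set.range (SCV.lin (E := Fin n → ℂ))) :=
      SCV.ker_value_eq_span (Fin n → ℂ) ▸ hb
    have key : (Ideal.span (Set.range (SCV.lin (E := Fin n → ℂ)))).map (chartHom hx s hW hs) ≤
        (RingHom.ker (evAlgHom W x hx)).map ((phiAn x).hom.comp (X.presheaf.germ W x.pt hx).hom) := ?_
    · exact key (Ideal.mem_map_of_mem _ hg)
    rw [Ideal.map_span, Ideal.span_le]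
    rintro _ ⟨_, ⟨L, rfl⟩, rfl⟩
    set r : Γ(X, W) := ∑ i, algebraMap ℂ Γ(X, W) (L (Pi.single i 1)) *
      (s i - algebraMap ℂ Γ(X, W) (x.ev W hx (s i)))
    have hev : ∀ (y : Pts X) (hy : y.pt ∈ W), evAlgHom W y hy r = L (coord s x hx y) := by
      intro y hy
      simp only [r, map_sum, map_mul, map_sub, AlgHom.commutes, evAlgHom_apply]
      conv_rhs => rw [pi_eq_sum_univ' (coord s x hx y)]
      rw [map_sum]
      refine Finset.sum_congr rfl fun i _ => ?_
      rw [map_smul, smul_eq_mul]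
      simp [coord, hy, mul_comm]
    have h1 : chartHom hx s hW hs (SCV.lin L) = phiAn x (X.presheaf.germ W x.pt hx r) := by
      apply toGerm_injective x
      rw [toGerm_chartHom, toGerm_phiAn]
      refine Filter.Germ.coe_eq.2 (eventually_of_mem ((Pts.isOpen_preimage_pt W).mem_nhds hx) fun y hy => ?_)
      exact ((evExt_of_mem r hy).trans (hev y hy)).symm
    rw [h1]
    refine Ideal.mem_map_of_mem ((phiAn x).hom.comp (X.presheaf.germ W x.pt hx).hom) ?_
    rw [RingHom.mem_ker, hev x hx, coord_self, map_zero]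

omit [LocallyOfFiniteType (X ↘ SC)] hW in
lemma exists_phiAn_value (c : ℂ) : ∃ a, valueAn x (phiAn x a) = c := by
  letI := algSec W
  exact ⟨_, (valueAn_phiAn x W hx (algebraMap ℂ Γ(X, W) c)).trans (ev_algebraMap W x hx c)⟩

end

theorem maxAn_eq_ker (x : Pts X) : maxAn x = RingHom.ker (valueAn x) := by
  obtain ⟨W, hW, hx, n, s, hs⟩ := exists_chart x
  exact maxAn_eq_ker_of_generates hW hx s hs

lemma exists_approx_succ (x : Pts X) (k : ℕ) {b : anStalk x} (hb : b ∈ maxAn x ^ k) :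
    ∃ a ∈ IsLocalRing.maximalIdeal (X.presheaf.stalk x.pt) ^ k, b - phiAn x a ∈ maxAn x ^ (k + 1) := by
  rw [maxAn, ← Ideal.map_pow] at hb
  induction hb using Submodule.span_induction with
  | mem b hb => obtain ⟨a, ha, rfl⟩ := hb; exact ⟨a, ha, by rw [sub_self]; exact zero_mem _⟩
  | zero => exact ⟨0, zero_mem _, by rw [map_zero, sub_zero]; exact zero_mem _⟩
  | add b c _ _ ihb ihc =>
    obtain ⟨a, ha, hab⟩ := ihb
    obtain ⟨a', ha', hac⟩ := ihc
    refine ⟨a + a', add_mem ha ha', ?_⟩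
    rw [map_add, add_sub_add_comm]
    exact add_mem hab hac
  | smul c b hbmem ih =>
    obtain ⟨a, ha, hab⟩ := ih
    obtain ⟨W, hW, hx⟩ := exists_affine_chart x
    obtain ⟨κ, hκ⟩ := exists_phiAn_value hx (valueAn x c)
    refine ⟨κ * a, Ideal.mul_mem_left _ _ ha, ?_⟩
    have h1 : c - phiAn x κ ∈ maxAn x := by
      rw [maxAn_eq_ker, RingHom.mem_ker, map_sub, hκ, sub_self]
    have h2 : phiAn x a ∈ maxAn x ^ k := by
      rw [maxAn, ← Ideal.map_pow]; exact Ideal.mem_map_of_mem _ ha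
    have : c • b - phiAn x (κ * a) = (c - phiAn x κ) * phiAn x a + c * (b - phiAn x a) := by
      rw [smul_eq_mul, map_mul]; ring
    rw [this]
    refine add_mem ?_ (Ideal.mul_mem_left _ _ hab)
    rw [pow_succ']
    exact Ideal.mul_mem_mul h1 h2

theorem exists_approx (x : Pts X) (n j : ℕ) {b : anStalk x} (hb : b ∈ maxAn x ^ n) :
    ∃ a ∈ IsLocalRing.maximalIdeal (X.presheaf.stalk x.pt) ^ n, b - phiAn x a ∈ maxAn x ^ (n + j) := by
  induction j with
  | zero => exact ⟨0, zero_mem _, by rw [map_zero, sub_zero, add_zero]; exact hb⟩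
  | succ j ih =>
    obtain ⟨a, ha, hab⟩ := ih
    obtain ⟨a', ha', hab'⟩ := exists_approx_succ x (n + j) hab
    refine ⟨a + a', add_mem ha (Ideal.pow_le_pow_right (Nat.le_add_right _ _) ha'), ?_⟩
    rw [map_add, ← sub_sub]
    exact hab'

theorem exists_phiAn_sub_mem (x : Pts X) (n : ℕ) (b : anStalk x) :
    ∃ a, phiAn x a - b ∈ maxAn x ^ n := by
  obtain ⟨a, -, ha⟩ := exists_approx x 0 n (b := b) (by simp)
  refine ⟨a, ?_⟩
  rw [zero_add] at ha
  rw [← neg_sub]
  exact neg_mem ha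

variable [IsReduced X]

theorem mem_pow_of_phiAn_mem (x : Pts X) (n : ℕ) (a : X.presheaf.stalk x.pt)
    (ha : phiAn x a ∈ maxAn x ^ n) : a ∈ IsLocalRing.maximalIdeal (X.presheaf.stalk x.pt) ^ n := by
  obtain ⟨W, hW, hx⟩ := exists_affine_chart x
  letI := algSec W
  haveI := finiteType_algSec hW
  haveI : _root_.IsReduced Γ(X, W) := inferInstance
  haveI : IsNoetherianRing Γ(X, W) := Algebra.FiniteType.isNoetherianRing ℂ _
  set φ₀ := evAlgHom W x hx
  obtain ⟨k, t, ht⟩ := Submodule.fg_iff_exists_fin_generating_family.1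
    (IsNoetherian.noetherian (RingHom.ker φ₀))
  obtain ⟨N, hN⟩ := exists_growth_exponent φ₀ t ht n
  obtain ⟨a', ha', hsub⟩ := exists_approx x n N ha
  letI : Algebra Γ(X, W) (X.presheaf.stalk x.pt) := (X.presheaf.germ W x.pt hx).hom.toAlgebra
  haveI : IsLocalization.AtPrime (X.presheaf.stalk x.pt) (hW.primeIdealOf ⟨x.pt, hx⟩).asIdeal :=
    hW.isLocalization_stalk ⟨x.pt, hx⟩
  obtain ⟨⟨r, u⟩, hru⟩ := IsLocalization.surj (hW.primeIdealOf ⟨x.pt, hx⟩).asIdeal.primeCompl (a - a')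
  set ρ : Pts X → ℝ := fun y => ∑ i, ‖evExt W (t i) y‖
  have hmax : maxAn x ≤ anBigO x ρ := by
    rw [maxAn_eq_map hW hx, ← ht, Ideal.map_span, Ideal.span_le]
    rintro _ ⟨_, ⟨i, rfl⟩, rfl⟩
    refine ⟨_, toGerm_phiAn x W hx (t i), 1, zero_le_one, Eventually.of_forall fun y => ?_⟩
    rw [one_mul, abs_of_nonneg (Finset.sum_nonneg fun _ _ => norm_nonneg _)]
    exact Finset.single_le_sum (f := fun i => ‖evExt W (t i) y‖) (fun _ _ => norm_nonneg _) (Finset.mem_univ i)
  have hr : phiAn x (X.presheaf.germ W x.pt hx r) ∈ anBigO x (fun y => ρ y ^ (n + N)) := by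
    have : phiAn x (a - a') ∈ maxAn x ^ (n + N) := by rw [map_sub]; exact hsub
    refine anBigO_pow_le x ρ _ (Ideal.pow_right_mono hmax _ ?_)
    rw [show X.presheaf.germ W x.pt hx r = (a - a') * X.presheaf.germ W x.pt hx u.1 from hru.symm, map_mul]
    exact Ideal.mul_mem_right _ _ this
  obtain ⟨f, hf, C, hC, hfC⟩ := hr
  rw [toGerm_phiAn] at hf
  have hfC' : ∀ᶠ y in 𝓝 x, ‖evExt W r y‖ ≤ C * |ρ y ^ (n + N)| := by
    filter_upwards [hfC, Filter.Germ.coe_eq.1 hf] with y h1 h2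
    rwa [h2]
  have hbig : r ∈ bigO φ₀ (fun ψ => gauge t ψ ^ (n + N)) := by
    refine ⟨C, hC, (eventually_of_evNhds hW hx hfC').mono ?_⟩
    rintro ψ ⟨y, hy, rfl, h⟩
    simp only [ρ, evExt_of_mem _ hy] at h
    exact h
  obtain ⟨σ, hσ, hσr⟩ := hN r (bigO_gauge_pow_mono φ₀ t
    (fun i => RingHom.mem_ker.1 (ht ▸ Ideal.subset_span ⟨i, rfl⟩)) (Nat.le_add_left N n) hbig)
  have hu : IsUnit (algebraMap Γ(X, W) (X.presheaf.stalk x.pt) (σ * u.1)) := by
    rw [map_mul]
    refine IsUnit.mul ?_ (IsLocalization.map_units _ u)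
    refine IsLocalization.map_units (M := (hW.primeIdealOf ⟨x.pt, hx⟩).asIdeal.primeCompl) _ ⟨σ, ?_⟩
    show σ ∉ _
    rw [← ker_evAlgHom hW hx]
    exact hσ
  have hmem : algebraMap Γ(X, W) (X.presheaf.stalk x.pt) (σ * r) ∈
      IsLocalRing.maximalIdeal (X.presheaf.stalk x.pt) ^ n := by
    rw [← IsLocalization.AtPrime.map_eq_maximalIdeal (hW.primeIdealOf ⟨x.pt, hx⟩).asIdeal
      (X.presheaf.stalk x.pt), ← ker_evAlgHom hW hx, ← Ideal.map_pow]
    exact Ideal.mem_map_of_mem _ hσr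
  rw [map_mul, ← hru, mul_left_comm, ← map_mul, Ideal.mul_unit_mem_iff_mem _ hu] at hmem
  simpa using add_mem hmem ha'

end Groth.ZetaAn
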