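import Groth.Agent.ZetaAn.EtaleAn
import Mathlib.AlgebraicGeometry.Morphisms.FlatMono
import Mathlib.AlgebraicGeometry.Morphisms.UniversallyOpen

/-! A morphism is an isomorphism iff it induces an isomorphism of associated analytic spaces. -/

set_option autoImplicit false
set_option linter.style.haveILetI false
set_option backward.isDefEq.respectTransparency false

open CategoryTheory AlgebraicGeometry Topology TopologicalSpace Filter Limits

namespace Groth.ZetaAn

open An

variable {X Y : Scheme.{0}} [X.Over An.SC] [Y.Over An.SC] (f : X ⟶ Y) [f.IsOver SC]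

lemma bijective_psiAn_of_homeomorph (e : Pts X ≃ₜ Pts Y) (he : ⇑e = Pts.map f)
    (hol : IsHolMap (⟨e.symm, e.symm.continuous⟩ : C(Pts Y, Pts X))) (x : Pts X) :
    Function.Bijective (psiAn f x) := by
  have hnhds : Filter.map e (𝓝 x) = 𝓝 (Pts.map f x) := by rw [e.map_nhds_eq, he]
  constructor
  · rw [injective_iff_map_eq_zero]
    intro b hb
    obtain ⟨U, hU, g, rfl⟩ := exists_germRep (Pts.map f x) b
    have h := congrArg (toGerm x) hb
    rw [map_zero, toGerm_psiAn] at h
    apply toGerm_injective
    rw [map_zero, toGerm_germ]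
    refine Filter.Germ.coe_eq.2 ?_
    rw [EventuallyEq, ← hnhds, eventually_map]
    filter_upwards [Filter.Germ.coe_eq.1 h] with y hy
    rw [he]
    exact hy
  · intro b
    obtain ⟨U, hU, g, rfl⟩ := exists_germRep x b
    let V : Opens (An.top Y) :=
      (Opens.map (TopCat.ofHom (⟨e.symm, e.symm.continuous⟩ : C(Pts Y, Pts X)))).obj U
    have hV : Pts.map f x ∈ V := by
      show e.symm (Pts.map f x) ∈ U
      rwa [← he, e.symm_apply_apply]
    let g' : (holPresheaf Y).obj (Opposite.op V) :=
      ⟨fun y => g.1 ⟨e.symm y.1, y.2⟩, hol U g.1 g.2⟩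
    refine ⟨(holPresheaf Y).germ V _ hV g', toGerm_injective x ?_⟩
    rw [toGerm_psiAn, toGerm_germ]
    refine Filter.Germ.coe_eq.2 (eventually_of_mem (U.2.mem_nhds hU) fun y hy => ?_)
    have hyV : Pts.map f y ∈ V := by
      show e.symm (Pts.map f y) ∈ U
      rwa [← he, e.symm_apply_apply]
    rw [Function.comp_apply, ext0_apply V _ hyV, ext0_apply U _ hy]
    show g.1 ⟨e.symm (Pts.map f y), hyV⟩ = g.1 ⟨y, hy⟩
    exact congrArg g.1 (Subtype.ext (show e.symm (Pts.map f y) = y by rw [← he, e.symm_apply_apply]))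

variable [LocallyOfFiniteType (X ↘ SC)] [LocallyOfFiniteType (Y ↘ SC)] [IsReduced X] [IsReduced Y]

theorem isIso_iff_an :
    IsIso f ↔ ∃ e : Pts X ≃ₜ Pts Y, (⇑e = Pts.map f) ∧
      IsHolMap (⟨e.symm, e.symm.continuous⟩ : C(Pts Y, Pts X)) := by
  constructor
  · intro _
    haveI : (inv f).IsOver SC := ⟨by rw [IsIso.inv_comp_eq, comp_over]⟩
    refine ⟨⟨⟨Pts.map f, Pts.map (inv f), fun x => Subtype.ext ?_, fun y => Subtype.ext ?_⟩,
      Pts.continuous_map f, Pts.continuous_map _⟩, rfl, fun V g hg => An.holPred_comp (inv f) V g hg⟩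
    · show (x.1 ≫ f) ≫ inv f = x.1
      simp
    · show (y.1 ≫ inv f) ≫ f = y.1
      simp
  · rintro ⟨e, he, hol⟩
    haveI : Etale f := (etale_iff_an f).2 (bijective_psiAn_of_homeomorph f e he hol)
    haveI := lft_pullback f
    haveI := isLocallyNoetherian (pullback f f)
    have hinj : Function.Injective (Pts.map f) := he ▸ e.injective
    have huniv : Set.range (pullback.diagonal f).base = Set.univ := by
      refine eq_univ_of_preimage_pt
        (isLocallyConstructible_of_isLocallyClosed (pullback.diagonal f).isLocallyClosed_range) ?_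
      rw [preimage_range_diagonal]
      exact Set.eq_univ_of_forall fun z => hinj (Pts.map_pullback_condition f f z)
    haveI : Surjective (pullback.diagonal f) := ⟨Set.range_eq_univ.1 huniv⟩
    haveI : IsIso (pullback.diagonal f) :=
      (isIso_iff_isOpenImmersion_and_surjective _).2 ⟨inferInstance, inferInstance⟩
    haveI : Mono f := (pullback.isIso_diagonal_iff f).1 inferInstance
    haveI : IsOpenImmersion f := IsOpenImmersion.of_flat_of_mono f
    refine (isIso_iff_isOpenImmersion_and_surjective _).2
      ⟨inferInstance, ⟨Set.range_eq_univ.1 ?_⟩⟩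
    haveI := isLocallyNoetherian Y
    refine eq_univ_of_preimage_pt (isLocallyConstructible_of_isLocallyClosed
      f.isOpenEmbedding.isOpen_range.isLocallyClosed) ?_
    refine (range_map f).symm.trans ?_
    rw [← he]
    exact e.surjective.range_eq

end Groth.ZetaAn
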