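import Groth.Agent.ZetaAn.AnFibres

/-! Serre's conditions and normality for holomorphic local rings. -/

set_option autoImplicit false
set_option linter.style.haveILetI false
set_option backward.isDefEq.respectTransparency false

open CategoryTheory AlgebraicGeometry Topology TopologicalSpace Filter

namespace Groth.ZetaAn

open An

variable {X : Scheme.{0}} [X.Over An.SC] [LocallyOfFiniteType (X ↘ SC)] [IsReduced X]

/-- Every prime of the algebraic local ring is under a minimal prime of its extension. -/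
lemma exists_minimalPrime_over (x : Pts X) (p : Ideal (X.presheaf.stalk x.pt)) [p.IsPrime] :
    ∃ (P' : Ideal (anStalk x)) (_ : P'.IsPrime),
      P'.comap (phiAn x).hom = p ∧ P' ∈ (p.map (phiAn x).hom).minimalPrimes := by
  haveI := isLocalRing_anStalk x
  haveI := isNoetherianRing_anStalk x
  haveI := isNoetherianRing_stalk x
  letI := algAn x
  haveI := (cplEquiv x).flat
  haveI := (cplEquiv x).isLocalHom
  haveI : Module.FaithfullyFlat (X.presheaf.stalk x.pt) (anStalk x) :=
    Module.FaithfullyFlat.of_flat_of_isLocalHom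
  obtain ⟨⟨Q, hQ⟩, hQp⟩ := PrimeSpectrum.comap_surjective_of_faithfullyFlat (B := anStalk x) ⟨p, ‹_›⟩
  have hQp' : Q.comap (phiAn x).hom = p := congrArg PrimeSpectrum.asIdeal hQp
  obtain ⟨P', hP', hle⟩ := Ideal.exists_minimalPrimes_le (I := p.map (phiAn x).hom) (J := Q)
    (Ideal.map_le_iff_le_comap.2 hQp'.ge)
  refine ⟨P', hP'.1.1, le_antisymm ?_ (Ideal.map_le_iff_le_comap.1 hP'.1.2), hP'⟩
  exact (Ideal.comap_mono hle).trans hQp'.le

theorem hasRk_anStalk_iff (x : Pts X) (n : ℕ) :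
    LocCoh.HasRk n (X.presheaf.stalk x.pt) ↔ LocCoh.HasRk n (anStalk x) := by
  refine ⟨fun h P' _ hP => ?_, fun h p _ hp => ?_⟩
  · obtain ⟨hle, hreg, -, -⟩ := localized_facts x P'
    exact hreg (h _ (hle.trans hP))
  · obtain ⟨P', _, rfl, hmin⟩ := exists_minimalPrime_over x p
    obtain ⟨hh, hreg, -⟩ := (localized_facts x P').2.2.2 hmin
    exact hreg (h P' (hh ▸ hp))

theorem hasSk_anStalk_iff (x : Pts X) (n : ℕ) :
    LocCoh.HasSk n (X.presheaf.stalk x.pt) (X.presheaf.stalk x.pt) ↔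
      LocCoh.HasSk n (anStalk x) (anStalk x) := by
  haveI := isNoetherianRing_anStalk x
  haveI := isNoetherianRing_stalk x
  rw [Groth.Calg1.hasSk_self_iff, Groth.Calg1.hasSk_self_iff]
  refine ⟨fun h P' _ => (localized_facts x P').2.2.1 n (h _), fun h p _ => ?_⟩
  obtain ⟨P', _, rfl, hmin⟩ := exists_minimalPrime_over x p
  obtain ⟨hh, -, hdep⟩ := (localized_facts x P').2.2.2 hmin
  rw [← hh, ← hdep]
  exact h P'

lemma normal_iff_R1_S2 (R : Type) [CommRing R] [IsNoetherianRing R] [IsLocalRing R] :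
    (IsDomain R ∧ IsIntegrallyClosed R) ↔ (LocCoh.HasRk 1 R ∧ LocCoh.HasSk 2 R R) := by
  refine ⟨fun ⟨_, _⟩ => Groth.Calg1.normal_iff.1 fun p _ => ?_, fun ⟨hR, hS⟩ => ?_⟩
  · exact ⟨IsLocalization.isDomain_localization p.primeCompl_le_nonZeroDivisors,
      isIntegrallyClosed_of_isLocalization _ p.primeCompl p.primeCompl_le_nonZeroDivisors⟩
  · haveI := Groth.Calg1.isDomain_of_R1_S2 hR hS
    exact ⟨inferInstance, Groth.Calg1.isIntegrallyClosed_of_R1_S2 hR hS⟩

theorem normal_anStalk_iff (x : Pts X) :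
    (IsDomain (X.presheaf.stalk x.pt) ∧ IsIntegrallyClosed (X.presheaf.stalk x.pt)) ↔
      (IsDomain (anStalk x) ∧ IsIntegrallyClosed (anStalk x)) := by
  haveI := isLocalRing_anStalk x
  haveI := isNoetherianRing_anStalk x
  haveI := isNoetherianRing_stalk x
  rw [normal_iff_R1_S2, normal_iff_R1_S2, hasRk_anStalk_iff, hasSk_anStalk_iff]

end Groth.ZetaAn
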