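import Groth.Agent.ZetaAn.CompleteEquiv
import Mathlib.RingTheory.Flat.EquationalCriterion

/-!
Flatness over a Noetherian local ring passes to a ring with the same completion.
-/

set_option autoImplicit false
set_option linter.style.haveILetI false

open IsLocalRing TensorProduct

namespace Groth.ZetaAn

variable {A B C : Type} [CommRing A] [CommRing B] [Algebra A B] [IsLocalRing A] [IsLocalRing B]
  [IsNoetherianRing A] [IsNoetherianRing B]
  [CommRing C] [Algebra A C] [Algebra B C] [IsScalarTower A B C] [IsLocalRing C] [IsNoetherianRing C]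

theorem CplEquiv.flat_of_flat (h : CplEquiv A B)
    (hloc : (maximalIdeal B).map (algebraMap B C) ≤ maximalIdeal C) [Module.Flat A C] :
    Module.Flat B C := by
  classical
  rw [Module.Flat.iff_lTensor_injective']
  intro I
  rw [← LinearMap.ker_eq_bot, LinearMap.ker_eq_bot']
  intro x hx
  haveI : Module.Finite B I := Module.Finite.of_fg (IsNoetherian.noetherian I)
  suffices hk : ∀ k, x ∈ (maximalIdeal C ^ k • ⊤ : Submodule C (C ⊗[B] I)) by
    have := Ideal.iInf_pow_smul_eq_bot_of_isLocalRing (M := C ⊗[B] I) (maximalIdeal C)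
      (maximalIdeal.isMaximal C).ne_top
    rw [← Submodule.mem_bot C, ← this]
    exact (Submodule.mem_iInf _).2 hk
  intro k
  obtain ⟨c, hc⟩ := (maximalIdeal B).exists_pow_inf_eq_pow_smul I
  obtain ⟨S, rfl⟩ := TensorProduct.exists_finset x
  have hsum : ∑ i ∈ S, algebraMap B C (i.2 : B) * i.1 = 0 := by
    have := congrArg (TensorProduct.rid B C) hx
    simpa [Algebra.smul_def] using this
  -- lift the elements of `I` modulo a high power
  choose a ha using h.surj (k + c)
  obtain ⟨p, β, hβ⟩ := Submodule.fg_iff_exists_fin_generating_family.1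
    (IsNoetherian.noetherian (maximalIdeal A ^ (k + c)))
  have hmem : ∑ i ∈ S, algebraMap A C (a i.2) * i.1 ∈
      Ideal.span (Set.range (algebraMap A C ∘ β)) := by
    have h1 : (Ideal.span (Set.range β)).map (algebraMap A C) =
        (maximalIdeal B ^ (k + c)).map (algebraMap B C) := by
      rw [show Ideal.span (Set.range β) = maximalIdeal A ^ (k + c) from hβ,
        IsScalarTower.algebraMap_eq A B C, ← Ideal.map_map, Ideal.map_pow (algebraMap A B), h.map_max]
    rw [Set.range_comp, ← Ideal.map_span, h1]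
    have h2 : ∑ i ∈ S, algebraMap A C (a i.2) * i.1 =
        ∑ i ∈ S, algebraMap B C (algebraMap A B (a i.2) - i.2) * i.1 := by
      simp only [map_sub, sub_mul, Finset.sum_sub_distrib, hsum, sub_zero,
        ← IsScalarTower.algebraMap_apply]
    rw [h2]
    exact Ideal.sum_mem _ fun i _ => Ideal.mul_mem_right _ _ (Ideal.mem_map_of_mem _ (ha _))
  obtain ⟨d, hd⟩ := Ideal.mem_span_range_iff_exists_fun.1 hmem
  -- the relation over `A` is trivial
  have hrel : ∑ i : S ⊕ Fin p, Sum.elim (fun i : S => a i.1.2) β i •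
      Sum.elim (fun i : S => i.1.1) (fun j => -d j) i = 0 := by
    rw [Fintype.sum_sum_type]
    simp only [Sum.elim_inl, Sum.elim_inr, Algebra.smul_def, mul_neg, Finset.sum_neg_distrib]
    rw [Finset.sum_coe_sort S (fun i : C × I => algebraMap A C (a i.2) * i.1), ← hd]
    simp [mul_comm]
  obtain ⟨l, r, e, he, hr⟩ := Module.Flat.isTrivialRelation_of_sum_smul_eq_zero hrel
  let g : Fin l → I := fun j => ∑ i : S, algebraMap A B (r (Sum.inl i) j) • i.1.2
  have hx' : ∑ i ∈ S, i.1 ⊗ₜ[B] i.2 = ∑ j, e j ⊗ₜ[B] g j := by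
    rw [← Finset.sum_coe_sort S]
    simp only [g, tmul_sum, tmul_smul]
    rw [Finset.sum_comm]
    refine Finset.sum_congr rfl fun i _ => ?_
    have h3 := he (Sum.inl i)
    simp only [Sum.elim_inl] at h3
    conv_lhs => rw [h3, sum_tmul]
    refine Finset.sum_congr rfl fun j _ => ?_
    rw [smul_tmul', algebraMap_smul]
  rw [hx']
  refine Submodule.sum_mem _ fun j _ => ?_
  have hg : (g j : B) ∈ maximalIdeal B ^ k • (I : Submodule B B) := by
    have h1 : (g j : B) ∈ (maximalIdeal B ^ (k + c) • ⊤ : Submodule B B) ⊓ I := by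
      refine ⟨?_, (g j).2⟩
      rw [SetLike.mem_coe, smul_eq_mul, Ideal.mul_top]
      have h4 := congrArg (algebraMap A B) (hr j)
      rw [Fintype.sum_sum_type, map_add, map_sum, map_sum, map_zero] at h4
      simp only [Sum.elim_inl, Sum.elim_inr, map_mul] at h4
      have h5 : (g j : B) =
          ∑ i : S, algebraMap A B (r (Sum.inl i) j) * ((i.1.2 : B) - algebraMap A B (a i.1.2))
            - ∑ i, algebraMap A B (β i) * algebraMap A B (r (Sum.inr i) j) := by
        simp only [g, mul_sub, Finset.sum_sub_distrib, AddSubmonoidClass.coe_finset_sum,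
          SetLike.val_smul, smul_eq_mul]
        rw [eq_neg_of_add_eq_zero_right h4]
        simp only [mul_comm]
        ring
      rw [h5]
      refine sub_mem (Ideal.sum_mem _ fun i _ => Ideal.mul_mem_left _ _ ?_)
        (Ideal.sum_mem _ fun i _ => Ideal.mul_mem_right _ _ ?_)
      · rw [← neg_sub]; exact neg_mem (ha _)
      · rw [← h.map_max, ← Ideal.map_pow]
        exact Ideal.mem_map_of_mem _ (hβ ▸ Submodule.subset_span ⟨i, rfl⟩)
    rw [hc _ (Nat.le_add_left c k), Nat.add_sub_cancel] at h1
    exact Submodule.smul_mono le_rfl inf_le_right h1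
  rw [← Submodule.mem_smul_top_iff] at hg
  refine Submodule.smul_induction_on hg (fun s hs z _ => ?_) (fun u v hu hv => ?_)
  · rw [show e j ⊗ₜ[B] (s • z) = algebraMap B C s • (e j ⊗ₜ[B] z) by
      rw [tmul_smul, algebraMap_smul]]
    refine Submodule.smul_mem_smul ?_ Submodule.mem_top
    exact Ideal.pow_right_mono hloc k (Ideal.map_pow (algebraMap B C) _ k ▸ Ideal.mem_map_of_mem _ hs)
  · rw [tmul_add]; exact add_mem hu hv

end Groth.ZetaAn
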