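import Groth.Agent.ZetaAn.AnMapStalk
import Groth.Agent.ZetaAn.CplFlat
import Groth.Agent.EtaleAlgebra.WeaklyEtale
import Mathlib.AlgebraicGeometry.Morphisms.Flat

/-! Flatness of a morphism and of the induced maps of holomorphic local rings. -/

set_option autoImplicit false
set_option linter.style.haveILetI false
set_option backward.isDefEq.respectTransparency false

open CategoryTheory AlgebraicGeometry Topology TopologicalSpace Filter

namespace Groth.ZetaAn

open An

variable {X Y : Scheme.{0}} [X.Over An.SC] [Y.Over An.SC] [LocallyOfFiniteType (X ↘ SC)]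
  [LocallyOfFiniteType (Y ↘ SC)] (f : X ⟶ Y) [f.IsOver SC]

lemma map_maxAn_le (x : Pts X) : (maxAn (Pts.map f x)).map (psiAn f x).hom ≤ maxAn x := by
  rw [map_maxAn_psiAn]
  exact Ideal.map_mono (((IsLocalRing.local_hom_TFAE (stalkPts f x).hom).out 0 2 rfl rfl).1
    inferInstance)

theorem flat_psiAn_iff [IsReduced X] [IsReduced Y] (x : Pts X) :
    (psiAn f x).hom.Flat ↔ (stalkPts f x).hom.Flat := by
  haveI := isLocalRing_anStalk x
  haveI := isNoetherianRing_anStalk x
  haveI := isNoetherianRing_stalk x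
  haveI := isLocalRing_anStalk (Pts.map f x)
  haveI := isNoetherianRing_anStalk (Pts.map f x)
  haveI := isNoetherianRing_stalk (Pts.map f x)
  letI := algAn x
  letI := algAn (Pts.map f x)
  letI := (psiAn f x).hom.toAlgebra
  letI : Algebra (Y.presheaf.stalk (Pts.map f x).pt) (anStalk x) :=
    ((phiAn x).hom.comp (stalkPts f x).hom).toAlgebra
  haveI : IsScalarTower (Y.presheaf.stalk (Pts.map f x).pt) (anStalk (Pts.map f x)) (anStalk x) :=
    IsScalarTower.of_algebraMap_eq fun a => (psiAn_phiAn f x a).symm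
  constructor
  · intro h
    haveI : Module.Flat (anStalk (Pts.map f x)) (anStalk x) := h
    haveI := (cplEquiv (Pts.map f x)).flat
    haveI := (cplEquiv x).flat
    haveI := (cplEquiv x).isLocalHom
    haveI : Module.FaithfullyFlat (X.presheaf.stalk x.pt) (anStalk x) :=
      Module.FaithfullyFlat.of_flat_of_isLocalHom
    exact Groth.EtaleAlgebra.flat_of_comp_faithfullyFlat (stalkPts f x).hom (anStalk x)
      (Module.Flat.trans (Y.presheaf.stalk (Pts.map f x).pt) (anStalk (Pts.map f x)) (anStalk x))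
  · intro h
    haveI : Module.Flat (Y.presheaf.stalk (Pts.map f x).pt) (anStalk x) :=
      RingHom.Flat.comp h (flat_phiAn x)
    refine (cplEquiv (Pts.map f x)).flat_of_flat ?_
    rw [maximalIdeal_eq_maxAn, maximalIdeal_eq_maxAn]
    exact map_maxAn_le f x

theorem flat_of_stalks (H : ∀ x : Pts X, (stalkPts f x).hom.Flat) : Flat f := by
  rw [HasRingHomProperty.iff_appLE (P := @Flat)]
  intro ⟨U, hU⟩ ⟨V, hV⟩ e
  letI := algSec V
  haveI := finiteType_algSec hV
  letI := (f.appLE U V e).hom.toAlgebra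
  show Module.Flat Γ(Y, U) Γ(X, V)
  refine Module.flat_of_isLocalized_maximal Γ(X, V) Γ(X, V)
    (fun q _ => Localization.AtPrime q) (fun q _ => Algebra.linearMap _ _) fun q _ => ?_
  obtain ⟨χ, hχ⟩ := exists_algHom_ker_eq q
  obtain ⟨x, hx, hxχ⟩ := exists_pts_of_algHom hV χ
  have hq : q = (hV.primeIdealOf ⟨x.pt, hx⟩).asIdeal := by
    rw [← ker_evAlgHom hV hx, ← hχ]
    congr 1
    exact AlgHom.ext fun a => (hxχ a).symm
  subst hq
  have hy : (Pts.map f x).pt ∈ U := e hx
  letI algS : Algebra Γ(X, V) (X.presheaf.stalk x.pt) := (X.presheaf.germ V x.pt hx).hom.toAlgebra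
  haveI : IsLocalization.AtPrime (X.presheaf.stalk x.pt) (hV.primeIdealOf ⟨x.pt, hx⟩).asIdeal :=
    hV.isLocalization_stalk ⟨x.pt, hx⟩
  letI algR : Algebra Γ(Y, U) (Y.presheaf.stalk (Pts.map f x).pt) :=
    (Y.presheaf.germ U (Pts.map f x).pt hy).hom.toAlgebra
  haveI : IsLocalization.AtPrime (Y.presheaf.stalk (Pts.map f x).pt)
      (hU.primeIdealOf ⟨(Pts.map f x).pt, hy⟩).asIdeal :=
    hU.isLocalization_stalk ⟨(Pts.map f x).pt, hy⟩
  letI := (stalkPts f x).hom.toAlgebra
  letI algRS : Algebra Γ(Y, U) (X.presheaf.stalk x.pt) :=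
    ((algebraMap Γ(X, V) (X.presheaf.stalk x.pt)).comp (f.appLE U V e).hom).toAlgebra
  haveI : IsScalarTower Γ(Y, U) Γ(X, V) (X.presheaf.stalk x.pt) := IsScalarTower.of_algebraMap_eq' rfl
  haveI : IsScalarTower Γ(Y, U) (Y.presheaf.stalk (Pts.map f x).pt) (X.presheaf.stalk x.pt) := by
    refine IsScalarTower.of_algebraMap_eq fun r => ?_
    show X.presheaf.germ V x.pt hx (f.appLE U V e r) = stalkPts f x (Y.presheaf.germ U _ hy r)
    refine Eq.trans ?_ (f.germ_stalkMap_apply U x.pt hy r).symm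
    exact TopCat.Presheaf.germ_res_apply X.presheaf (homOfLE e) x.pt hx (f.app U r)
  haveI : Module.Flat Γ(Y, U) (Y.presheaf.stalk (Pts.map f x).pt) :=
    IsLocalization.flat _ (hU.primeIdealOf ⟨(Pts.map f x).pt, hy⟩).asIdeal.primeCompl
  haveI : Module.Flat (Y.presheaf.stalk (Pts.map f x).pt) (X.presheaf.stalk x.pt) := H x
  haveI : Module.Flat Γ(Y, U) (X.presheaf.stalk x.pt) :=
    Module.Flat.trans Γ(Y, U) (Y.presheaf.stalk (Pts.map f x).pt) _
  exact Module.Flat.of_linearEquiv
    ((IsLocalization.algEquiv (hV.primeIdealOf ⟨x.pt, hx⟩).asIdeal.primeCompl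
      (Localization.AtPrime (hV.primeIdealOf ⟨x.pt, hx⟩).asIdeal)
      (X.presheaf.stalk x.pt)).restrictScalars Γ(Y, U)).toLinearEquiv

theorem flat_iff_an [IsReduced X] [IsReduced Y] :
    Flat f ↔ ∀ x : Pts X, (psiAn f x).hom.Flat := by
  simp only [flat_psiAn_iff]
  exact ⟨fun _ x => Flat.stalkMap f x.pt, fun h => flat_of_stalks f h⟩

end Groth.ZetaAn
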