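import Groth.Agent.ZetaAn.StalkProps
import Mathlib.RingTheory.Unramified.LocalRing
import Mathlib.RingTheory.Unramified.Locus
import Mathlib.AlgebraicGeometry.Morphisms.FormallyUnramified

/-! The map of holomorphic stalks induced by a morphism over ℂ; unramifiedness at complex points. -/

set_option autoImplicit false
set_option linter.style.haveILetI false
set_option backward.isDefEq.respectTransparency false

open CategoryTheory AlgebraicGeometry Topology TopologicalSpace Filter

namespace Groth.ZetaAn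

open An

variable {X Y : Scheme.{0}} [X.Over An.SC] [Y.Over An.SC] (f : X ⟶ Y) [f.IsOver SC]

/-- The map of algebraic local rings at a complex point. -/
noncomputable abbrev stalkPts (x : Pts X) : Y.presheaf.stalk (Pts.map f x).pt ⟶ X.presheaf.stalk x.pt :=
  f.stalkMap x.pt

instance isLocalHom_stalkPts (x : Pts X) : IsLocalHom (stalkPts f x).hom :=
  inferInstanceAs <| IsLocalHom (f.stalkMap x.pt).hom

/-- The map of holomorphic local rings at a complex point. -/
noncomputable abbrev psiAn (x : Pts X) : anStalk (Pts.map f x) ⟶ anStalk x :=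
  PresheafedSpace.Hom.stalkMap (An.anMap f) x

lemma toGerm_psiAn (x : Pts X) (U : Opens (An.top Y)) (hx : Pts.map f x ∈ U)
    (g : (holPresheaf Y).obj (Opposite.op U)) :
    toGerm x (psiAn f x ((holPresheaf Y).germ U (Pts.map f x) hx g)) =
      (ext0 U g.1 ∘ Pts.map f : Filter.Germ (𝓝 x) ℂ) := by
  let V : Opens (An.top X) := (Opens.map (topMap f)).obj U
  have h : psiAn f x ((holPresheaf Y).germ U (Pts.map f x) hx g) =
      (holPresheaf X).germ V x hx (anMapApp f U g) := by
    have := congrArg (fun m : (holPresheaf Y).obj (Opposite.op U) ⟶ anStalk x => m g)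
      (PresheafedSpace.stalkMap_germ (An.anMap f) U x hx)
    exact this
  rw [h, toGerm_germ]
  refine Filter.Germ.coe_eq.2 (eventually_of_mem (V.2.mem_nhds hx) fun y hy => ?_)
  exact (ext0_apply V _ hy).trans (ext0_apply U g.1 hy).symm

lemma psiAn_phiAn (x : Pts X) (a : Y.presheaf.stalk (Pts.map f x).pt) :
    psiAn f x (phiAn (Pts.map f x) a) = phiAn x (stalkPts f x a) := by
  obtain ⟨W, hW, t, rfl⟩ := TopCat.Presheaf.exists_germ_eq Y.presheaf a
  let U : Opens (An.top Y) := (Opens.map (TopCat.ofHom ⟨Pts.pt, Pts.continuous_pt⟩)).obj W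
  have h : phiAn (Pts.map f x) (Y.presheaf.germ W (Pts.map f x).pt hW t) =
      (holPresheaf Y).germ U (Pts.map f x) hW (toHolApp W t) := by
    have := congrArg (fun m : Γ(Y, W) ⟶ anStalk (Pts.map f x) => m t)
      (PresheafedSpace.stalkMap_germ (An.anToScheme Y) W (Pts.map f x) hW)
    exact this
  have h2 : stalkPts f x (Y.presheaf.germ W (Pts.map f x).pt hW t) =
      X.presheaf.germ (f ⁻¹ᵁ W) x.pt hW (f.app W t) := f.germ_stalkMap_apply W x.pt hW t
  apply toGerm_injective x
  rw [h, h2, toGerm_psiAn, toGerm_phiAn]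
  refine Filter.Germ.coe_eq.2
    (eventually_of_mem ((Pts.isOpen_preimage_pt (f ⁻¹ᵁ W)).mem_nhds hW) fun y hy => ?_)
  rw [Function.comp_apply, evExt_of_mem _ hy]
  exact (ext0_apply U (toHolApp W t).1 (y := Pts.map f y) hy).trans (Pts.ev_map f y W hy t)

variable [LocallyOfFiniteType (X ↘ SC)] [LocallyOfFiniteType (Y ↘ SC)]

lemma map_maxAn_psiAn (x : Pts X) :
    (maxAn (Pts.map f x)).map (psiAn f x).hom =
      ((IsLocalRing.maximalIdeal (Y.presheaf.stalk (Pts.map f x).pt)).map (stalkPts f x).hom).map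
        (phiAn x).hom := by
  rw [maxAn, Ideal.map_map, Ideal.map_map]
  congr 1
  exact RingHom.ext fun a => psiAn_phiAn f x a

/-- Residues at complex points are constants. -/
lemma exists_const_sub_mem [IsReduced X] (x : Pts X) (a : X.presheaf.stalk x.pt) :
    ∃ c : ℂ, a - X.presheaf.germ ⊤ x.pt trivial (strHom X c) ∈
      IsLocalRing.maximalIdeal (X.presheaf.stalk x.pt) := by
  refine ⟨valueAn x (phiAn x a), ?_⟩
  have h : phiAn x (a - X.presheaf.germ ⊤ x.pt trivial (strHom X (valueAn x (phiAn x a)))) ∈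
      maxAn x ^ 1 := by
    rw [pow_one, maxAn_eq_ker, RingHom.mem_ker, map_sub, map_sub,
      valueAn_phiAn x ⊤ trivial (strHom X _)]
    exact sub_eq_zero.2 (evTop_strHom x _).symm
  simpa using mem_pow_of_phiAn_mem x 1 _ h

lemma residueField_surjective [IsReduced X] (x : Pts X) :
    Function.Surjective (IsLocalRing.ResidueField.map (stalkPts f x).hom) := by
  intro r
  obtain ⟨a, rfl⟩ := IsLocalRing.residue_surjective r
  obtain ⟨c, hc⟩ := exists_const_sub_mem x a
  refine ⟨IsLocalRing.residue _ (Y.presheaf.germ ⊤ (Pts.map f x).pt trivial (strHom Y c)), ?_⟩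
  rw [IsLocalRing.ResidueField.map_residue, eq_comm, ← sub_eq_zero, ← map_sub,
    IsLocalRing.residue_eq_zero_iff]
  have h2 : stalkPts f x (Y.presheaf.germ ⊤ (Pts.map f x).pt trivial (strHom Y c)) =
      X.presheaf.germ ⊤ x.pt trivial (strHom X c) := by
    refine (f.germ_stalkMap_apply ⊤ x.pt trivial (strHom Y c)).trans ?_
    congr 1
    show f.appTop ((Y ↘ SC).appTop ((Scheme.ΓSpecIso (CommRingCat.of ℂ)).inv c)) =
      (X ↘ SC).appTop ((Scheme.ΓSpecIso (CommRingCat.of ℂ)).inv c)
    rw [← comp_over f SC]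
    rfl
  exact h2 ▸ hc

theorem formallyUnramified_stalk_iff [IsReduced X] (x : Pts X) :
    (stalkPts f x).hom.FormallyUnramified ↔
      (IsLocalRing.maximalIdeal (Y.presheaf.stalk (Pts.map f x).pt)).map (stalkPts f x).hom =
        IsLocalRing.maximalIdeal (X.presheaf.stalk x.pt) := by
  haveI := lft_of_over f
  letI := (stalkPts f x).hom.toAlgebra
  haveI : IsLocalHom (algebraMap (Y.presheaf.stalk (Pts.map f x).pt) (X.presheaf.stalk x.pt)) :=
    inferInstanceAs <| IsLocalHom (f.stalkMap x.pt).hom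
  haveI : Algebra.EssFiniteType (Y.presheaf.stalk (Pts.map f x).pt) (X.presheaf.stalk x.pt) := by
    rw [← RingHom.essFiniteType_algebraMap, RingHom.algebraMap_toAlgebra]
    exact LocallyOfFiniteType.stalkMap f x.pt
  refine (Algebra.FormallyUnramified.iff_map_maximalIdeal_eq).trans
    ⟨fun h => h.2, fun h => ⟨⟨fun r => ?_⟩, h⟩⟩
  obtain ⟨s, hs⟩ := residueField_surjective f x r
  have : algebraMap (IsLocalRing.ResidueField (Y.presheaf.stalk (Pts.map f x).pt))
      (IsLocalRing.ResidueField (X.presheaf.stalk x.pt)) s = r := hs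
  rw [← this]
  exact isSeparable_algebraMap s

theorem formallyUnramified_of_stalks [IsReduced X]
    (H : ∀ x : Pts X, (stalkPts f x).hom.FormallyUnramified) : FormallyUnramified f := by
  haveI := lft_of_over f
  rw [HasRingHomProperty.iff_appLE (P := @FormallyUnramified)]
  intro ⟨U, hU⟩ ⟨V, hV⟩ e
  letI := (f.appLE U V e).hom.toAlgebra
  show Algebra.FormallyUnramified Γ(Y, U) Γ(X, V)
  haveI : Algebra.FiniteType Γ(Y, U) Γ(X, V) := f.finiteType_appLE hU hV e
  rw [← Algebra.unramifiedLocus_eq_univ_iff, Set.eq_univ_iff_forall]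
  intro p
  obtain ⟨q, hq, hpq⟩ := p.asIdeal.exists_le_maximal p.2.ne_top
  refine (Algebra.isOpen_unramifiedLocus).stableUnderGeneralization (x := ⟨q, hq.isPrime⟩)
    ((PrimeSpectrum.le_iff_specializes _ _).1 hpq) ?_
  -- a maximal ideal is the ideal of a complex point
  obtain ⟨x, hx, hqx⟩ : ∃ (x : Pts X) (hx : x.pt ∈ V), q = (hV.primeIdealOf ⟨x.pt, hx⟩).asIdeal := by
    letI := algSec V
    haveI := finiteType_algSec hV
    obtain ⟨χ, hχ⟩ := exists_algHom_ker_eq q
    obtain ⟨x, hx, hxχ⟩ := exists_pts_of_algHom hV χ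
    refine ⟨x, hx, ?_⟩
    rw [← ker_evAlgHom hV hx, ← hχ]
    congr 1
    exact AlgHom.ext fun a => (hxχ a).symm
  have hy : (Pts.map f x).pt ∈ U := e hx
  show Algebra.IsUnramifiedAt Γ(Y, U) q
  subst hqx
  letI algS : Algebra Γ(X, V) (X.presheaf.stalk x.pt) := (X.presheaf.germ V x.pt hx).hom.toAlgebra
  haveI : IsLocalization.AtPrime (X.presheaf.stalk x.pt) (hV.primeIdealOf ⟨x.pt, hx⟩).asIdeal :=
    hV.isLocalization_stalk ⟨x.pt, hx⟩
  letI algR : Algebra Γ(Y, U) (Y.presheaf.stalk (Pts.map f x).pt) :=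
    (Y.presheaf.germ U (Pts.map f x).pt hy).hom.toAlgebra
  haveI : IsLocalization.AtPrime (Y.presheaf.stalk (Pts.map f x).pt)
      (hU.primeIdealOf ⟨(Pts.map f x).pt, hy⟩).asIdeal :=
    hU.isLocalization_stalk ⟨(Pts.map f x).pt, hy⟩
  letI := (stalkPts f x).hom.toAlgebra
  letI algRS : Algebra Γ(Y, U) (X.presheaf.stalk x.pt) :=
    ((algebraMap Γ(X, V) (X.presheaf.stalk x.pt)).comp (f.appLE U V e).hom).toAlgebra
  haveI : IsScalarTower Γ(Y, U) Γ(X, V) (X.presheaf.stalk x.pt) := IsScalarTower.of_algebraMap_eq' rfl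
  haveI : IsScalarTower Γ(Y, U) (Y.presheaf.stalk (Pts.map f x).pt) (X.presheaf.stalk x.pt) := by
    refine IsScalarTower.of_algebraMap_eq fun r => ?_
    show X.presheaf.germ V x.pt hx (f.appLE U V e r) = stalkPts f x (Y.presheaf.germ U _ hy r)
    refine Eq.trans ?_ (f.germ_stalkMap_apply U x.pt hy r).symm
    exact TopCat.Presheaf.germ_res_apply X.presheaf (homOfLE e) x.pt hx (f.app U r)
  haveI : Algebra.FormallyUnramified Γ(Y, U) (Y.presheaf.stalk (Pts.map f x).pt) :=
    Algebra.FormallyUnramified.of_isLocalization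
      (hU.primeIdealOf ⟨(Pts.map f x).pt, hy⟩).asIdeal.primeCompl
  haveI : Algebra.FormallyUnramified (Y.presheaf.stalk (Pts.map f x).pt) (X.presheaf.stalk x.pt) := H x
  haveI : Algebra.FormallyUnramified Γ(Y, U) (X.presheaf.stalk x.pt) :=
    Algebra.FormallyUnramified.comp Γ(Y, U) (Y.presheaf.stalk (Pts.map f x).pt) _
  exact Algebra.FormallyUnramified.of_equiv
    ((IsLocalization.algEquiv (hV.primeIdealOf ⟨x.pt, hx⟩).asIdeal.primeCompl
      (X.presheaf.stalk x.pt) (Localization.AtPrime (hV.primeIdealOf ⟨x.pt, hx⟩).asIdeal)).restrictScalars Γ(Y, U))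

theorem formallyUnramified_iff_an [IsReduced X] :
    FormallyUnramified f ↔ ∀ x : Pts X, (maxAn (Pts.map f x)).map (psiAn f x).hom = maxAn x := by
  have key : ∀ x : Pts X, (maxAn (Pts.map f x)).map (psiAn f x).hom = maxAn x ↔
      (IsLocalRing.maximalIdeal (Y.presheaf.stalk (Pts.map f x).pt)).map (stalkPts f x).hom =
        IsLocalRing.maximalIdeal (X.presheaf.stalk x.pt) := by
    intro x
    haveI := isLocalRing_anStalk x
    haveI := isNoetherianRing_anStalk x
    haveI := isNoetherianRing_stalk x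
    letI := algAn x
    haveI := (cplEquiv x).flat
    haveI := (cplEquiv x).isLocalHom
    haveI : Module.FaithfullyFlat (X.presheaf.stalk x.pt) (anStalk x) :=
      Module.FaithfullyFlat.of_flat_of_isLocalHom
    rw [map_maxAn_psiAn]
    refine ⟨fun h => ?_, fun h => by rw [h]⟩
    have h' := congrArg (Ideal.comap (algebraMap (X.presheaf.stalk x.pt) (anStalk x))) h
    exact (Ideal.comap_map_eq_self_of_faithfullyFlat (B := anStalk x) _).symm.trans
      (h'.trans (Ideal.comap_map_eq_self_of_faithfullyFlat (B := anStalk x) _))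
  simp only [key]
  exact ⟨fun h x => (formallyUnramified_stalk_iff f x).1 (FormallyUnramified.stalkMap f x.pt),
    fun h => formallyUnramified_of_stalks f fun x => (formallyUnramified_stalk_iff f x).2 (h x)⟩

end Groth.ZetaAn
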