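import Mathlib.Analysis.Calculus.InverseFunctionTheorem.ContDiff
import Mathlib.Analysis.Calculus.Deriv.Comp
import Mathlib.Analysis.Calculus.Deriv.Prod
import Mathlib.Analysis.Complex.Basic
import Mathlib.Analysis.Normed.Module.FiniteDimension
import Mathlib.Analysis.RCLike.Basic

/-! The holomorphic implicit function theorem for one equation in one unknown. -/

set_option autoImplicit false
set_option linter.style.haveILetI false

open Filter Topology

namespace Groth.SCV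

variable {E : Type} [NormedAddCommGroup E] [NormedSpace ℂ E] [FiniteDimensional ℂ E]

theorem exists_implicit (Φ : E × ℂ → ℂ) (hΦ : ContDiff ℂ 1 Φ) (t₀ : ℂ) (h₀ : Φ (0, t₀) = 0)
    (h₁ : deriv (fun t => Φ (0, t)) t₀ ≠ 0) :
    ∃ τ : E → ℂ, (∀ᶠ z in 𝓝 0, DifferentiableAt ℂ τ z) ∧ τ 0 = t₀ ∧
      ∀ᶠ w in 𝓝 ((0 : E), t₀), Φ w = 0 → w.2 = τ w.1 := by
  haveI : CompleteSpace E := FiniteDimensional.complete ℂ E
  set L : E × ℂ →L[ℂ] ℂ := fderiv ℂ Φ (0, t₀) with hL
  have hΦd : HasFDerivAt Φ L (0, t₀) := (hΦ.differentiable one_ne_zero _).hasFDerivAt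
  have hL1 : L ((0 : E), 1) ≠ 0 := by
    have h := hΦd.comp_hasDerivAt t₀ ((hasDerivAt_const t₀ (0 : E)).prodMk (hasDerivAt_id t₀))
    exact (h.deriv.symm.trans_ne h₁ :)
  set M : E × ℂ →L[ℂ] E × ℂ := (ContinuousLinearMap.fst ℂ E ℂ).prod L with hM
  have hinj : Function.Injective M := by
    refine (injective_iff_map_eq_zero M).2 fun ⟨v, μ⟩ h => ?_
    obtain ⟨hv, hμ⟩ := Prod.ext_iff.1 h
    have hv' : v = 0 := hv
    subst hv'
    have hμ' : L ((0 : E), μ) = 0 := hμ
    have : ((0 : E), μ) = μ • ((0 : E), (1 : ℂ)) := by simp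
    rw [this, map_smul, smul_eq_mul, mul_eq_zero] at hμ'
    simp [hμ'.resolve_right hL1]
  let e : (E × ℂ) ≃L[ℂ] (E × ℂ) := (LinearEquiv.ofInjectiveEndo M.toLinearMap hinj).toContinuousLinearEquiv
  let H : E × ℂ → E × ℂ := fun w => (w.1, Φ w)
  have hH : ContDiffAt ℂ 1 H ((0 : E), t₀) := (contDiff_fst.prodMk hΦ).contDiffAt
  have hH' : HasFDerivAt H (e : E × ℂ →L[ℂ] E × ℂ) ((0 : E), t₀) := by
    have : (e : E × ℂ →L[ℂ] E × ℂ) = M := by ext <;> rfl
    rw [this]
    exact (hasFDerivAt_fst (p := ((0 : E), t₀))).prodMk hΦd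
  have hH0 : H ((0 : E), t₀) = ((0 : E), 0) := Prod.ext rfl h₀
  set G := hH.localInverse hH' one_ne_zero with hG
  have hGd : ContDiffAt ℂ 1 G ((0 : E), 0) := hH0 ▸ hH.to_localInverse hH' one_ne_zero
  have hpair : Tendsto (fun z : E => (z, (0 : ℂ))) (𝓝 0) (𝓝 ((0 : E), 0)) :=
    (continuous_id.prodMk continuous_const).tendsto 0
  refine ⟨fun z => (G (z, 0)).2, ?_, ?_, ?_⟩
  · refine (hpair.eventually (hGd.eventually (by simp))).mono fun z hz => ?_
    exact ((hz.differentiableAt one_ne_zero).comp z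
      (differentiableAt_id.prodMk (differentiableAt_const (0 : ℂ)))).snd
  · show (G ((0 : E), 0)).2 = t₀
    rw [← hH0, hG, hH.localInverse_apply_image hH' one_ne_zero]
  · filter_upwards [(hH.toOpenPartialHomeomorph H hH' one_ne_zero).open_source.mem_nhds
      (hH.mem_toOpenPartialHomeomorph_source hH' one_ne_zero)] with w hw hw0
    have h1 : G (H w) = w := (hH.toOpenPartialHomeomorph H hH' one_ne_zero).left_inv hw
    have h2 : H w = (w.1, 0) := Prod.ext rfl hw0
    rw [h2] at h1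
    exact (congrArg Prod.snd h1).symm

end Groth.SCV
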