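import Groth.Agent.ZetaAn.FlatAn
import Groth.Agent.ZetaAn.EtaleLH
import Groth.Agent.ZetaAn.SCVImplicit

/-! Etale morphisms induce isomorphisms of holomorphic local rings, and conversely. -/

set_option autoImplicit false
set_option linter.style.haveILetI false
set_option backward.isDefEq.respectTransparency false

open CategoryTheory AlgebraicGeometry Topology TopologicalSpace Filter

namespace Groth.ZetaAn

open An

variable {X Y : Scheme.{0}} [X.Over An.SC] [Y.Over An.SC] (f : X ⟶ Y) [f.IsOver SC]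

lemma toGerm_psiAn' (x : Pts X) (b : anStalk (Pts.map f x)) :
    toGerm x (psiAn f x b) =
      (toGerm (Pts.map f x) b).compTendsto (Pts.map f) ((Pts.continuous_map f).tendsto x) := by
  obtain ⟨U, hU, g, rfl⟩ := exists_germRep (Pts.map f x) b
  rw [toGerm_psiAn, toGerm_germ]
  rfl

lemma exists_standardEtale [Etale f] (x : Pts X) :
    ∃ (W : Y.Opens) (_ : IsAffineOpen W) (D : X.Opens) (_ : IsAffineOpen D) (e : D ≤ f ⁻¹ᵁ W),
      x.pt ∈ D ∧ @Algebra.IsStandardEtale Γ(Y, W) Γ(X, D) _ _ (f.appLE W D e).hom.toAlgebra := by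
  obtain ⟨_, ⟨W', hW, rfl⟩, hxW, -⟩ :=
    (Y.isBasis_affineOpens).exists_subset_of_mem_open (Set.mem_univ (f x.pt)) isOpen_univ
  let W : Y.Opens := W'
  replace hW : IsAffineOpen W := hW
  obtain ⟨_, ⟨U', hU, rfl⟩, hxU, hUW⟩ := (X.isBasis_affineOpens).exists_subset_of_mem_open
    (show x.pt ∈ (f ⁻¹ᵁ W : Set X) from hxW) (f ⁻¹ᵁ W).2
  let U : X.Opens := U'
  replace hU : IsAffineOpen U := hU
  letI : Algebra Γ(Y, W) Γ(X, U) := (f.appLE W U hUW).hom.toAlgebra
  haveI : Algebra.Etale Γ(Y, W) Γ(X, U) := by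
    have := HasRingHomProperty.appLE (P := @Etale) f inferInstance ⟨W, hW⟩ ⟨U, hU⟩ hUW
    exact RingHom.etale_algebraMap.1 this
  let Q : Ideal Γ(X, U) := RingHom.ker (evHom x U hxU)
  haveI : Q.IsPrime := RingHom.ker_isPrime _
  obtain ⟨a, haQ, hst⟩ := Algebra.IsEtaleAt.exists_isStandardEtale (R := Γ(Y, W)) Q
  let D : X.Opens := X.basicOpen a
  letI : Algebra Γ(X, U) Γ(X, D) := (X.presheaf.map (homOfLE (X.basicOpen_le a)).op).hom.toAlgebra
  haveI : IsLocalization.Away a Γ(X, D) := hU.isLocalization_basicOpen a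
  have e : D ≤ f ⁻¹ᵁ W := (X.basicOpen_le a).trans hUW
  letI : Algebra Γ(Y, W) Γ(X, D) := (f.appLE W D e).hom.toAlgebra
  haveI : IsScalarTower Γ(Y, W) Γ(X, U) Γ(X, D) := IsScalarTower.of_algebraMap_eq fun r =>
    (congrArg (fun m : Γ(Y, W) ⟶ Γ(X, D) => m r)
      (f.appLE_map hUW (homOfLE (X.basicOpen_le a)).op)).symm
  haveI := hst
  exact ⟨W, hW, D, hU.basicOpen a, e, (mem_basicOpen_iff x hxU a).2 haQ,
    Algebra.IsStandardEtale.of_equiv ((IsLocalization.algEquiv (Submonoid.powers a)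
      (Localization.Away a) Γ(X, D)).restrictScalars Γ(Y, W))⟩

variable [LocallyOfFiniteType (X ↘ SC)] [LocallyOfFiniteType (Y ↘ SC)]

open Polynomial in
theorem surjective_psiAn [Etale f] (x : Pts X) : Function.Surjective (psiAn f x) := by
  obtain ⟨W, hW, D, hD, e, hxD, hst⟩ := exists_standardEtale f x
  have hgW : ∀ y : Pts X, y.pt ∈ D → (Pts.map f y).pt ∈ W := fun y hy => by
    rw [Pts.pt_map]; exact e hy
  letI := (f.appLE W D e).hom.toAlgebra
  obtain ⟨P⟩ := hst.nonempty_standardEtalePresentation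
  have hcomp : ∀ (y : Pts X) (hy : y.pt ∈ D) (p : Polynomial Γ(Y, W)),
      y.ev D hy (aeval P.x p) = p.eval₂ (evHom (Pts.map f y) W (hgW y hy)) (y.ev D hy P.x) := by
    intro y hy p
    change evHom y D hy (aeval P.x p) = _
    rw [aeval_def, hom_eval₂]
    congr 1
    exact RingHom.ext fun r => map_ev f y D W e hy (hgW y hy) r
  -- chart of the target
  obtain ⟨m, s, hs⟩ : ∃ (m : ℕ) (s : Fin m → Γ(Y, W)), Generates s := by
    letI := algSec W
    haveI := finiteType_algSec hW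
    obtain ⟨m, ω, hω⟩ := (Algebra.FiniteType.iff_quotient_mvPolynomial'' (R := ℂ) (S := Γ(Y, W))).1
      inferInstance
    refine ⟨m, fun i => ω (MvPolynomial.X i), ?_⟩
    show Function.Surjective (MvPolynomial.aeval (R := ℂ) fun i => ω (MvPolynomial.X i))
    rw [show (fun i => ω (MvPolynomial.X i)) = ω ∘ MvPolynomial.X from rfl,
      ← MvPolynomial.aeval_unique ω]
    exact hω
  obtain ⟨k, s', hs'⟩ : ∃ (k : ℕ) (s' : Fin k → Γ(X, D)), Generates s' := by
    letI := algSec D
    haveI := finiteType_algSec hD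
    obtain ⟨k, ω, hω⟩ := (Algebra.FiniteType.iff_quotient_mvPolynomial'' (R := ℂ) (S := Γ(X, D))).1
      inferInstance
    refine ⟨k, fun i => ω (MvPolynomial.X i), ?_⟩
    show Function.Surjective (MvPolynomial.aeval (R := ℂ) fun i => ω (MvPolynomial.X i))
    rw [show (fun i => ω (MvPolynomial.X i)) = ω ∘ MvPolynomial.X from rfl,
      ← MvPolynomial.aeval_unique ω]
    exact hω
  set y₀ := Pts.map f x
  have hy₀ : y₀.pt ∈ W := hgW x hxD
  set c : Fin m → ℂ := fun i => y₀.ev W hy₀ (s i)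
  set t₀ : ℂ := x.ev D hxD P.x
  choose p hp using fun r : Γ(Y, W) => ev_eq_eval s hs r
  -- evaluation of polynomials over the target through chart coordinates
  let Φ : Polynomial Γ(Y, W) → (Fin m → ℂ) × ℂ → ℂ := fun q w =>
    ∑ i ∈ Finset.range (q.natDegree + 1), MvPolynomial.eval (w.1 + c) (p (q.coeff i)) * w.2 ^ i
  have hΦc : ∀ q, ContDiff ℂ 1 (Φ q) := fun q => by
    refine ContDiff.sum fun i _ => ContDiff.mul ?_ (contDiff_snd.pow i)
    induction p (q.coeff i) using MvPolynomial.induction_on with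
    | C a => simpa using contDiff_const
    | add u v hu hv => simp only [map_add]; exact hu.add hv
    | mul_X u j hu =>
      simp only [map_mul, MvPolynomial.eval_X, Pi.add_apply]
      exact hu.mul (((contDiff_apply ℂ ℂ j).comp contDiff_fst).add contDiff_const)
  have hΦ : ∀ (q : Polynomial Γ(Y, W)) (z : Pts Y) (hz : z.pt ∈ W) (t : ℂ),
      Φ q (coord s y₀ hy₀ z, t) = q.eval₂ (evHom z W hz) t := by
    intro q z hz t
    have hzc : coord s y₀ hy₀ z + c = fun i => z.ev W hz (s i) := by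
      funext i; simp [coord, hz, c]
    simp only [Φ, hzc, ← hp]
    rw [eval₂_eq_sum_range]
    rfl
  have h₀ : Φ P.f ((0 : Fin m → ℂ), t₀) = 0 := by
    rw [← coord_self s y₀ hy₀, hΦ _ _ hy₀, ← hcomp x hxD, P.hasMap.1]
    exact map_zero (evHom x D hxD)
  have hg0 : Φ P.g ((0 : Fin m → ℂ), t₀) ≠ 0 := by
    rw [← coord_self s y₀ hy₀, hΦ _ _ hy₀, ← hcomp x hxD]
    exact (P.hasMap.2.map (evHom x D hxD)).ne_zero
  have h₁ : deriv (fun t => Φ P.f ((0 : Fin m → ℂ), t)) t₀ ≠ 0 := by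
    have hfun : (fun t => Φ P.f ((0 : Fin m → ℂ), t)) =
        fun t => (P.f.map (evHom y₀ W hy₀)).eval t := by
      funext t
      rw [← coord_self s y₀ hy₀, hΦ _ _ hy₀, Polynomial.eval_map]
    rw [hfun, Polynomial.deriv, derivative_map, Polynomial.eval_map]
    intro hd
    obtain ⟨p₁, p₂, n, hn⟩ := P.cond
    have := congrArg (Polynomial.eval₂ (evHom y₀ W hy₀) t₀) hn
    rw [eval₂_add, eval₂_mul, eval₂_mul, hd, ← hcomp x hxD P.f, P.hasMap.1,
      show x.ev D hxD (0 : Γ(X, D)) = 0 from map_zero (evHom x D hxD),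
      zero_mul, zero_mul, zero_add, eval₂_pow] at this
    rw [← coord_self s y₀ hy₀, hΦ _ _ hy₀] at hg0
    exact pow_ne_zero _ hg0 this.symm
  obtain ⟨τ, hτd, hτ0, hτ⟩ := Groth.SCV.exists_implicit (Φ P.f) (hΦc _) t₀ h₀ h₁
  -- near `x`, the coordinate `P.x` is `τ` of the coordinates of the image
  have hlim : Tendsto (fun y => (coord s y₀ hy₀ (Pts.map f y), evExt D P.x y)) (𝓝 x)
      (𝓝 ((0 : Fin m → ℂ), t₀)) := by
    refine Tendsto.prodMk_nhds ((tendsto_coord s y₀ hy₀).comp ((Pts.continuous_map f).tendsto x)) ?_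
    have h : ContinuousAt (evExt D P.x) x := by
      refine ContinuousOn.continuousAt ?_ ((Pts.isOpen_preimage_pt D).mem_nhds hxD)
      rw [continuousOn_iff_continuous_domRestrict]
      exact (continuous_ev D P.x).congr fun y => (evExt_of_mem P.x y.2).symm
    have h' := h.tendsto
    rwa [evExt_of_mem P.x hxD] at h'
  have hroot : ∀ᶠ y in 𝓝 x, ∃ hy : y.pt ∈ D,
      y.ev D hy P.x = τ (coord s y₀ hy₀ (Pts.map f y)) := by
    filter_upwards [(Pts.isOpen_preimage_pt D).mem_nhds hxD, hlim.eventually hτ] with y hy h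
    refine ⟨hy, (evExt_of_mem P.x hy).symm.trans (h ?_)⟩
    rw [evExt_of_mem P.x hy, hΦ _ _ (hgW y hy), ← hcomp y hy, P.hasMap.1]
    exact map_zero (evHom y D hy)
  -- hence every function on the chart of the source is holomorphic in the image coordinates
  have hT : ∀ a : Γ(X, D), ∃ T : (Fin m → ℂ) → ℂ, (∀ᶠ z in 𝓝 0, DifferentiableAt ℂ T z) ∧
      ∀ᶠ y in 𝓝 x, ∃ hy : y.pt ∈ D, y.ev D hy a = T (coord s y₀ hy₀ (Pts.map f y)) := by
    intro a
    obtain ⟨q, n, hq⟩ := P.exists_mul_aeval_x_g_pow_eq_aeval_x a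
    have hd : ∀ u, ∀ᶠ z in 𝓝 (0 : Fin m → ℂ), DifferentiableAt ℂ (fun z => Φ u (z, τ z)) z :=
      fun u => hτd.mono fun z hz =>
        DifferentiableAt.comp (g := Φ u) (f := fun z => (z, τ z)) z
          ((hΦc u).differentiable one_ne_zero (z, τ z)) (differentiableAt_id.prodMk hz)
    refine ⟨fun z => Φ q (z, τ z) * ((Φ P.g (z, τ z)) ^ n)⁻¹, ?_, ?_⟩
    · have hc : ContinuousAt (fun z => Φ P.g (z, τ z)) 0 := (hd P.g).self_of_nhds.continuousAt
      filter_upwards [hd q, hd P.g, hc.eventually_ne (by rw [hτ0]; exact hg0)] with z h1 h2 h3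
      exact h1.fun_mul ((h2.fun_pow n).fun_inv (pow_ne_zero _ h3))
    · filter_upwards [hroot] with y ⟨hy, hτy⟩
      refine ⟨hy, ?_⟩
      rw [← hτy, hΦ _ _ (hgW y hy), hΦ _ _ (hgW y hy), ← hcomp y hy, ← hcomp y hy]
      have hne : y.ev D hy (aeval P.x P.g) ≠ 0 := (P.hasMap.2.map (evHom y D hy)).ne_zero
      rw [eq_mul_inv_iff_mul_eq₀ (pow_ne_zero _ hne)]
      have h := congrArg (evHom y D hy) hq
      rwa [map_mul, map_pow] at h
  intro b
  obtain ⟨g, rfl⟩ := chartHom_surjective hxD s' hD hs' b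
  obtain ⟨G, hG, rfl⟩ := SCV.exists_mk g
  choose T hTd hT using fun i => hT (s' i)
  set d : Fin k → ℂ := fun i => x.ev D hxD (s' i)
  let T' : (Fin m → ℂ) → Fin k → ℂ := fun z i => T i z - d i
  have hT'd : ∀ᶠ z in 𝓝 0, DifferentiableAt ℂ T' z :=
    (eventually_all.2 hTd).mono fun z h => differentiableAt_pi.2 fun i => (h i).sub_const _
  have hT'0 : T' 0 = 0 := funext fun i => by
    obtain ⟨hy, hi⟩ := (hT i).self_of_nhds
    rw [coord_self] at hi
    simp [T', ← hi, d]
  have htend : Tendsto T' (𝓝 0) (𝓝 0) := by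
    have := hT'd.self_of_nhds.continuousAt.tendsto
    rwa [hT'0] at this
  have hGT : ∀ᶠ z in 𝓝 0, DifferentiableAt ℂ (G ∘ T') z := by
    filter_upwards [hT'd, htend.eventually hG] with z h1 h2
    exact h2.comp z h1
  refine ⟨chartHom hy₀ s hW hs (SCV.mk (G ∘ T') hGT), toGerm_injective x ?_⟩
  rw [toGerm_psiAn', toGerm_chartHom, toGerm_chartHom, psi_mk, psi_mk,
    Filter.Germ.coe_compTendsto]
  refine Filter.Germ.coe_eq.2 ?_
  filter_upwards [eventually_all.2 hT, (Pts.isOpen_preimage_pt D).mem_nhds hxD] with y hy hyD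
  simp only [Function.comp_apply]
  congr 1
  funext i
  obtain ⟨_, hi⟩ := hy i
  rw [show coord s' x hxD y i = y.ev D hyD (s' i) - d i from dif_pos hyD, hi]

theorem injective_psiAn [IsReduced X] [IsReduced Y] [Flat f] (x : Pts X) :
    Function.Injective (psiAn f x) := by
  haveI := isLocalRing_anStalk x
  haveI := isLocalRing_anStalk (Pts.map f x)
  letI := (psiAn f x).hom.toAlgebra
  haveI : Module.Flat (anStalk (Pts.map f x)) (anStalk x) := (flat_iff_an f).1 inferInstance x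
  haveI : IsLocalHom (algebraMap (anStalk (Pts.map f x)) (anStalk x)) := by
    refine ((IsLocalRing.local_hom_TFAE _).out 0 2 rfl rfl).2 ?_
    rw [maximalIdeal_eq_maxAn, maximalIdeal_eq_maxAn]
    exact map_maxAn_le f x
  haveI : Module.FaithfullyFlat (anStalk (Pts.map f x)) (anStalk x) :=
    Module.FaithfullyFlat.of_flat_of_isLocalHom
  exact FaithfulSMul.algebraMap_injective (anStalk (Pts.map f x)) (anStalk x)

theorem etale_iff_an [IsReduced X] [IsReduced Y] :
    Etale f ↔ ∀ x : Pts X, Function.Bijective (psiAn f x) := by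
  refine ⟨fun _ x => ⟨injective_psiAn f x, surjective_psiAn f x⟩, fun h => ?_⟩
  haveI : Flat f := (flat_iff_an f).2 fun x => RingHom.Flat.of_bijective (h x)
  haveI : FormallyUnramified f := (formallyUnramified_iff_an f).2 fun x => by
    haveI := isLocalRing_anStalk x
    haveI := isLocalRing_anStalk (Pts.map f x)
    rw [← maximalIdeal_eq_maxAn, ← maximalIdeal_eq_maxAn]
    exact IsLocalRing.eq_maximalIdeal (Ideal.IsMaximal.map_bijective (f := (psiAn f x).hom) (h x)
      (IsLocalRing.maximalIdeal.isMaximal (anStalk (Pts.map f x))))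
  haveI := lft_of_over f
  haveI := isLocallyNoetherian Y
  haveI : LocallyOfFinitePresentation f := inferInstance
  exact Etale.of_formallyUnramified_of_flat f

end Groth.ZetaAn
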