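import Groth.Agent.ZetaAn.EntireGrowth
import Groth.Agent.ZetaAn.NormalizationPts
import Mathlib.Analysis.Calculus.Deriv.Polynomial
import Mathlib.Analysis.Calculus.Deriv.Slope

/-! Sums of powers of selected roots of a family of polynomials are polynomials. -/

set_option autoImplicit false

open Filter Topology Polynomial

namespace Groth.ZetaAn

variable {d : ℕ}

/-- Specialisation of a polynomial with polynomial coefficients. -/
noncomputable abbrev spec (F : (MvPolynomial (Fin d) ℂ)[X]) (y : Fin d → ℂ) : ℂ[X] :=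
  F.map (MvPolynomial.eval y)

lemma exists_root_near {F : ℂ[X]} (hF : F.Monic) (hd : 0 < F.natDegree) (r : ℂ) :
    ∃ z, F.IsRoot z ∧ ‖z - r‖ ^ F.natDegree ≤ ‖F.eval r‖ := by
  have hdeg : (F.comp (X + Polynomial.C r)).natDegree = F.natDegree := by
    rw [natDegree_comp, natDegree_X_add_C, mul_one]
  obtain ⟨z, hz, hzle⟩ := exists_root_pow_norm_le (hF.comp_X_add_C r) (by omega)
  refine ⟨z + r, ?_, ?_⟩
  · simpa [Polynomial.IsRoot, eval_comp] using hz
  · rw [hdeg, coeff_zero_eq_eval_zero, eval_comp] at hzle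
    simpa using hzle

lemma derivative_eval_ne_zero {F : ℂ[X]} (hF : F ≠ 0) (hn : F.roots.Nodup) {r : ℂ}
    (hr : F.IsRoot r) : F.derivative.eval r ≠ 0 := by
  classical
  intro h0
  have h1 := (one_lt_rootMultiplicity_iff_isRoot hF).2 ⟨hr, h0⟩
  rw [← count_roots] at h1
  exact absurd (Multiset.nodup_iff_count_le_one.1 hn r) (not_le.2 h1)

variable (F : (MvPolynomial (Fin d) ℂ)[X]) (h : MvPolynomial (Fin d) ℂ)
  (χ : (Fin d → ℂ) → ℂ → Prop)

/-- The sum of `k`-th powers of the selected roots. -/
noncomputable def selSum (k : ℕ) (y : Fin d → ℂ) : ℂ :=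
  open Classical in ∑ r ∈ (spec F y).roots.toFinset.filter (χ y), r ^ k

variable {F h χ}

lemma differentiableAt_selSum (hF : F.Monic) (hdeg : 0 < F.natDegree)
    (hnodup : ∀ y, MvPolynomial.eval y h ≠ 0 → (spec F y).roots.Nodup)
    (hχ : ∀ y r, MvPolynomial.eval y h ≠ 0 → (spec F y).IsRoot r →
      ∀ᶠ z in 𝓝 (y, r), (spec F z.1).IsRoot z.2 → (χ z.1 z.2 ↔ χ y r))
    (k : ℕ) (γ : ℂ → Fin d → ℂ) (t₀ : ℂ) (hγc : ContinuousAt γ t₀)
    (hγd : ∀ q : MvPolynomial (Fin d) ℂ, DifferentiableAt ℂ (fun t => MvPolynomial.eval (γ t) q) t₀)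
    (h0 : MvPolynomial.eval (γ t₀) h ≠ 0) :
    DifferentiableAt ℂ (fun t => selSum F χ k (γ t)) t₀ := by
  classical
  set m := F.natDegree
  have hnd : ∀ y, (spec F y).natDegree = m := fun y => hF.natDegree_map _
  have hmon : ∀ y, (spec F y).Monic := fun y => hF.map _
  have hcard : ∀ y, (spec F y).roots.card = m := fun y =>
    (splits_iff_card_roots.1 (IsAlgClosed.splits _)).trans (hnd y)
  set R := (spec F (γ t₀)).roots.toFinset
  have hR : R.card = m := (Multiset.toFinset_card_of_nodup (hnodup _ h0)).trans (hcard _)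
  choose ρ hρroot hρle using fun (t r : ℂ) =>
    exists_root_near (hmon (γ t)) (by rw [hnd]; exact hdeg) r
  have hevd : ∀ r, DifferentiableAt ℂ (fun t => (spec F (γ t)).eval r) t₀ := by
    intro r
    have heq : (fun t => (spec F (γ t)).eval r) =
        fun t => ∑ i ∈ Finset.range (m + 1), MvPolynomial.eval (γ t) (F.coeff i) * r ^ i := by
      funext t
      rw [eval_eq_sum_range, hnd]
      simp
    rw [heq]
    exact DifferentiableAt.fun_sum fun i _ => (hγd _).mul_const _
  have hroot0 : ∀ r ∈ R, (spec F (γ t₀)).eval r = 0 := fun r hr =>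
    (mem_roots (hmon _).ne_zero).1 (Multiset.mem_toFinset.1 hr)
  have hlim : ∀ r ∈ R, Tendsto (fun t => ρ t r) (𝓝 t₀) (𝓝 r) := by
    intro r hr
    have h1 : Tendsto (fun t => ‖(spec F (γ t)).eval r‖) (𝓝 t₀) (𝓝 0) := by
      have := (hevd r).continuousAt.norm.tendsto
      rwa [hroot0 r hr, norm_zero] at this
    rw [Metric.tendsto_nhds] at h1 ⊢
    intro η hη
    filter_upwards [h1 (η ^ m) (by positivity)] with t ht
    have := (hρle t r).trans_lt (by simpa using ht)
    rw [hnd] at this
    simpa [dist_eq_norm] using lt_of_pow_lt_pow_left₀ _ hη.le this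
  have hinj : ∀ᶠ t in 𝓝 t₀, Set.InjOn (ρ t) R := by
    have : ∀ r ∈ R, ∀ r' ∈ R, ∀ᶠ t in 𝓝 t₀, ρ t r = ρ t r' → r = r' := by
      intro r hr r' hr'
      by_cases e : r = r'
      · exact .of_forall fun _ _ => e
      · obtain ⟨U, V, hU, hV, hrU, hrV, hUV⟩ := t2_separation e
        filter_upwards [hlim r hr (hU.mem_nhds hrU), hlim r' hr' (hV.mem_nhds hrV)] with t h1 h2 h3
        have h2' : ρ t r' ∈ V := h2
        exact absurd (h3 ▸ h2' : ρ t r ∈ V) (Set.disjoint_left.1 hUV h1)
    filter_upwards [(Filter.eventually_all_finset R).2 fun r hr =>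
      (Filter.eventually_all_finset R).2 fun r' hr' => this r hr r' hr'] with t ht r hr r' hr'
    exact ht r hr r' hr'
  have hsel : ∀ᶠ t in 𝓝 t₀, ∀ r ∈ R, (χ (γ t) (ρ t r) ↔ χ (γ t₀) r) := by
    refine (Filter.eventually_all_finset R).2 fun r hr => ?_
    filter_upwards [(hγc.tendsto.prodMk_nhds (hlim r hr)).eventually
      (hχ (γ t₀) r h0 (hroot0 r hr))] with t ht
    exact ht (hρroot t r)
  have heq : (fun t => selSum F χ k (γ t)) =ᶠ[𝓝 t₀]
      fun t => ∑ r ∈ R.filter (χ (γ t₀)), (ρ t r) ^ k := by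
    filter_upwards [hinj, hsel] with t ht hts
    have himg : (spec F (γ t)).roots.toFinset = R.image (ρ t) := by
      refine (Finset.eq_of_subset_of_card_le ?_ ?_).symm
      · intro z hz
        obtain ⟨r, -, rfl⟩ := Finset.mem_image.1 hz
        exact Multiset.mem_toFinset.2 ((mem_roots (hmon _).ne_zero).2 (hρroot t r))
      · rw [Finset.card_image_of_injOn ht, hR, ← hcard (γ t)]
        exact Multiset.toFinset_card_le _
    rw [selSum, himg, Finset.filter_image,
      Finset.sum_image fun a ha b hb => ht (Finset.mem_of_mem_filter a ha)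
        (Finset.mem_of_mem_filter b hb),
      Finset.filter_congr hts]
  refine DifferentiableAt.congr_of_eventuallyEq ?_ heq
  refine DifferentiableAt.fun_sum fun r hr' => DifferentiableAt.pow ?_ k
  have hr : r ∈ R := Finset.mem_of_mem_filter r hr'
  have hρ0 : ρ t₀ r = r := by
    have := hρle t₀ r
    rw [hroot0 r hr, norm_zero, hnd] at this
    exact sub_eq_zero.1 (norm_eq_zero.1
      (pow_eq_zero_iff hdeg.ne' |>.1 (le_antisymm this (by positivity))))
  set Q : ℂ → ℂ := fun t => ∑ i ∈ Finset.range (m + 1),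
    MvPolynomial.eval (γ t) (F.coeff i) * ∑ l ∈ Finset.range i, (ρ t r) ^ l * r ^ (i - 1 - l)
  have hQeq : ∀ t, Q t * (ρ t r - r) = -(spec F (γ t)).eval r := by
    intro t
    have h1 : (spec F (γ t)).eval (ρ t r) - (spec F (γ t)).eval r = Q t * (ρ t r - r) := by
      simp only [Q, eval_eq_sum_range, hnd, coeff_map]
      rw [← Finset.sum_sub_distrib, Finset.sum_mul]
      refine Finset.sum_congr rfl fun i _ => ?_
      rw [mul_assoc, geom_sum₂_mul]
      ring
    rw [show (spec F (γ t)).eval (ρ t r) = 0 from hρroot t r, zero_sub] at h1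
    exact h1.symm
  have hρc : ContinuousAt (fun t => ρ t r) t₀ := by
    rw [ContinuousAt, hρ0]
    exact hlim r hr
  have hQc : ContinuousAt Q t₀ := by
    refine tendsto_finsetSum _ fun i _ => (hγd _).continuousAt.mul ?_
    exact tendsto_finsetSum _ fun l _ =>
      (hρc.pow l).mul continuousAt_const
  have hQ0 : Q t₀ ≠ 0 := by
    have h1 : Q t₀ = (spec F (γ t₀)).derivative.eval r := by
      simp only [Q, hρ0]
      rw [derivative_eval, Polynomial.sum_over_range' _ (by simp) (m + 1) (by rw [hnd]; omega)]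
      refine Finset.sum_congr rfl fun i _ => ?_
      rw [coeff_map, mul_assoc]
      congr 1
      rw [geom_sum₂_self]
    rw [h1]
    exact derivative_eval_ne_zero (hmon _).ne_zero (hnodup _ h0) (hroot0 r hr)
  refine (hasDerivAt_iff_tendsto_slope.2 ?_ : HasDerivAt (fun t => ρ t r)
    (-deriv (fun t => (spec F (γ t)).eval r) t₀ / Q t₀) t₀).differentiableAt
  have hs := hasDerivAt_iff_tendsto_slope.1 (hevd r).hasDerivAt
  refine (hs.neg.div (hQc.tendsto.mono_left nhdsWithin_le_nhds) hQ0).congr' ?_
  filter_upwards [self_mem_nhdsWithin,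
    (hQc.eventually_ne hQ0).filter_mono nhdsWithin_le_nhds] with t htne hQt
  have htne' : t - t₀ ≠ 0 := sub_ne_zero.2 htne
  rw [Pi.div_apply, slope_def_field, slope_def_field, hρ0, hroot0 r hr, sub_zero]
  field_simp
  linear_combination -(hQeq t)

theorem exists_mvPolynomial_selSum (hF : F.Monic) (hdeg : 0 < F.natDegree) (hh : h ≠ 0)
    (hnodup : ∀ y, MvPolynomial.eval y h ≠ 0 → (spec F y).roots.Nodup)
    (hχ : ∀ y r, MvPolynomial.eval y h ≠ 0 → (spec F y).IsRoot r →
      ∀ᶠ z in 𝓝 (y, r), (spec F z.1).IsRoot z.2 → (χ z.1 z.2 ↔ χ y r))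
    (k : ℕ) :
    ∃ q : MvPolynomial (Fin d) ℂ, ∀ y, MvPolynomial.eval y h ≠ 0 →
      selSum F χ k y = MvPolynomial.eval y q := by
  classical
  set m := F.natDegree
  set M := (Finset.range m).sup fun i => (F.coeff i).totalDegree
  have hline : ∀ (p v : Fin d → ℂ), MvPolynomial.eval p h ≠ 0 → ∃ u : ℂ[X], u.natDegree ≤ M * k ∧
      ∀ t, MvPolynomial.eval (fun j => p j + t * v j) h ≠ 0 →
        selSum F χ k (fun j => p j + t * v j) = u.eval t := by
    intro p v hp
    set γ : ℂ → Fin d → ℂ := fun t j => p j + t * v j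
    let qh : ℂ[X] := MvPolynomial.aeval (fun j => Polynomial.C (p j) + X * Polynomial.C (v j)) h
    have hqh : ∀ t, qh.eval t = MvPolynomial.eval (γ t) h := fun t => by
      have : (Polynomial.aeval t).comp
          (MvPolynomial.aeval fun j => Polynomial.C (p j) + X * Polynomial.C (v j)) =
          MvPolynomial.aeval (γ t) := MvPolynomial.algHom_ext fun j => by
            simp [γ]
            ring
      exact DFunLike.congr_fun this h
    have hqh0 : qh ≠ 0 := fun e => hp (by simpa [e, γ] using (hqh 0).symm)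
    have hγd : ∀ (t : ℂ) (q : MvPolynomial (Fin d) ℂ),
        DifferentiableAt ℂ (fun t => MvPolynomial.eval (γ t) q) t := by
      intro t q
      induction q using MvPolynomial.induction_on with
      | C a => simp
      | add a b ha hb => simpa using ha.fun_add hb
      | mul_X a i ha => simpa [γ] using ha.fun_mul (by fun_prop : DifferentiableAt ℂ (fun t => p i + t * v i) t)
    choose Cb hCb using fun i => exists_bound_line (F.coeff i) p v
    set D := 1 + ∑ i ∈ Finset.range m, |Cb i|
    obtain ⟨u, hu, hue⟩ := eq_polynomial_of_growth_off_finite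
      (f := fun t => selSum F χ k (γ t)) (Z := {t | qh.IsRoot t})
      (qh.finite_setOfPred_isRoot hqh0) (C := m * D ^ k) (N := M * k)
      (fun t ht => differentiableAt_selSum hF hdeg hnodup hχ k γ t
        (continuous_pi fun j => by fun_prop : Continuous γ).continuousAt (hγd t)
        (by rw [← hqh]; exact ht))
      (fun t _ => by
        rw [selSum, mul_assoc]
        refine (norm_sum_le _ _).trans ((Finset.sum_le_card_nsmul _ _ ((D * max 1 ‖t‖ ^ M) ^ k)
          fun r hr => ?_).trans ?_)
        · rw [norm_pow]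
          refine pow_le_pow_left₀ (norm_nonneg _) ((norm_root_le (hF.map _) ((mem_roots
            (hF.map _).ne_zero).1 (Multiset.mem_toFinset.1 (Finset.mem_of_mem_filter r hr)))).trans ?_) k
          rw [hF.natDegree_map, add_mul, one_mul, Finset.sum_mul]
          refine add_le_add (one_le_pow₀ (le_max_left _ _)) (Finset.sum_le_sum fun i hi => ?_)
          rw [coeff_map]
          exact (hCb i t).trans (mul_le_mul (le_abs_self _) (pow_le_pow_right₀ (le_max_left _ _)
            (Finset.le_sup (f := fun i => (F.coeff i).totalDegree) hi))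
            (by positivity) (abs_nonneg _))
        · rw [nsmul_eq_mul, mul_pow, ← pow_mul]
          refine mul_le_mul_of_nonneg_right ?_ (by positivity)
          have h1 := (Finset.card_filter_le (spec F (γ t)).roots.toFinset (χ (γ t))).trans
            ((Multiset.toFinset_card_le _).trans (card_roots' _))
          rw [hF.natDegree_map] at h1
          exact_mod_cast h1)
    exact ⟨u, hu, fun t ht => hue t (by change qh.eval t ≠ 0; rw [hqh]; exact ht)⟩
  obtain ⟨y₀, hy₀⟩ : ∃ y, MvPolynomial.eval y h ≠ 0 := by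
    by_contra! hcon
    exact hh (MvPolynomial.funext fun y => by simp [hcon y])
  obtain ⟨ε, hε, hball⟩ := Metric.eventually_nhds_iff.1
    ((MvPolynomial.continuous_eval h).continuousAt.eventually_ne hy₀)
  have hbox : ∀ x : Fin d → ℂ, (∀ j, x j ∈ Metric.ball (y₀ j) ε) →
      MvPolynomial.eval x h ≠ 0 := fun x hx => hball ((dist_pi_lt_iff hε).2 hx)
  obtain ⟨q, hq⟩ := exists_mvPolynomial_on_box (fun i => Metric.ball (y₀ i) ε)
    (fun i => infinite_of_mem_nhds (y₀ i) (Metric.ball_mem_nhds _ hε)) (M * k) (selSum F χ k)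
    fun i x hx => by
      obtain ⟨u, hu, hue⟩ := hline x (Pi.single i 1) (hbox x hx)
      refine ⟨u.comp (X - Polynomial.C (x i)), ?_, fun z hz => ?_⟩
      · rw [natDegree_comp, natDegree_X_sub_C, mul_one]; exact hu
      · have he : Function.update x i z = fun j => x j + (z - x i) * (Pi.single i 1 : Fin d → ℂ) j := by
          funext j
          rcases eq_or_ne j i with rfl | hj
          · simp
          · simp [hj]
        rw [eval_comp, he]
        simp only [eval_sub, eval_X, eval_C]
        refine hue _ ?_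
        rw [← he]
        exact hbox _ fun j => by
          rcases eq_or_ne j i with rfl | hj
          · simpa using hz
          · simpa [hj] using hx j
  refine ⟨q, fun y hy => ?_⟩
  set v : Fin d → ℂ := fun j => y j - y₀ j
  obtain ⟨u, -, hue⟩ := hline y₀ v hy₀
  let qq : ℂ[X] := MvPolynomial.aeval (fun j => Polynomial.C (y₀ j) + X * Polynomial.C (v j)) q
  have hqq : ∀ t, qq.eval t = MvPolynomial.eval (fun j => y₀ j + t * v j) q := fun t => by
    have : (Polynomial.aeval t).comp
        (MvPolynomial.aeval fun j => Polynomial.C (y₀ j) + X * Polynomial.C (v j)) =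
        MvPolynomial.aeval (fun j => y₀ j + t * v j) := MvPolynomial.algHom_ext fun j => by
          simp
          ring
    exact DFunLike.congr_fun this q
  have hev : ∀ᶠ t in 𝓝 (0 : ℂ), ∀ j, y₀ j + t * v j ∈ Metric.ball (y₀ j) ε := eventually_all.2
    fun j => ((continuous_const.add (continuous_id.mul continuous_const)).tendsto' 0 (y₀ j)
      (by simp)).eventually (Metric.ball_mem_nhds _ hε)
  have hu : u = qq := eq_of_infinite_eval_eq u qq
    ((infinite_of_mem_nhds 0 hev).mono fun t ht => by
      change u.eval t = qq.eval t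
      rw [hqq, ← hue t (hbox _ ht)]
      exact hq _ ht)
  have hy1 : (fun j => y₀ j + (1 : ℂ) * v j) = y := funext fun j => by simp [v]
  have h1 := hue 1 (by rw [hy1]; exact hy)
  rw [hu, hqq, hy1] at h1
  exact h1

end Groth.ZetaAn
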