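import Groth.Agent.Calg4.FlatDepth
import Groth.Agent.Calg4.RegularFlat
import Groth.Agent.S0395

/-!
Depth along flat local homomorphisms with regular closed fibre.
-/

set_option autoImplicit false
set_option linter.style.haveILetI false

universe u

open IsLocalRing

namespace Groth.ZetaAn

variable {A : Type u} [CommRing A] [IsLocalRing A] [IsNoetherianRing A]

/-- Regular sequences of the base prolong by lifts of parameters of a regular closed fibre. -/
theorem exists_regular_sequence_of_flat (rs : List A) (hrs : RingTheory.Sequence.IsWeaklyRegular A rs)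
    (hmem : ∀ r ∈ rs, r ∈ maximalIdeal A) :
    ∀ (d : ℕ) (B : Type u) [CommRing B] [IsLocalRing B] [IsNoetherianRing B] [Algebra A B]
      [IsLocalHom (algebraMap A B)] [Module.Flat A B]
      [IsRegularLocalRing (B ⧸ (maximalIdeal A).map (algebraMap A B))],
      ringKrullDim (B ⧸ (maximalIdeal A).map (algebraMap A B)) = d →
      ∃ ss : List B, ss.length = rs.length + d ∧ RingTheory.Sequence.IsWeaklyRegular B ss ∧
        ∀ r ∈ ss, r ∈ maximalIdeal B := by
  intro d
  induction d with
  | zero =>
    intro B _ _ _ _ _ _ _ _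
    refine ⟨rs.map (algebraMap A B), by simp, hrs.of_flat, fun r hr => ?_⟩
    obtain ⟨r, hr', rfl⟩ := List.mem_map.1 hr
    exact ((local_hom_TFAE (algebraMap A B)).out 0 2 rfl rfl).mp inferInstance
      (Ideal.mem_map_of_mem _ (hmem r hr'))
  | succ d ih =>
    intro B _ _ _ _ _ _ _ hd
    set J := (maximalIdeal A).map (algebraMap A B) with hJ
    set F := B ⧸ J
    -- a parameter of the fibre
    have hne : maximalIdeal F ≠ maximalIdeal F ^ 2 := by
      intro h
      have hbot : maximalIdeal F = ⊥ := by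
        refine Submodule.eq_bot_of_le_smul_of_le_jacobson_bot (maximalIdeal F) _
          (IsNoetherian.noetherian _) ?_ (maximalIdeal_le_jacobson ⊥)
        exact le_of_le_of_eq h.le (by rw [sq, smul_eq_mul])
      have h0 := IsRegularLocalRing.spanFinrank_maximalIdeal (R := F)
      rw [hbot, hd] at h0
      simp only [Submodule.spanFinrank_bot] at h0
      exact Nat.succ_ne_zero d (by exact_mod_cast h0.symm)
    obtain ⟨y, hy, hy2⟩ := SetLike.exists_of_lt
      (lt_of_le_of_ne (Ideal.pow_le_self two_ne_zero) (Ne.symm hne))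
    obtain ⟨f, rfl⟩ := Ideal.Quotient.mk_surjective y
    have hmap : (maximalIdeal F).comap (Ideal.Quotient.mk J) = maximalIdeal B :=
      eq_maximalIdeal (Ideal.comap_isMaximal_of_surjective _ Ideal.Quotient.mk_surjective)
    have hfB : f ∈ maximalIdeal B := hmap ▸ Ideal.mem_comap.2 hy
    obtain ⟨hregF, hdimF⟩ := Groth.Ega4Algebra1.isRegularLocalRing_quotient_span_singleton hy hy2
    have := Groth.Ega4Algebra1.isDomain_of_isRegularLocalRing F
    obtain ⟨hflat, hf⟩ := Groth.Agent.S0395.result (R := A) f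
      (mem_nonZeroDivisors_of_ne_zero fun h => hy2 (h ▸ zero_mem _))
    let I := Ideal.span {f}
    have hIle : I ≤ maximalIdeal B := by simpa [I, Ideal.span_le] using hfB
    haveI : Nontrivial (B ⧸ I) := Ideal.Quotient.nontrivial_iff.2
      (ne_top_of_le_ne_top (maximalIdeal.isMaximal B).ne_top hIle)
    haveI : IsLocalRing (B ⧸ I) := .of_surjective' _ Ideal.Quotient.mk_surjective
    have hcomp : maximalIdeal B = (maximalIdeal (B ⧸ I)).comap (Ideal.Quotient.mk I) :=
      (eq_maximalIdeal (Ideal.comap_isMaximal_of_surjective _ Ideal.Quotient.mk_surjective)).symm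
    haveI : IsLocalHom (algebraMap A (B ⧸ I)) := by
      refine ((local_hom_TFAE (algebraMap A (B ⧸ I))).out 0 2 rfl rfl).mpr ?_
      rw [IsScalarTower.algebraMap_eq A B (B ⧸ I), ← Ideal.map_map]
      refine Ideal.map_le_iff_le_comap.2 ?_
      rw [Ideal.Quotient.algebraMap_eq, ← hcomp]
      exact ((local_hom_TFAE (algebraMap A B)).out 0 2 rfl rfl).mp inferInstance
    haveI : Module.Flat A (B ⧸ I) := hflat
    -- the closed fibre of the quotient
    have hJ' : (maximalIdeal A).map (algebraMap A (B ⧸ I)) = J.map (Ideal.Quotient.mk I) := by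
      rw [IsScalarTower.algebraMap_eq A B (B ⧸ I), ← Ideal.map_map]; rfl
    let eF : (F ⧸ Ideal.span {Ideal.Quotient.mk J f}) ≃+*
        ((B ⧸ I) ⧸ (maximalIdeal A).map (algebraMap A (B ⧸ I))) :=
      (Ideal.quotEquivOfEq (by rw [Ideal.map_span, Set.image_singleton])).trans
        ((DoubleQuot.quotQuotEquivComm J I).trans (Ideal.quotEquivOfEq hJ'.symm))
    haveI := IsRegularLocalRing.of_ringEquiv eF
    have hdim' : ringKrullDim ((B ⧸ I) ⧸ (maximalIdeal A).map (algebraMap A (B ⧸ I))) = d := by
      rw [← ringKrullDim_eq_of_ringEquiv eF]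
      obtain ⟨k, hk⟩ : ∃ k : ℕ, ringKrullDim (F ⧸ Ideal.span {Ideal.Quotient.mk J f}) = k :=
        ⟨_, hregF.spanFinrank_maximalIdeal.symm⟩
      rw [hd, hk] at hdimF
      rw [hk]
      have h1 : k + 1 = d + 1 := by exact_mod_cast hdimF
      exact_mod_cast Nat.succ_injective h1
    obtain ⟨ss, hlen, hss, hssm⟩ := ih (B ⧸ I) hdim'
    choose l hl using fun q : B ⧸ I => Ideal.Quotient.mk_surjective q
    refine ⟨f :: ss.map l, by simp [hlen, Nat.add_assoc], ?_, fun r hr => ?_⟩
    · rw [RingTheory.Sequence.isWeaklyRegular_cons_iff']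
      refine ⟨isSMulRegular_iff_right_eq_zero_of_smul.mpr fun z hz => hf.1 z hz, ?_⟩
      have e : (QuotSMulTop f B) ≃ₗ[B ⧸ I] (B ⧸ I) :=
        { (Submodule.quotEquivOfEq _ _ (by simp [I, ← Submodule.ideal_span_singleton_smul,
            smul_eq_mul])).toAddEquiv with
          map_smul' := fun c y => by
            obtain ⟨c, rfl⟩ := Ideal.Quotient.mk_surjective c
            obtain ⟨y, rfl⟩ := Submodule.Quotient.mk_surjective _ y
            rfl }
      rw [e.isWeaklyRegular_congr, List.map_map,
        show (⇑(Ideal.Quotient.mk I) ∘ l) = id from funext hl, List.map_id]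
      exact hss
    · rcases List.mem_cons.1 hr with rfl | hr
      · exact hfB
      · obtain ⟨q, hq, rfl⟩ := List.mem_map.1 hr
        rw [hcomp, Ideal.mem_comap, hl]
        exact hssm q hq

variable {B : Type u} [CommRing B] [IsLocalRing B] [IsNoetherianRing B] [Algebra A B]
  [IsLocalHom (algebraMap A B)] [Module.Flat A B]

/-- The depth grows at least by the dimension of a regular closed fibre. -/
theorem add_le_depth_of_flat [IsRegularLocalRing (B ⧸ (maximalIdeal A).map (algebraMap A B))]
    {a d : ℕ} (ha : (a : ℕ∞) ≤ LocCoh.depth A A)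
    (hd : ringKrullDim (B ⧸ (maximalIdeal A).map (algebraMap A B)) = d) :
    ((a + d : ℕ) : ℕ∞) ≤ LocCoh.depth B B := by
  obtain ⟨rs, hlen, hrs, hmem⟩ := (Groth.LocCohBase.le_idealDepth_iff_exists _
    (Groth.LocCohBase.smul_maximalIdeal_ne_top (R := A) A (maximalIdeal.isMaximal A).ne_top) a).1 ha
  obtain ⟨ss, hl, hss, hssm⟩ := exists_regular_sequence_of_flat rs hrs hmem d B hd
  exact (Groth.LocCohBase.le_idealDepth_iff_exists _
    (Groth.LocCohBase.smul_maximalIdeal_ne_top (R := B) B (maximalIdeal.isMaximal B).ne_top) _).2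
    ⟨ss, by rw [hl, hlen], hss, hssm⟩

end Groth.ZetaAn
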