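import Groth.Agent.NeronArea.StandardElement
import Groth.Agent.Calg4.SmoothRegularField
import Groth.Agent.Ega4Algebra1.RegularLocal

/-!
Regularity of fibres of a polynomial ring in a regular local ring carrying the partial derivatives.
-/

set_option autoImplicit false
set_option linter.style.haveILetI false

open IsLocalRing MvPolynomial

namespace Groth.ZetaAn

/-- A prime of a polynomial ring over a perfect field is cut out at the generic point by a system
with invertible Jacobian minor. -/
theorem exists_jacobian_data (k : Type) [Field k] [PerfectField k] (n : ℕ)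
    (P : Ideal (MvPolynomial (Fin n) k)) [P.IsPrime] :
    ∃ (c : ℕ) (g : Fin c → MvPolynomial (Fin n) k) (cols : Fin c → Fin n)
      (a : MvPolynomial (Fin n) k), a ∉ P ∧ (∀ i, g i ∈ P) ∧
      (Matrix.of fun j l : Fin c => pderiv (cols l) (g j)).det ∉ P ∧
      ∀ p ∈ P, a * p ∈ Ideal.span (Set.range g) ⊔ P ^ 2 := by
  let R := MvPolynomial (Fin n) k
  obtain ⟨m, f, hf⟩ := Submodule.fg_iff_exists_fin_generating_family.1 (IsNoetherian.noetherian P)
  let A := R ⧸ P
  let φ : R →ₐ[k] A := Ideal.Quotient.mkₐ k P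
  have hker : RingHom.ker φ.toRingHom = Ideal.span (Set.range f) := by
    rw [show RingHom.ker φ.toRingHom = P from Ideal.mk_ker]; exact hf.symm
  haveI : (⊥ : Ideal A).IsPrime := Ideal.isPrime_bot
  haveI : IsRegularLocalRing (Localization.AtPrime (⊥ : Ideal A)) := by
    let : Field (Localization.AtPrime (⊥ : Ideal A)) := IsField.toField <| by
      simp [isField_iff_maximalIdeal_eq, ← Localization.AtPrime.map_eq_maximalIdeal]
    infer_instance
  haveI : Algebra.EssFiniteType k (⊥ : Ideal A).ResidueField :=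
    Algebra.EssFiniteType.comp k A _
  haveI : Algebra.FormallySmooth k (⊥ : Ideal A).ResidueField := Algebra.FormallySmooth.of_perfectField
  haveI : Algebra.IsSmoothAt k (⊥ : Ideal A) := Groth.Calg4.isSmoothAt_of_isRegularLocalRing _
  obtain ⟨a, ha, c, rows, cols, a', haa', hfin⟩ := Groth.NeronArea.Standard.exists_standard f φ
    Ideal.Quotient.mk_surjective hker (⊥ : Ideal A)
  obtain ⟨a₁, rfl⟩ := Ideal.Quotient.mk_surjective a
  have hmem : ∀ p, φ p = 0 ↔ p ∈ P := fun p => Ideal.Quotient.eq_zero_iff_mem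
  refine ⟨c, f ∘ rows, cols, a₁, fun h => ha ?_, fun i => ?_, fun h => ha ?_, fun p hp => ?_⟩
  · rw [Ideal.mem_bot]; exact (hmem a₁).2 h
  · rw [← hf]; exact Ideal.subset_span ⟨rows i, rfl⟩
  · rw [Ideal.mem_bot]
    refine haa'.trans ?_
    rw [(hmem (Smoothing.jacobianMinor f rows cols)).2 h, mul_zero]
  · rw [← hf] at hp ⊢
    refine Submodule.span_induction ?_ (by simp) (fun x y _ _ hx hy => ?_) (fun r x _ hx => ?_) hp
    · rintro _ ⟨l, rfl⟩
      exact hfin a₁ rfl l
    · rw [mul_add]; exact add_mem hx hy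
    · rw [smul_eq_mul, mul_left_comm]; exact Ideal.mul_mem_left _ _ hx

theorem isRegularLocalRing_localization_quotient {k : Type} [Field k] [PerfectField k] {n : ℕ}
    {S : Type} [CommRing S] [IsRegularLocalRing S] (ι : MvPolynomial (Fin n) k →+* S)
    (D : Fin n → S →+ S) (hmul : ∀ j x y, D j (x * y) = x * D j y + y * D j x)
    (hι : ∀ j p, D j (ι p) = ι (pderiv j p)) (P' : Ideal S) [P'.IsPrime] :
    IsRegularLocalRing (Localization.AtPrime P' ⧸
      (P'.comap ι).map ((algebraMap S (Localization.AtPrime P')).comp ι)) := by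
  classical
  set P := P'.comap ι
  obtain ⟨c, g, cols, a, ha, hg, hdet, hspan⟩ := exists_jacobian_data k n P
  let L := Localization.AtPrime P'
  let ψ := (algebraMap S L).comp ι
  haveI : IsRegularLocalRing L :=
    Groth.Ega4Algebra1.isRegularLocalRing_localization_atPrime S P'
  have hψP : P.map ψ ≤ maximalIdeal L := Ideal.map_le_iff_le_comap.2 fun p hp =>
    (IsLocalization.AtPrime.to_map_mem_maximal_iff L P' (ι p)).2 hp
  -- the ideal is generated by `g`
  have hJ : P.map ψ = Ideal.span (Set.range (ψ ∘ g)) := by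
    refine le_antisymm ?_ (Ideal.span_le.2 ?_)
    · refine Submodule.le_of_le_smul_of_le_jacobson_bot (I := P.map ψ) (IsNoetherian.noetherian _)
        (hψP.trans (maximalIdeal_le_jacobson ⊥)) (Ideal.map_le_iff_le_comap.2 fun p hp => ?_)
      have hu : IsUnit (ψ a) := IsLocalization.map_units L (⟨ι a, ha⟩ : P'.primeCompl)
      have h1 := Ideal.mem_map_of_mem ψ (hspan p hp)
      rw [map_mul, Ideal.map_sup, Ideal.map_span, Ideal.map_pow, ← Set.range_comp, sq,
        Ideal.unit_mul_mem_iff_mem _ hu] at h1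
      exact h1
    · rintro _ ⟨i, rfl⟩
      exact Ideal.mem_map_of_mem _ (hg i)
  rw [hJ]
  refine (Groth.Calg4.isRegularLocalRing_quotient_of_indep c L (ψ ∘ g)
    (fun i => hψP (Ideal.mem_map_of_mem _ (hg i))) fun e he => ?_).1
  -- clear denominators
  obtain ⟨s, hs⟩ := IsLocalization.exist_integer_multiples_of_finite P'.primeCompl e
  choose d hd using hs
  have hd' : ∀ i, algebraMap S L (d i) = algebraMap S L s * e i := fun i => by
    rw [← Algebra.smul_def]; exact hd i
  have hmem : algebraMap S L (∑ i, d i * ι (g i)) ∈ (P' ^ 2).map (algebraMap S L) := by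
    rw [Ideal.map_pow, Localization.AtPrime.map_eq_maximalIdeal, map_sum]
    have h2 : ∑ i, algebraMap S L (d i * ι (g i)) =
        algebraMap S L s * ∑ i, e i * (ψ ∘ g) i := by
      rw [Finset.mul_sum]
      exact Finset.sum_congr rfl fun i _ => by
        simp only [map_mul, hd', Function.comp_apply, ψ, RingHom.comp_apply, mul_assoc]
    rw [h2]
    exact Ideal.mul_mem_left _ _ he
  obtain ⟨u, hu, hu'⟩ := (IsLocalization.algebraMap_mem_map_algebraMap_iff P'.primeCompl L _ _).1 hmem
  -- differentiate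
  have hDsq : ∀ j, ∀ x ∈ P' ^ 2, D j x ∈ P' := by
    intro j x hx
    rw [sq] at hx
    refine Submodule.mul_induction_on hx (fun y hy z hz => ?_) (fun y z hy hz => ?_)
    · rw [hmul]
      exact add_mem (Ideal.mul_mem_right _ _ hy) (Ideal.mul_mem_right _ _ hz)
    · rw [map_add]; exact add_mem hy hz
  let q := Ideal.Quotient.mk P'
  let M : Matrix (Fin c) (Fin c) (S ⧸ P') := Matrix.of fun i l => q (ι (pderiv (cols l) (g i)))
  let w : Fin c → S ⧸ P' := fun i => q (u * d i)
  have hvec : Matrix.vecMul w M = 0 := by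
    funext l
    show ∑ i, w i * M i l = 0
    simp only [w, M, Matrix.of_apply, ← map_mul, ← map_sum, q]
    rw [Ideal.Quotient.eq_zero_iff_mem]
    have h1 := hDsq (cols l) _ hu'
    rw [Finset.mul_sum, map_sum] at h1
    have h3 : ∀ i : Fin c, D (cols l) (u * (d i * ι (g i))) =
        u * d i * ι (pderiv (cols l) (g i)) + ι (g i) * D (cols l) (u * d i) := fun i => by
      rw [← mul_assoc, hmul, hι]
    simp only [h3, Finset.sum_add_distrib] at h1
    have h4 : ∑ i, ι (g i) * D (cols l) (u * d i) ∈ P' :=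
      Ideal.sum_mem _ fun i _ => Ideal.mul_mem_right _ _ (hg i)
    exact (Ideal.add_mem_iff_left _ h4).1 h1
  have hM : M.det ≠ 0 := by
    intro h
    refine hdet (Ideal.mem_comap.2 (Ideal.Quotient.eq_zero_iff_mem.1 ?_))
    rw [← h, ← RingHom.comp_apply, RingHom.map_det]
    rfl
  have hw := Matrix.eq_zero_of_vecMul_eq_zero hM hvec
  intro i
  have hdi : d i ∈ P' := by
    have := Ideal.Quotient.eq_zero_iff_mem.1 (congrFun hw i)
    exact (Ideal.IsPrime.mem_or_mem ‹_› this).resolve_left hu
  have h5 : algebraMap S L s * e i ∈ maximalIdeal L := by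
    rw [← hd' i]
    exact (IsLocalization.AtPrime.to_map_mem_maximal_iff L P' (d i)).2 hdi
  exact (Ideal.unit_mul_mem_iff_mem _ (IsLocalization.map_units L s)).1 h5

end Groth.ZetaAn
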