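import Groth.Agent.ZetaAn.GermPoly
import Groth.Agent.ZetaAn.RegularFibre
import Groth.Agent.ZetaAn.FlatRegularDepth
import Groth.Agent.Calg1.SerreConditions

/-!
The fibres of the map from an algebraic to a holomorphic local ring are regular; Serre's conditions
and normality are preserved in both directions.
-/

set_option autoImplicit false
set_option linter.style.haveILetI false
set_option backward.isDefEq.respectTransparency false

open CategoryTheory AlgebraicGeometry Topology TopologicalSpace Filter

namespace Groth.ZetaAn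

open An

/-- Localised quotient of a surjection by an ideal containing its kernel. -/
theorem exists_localization_quotient_equiv {S T : Type} [CommRing S] [CommRing T] (χ : S →+* T)
    (hχ : Function.Surjective χ) (Q : Ideal T) [Q.IsPrime] (J : Ideal S) (hJ : RingHom.ker χ ≤ J) :
    Nonempty ((Localization.AtPrime (Q.comap χ) ⧸ J.map (algebraMap S (Localization.AtPrime (Q.comap χ))))
      ≃+* (Localization.AtPrime Q ⧸ (J.map χ).map (algebraMap T (Localization.AtPrime Q)))) := by
  set L := Localization.AtPrime (Q.comap χ)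
  set L' := Localization.AtPrime Q
  let lr : L →+* L' := Localization.localRingHom (Q.comap χ) Q χ rfl
  have hlr : ∀ a, lr (algebraMap S L a) = algebraMap T L' (χ a) := Localization.localRingHom_to_map _ _ _ rfl
  have hsurj : Function.Surjective lr := by
    intro z
    obtain ⟨⟨b, u⟩, hz⟩ := IsLocalization.surj Q.primeCompl z
    obtain ⟨a, rfl⟩ := hχ b
    obtain ⟨v, hv⟩ := hχ u
    have hvQ : v ∈ (Q.comap χ).primeCompl := fun h => u.2 (hv ▸ Ideal.mem_comap.1 h)
    refine ⟨IsLocalization.mk' L a ⟨v, hvQ⟩, ?_⟩
    have h := congrArg lr (IsLocalization.mk'_spec L a ⟨v, hvQ⟩)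
    rw [map_mul, hlr, hlr, hv] at h
    exact (IsLocalization.map_units L' u).mul_right_cancel (h.trans hz.symm)
  have hker : RingHom.ker lr ≤ J.map (algebraMap S L) := by
    intro y hy
    obtain ⟨⟨a, v⟩, hya⟩ := IsLocalization.surj (Q.comap χ).primeCompl y
    have h0 : algebraMap T L' (χ a) = 0 := by
      rw [← hlr, ← hya, map_mul, RingHom.mem_ker.1 hy, zero_mul]
    obtain ⟨t, ht⟩ := (IsLocalization.map_eq_zero_iff Q.primeCompl L' _).1 h0
    obtain ⟨t', ht'⟩ := hχ t
    have hu : IsUnit (algebraMap S L (t' * v)) := by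
      rw [map_mul]
      exact (IsLocalization.map_units L (⟨t', fun h => t.2 (ht' ▸ Ideal.mem_comap.1 h)⟩ :
        (Q.comap χ).primeCompl)).mul (IsLocalization.map_units L v)
    have hmem : y * algebraMap S L (t' * v) ∈ J.map (algebraMap S L) := by
      rw [map_mul, mul_left_comm, hya, ← map_mul]
      exact Ideal.mem_map_of_mem _ (hJ (by rw [RingHom.mem_ker, map_mul, ht', ht]))
    exact (Ideal.mul_unit_mem_iff_mem _ hu).1 hmem
  set J' := (J.map χ).map (algebraMap T L')
  have hJ' : J' = (J.map (algebraMap S L)).map lr := by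
    rw [Ideal.map_map, show lr.comp (algebraMap S L) = (algebraMap T L').comp χ from RingHom.ext hlr,
      ← Ideal.map_map]
  have hk : RingHom.ker ((Ideal.Quotient.mk J').comp lr) = J.map (algebraMap S L) := by
    rw [← RingHom.comap_ker, Ideal.mk_ker, hJ', Ideal.comap_map_of_surjective lr hsurj,
      ← RingHom.ker_eq_comap_bot, sup_eq_left]
    exact hker
  exact ⟨(Ideal.quotEquivOfEq hk.symm).trans
    (RingHom.quotientKerEquivOfSurjective (Ideal.Quotient.mk_surjective.comp hsurj))⟩

variable {X : Scheme.{0}} [X.Over An.SC] [LocallyOfFiniteType (X ↘ SC)] [IsReduced X]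

/-- The fibres of `O_x → O^an_x` are regular. -/
theorem isRegularLocalRing_fibre (x : Pts X) (P' : Ideal (anStalk x)) [P'.IsPrime] :
    IsRegularLocalRing (Localization.AtPrime P' ⧸
      ((P'.comap (phiAn x).hom).map (phiAn x).hom).map
        (algebraMap (anStalk x) (Localization.AtPrime P'))) := by
  obtain ⟨W, hW, hx, n, s, hs⟩ := exists_chart x
  letI := algSec W
  haveI := isRegularLocalRing_germO n
  set c : Fin n → ℂ := fun i => x.ev W hx (s i)
  set χ := chartHom hx s hW hs
  have hχ : Function.Surjective χ := chartHom_surjective hx s hW hs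
  set π : MvPolynomial (Fin n) ℂ →ₐ[ℂ] Γ(X, W) := MvPolynomial.aeval s
  have key := isRegularLocalRing_localization_quotient (polyGerm c) (fun j => dCoord j)
    (fun j a b => SCV.dGerm_mul _ a b) (fun j p => dCoord_polyGerm c j p) (P'.comap χ)
  rw [← Ideal.map_map] at key
  set P := (P'.comap χ).comap (polyGerm c)
  have hJ : RingHom.ker χ ≤ P.map (polyGerm c) := by
    rw [ker_chartHom hx s hW hs]
    refine Ideal.map_mono fun p hp => ?_
    rw [Ideal.mem_comap, Ideal.mem_comap, chartHom_polyGerm hx s hW hs p,
      show MvPolynomial.aeval s p = 0 from hp, map_zero, map_zero]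
    exact zero_mem _
  obtain ⟨e⟩ := exists_localization_quotient_equiv χ hχ P' (P.map (polyGerm c)) hJ
  have hreg := IsRegularLocalRing.of_ringEquiv e
  -- identification of the ideal
  have hsurj : Function.Surjective π := hs
  let γ : Γ(X, W) →+* X.presheaf.stalk x.pt := (X.presheaf.germ W x.pt hx).hom
  have hcomp : χ.comp (polyGerm c) = ((phiAn x).hom.comp γ).comp π.toRingHom :=
    RingHom.ext fun p => chartHom_polyGerm hx s hW hs p
  letI : Algebra Γ(X, W) (X.presheaf.stalk x.pt) := γ.toAlgebra
  haveI : IsLocalization.AtPrime (X.presheaf.stalk x.pt) (hW.primeIdealOf ⟨x.pt, hx⟩).asIdeal :=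
    hW.isLocalization_stalk ⟨x.pt, hx⟩
  have hP : (P.map (polyGerm c)).map χ = (P'.comap (phiAn x).hom).map (phiAn x).hom := by
    rw [Ideal.map_map, show P = P'.comap (χ.comp (polyGerm c)) from Ideal.comap_comap _ _, hcomp,
      ← Ideal.comap_comap, ← Ideal.map_map, Ideal.map_comap_of_surjective π.toRingHom hsurj,
      ← Ideal.map_map, ← Ideal.comap_comap]
    congr 1
    exact IsLocalization.map_comap (hW.primeIdealOf ⟨x.pt, hx⟩).asIdeal.primeCompl
      (X.presheaf.stalk x.pt) _
  rwa [hP] at hreg

/-- Localisations of algebraic and holomorphic local rings: dimension, depth, regularity. -/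
theorem localized_facts (x : Pts X) (P' : Ideal (anStalk x)) [P'.IsPrime] :
    P'.height ≥ (P'.comap (phiAn x).hom).height ∧
    (IsRegularLocalRing (Localization.AtPrime (P'.comap (phiAn x).hom)) →
      IsRegularLocalRing (Localization.AtPrime P')) ∧
    (∀ k : ℕ, min (k : ℕ∞) (P'.comap (phiAn x).hom).height ≤
        LocCoh.depth (Localization.AtPrime (P'.comap (phiAn x).hom))
          (Localization.AtPrime (P'.comap (phiAn x).hom)) →
      min (k : ℕ∞) P'.height ≤ LocCoh.depth (Localization.AtPrime P') (Localization.AtPrime P')) ∧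
    (P' ∈ ((P'.comap (phiAn x).hom).map (phiAn x).hom).minimalPrimes →
      P'.height = (P'.comap (phiAn x).hom).height ∧
      (IsRegularLocalRing (Localization.AtPrime P') →
        IsRegularLocalRing (Localization.AtPrime (P'.comap (phiAn x).hom))) ∧
      LocCoh.depth (Localization.AtPrime P') (Localization.AtPrime P') =
        LocCoh.depth (Localization.AtPrime (P'.comap (phiAn x).hom))
          (Localization.AtPrime (P'.comap (phiAn x).hom))) := by
  haveI := isLocalRing_anStalk x
  haveI := isNoetherianRing_anStalk x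
  haveI := isNoetherianRing_stalk x
  letI := algAn x
  haveI := (cplEquiv x).flat
  set p := P'.comap (phiAn x).hom with hp
  haveI : p.IsPrime := Ideal.IsPrime.comap _
  let A := Localization.AtPrime p
  let B := Localization.AtPrime P'
  letI : Algebra A B := (Localization.localRingHom p P' (algebraMap (X.presheaf.stalk x.pt) (anStalk x)) rfl).toAlgebra
  haveI : IsScalarTower (X.presheaf.stalk x.pt) A B :=
    IsScalarTower.of_algebraMap_eq fun a => by
      rw [RingHom.algebraMap_toAlgebra (Localization.localRingHom p P' (algebraMap (X.presheaf.stalk x.pt) (anStalk x)) rfl),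
        Localization.localRingHom_to_map]
      exact IsScalarTower.algebraMap_apply (X.presheaf.stalk x.pt) (anStalk x) B a
  haveI : IsLocalHom (algebraMap A B) := Localization.isLocalHom_localRingHom p P' (algebraMap (X.presheaf.stalk x.pt) (anStalk x)) rfl
  haveI : Module.Flat (X.presheaf.stalk x.pt) B := Module.Flat.trans (X.presheaf.stalk x.pt) (anStalk x) _
  haveI : Module.Flat A B := (Module.flat_iff_of_isLocalization A p.primeCompl _).mpr inferInstance
  have hJ : (IsLocalRing.maximalIdeal A).map (algebraMap A B) =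
      ((p.map (phiAn x).hom)).map (algebraMap (anStalk x) B) := by
    rw [← Localization.AtPrime.map_eq_maximalIdeal, Ideal.map_map, ← IsScalarTower.algebraMap_eq (X.presheaf.stalk x.pt) A B,
      IsScalarTower.algebraMap_eq (X.presheaf.stalk x.pt) (anStalk x) B, ← Ideal.map_map]
    rfl
  haveI hF : IsRegularLocalRing (B ⧸ (IsLocalRing.maximalIdeal A).map (algebraMap A B)) := by
    rw [hJ]; exact isRegularLocalRing_fibre x P'
  obtain ⟨d, hd⟩ : ∃ d : ℕ,
      ringKrullDim (B ⧸ (IsLocalRing.maximalIdeal A).map (algebraMap A B)) = d :=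
    ⟨_, hF.spanFinrank_maximalIdeal.symm⟩
  have hdim := Groth.Calg4.ringKrullDim_eq_add_of_flat A B
  rw [hd, IsLocalization.AtPrime.ringKrullDim_eq_height P',
    IsLocalization.AtPrime.ringKrullDim_eq_height p] at hdim
  have hh : P'.height = p.height + d := by exact_mod_cast hdim
  refine ⟨hh ▸ le_add_right le_rfl, fun _ => Groth.Calg4.isRegularLocalRing_of_flat_of_quotient A B,
    fun k hk => ?_, fun hmin => ?_⟩
  · obtain ⟨a, ha⟩ : ∃ a : ℕ, min (k : ℕ∞) p.height = a :=
      ⟨_, (ENat.natCast_toNat (ne_top_of_le_ne_top (ENat.natCast_ne_top k) (min_le_left _ _))).symm⟩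
    rw [ha] at hk
    refine le_trans ?_ (add_le_depth_of_flat hk hd)
    rw [hh, Nat.cast_add, ← ha, ← min_add_add_right]
    exact min_le_min_right _ le_self_add
  have hrad : IsLocalRing.maximalIdeal B ≤ ((IsLocalRing.maximalIdeal A).map (algebraMap A B)).radical := by
    rw [hJ, Ideal.radical_eq_sInf]
    refine le_sInf fun Q ⟨hQ, hQp⟩ => ?_
    have h1 : p.map (phiAn x).hom ≤ Q.comap (algebraMap (anStalk x) B) := Ideal.map_le_iff_le_comap.1 hQ
    have h2 : Q.comap (algebraMap (anStalk x) B) ≤ P' := by
      exact (Ideal.comap_mono (IsLocalRing.le_maximalIdeal hQp.ne_top)).trans_eq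
        (IsLocalization.AtPrime.under_maximalIdeal B P')
    have h3 := hmin.2 ⟨Ideal.IsPrime.comap _, h1⟩ h2
    rw [← Localization.AtPrime.map_eq_maximalIdeal (I := P'), Ideal.map_le_iff_le_comap]
    exact h3
  haveI : IsLocalRing (B ⧸ (IsLocalRing.maximalIdeal A).map (algebraMap A B)) := inferInstance
  have hd0 : ringKrullDim (B ⧸ (IsLocalRing.maximalIdeal A).map (algebraMap A B)) ≤ 0 := by
    refine Ring.krullDimLE_iff.1 (Ring.krullDimLE_zero_iff.2 fun Q hQ => ?_)
    have hQ' : (Q.comap (Ideal.Quotient.mk _)).IsPrime := Ideal.IsPrime.comap _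
    have : Q.comap (Ideal.Quotient.mk _) = IsLocalRing.maximalIdeal B := by
      refine le_antisymm (IsLocalRing.le_maximalIdeal hQ'.ne_top) (hrad.trans ?_)
      refine hQ'.radical_le_iff.2 fun b hb => ?_
      rw [Ideal.mem_comap, Ideal.Quotient.eq_zero_iff_mem.2 hb]
      exact zero_mem _
    rw [← Ideal.map_comap_of_surjective _ Ideal.Quotient.mk_surjective Q, this]
    exact Ideal.IsMaximal.map_of_surjective_of_ker_le Ideal.Quotient.mk_surjective
      (Ideal.mk_ker.le.trans (IsLocalRing.le_maximalIdeal (Groth.Calg4.map_maximalIdeal_ne_top (A := A) (B := B))))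
  rw [hd] at hd0
  have hd0' : d = 0 := Nat.le_zero.1 (by exact_mod_cast hd0)
  subst hd0'
  refine ⟨by simpa using hh, fun _ => ?_,
    le_antisymm (Groth.Calg4.depth_le_of_flat hrad) Groth.Calg4.le_depth_of_flat⟩
  exact Groth.Ega4Algebra1.isRegularLocalRing_of_flat A B

end Groth.ZetaAn
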