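import Groth.Agent.FunFld1.Zeta.RH
import Groth.Agent.FunFld1.Rational
import Groth.Agent.FunFld1.ConstClosure
import Groth.Agent.FunFld1.PlaneModel
import Mathlib

/-! A plane curve through a smooth rational point has many rational points. -/

set_option autoImplicit false
set_option linter.style.haveILetI false

open Polynomial WithZero FunFld Groth.FunFld1
open scoped Polynomial.Bivariate

namespace Groth.ZetaAn

variable {k L : Type*} [Field k] [Field L] [Algebra k L]

/-- Deg-one places where an element is small are bounded by its pole degree. -/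
lemma ncard_small_le (hK : IsFunctionField k L) {x w : L} (hw : w ≠ 0) (M : ℕ)
    (hwb : ∀ P : Place k L, P.1 w ≤ exp (M • zeroDiv k x⁻¹ P))
    (S : Set (Place k L)) (hS : ∀ P ∈ S, P.deg = 1 ∧ P.1 x ≤ 1 ∧ P.1 w < 1) :
    S.Finite ∧ (S.ncard : ℤ) ≤ M * (zeroDiv k x⁻¹).deg := by
  classical
  have hF := IsFF.of_isFunctionField hK
  set E := M • zeroDiv k x⁻¹ + div k w with hE
  have hwL : w ∈ FunFld.L (M • zeroDiv k x⁻¹) := fun P => by
    rw [Finsupp.smul_apply]; exact hwb P
  have hE0 : 0 ≤ E := (hF.mem_L_iff hw).1 hwL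
  have hsub : ∀ P ∈ S, 1 ≤ E P := by
    intro P hP
    obtain ⟨-, hx, hlt⟩ := hS P hP
    have h1 : P.1 x ≤ exp 0 := hx
    have h2 : zeroDiv k x⁻¹ P = 0 := by
      rw [hF.zeroDiv_apply, ord_inv]
      rcases eq_or_ne x 0 with rfl | hx0
      · simp [Place.ord]
      · have := (val_le_exp_iff P hx0 _).mp h1
        omega
    have h3 : P.1 w ≤ exp (-1) := by
      rw [← lt_one_iff_le_exp_neg_one]
      exact hlt
    rw [hE, Finsupp.add_apply, Finsupp.smul_apply, h2, smul_zero, hF.div_apply]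
    have := (val_le_exp_iff P hw _).mp h3
    omega
  have hfin : S.Finite := E.support.finite_toSet.subset fun P hP =>
    Finsupp.mem_support_iff.2 (by have := hsub P hP; omega)
  refine ⟨hfin, ?_⟩
  have hdeg : E.deg = M * (zeroDiv k x⁻¹).deg := by
    rw [hE, deg_add, hF.deg_div, add_zero, deg_nsmul]
  rw [← hdeg, Set.ncard_eq_toFinset_card _ hfin]
  calc (hfin.toFinset.card : ℤ) = ∑ P ∈ hfin.toFinset, (1 : ℤ) := by simp
    _ ≤ ∑ P ∈ hfin.toFinset, E P * P.deg := Finset.sum_le_sum fun P hP => by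
        rw [Set.Finite.mem_toFinset] at hP
        rw [(hS P hP).1, Nat.cast_one, mul_one]
        exact hsub P hP
    _ ≤ ∑ P ∈ E.support, E P * P.deg := Finset.sum_le_sum_of_subset_of_nonneg
        (fun P hP => Finsupp.mem_support_iff.2 (by
          rw [Set.Finite.mem_toFinset] at hP
          have := hsub P hP
          omega))
        fun P _ _ => mul_nonneg (hE0 P) (Int.natCast_nonneg _)
    _ = E.deg := rfl

/-- Poles are bounded by the pole degree. -/
lemma ncard_pole_le (hK : IsFunctionField k L) {x : L}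
    (S : Set (Place k L)) (hS : ∀ P ∈ S, P.deg = 1 ∧ ¬ P.1 x ≤ 1) :
    S.Finite ∧ (S.ncard : ℤ) ≤ (zeroDiv k x⁻¹).deg := by
  classical
  have hF := IsFF.of_isFunctionField hK
  set E := zeroDiv k x⁻¹
  have hE0 : 0 ≤ E := IsFF.zeroDiv_nonneg _
  have hsub : ∀ P ∈ S, 1 ≤ E P := by
    intro P hP
    obtain ⟨-, hx⟩ := hS P hP
    have hx0 : x ≠ 0 := fun h => hx (by simp [h])
    have h2 := hF.val_le_exp_zeroDiv_inv x P
    by_contra hlt
    apply hx
    refine h2.trans ?_
    rw [exp_le_one]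
    change E P ≤ 0
    omega
  have hfin : S.Finite := E.support.finite_toSet.subset fun P hP =>
    Finsupp.mem_support_iff.2 (by have := hsub P hP; omega)
  refine ⟨hfin, ?_⟩
  rw [Set.ncard_eq_toFinset_card _ hfin]
  calc (hfin.toFinset.card : ℤ) = ∑ P ∈ hfin.toFinset, (1 : ℤ) := by simp
    _ ≤ ∑ P ∈ hfin.toFinset, E P * P.deg := Finset.sum_le_sum fun P hP => by
        rw [Set.Finite.mem_toFinset] at hP
        rw [(hS P hP).1, Nat.cast_one, mul_one]
        exact hsub P hP
    _ ≤ ∑ P ∈ E.support, E P * P.deg := Finset.sum_le_sum_of_subset_of_nonneg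
        (fun P hP => Finsupp.mem_support_iff.2 (by
          rw [Set.Finite.mem_toFinset] at hP
          have := hsub P hP
          omega))
        fun P _ _ => mul_nonneg (hE0 P) (Int.natCast_nonneg _)
    _ = E.deg := rfl

lemma val_aeval_le (P : Place k L) {x : L} {ξ : WithZero (Multiplicative ℤ)} (hξ : 1 ≤ ξ)
    (hx : P.1 x ≤ ξ) (p : k[X]) {N : ℕ} (hN : p.natDegree ≤ N) :
    P.1 (aeval x p) ≤ ξ ^ N := by
  rw [aeval_eq_sum_range' (Nat.lt_succ_of_le hN)]
  refine P.1.map_sum_le fun i hi => ?_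
  rw [Algebra.smul_def, map_mul, map_pow]
  refine ((mul_le_mul' (P.2.1 _) (pow_le_pow_left₀ zero_le hx i)).trans_eq (one_mul _)).trans ?_
  exact pow_le_pow_right₀ hξ (Nat.lt_succ_iff.1 (Finset.mem_range.1 hi))

/-- The data of a branch of a plane curve, with its scaled coordinate. -/
lemma val_branch_le (P : Place k L) {x z : L} {ξ : WithZero (Multiplicative ℤ)} (hξ : 1 ≤ ξ)
    (hx : P.1 x ≤ ξ) (b : ℕ → k[X]) {n K : ℕ} (hb : ∀ j < n, (b j).natDegree ≤ K)
    (hz : z ^ n = - ∑ j ∈ Finset.range n, aeval x (b j) * z ^ j) :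
    P.1 z ≤ ξ ^ K := by
  by_contra hlt
  rw [not_le] at hlt
  have h1 : 1 ≤ P.1 z := (one_le_pow₀ hξ).trans hlt.le
  have hz0 : (0 : WithZero (Multiplicative ℤ)) < P.1 z := lt_of_lt_of_le zero_lt_one h1
  have h2 : P.1 (z ^ n) < P.1 z ^ n := by
    conv_lhs => rw [hz, Valuation.map_neg]
    refine P.1.map_sum_lt (pow_ne_zero _ hz0.ne') fun j hj => ?_
    rw [map_mul, map_pow]
    have hjn := Finset.mem_range.1 hj
    refine lt_of_le_of_lt (mul_le_mul' (val_aeval_le P hξ hx _ (hb j hjn)) le_rfl) ?_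
    calc ξ ^ K * P.1 z ^ j < P.1 z * P.1 z ^ j :=
          mul_lt_mul_of_pos_right hlt (pow_pos hz0 j)
      _ = P.1 z ^ (j + 1) := (pow_succ' _ _).symm
      _ ≤ P.1 z ^ n := pow_le_pow_right₀ h1 hjn
  rw [map_pow] at h2
  exact lt_irrefl _ h2

variable (F : Type*) [Field F]

/-- Algebraic elements of the fraction field of power series are constants. -/
lemma algebraic_fractionRing_powerSeries {y : FractionRing (PowerSeries F)}
    (hy : IsAlgebraic F y) : y ∈ Set.range (algebraMap F (FractionRing (PowerSeries F))) := by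
  have mem : ∀ w : FractionRing (PowerSeries F), IsAlgebraic F w → ∃ u : PowerSeries F,
      algebraMap _ (FractionRing (PowerSeries F)) u = w := fun w hw =>
    IsIntegrallyClosed.isIntegral_iff.1 (hw.isIntegral.tower_top (A := PowerSeries F))
  obtain ⟨u, hu⟩ := mem y hy
  refine ⟨PowerSeries.constantCoeff u, ?_⟩
  rw [← hu, IsScalarTower.algebraMap_apply F (PowerSeries F) (FractionRing (PowerSeries F))]
  set c := PowerSeries.constantCoeff u
  set z := u - algebraMap F (PowerSeries F) c with hz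
  by_contra hne
  have hz0 : algebraMap (PowerSeries F) (FractionRing (PowerSeries F)) z ≠ 0 := by
    rw [hz, map_sub, sub_ne_zero]; exact fun h => hne h.symm
  have halg : IsAlgebraic F (algebraMap (PowerSeries F) (FractionRing (PowerSeries F)) z) := by
    rw [hz, map_sub, hu, ← IsScalarTower.algebraMap_apply]
    exact hy.sub (isAlgebraic_algebraMap _)
  obtain ⟨v, hv⟩ := mem _ halg.inv
  have h1 : z * v = 1 := IsFractionRing.injective (PowerSeries F) (FractionRing (PowerSeries F)) (by
    rw [map_mul, hv, map_one, mul_inv_cancel₀ hz0])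
  have h2 := congrArg PowerSeries.constantCoeff h1
  rw [map_mul, map_one, hz, map_sub, PowerSeries.algebraMap_eq, PowerSeries.constantCoeff_C,
    sub_self, zero_mul] at h2
  exact zero_ne_one h2

/-- Formal branch through a simple rational zero. -/
lemma exists_branch (g : F[X][Y]) (h0 : (g.coeff 0).eval 0 = 0) (h1 : (g.coeff 1).eval 0 ≠ 0) :
    ∃ φ : PowerSeries F, PowerSeries.constantCoeff φ = 0 ∧
      aevalAeval (PowerSeries.X : PowerSeries F) φ g = 0 := by
  haveI : HenselianRing (PowerSeries F) (Ideal.span {PowerSeries.X}) := inferInstance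
  have hcc : ∀ p : F[X], PowerSeries.constantCoeff (aeval (PowerSeries.X : PowerSeries F) p) =
      p.eval 0 := by
    intro p
    induction p using Polynomial.induction_on' with
    | add a b ha hb => simp [ha, hb]
    | monomial n a => rcases n with _ | n <;> simp [PowerSeries.algebraMap_eq, aeval_monomial]
  set I : Ideal (PowerSeries F) := Ideal.span {PowerSeries.X}
  set a : ℕ → PowerSeries F := fun i => aeval (PowerSeries.X : PowerSeries F) (g.coeff i)
  have ha0 : a 0 ∈ I := by
    rw [Ideal.mem_span_singleton, PowerSeries.X_dvd_iff, hcc, h0]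
  obtain ⟨u, hu⟩ : IsUnit (a 1) := by
    rw [PowerSeries.isUnit_iff_constantCoeff, hcc]; exact h1.isUnit
  set t : PowerSeries F := -(a 0 * ↑u⁻¹)
  have ht : t ∈ I := I.neg_mem (I.mul_mem_right _ ha0)
  set n : ℕ := g.natDegree + 1
  set d : ℕ → PowerSeries F := fun i => a (i + 2) * t ^ (i + 1) * (-(↑u⁻¹ : PowerSeries F))
  set f : (PowerSeries F)[X] :=
    Polynomial.X ^ n - Polynomial.X ^ (n - 1) +
      ∑ i ∈ Finset.range (n - 1), C (d i) * Polynomial.X ^ (n - 2 - i) with hf
  have hdI : ∀ i, d i ∈ I := fun i => I.mul_mem_right _ (I.mul_mem_left _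
    (I.pow_mem_of_mem ht _ (by omega)))
  have hmonic : f.Monic := by
    rw [hf, sub_add]
    refine monic_X_pow_sub ((degree_sub_le _ _).trans_lt (max_lt ?_ ?_))
    · exact (degree_X_pow_le _).trans_lt (by exact_mod_cast (show n - 1 < n by omega))
    · refine (degree_sum_le _ _).trans_lt ((Finset.sup_lt_iff (WithBot.bot_lt_coe _)).2 fun i hi => ?_)
      exact (degree_C_mul_X_pow_le _ _).trans_lt (by exact_mod_cast (show n - 2 - i < n by omega))
  have heval : f.eval 1 ∈ I := by
    rw [hf, eval_add, eval_sub, eval_pow, eval_pow, eval_X, one_pow, one_pow, sub_self, zero_add,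
      eval_finsetSum]
    exact I.sum_mem fun i _ => by simpa using hdI i
  have hder : IsUnit (Ideal.Quotient.mk I (f.derivative.eval 1)) := by
    rw [hf, derivative_add, derivative_sub, derivative_X_pow, derivative_X_pow, derivative_sum,
      eval_add, eval_sub, eval_finsetSum, map_add, map_sum, Finset.sum_eq_zero, add_zero]
    · have : (n : PowerSeries F) - ((n - 1 : ℕ) : PowerSeries F) = 1 := by
        rw [Nat.cast_sub (by omega)]; simp
      simp [this]
    · intro i _
      rw [Ideal.Quotient.eq_zero_iff_mem, derivative_C_mul_X_pow, eval_mul, eval_C]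
      exact I.mul_mem_right _ (I.mul_mem_right _ (hdI i))
  obtain ⟨v, hv, hv1⟩ := HenselianRing.is_henselian f hmonic 1 heval hder
  obtain ⟨w, hw⟩ : IsUnit v := by
    have h := hv1
    rw [Ideal.mem_span_singleton, PowerSeries.X_dvd_iff, map_sub, map_one, sub_eq_zero] at h
    rw [PowerSeries.isUnit_iff_constantCoeff, h]
    exact isUnit_one
  refine ⟨t * ↑w⁻¹, ?_, ?_⟩
  · rw [← PowerSeries.X_dvd_iff, ← Ideal.mem_span_singleton]
    exact I.mul_mem_right _ ht
  set W : PowerSeries F := ↑w⁻¹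
  have hvW : v * W = 1 := by rw [← hw]; exact Units.mul_inv w
  have key : 1 - W + ∑ i ∈ Finset.range (n - 1), d i * W ^ (i + 2) = 0 := by
    have h := congrArg (· * W ^ n) (show f.eval v = 0 from hv)
    simp only [hf, eval_add, eval_sub, eval_pow, eval_X, eval_finsetSum, eval_mul, eval_C,
      zero_mul, add_mul, sub_mul, Finset.sum_mul] at h
    rw [← h]
    have e : ∀ m ≤ n, v ^ m * W ^ n = W ^ (n - m) := fun m hm => by
      rw [← Nat.add_sub_cancel' hm, pow_add, ← mul_assoc, ← mul_pow, hvW, one_pow, one_mul,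
        Nat.add_sub_cancel_left]
    rw [e n le_rfl, e (n - 1) (by omega), Nat.sub_self, pow_zero,
      show n - (n - 1) = 1 by omega, pow_one]
    refine congrArg _ (Finset.sum_congr rfl fun i hi => ?_)
    have hi' := Finset.mem_range.1 hi
    rw [mul_assoc (d i) (v ^ (n - 2 - i)) (W ^ n), e _ (by omega),
      show n - (n - 2 - i) = i + 2 by omega]
  have hG : aevalAeval (PowerSeries.X : PowerSeries F) (t * W) g =
      ∑ i ∈ Finset.range (n + 1), a i * (t * W) ^ i := by
    conv_lhs => rw [g.as_sum_range_C_mul_X_pow' (n := n + 1) (by omega)]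
    simp [a, map_sum, eval_map, ← aeval_def, ← PowerSeries.algebraMap_eq]
  have hu' : a 1 * ↑u⁻¹ = 1 := by rw [← hu]; exact Units.mul_inv u
  rw [hG, show n + 1 = (n - 1) + 1 + 1 by omega, Finset.sum_range_succ', Finset.sum_range_succ']
  have hsum : ∑ i ∈ Finset.range (n - 1), a (i + 1 + 1) * (t * W) ^ (i + 1 + 1) =
      a 0 * ∑ i ∈ Finset.range (n - 1), d i * W ^ (i + 2) := by
    rw [Finset.mul_sum]
    refine Finset.sum_congr rfl fun i _ => ?_
    simp only [d, t]
    ring
  rw [hsum]
  linear_combination (a 0) * key - (a 0) * W * hu'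

/-- The threshold of the curve bound. -/
def curveQ (D : ℕ) : ℕ :=
  (8 * (D ^ 2 * D ^ 2 + 1)) ^ 2 + 4 * (D + D * (3 * D ^ 3 + 3 * D + 1))

set_option maxHeartbeats 1000000 in
/-- The curve bound on the function field of a branch. -/
lemma curve_points_aux [Finite F] {L : Type*} [Field L] [Algebra F L] {D : ℕ}
    (hq : curveQ D ≤ Nat.card F) (g h : F[X][Y])
    (hg : g.natDegree ≤ D ∧ ∀ i, (g.coeff i).natDegree ≤ D)
    (hh : h.natDegree ≤ D ∧ ∀ i, (h.coeff i).natDegree ≤ D)
    (hg1 : (g.coeff 1).eval 0 ≠ 0) (x φ : L) (hxt : Transcendental F x)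
    (hgen : IntermediateField.adjoin F ({x, φ} : Set L) = ⊤)
    (hconst : ∀ y : L, IsAlgebraic F y → y ∈ Set.range (algebraMap F L))
    (hgz : aevalAeval x φ g = 0) (hhne : aevalAeval x φ h ≠ 0) :
    Nat.card F ≤ 2 * D * {c : F | ∃ b : F, aevalAeval c b g = 0 ∧ aevalAeval c b h ≠ 0}.ncard := by
  classical
  set E := IntermediateField.adjoin F ({x} : Set L) with hE
  let xE : E := ⟨x, IntermediateField.mem_adjoin_simple_self F x⟩
  have hevE : ∀ p : F[X], algebraMap E L (aeval xE p) = aeval x p := fun p =>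
    (aeval_algebraMap_apply L xE p).symm
  let G : E[X] := g.map (aeval xE).toRingHom
  have hG1 : G.coeff 1 ≠ 0 := by
    rw [coeff_map]
    intro h
    have h2 := congrArg (algebraMap E L) h
    rw [map_zero, AlgHom.toRingHom_eq_coe, RingHom.coe_coe, hevE] at h2
    have h3 : g.coeff 1 = 0 := transcendental_iff_injective.mp hxt (h2.trans (map_zero _).symm)
    rw [h3, eval_zero] at hg1
    exact hg1 rfl
  have hsum : ∀ {n : ℕ} (p : F[X][Y]), p.natDegree < n →
      aevalAeval x φ p = ∑ i ∈ Finset.range n, aeval x (p.coeff i) * φ ^ i := by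
    intro n p hn
    conv_lhs => rw [p.as_sum_range_C_mul_X_pow' hn]
    simp [map_sum, eval_map, ← aeval_def]
  have hGφ : aeval φ G = 0 := by
    rw [← hgz, hsum g (Nat.lt_succ_self _), aeval_eq_sum_range' (n := g.natDegree + 1)
      (Nat.lt_succ_of_le natDegree_map_le)]
    refine Finset.sum_congr rfl fun i _ => ?_
    rw [Algebra.smul_def, coeff_map, AlgHom.toRingHom_eq_coe, RingHom.coe_coe, hevE]
  have hint : IsIntegral E φ := IsAlgebraic.isIntegral ⟨G, fun h => hG1 (by rw [h, coeff_zero]), hGφ⟩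
  have htop : IntermediateField.adjoin E ({φ} : Set L) = ⊤ := by
    refine IntermediateField.restrictScalars_eq_top_iff (K := F) |>.1 (eq_top_iff.2 fun y _ => ?_)
    have hle : (IntermediateField.adjoin F ({x, φ} : Set L)) ≤
        (IntermediateField.adjoin E ({φ} : Set L)).restrictScalars F := by
      rw [IntermediateField.adjoin_le_iff]
      intro w hw
      rw [SetLike.mem_coe, IntermediateField.mem_restrictScalars]
      rcases hw with hw | hw
      · rw [show w = algebraMap E L xE from hw.trans rfl]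
        exact IntermediateField.algebraMap_mem _ xE
      · rw [Set.mem_singleton_iff.1 hw]
        exact IntermediateField.mem_adjoin_simple_self _ φ
    refine hle ?_
    rw [hgen]
    exact IntermediateField.mem_top
  have hfd : FiniteDimensional E L := by
    have := IntermediateField.adjoin.finiteDimensional hint
    rw [htop] at this
    exact IntermediateField.topEquiv.toLinearEquiv.finiteDimensional
  have hK : IsFunctionField F L := by
    exact ⟨⟨x, hxt, hfd⟩, hconst⟩
  have hF := IsFF.of_isFunctionField hK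
  set d := Module.finrank E L with hd
  set A := zeroDiv F x⁻¹ with hA
  have hdA : A.deg = d := hF.deg_poleDiv_eq hxt
  have hd1 : 1 ≤ d := Module.finrank_pos
  have hdD : d ≤ D := by
    rw [hd, ← IntermediateField.finrank_top', ← htop, IntermediateField.adjoin.finrank hint]
    exact (natDegree_le_of_dvd (minpoly.dvd E φ hGφ) fun h => hG1 (by rw [h, coeff_zero])).trans
      (natDegree_map_le.trans hg.1)
  set n := g.natDegree with hn
  have hn1 : 1 ≤ n := le_natDegree_of_ne_zero fun h => hg1 (by rw [h, eval_zero])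
  set aP := g.leadingCoeff with haP
  set a := aeval x aP with ha
  have ha0 : a ≠ 0 := fun h => by
    have h3 : aP = 0 := transcendental_iff_injective.mp hxt (h.trans (map_zero _).symm)
    rw [haP, leadingCoeff_eq_zero] at h3
    rw [h3, coeff_zero, eval_zero] at hg1
    exact hg1 rfl
  set z := a * φ with hzdef
  let b : ℕ → F[X] := fun j => g.coeff j * aP ^ (n - 1 - j)
  have hz : z ^ n = - ∑ j ∈ Finset.range n, aeval x (b j) * z ^ j := by
    rw [eq_neg_iff_add_eq_zero]
    have h1 := hsum g (Nat.lt_succ_self n)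
    rw [hgz, Finset.sum_range_succ] at h1
    have h2 : a ^ (n - 1) * ((∑ j ∈ Finset.range n, aeval x (g.coeff j) * φ ^ j) + a * φ ^ n) = 0 := by
      rw [ha, haP, show g.leadingCoeff = g.coeff n from rfl, ← h1, mul_zero]
    rw [mul_add, Finset.mul_sum, ← mul_assoc, ← pow_succ, Nat.sub_add_cancel hn1, ← mul_pow] at h2
    rw [← h2, add_comm]
    congr 1
    refine Finset.sum_congr rfl fun j hj => ?_
    have hj' := Finset.mem_range.1 hj
    rw [hzdef, mul_pow, map_mul, map_pow, ← ha]
    conv_rhs => rw [← Nat.sub_add_cancel (Nat.le_sub_one_of_lt hj'), pow_add]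
    ring
  set K := D + (D - 1) * D with hKdef
  have hb : ∀ j < n, (b j).natDegree ≤ K := fun j hj =>
    natDegree_mul_le.trans (add_le_add (hg.2 j) (natDegree_pow_le.trans
      (Nat.mul_le_mul (by have := hg.1; omega) (hg.2 n))))
  let ξ : Place F L → WithZero (Multiplicative ℤ) := fun P => exp (A P)
  have hξ : ∀ P, 1 ≤ ξ P ∧ P.1 x ≤ ξ P := fun P =>
    ⟨one_le_exp.2 (IsFF.zeroDiv_nonneg (k := F) x⁻¹ P), hF.val_le_exp_zeroDiv_inv x P⟩
  have hξpow : ∀ P (M : ℕ), ξ P ^ M = exp (M • A P) := fun P M => (exp_nsmul _ _).symm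
  have hzv : ∀ P : Place F L, P.1 z ≤ ξ P ^ K := fun P =>
    val_branch_le P (hξ P).1 (hξ P).2 b hb hz
  -- the genus bound
  have hEφ : IntermediateField.adjoin E ({z} : Set L) = ⊤ := by
    rw [eq_top_iff, ← htop, IntermediateField.adjoin_simple_le_iff]
    have hmema : a ∈ IntermediateField.adjoin E ({z} : Set L) := by
      rw [ha, ← hevE]
      exact IntermediateField.algebraMap_mem _ _
    have := IntermediateField.mul_mem _ (IntermediateField.inv_mem _ hmema)
      (IntermediateField.mem_adjoin_simple_self E z)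
    rwa [hzdef, inv_mul_cancel_left₀ ha0] at this
  have hgenus : genus F L ≤ D ^ 2 * D ^ 2 + 1 := by
    obtain ⟨N, hN⟩ := riemann_theorem hK
    set m := N.toNat
    set e := m + K * d
    have hdeg : (e • A).deg = (e : ℤ) * d := by rw [deg_nsmul, hdA]
    have hNe : N ≤ (e • A).deg := by
      rw [hdeg]
      have h1 : (e : ℤ) ≤ e * d := le_mul_of_one_le_right (by positivity) (by exact_mod_cast hd1)
      have h2 : N ≤ (m : ℤ) := Int.self_le_toNat N
      have h3 : (m : ℤ) ≤ e := by exact_mod_cast Nat.le_add_right m _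
      linarith
    have hdelta := hN _ hNe
    have hli2 : LinearIndependent E fun j : Fin d => z ^ (j : ℕ) := by
      have hzint : IsIntegral E z := IsIntegral.of_finite E z
      have hzd : (minpoly E z).natDegree = d := by
        rw [← IntermediateField.adjoin.finrank hzint, hEφ, IntermediateField.finrank_top']
      exact (linearIndependent_pow (K := E) z).comp (Fin.cast hzd.symm) (Fin.cast_injective _)
    have hli1 : LinearIndependent F fun j : Fin (m + 1) => xE ^ (j : ℕ) := by
      have hxE : Function.Injective (aeval xE : F[X] →ₐ[F] E) := fun p q h =>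
        transcendental_iff_injective.mp hxt (by rw [← hevE, h, hevE])
      have h1 := ((Polynomial.basisMonomials F).linearIndependent.map'
        (aeval xE : F[X] →ₐ[F] E).toLinearMap (LinearMap.ker_eq_bot.mpr hxE)).comp
        (fun j : Fin (m + 1) => (j : ℕ)) Fin.val_injective
      have e : (fun j : Fin (m + 1) => xE ^ (j : ℕ)) =
          (⇑(aeval xE : F[X] →ₐ[F] E).toLinearMap ∘ ⇑(Polynomial.basisMonomials F)) ∘
            (fun j : Fin (m + 1) => (j : ℕ)) := by
        ext j
        simp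
      rw [e]
      exact h1
    have hli := linearIndependent_smul hli1 hli2
    have hmem : ∀ p : Fin (m + 1) × Fin d, (xE ^ (p.1 : ℕ)) • z ^ (p.2 : ℕ) ∈ FunFld.L (e • A) := by
      intro p P
      rw [Algebra.smul_def, map_mul, map_pow]
      have hxx : algebraMap E L xE = x := rfl
      rw [hxx, map_pow, map_pow, Finsupp.smul_apply, ← hξpow]
      refine (mul_le_mul' (pow_le_pow_left₀ zero_le (hξ P).2 _)
        (pow_le_pow_left₀ zero_le (hzv P) _)).trans ?_
      rw [← pow_mul, ← pow_add]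
      exact pow_le_pow_right₀ (hξ P).1
        (add_le_add (Nat.lt_succ_iff.1 p.1.2) (Nat.mul_le_mul le_rfl p.2.2.le))
    haveI := hF.finiteDimensional_L (e • A)
    have hle := (LinearIndependent.of_comp (FunFld.L (e • A)).subtype
      (v := fun p => (⟨_, hmem p⟩ : FunFld.L (e • A))) hli).fintype_card_le_finrank
    rw [Fintype.card_prod, Fintype.card_fin, Fintype.card_fin] at hle
    have hle' : ((m : ℤ) + 1) * d ≤ ell (e • A) := by exact_mod_cast hle
    have hg' : (genus F L : ℤ) ≤ ((K * d * d : ℕ) : ℤ) + 1 := by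
      rw [← hdelta, delta, hdeg]
      push_cast [e]
      nlinarith [hle']
    have hKd : K * d * d ≤ D ^ 2 * D ^ 2 := by
      have : K ≤ D ^ 2 := by
        rw [hKdef, pow_two, Nat.sub_mul, one_mul, Nat.add_sub_cancel' (Nat.le_mul_self D)]
      calc K * d * d ≤ D ^ 2 * D * D := Nat.mul_le_mul (Nat.mul_le_mul this hdD) hdD
        _ = D ^ 2 * D ^ 2 := by ring
    omega
  -- the auxiliary element
  set w := a ^ (D + 1) * aevalAeval x φ h with hw
  have hw0 : w ≠ 0 := mul_ne_zero (pow_ne_zero _ ha0) hhne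
  set w' := ∑ i ∈ Finset.range (D + 1), aeval x (h.coeff i * aP ^ (D - i)) * z ^ i with hw'
  have hww : w = a * w' := by
    rw [hw, hw', hsum h (Nat.lt_succ_of_le hh.1), pow_succ', mul_assoc, Finset.mul_sum]
    congr 1
    refine Finset.sum_congr rfl fun i hi => ?_
    have hi' : i ≤ D := Nat.lt_succ_iff.1 (Finset.mem_range.1 hi)
    rw [map_mul, map_pow, ← ha, hzdef, mul_pow]
    nth_rw 1 [← Nat.sub_add_cancel hi']
    rw [pow_add]
    ring
  set M := D + (D + D * D + D * K) with hM
  have hw'v : ∀ P : Place F L, P.1 w' ≤ ξ P ^ (D + D * D + D * K) := by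
    intro P
    refine P.1.map_sum_le fun i hi => ?_
    have hi' : i ≤ D := Nat.lt_succ_iff.1 (Finset.mem_range.1 hi)
    rw [map_mul, map_pow]
    refine (mul_le_mul' (val_aeval_le P (hξ P).1 (hξ P).2 _ (natDegree_mul_le.trans
      (add_le_add (hh.2 i) (natDegree_pow_le.trans (Nat.mul_le_mul (Nat.sub_le D i) (hg.2 n))))))
      (pow_le_pow_left₀ zero_le (hzv P) _)).trans ?_
    rw [← pow_mul, ← pow_add]
    refine pow_le_pow_right₀ (hξ P).1 ?_
    rw [mul_comm K i]
    exact add_le_add le_rfl (Nat.mul_le_mul hi' le_rfl)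
  have hav : ∀ P : Place F L, P.1 a ≤ ξ P ^ D := fun P =>
    val_aeval_le P (hξ P).1 (hξ P).2 _ (hg.2 n)
  have hwv : ∀ P : Place F L, P.1 w ≤ exp (M • A P) := fun P => by
    rw [← hξpow, hww, map_mul, hM, pow_add]
    exact mul_le_mul' (hav P) (hw'v P)
  -- count the places
  set S := {c : F | ∃ b : F, aevalAeval c b g = 0 ∧ aevalAeval c b h ≠ 0}
  have hSfin : S.Finite := Set.toFinite S
  set T := {P : Place F L | P.deg = 1}
  have hbd : ∀ c, {P : Place F L | P.deg = 1 ∧ P.1 x ≤ 1 ∧ P.1 (x - algebraMap F L c) < 1}.Finite ∧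
      ({P : Place F L | P.deg = 1 ∧ P.1 x ≤ 1 ∧ P.1 (x - algebraMap F L c) < 1}.ncard : ℤ) ≤ d := by
    intro c
    obtain ⟨hf, hn'⟩ := ncard_small_le hK (x := x) (w := x - algebraMap F L c)
      (fun h => hxt (by rw [sub_eq_zero] at h; rw [h]; exact isAlgebraic_algebraMap c)) 1
      (fun P => by
        rw [one_smul]
        exact (P.1.map_sub _ _).trans (max_le (hξ P).2 ((P.2.1 c).trans (hξ P).1)))
      {P : Place F L | P.deg = 1 ∧ P.1 x ≤ 1 ∧ P.1 (x - algebraMap F L c) < 1} fun P hP => hP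
    exact ⟨hf, hn'.trans (by rw [← hA, hdA]; simp)⟩
  obtain ⟨hf1, hn1'⟩ := ncard_pole_le hK (x := x) {P : Place F L | P.deg = 1 ∧ ¬ P.1 x ≤ 1}
    fun P hP => hP
  obtain ⟨hf2, hn2⟩ := ncard_small_le hK (x := x) hw0 M hwv
    {P : Place F L | P.deg = 1 ∧ P.1 x ≤ 1 ∧ P.1 w < 1} fun P hP => hP
  rw [← hA, hdA] at hn1' hn2
  set T3 := ⋃ c ∈ S, {P : Place F L | P.deg = 1 ∧ P.1 x ≤ 1 ∧ P.1 (x - algebraMap F L c) < 1}
  have hf3 : T3.Finite := hSfin.biUnion fun c _ => (hbd c).1
  have hsub : T ⊆ ({P : Place F L | P.deg = 1 ∧ ¬ P.1 x ≤ 1} ∪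
      {P : Place F L | P.deg = 1 ∧ P.1 x ≤ 1 ∧ P.1 w < 1}) ∪ T3 := by
    intro P hP
    by_cases hx : P.1 x ≤ 1
    swap
    · exact Or.inl (Or.inl ⟨hP, hx⟩)
    by_cases hwlt : P.1 w < 1
    · exact Or.inl (Or.inr ⟨hP, hx, hwlt⟩)
    right
    have hle1 : ∀ (p : F[X]), P.1 (aeval x p) ≤ 1 := fun p => by
      simpa using val_aeval_le P le_rfl hx p (le_refl p.natDegree)
    have hz1 : P.1 z ≤ 1 := by simpa using val_branch_le P le_rfl hx b hb hz
    have hw'1 : P.1 w' ≤ 1 := P.1.map_sum_le fun i _ => by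
      rw [map_mul, map_pow]; exact mul_le_one' (hle1 _) (pow_le_one₀ zero_le hz1)
    have hw1 : P.1 w = 1 := le_antisymm (by rw [hww, map_mul]; exact mul_le_one' (hle1 _) hw'1)
      (not_lt.1 hwlt)
    have ha1 : P.1 a = 1 := by
      refine le_antisymm (hle1 _) ?_
      calc (1 : WithZero (Multiplicative ℤ)) = P.1 a * P.1 w' := by rw [← map_mul, ← hww, hw1]
        _ ≤ P.1 a := mul_le_of_le_one_right' hw'1
    have hφ1 : P.1 φ ≤ 1 := by
      have : P.1 z = P.1 φ := by rw [hzdef, map_mul, ha1, one_mul]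
      exact this ▸ hz1
    haveI := hF.finiteDimensional_residueField P
    let R := IsLocalRing.ResidueField P.O
    have hbij : Function.Bijective (Algebra.ofId F R) := by
      refine ⟨(algebraMap F R).injective, ?_⟩
      have h1 : Module.finrank F R = Module.finrank F F := by rw [Module.finrank_self]; exact hP
      exact (LinearMap.injective_iff_surjective_of_finrank_eq_finrank h1.symm
        (f := (Algebra.ofId F R).toLinearMap)).1 (algebraMap F R).injective
    let ρ : P.O →ₐ[F] F := (AlgEquiv.ofBijective _ hbij).symm.toAlgHom.comp (resK P)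
    let xO : P.O := ⟨x, hx⟩
    let φO : P.O := ⟨φ, hφ1⟩
    have hρ : ∀ p : F[X][Y], ∃ hp : P.1 (aevalAeval x φ p) ≤ 1,
        ρ ⟨aevalAeval x φ p, hp⟩ = aevalAeval (ρ xO) (ρ φO) p := by
      intro p
      have h1 : (inclK P).comp (aevalAeval xO φO) = aevalAeval x φ := by
        ext <;> simp [xO, φO] <;> rfl
      have h2 : ρ.comp (aevalAeval xO φO) = aevalAeval (ρ xO) (ρ φO) := by
        ext <;> simp
      have h3 := DFunLike.congr_fun h1 p
      refine ⟨h3 ▸ (aevalAeval xO φO p).2, ?_⟩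
      rw [← DFunLike.congr_fun h2 p]
      exact congrArg ρ (Subtype.ext h3.symm)
    refine Set.mem_iUnion₂.2 ⟨ρ xO, ⟨ρ φO, ?_, ?_⟩, hP, hx, ?_⟩
    · obtain ⟨hp, he⟩ := hρ g
      rw [← he, ← map_zero ρ]
      exact congrArg ρ (Subtype.ext hgz)
    · obtain ⟨hp, he⟩ := hρ h
      rw [← he]
      have hv1 : P.1 (aevalAeval x φ h) = 1 := by
        have := hw1
        rwa [hw, map_mul, map_pow, ha1, one_pow, one_mul] at this
      have hu : IsUnit (⟨aevalAeval x φ h, hp⟩ : P.O) := by
        refine isUnit_iff_exists_inv.2 ⟨⟨(aevalAeval x φ h)⁻¹, ?_⟩, Subtype.ext (mul_inv_cancel₀ hhne)⟩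
        show P.1 _ ≤ 1
        rw [map_inv₀, hv1, inv_one]
      exact (hu.map ρ).ne_zero
    · refine (residue_eq_zero_iff P (xO - algebraMap F P.O (ρ xO))).1 ?_
      apply (AlgEquiv.ofBijective _ hbij).symm.injective
      change ρ (xO - algebraMap F P.O (ρ xO)) = _
      rw [map_sub, AlgHom.commutes, map_zero]
      exact sub_self _
  have hcard : (T.ncard : ℤ) ≤ d + M * d + d * S.ncard := by
    have h1 := Set.ncard_le_ncard hsub ((hf1.union hf2).union hf3)
    have h2 := Set.ncard_union_le ({P : Place F L | P.deg = 1 ∧ ¬ P.1 x ≤ 1} ∪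
      {P : Place F L | P.deg = 1 ∧ P.1 x ≤ 1 ∧ P.1 w < 1}) T3
    have h3 := Set.ncard_union_le {P : Place F L | P.deg = 1 ∧ ¬ P.1 x ≤ 1}
      {P : Place F L | P.deg = 1 ∧ P.1 x ≤ 1 ∧ P.1 w < 1}
    have h4 : T3.ncard ≤ S.ncard * d := by
      have h5 := Finset.set_ncard_biUnion_le hSfin.toFinset
        (fun c => {P : Place F L | P.deg = 1 ∧ P.1 x ≤ 1 ∧ P.1 (x - algebraMap F L c) < 1})
      simp only [Set.Finite.mem_toFinset] at h5
      refine h5.trans ((Finset.sum_le_card_nsmul _ _ d fun c _ => by exact_mod_cast (hbd c).2).trans ?_)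
      rw [smul_eq_mul, Set.ncard_eq_toFinset_card _ hSfin]
    have h6 : (T.ncard : ℤ) ≤ ({P : Place F L | P.deg = 1 ∧ ¬ P.1 x ≤ 1}.ncard : ℤ) +
        ({P : Place F L | P.deg = 1 ∧ P.1 x ≤ 1 ∧ P.1 w < 1}.ncard : ℤ) + (S.ncard : ℤ) * d := by
      exact_mod_cast show T.ncard ≤ _ + _ + _ by omega
    linarith
  have hRH := abs_card_deg_one_sub_le hK
  rw [show Nat.card {P : Place F L // P.deg = 1} = T.ncard from Nat.card_coe_set_eq T, abs_le] at hRH
  set q := Nat.card F
  have hM' : M ≤ 3 * D ^ 3 + 3 * D + 1 := by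
    have hK2 : K ≤ D + D * D := by
      rw [hKdef]; exact add_le_add le_rfl (Nat.mul_le_mul (Nat.sub_le _ _) le_rfl)
    have h2 : D * D ≤ D ^ 3 := by
      rcases Nat.eq_zero_or_pos D with h | h
      · simp [h]
      · nlinarith
    rw [hM]
    nlinarith
  have hcard' : (T.ncard : ℝ) ≤ (D + D * (3 * D ^ 3 + 3 * D + 1) : ℕ) + D * S.ncard := by
    have h' : (T.ncard : ℤ) ≤ ((D + D * (3 * D ^ 3 + 3 * D + 1) + D * S.ncard : ℕ) : ℤ) := by
      refine hcard.trans ?_
      have : (d + M * d + d * S.ncard : ℕ) ≤ D + D * (3 * D ^ 3 + 3 * D + 1) + D * S.ncard :=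
        add_le_add (add_le_add hdD (by rw [mul_comm]; exact Nat.mul_le_mul hdD hM'))
          (Nat.mul_le_mul hdD le_rfl)
      exact_mod_cast this
    exact_mod_cast h'
  have hq' : (((8 * (D ^ 2 * D ^ 2 + 1)) ^ 2 + 4 * (D + D * (3 * D ^ 3 + 3 * D + 1)) : ℕ) : ℝ) ≤ q := by
    exact_mod_cast hq
  rw [Nat.cast_add, Nat.cast_pow, Nat.cast_mul 4, Nat.cast_mul 8] at hq'
  have hg2 : (genus F L : ℝ) ≤ ((D ^ 2 * D ^ 2 + 1 : ℕ) : ℝ) := by exact_mod_cast hgenus
  set G' : ℝ := ((D ^ 2 * D ^ 2 + 1 : ℕ) : ℝ)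
  set N' : ℝ := ((D + D * (3 * D ^ 3 + 3 * D + 1) : ℕ) : ℝ)
  have hG0 : 0 ≤ G' := Nat.cast_nonneg _
  have hN0 : 0 ≤ N' := Nat.cast_nonneg _
  push_cast at hq'
  have hsq : 8 * G' ≤ Real.sqrt q := Real.le_sqrt_of_sq_le (by linarith)
  have hs : Real.sqrt q * Real.sqrt q = q := Real.mul_self_sqrt (Nat.cast_nonneg _)
  have hs0 : 0 ≤ Real.sqrt (q : ℝ) := Real.sqrt_nonneg _
  have hfin : (q : ℝ) ≤ ((2 * D * S.ncard : ℕ) : ℝ) := by
    push_cast
    have h1 : 2 * (genus F L : ℝ) * Real.sqrt q ≤ q / 4 := by nlinarith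
    nlinarith [hRH.1, hcard', h1, sq_nonneg (8 * G')]
  exact_mod_cast hfin


/-- A plane curve with a simple rational zero at the origin has `≫ q` rational points off `h = 0`. -/
theorem card_le_curve_points [Finite F] {D : ℕ} (hq : curveQ D ≤ Nat.card F) (g h : F[X][Y])
    (hg : g.natDegree ≤ D ∧ ∀ i, (g.coeff i).natDegree ≤ D)
    (hh : h.natDegree ≤ D ∧ ∀ i, (h.coeff i).natDegree ≤ D)
    (hg0 : (g.coeff 0).eval 0 = 0) (hg1 : (g.coeff 1).eval 0 ≠ 0) (hh0 : (h.coeff 0).eval 0 ≠ 0) :
    Nat.card F ≤ 2 * D * {c : F | ∃ b : F, aevalAeval c b g = 0 ∧ aevalAeval c b h ≠ 0}.ncard := by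
  classical
  obtain ⟨φp, hφ0, hφg⟩ := exists_branch F g hg0 hg1
  let ι := IsScalarTower.toAlgHom F (PowerSeries F) (FractionRing (PowerSeries F))
  have hι : Function.Injective ι := IsFractionRing.injective (PowerSeries F) _
  let L := IntermediateField.adjoin F
    ({ι PowerSeries.X, ι φp} : Set (FractionRing (PowerSeries F)))
  let x : L := ⟨ι PowerSeries.X, IntermediateField.subset_adjoin F _ (Set.mem_insert _ _)⟩
  let φ : L := ⟨ι φp, IntermediateField.subset_adjoin F _ (Set.mem_insert_of_mem _ rfl)⟩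
  have hev : ∀ (p : F[X][Y]), ((aevalAeval x φ p : L) : FractionRing (PowerSeries F)) =
      ι (aevalAeval PowerSeries.X φp p) := by
    intro p
    have : L.val.comp (aevalAeval x φ) = ι.comp (aevalAeval PowerSeries.X φp) := by
      ext <;> simp [x, φ]
    exact DFunLike.congr_fun this p
  have hev1 : ∀ (p : F[X]), ((aeval x p : L) : FractionRing (PowerSeries F)) =
      ι (p : PowerSeries F) := by
    intro p
    have : L.val.comp (aeval x) = ι.comp (Polynomial.coeToPowerSeries.algHom F) := by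
      ext; simp [x]
    exact (DFunLike.congr_fun this p).trans (by simp)
  have hxt : Transcendental F x := by
    rw [transcendental_iff_injective]
    intro p q hpq
    have := congrArg Subtype.val hpq
    rw [hev1, hev1] at this
    exact Polynomial.coe_injective (R := F) (hι this)
  have hgen : IntermediateField.adjoin F ({x, φ} : Set L) = ⊤ := by
    refine IntermediateField.map_injective L.val ?_
    rw [IntermediateField.adjoin_map, Set.image_pair, ← AlgHom.fieldRange_eq_map,
      IntermediateField.fieldRange_val]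
    rfl
  have hgz : aevalAeval x φ g = 0 := Subtype.ext (by rw [hev, hφg, map_zero]; rfl)
  have hhne : aevalAeval x φ h ≠ 0 := by
    intro hh'
    have h2 := congrArg Subtype.val hh'
    rw [hev] at h2
    have h3 : aevalAeval (PowerSeries.X : PowerSeries F) φp h = 0 :=
      hι (h2.trans (map_zero ι).symm)
    have hcomp : (aevalAeval (0 : F) 0 : F[X][Y] →ₐ[F] F) h = 0 := by
      have : ((aevalAeval (0 : F) 0 : F[X][Y] →ₐ[F] F) : F[X][Y] →+* F) =
          (PowerSeries.constantCoeff (R := F)).comp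
            ((aevalAeval (PowerSeries.X : PowerSeries F) φp : F[X][Y] →ₐ[F] PowerSeries F) :
              F[X][Y] →+* PowerSeries F) := by
        ext <;> simp [hφ0]
      exact (DFunLike.congr_fun this h).trans (by simp [h3])
    refine hh0 (Eq.trans ?_ hcomp)
    conv_rhs => rw [h.as_sum_range_C_mul_X_pow, map_sum, Finset.sum_range_succ']
    simp [eval_map, ← aeval_def, coeff_zero_eq_eval_zero]
  exact curve_points_aux F hq g h hg hh hg1 x φ hxt hgen
    (fun y hy => by
      obtain ⟨c, hc⟩ := algebraic_fractionRing_powerSeries F (hy.algHom L.val)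
      exact ⟨c, Subtype.ext hc⟩) hgz hhne

end Groth.ZetaAn
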