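import Mathlib.Analysis.Complex.RemovableSingularity
import Mathlib.Analysis.Complex.Liouville
import Mathlib.Analysis.Complex.CauchyIntegral
import Mathlib.LinearAlgebra.Lagrange
import Mathlib.Algebra.MvPolynomial.Funext
import Mathlib.Algebra.MvPolynomial.Eval
import Mathlib.Analysis.Normed.Group.Bounded

/-! Entire functions of polynomial growth, removable finite sets, interpolation on boxes. -/

set_option autoImplicit false

open Filter Topology Polynomial

namespace Groth.ZetaAn

lemma exists_polynomial_of_growth (N : ℕ) : ∀ (f : ℂ → ℂ), Differentiable ℂ f →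
    (∃ C : ℝ, ∀ t, 1 ≤ ‖t‖ → ‖f t‖ ≤ C * ‖t‖ ^ N) →
    ∃ p : ℂ[X], p.natDegree ≤ N ∧ ∀ t, f t = p.eval t := by
  induction N with
  | zero =>
    rintro f hf ⟨C, hC⟩
    have hb : Bornology.IsBounded (Set.range f) := by
      obtain ⟨C', hC'⟩ := ((isCompact_closedBall (0 : ℂ) 1).image hf.continuous).isBounded.exists_norm_le
      refine isBounded_iff_forall_norm_le.2 ⟨max C C', ?_⟩
      rintro _ ⟨t, rfl⟩
      rcases le_total 1 ‖t‖ with h | h
      · exact ((hC t h).trans (by simp)).trans (le_max_left _ _)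
      · exact (hC' _ ⟨t, by simpa using h, rfl⟩).trans (le_max_right _ _)
    obtain ⟨c, hc⟩ := hf.exists_const_forall_eq_of_bounded hb
    exact ⟨Polynomial.C c, by simp, fun t => by simp [hc]⟩
  | succ N ih =>
    rintro f hf ⟨C, hC⟩
    have hg : Differentiable ℂ (dslope f 0) := differentiableOn_univ.1
      ((Complex.differentiableOn_dslope univ_mem).2 hf.differentiableOn)
    obtain ⟨p, hp, hpe⟩ := ih (dslope f 0) hg ⟨C + ‖f 0‖, fun t ht => by
      have ht0 : t ≠ 0 := fun h => by simp [h] at ht; linarith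
      rw [dslope_of_ne _ ht0, slope_def_field, sub_zero, norm_div,
        div_le_iff₀ (norm_pos_iff.2 ht0)]
      calc ‖f t - f 0‖ ≤ ‖f t‖ + ‖f 0‖ := norm_sub_le _ _
        _ ≤ C * ‖t‖ ^ (N + 1) + ‖f 0‖ * ‖t‖ ^ (N + 1) :=
          add_le_add (hC t ht) (le_mul_of_one_le_right (norm_nonneg _) (one_le_pow₀ ht))
        _ = (C + ‖f 0‖) * ‖t‖ ^ N * ‖t‖ := by ring⟩
    refine ⟨Polynomial.X * p + Polynomial.C (f 0), ?_, fun t => ?_⟩
    · refine (natDegree_add_le _ _).trans (max_le (natDegree_mul_le.trans ?_) (by simp))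
      rw [natDegree_X]
      omega
    · have := sub_smul_dslope f 0 t
      simp only [sub_zero, smul_eq_mul, hpe] at this
      simp [this]

lemma eq_polynomial_of_growth_off_finite {f : ℂ → ℂ} {Z : Set ℂ} (hZ : Z.Finite)
    (hd : ∀ t ∉ Z, DifferentiableAt ℂ f t) {C : ℝ} {N : ℕ}
    (hb : ∀ t ∉ Z, ‖f t‖ ≤ C * max 1 ‖t‖ ^ N) :
    ∃ p : ℂ[X], p.natDegree ≤ N ∧ ∀ t ∉ Z, f t = p.eval t := by
  classical
  set g : ℂ → ℂ := fun t => if t ∈ Z then limUnder (𝓝[≠] t) f else f t with hg
  have hnear : ∀ c : ℂ, ∀ᶠ t in 𝓝 c, t ≠ c → t ∉ Z := by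
    intro c
    filter_upwards [(hZ.subset Set.sdiff_subset : (Z \ {c}).Finite).isClosed.isOpen_compl.mem_nhds
      (fun h => h.2 rfl)] with t ht hne hmem
    exact ht ⟨hmem, hne⟩
  have hgd : Differentiable ℂ g := by
    intro c
    obtain ⟨r, hr, hball⟩ := Metric.eventually_nhds_iff.1 (hnear c)
    by_cases hc : c ∈ Z
    · have hs : Metric.ball c (min r 1) ∈ 𝓝 c := Metric.ball_mem_nhds _ (lt_min hr one_pos)
      have h1 : DifferentiableOn ℂ f (Metric.ball c (min r 1) \ {c}) := fun t ht =>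
        (hd t (hball (lt_of_lt_of_le ht.1 (min_le_left _ _)) ht.2)).differentiableWithinAt
      have h2 : BddAbove (norm ∘ f '' (Metric.ball c (min r 1) \ {c})) := by
        refine ⟨|C| * max 1 (‖c‖ + 1) ^ N, ?_⟩
        rintro _ ⟨t, ht, rfl⟩
        refine (hb t (hball (lt_of_lt_of_le ht.1 (min_le_left _ _)) ht.2)).trans ?_
        have h3 : ‖t‖ ≤ ‖c‖ + 1 := by
          have h4 : ‖t - c‖ < 1 := by
            rw [← dist_eq_norm]; exact lt_of_lt_of_le ht.1 (min_le_right _ _)
          calc ‖t‖ = ‖c + (t - c)‖ := by ring_nf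
            _ ≤ ‖c‖ + ‖t - c‖ := norm_add_le _ _
            _ ≤ ‖c‖ + 1 := by linarith
        exact mul_le_mul (le_abs_self C)
          (pow_le_pow_left₀ (by positivity) (max_le_max le_rfl h3) N) (by positivity) (abs_nonneg C)
      refine (((Complex.differentiableOn_update_limUnder_of_bddAbove hs h1 h2).congr
        fun t ht => ?_).differentiableAt hs)
      by_cases htc : t = c
      · subst htc
        simp [hg, hc]
      · rw [Function.update_of_ne htc, hg]
        exact if_neg (hball (lt_of_lt_of_le ht (min_le_left _ _)) htc)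
    · refine (hd c hc).congr_of_eventuallyEq ?_
      filter_upwards [hZ.isClosed.isOpen_compl.mem_nhds hc] with t ht using if_neg ht
  obtain ⟨p, hp, hpe⟩ := exists_polynomial_of_growth N g hgd (by
    obtain ⟨R, hR⟩ := hZ.isBounded.exists_norm_le
    obtain ⟨C', hC'⟩ :=
      ((isCompact_closedBall (0 : ℂ) R).image hgd.continuous).isBounded.exists_norm_le
    refine ⟨max C C', fun t ht => ?_⟩
    have h1 : (1 : ℝ) ≤ ‖t‖ ^ N := one_le_pow₀ ht
    by_cases htZ : t ∈ Z
    · have hm := hC' _ ⟨t, by simpa using hR t htZ, rfl⟩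
      have : 0 ≤ max C C' := (norm_nonneg _).trans (hm.trans (le_max_right _ _))
      exact (hm.trans (le_max_right C C')).trans (le_mul_of_one_le_right this h1)
    · rw [hg]
      simp only [if_neg htZ]
      refine (hb t htZ).trans ?_
      rw [max_eq_right ht]
      exact mul_le_mul_of_nonneg_right (le_max_left _ _) (by linarith))
  exact ⟨p, hp, fun t ht => by rw [← hpe]; exact (if_neg ht).symm⟩

/-- A function on a box which is polynomial of bounded degree along coordinate lines. -/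
lemma exists_mvPolynomial_on_box : ∀ {d : ℕ} (S : Fin d → Set ℂ), (∀ i, (S i).Infinite) → ∀ (M : ℕ)
    (f : (Fin d → ℂ) → ℂ),
    (∀ (i : Fin d) (x : Fin d → ℂ), (∀ j, x j ∈ S j) → ∃ p : ℂ[X], p.natDegree ≤ M ∧
      ∀ z ∈ S i, f (Function.update x i z) = p.eval z) →
    ∃ q : MvPolynomial (Fin d) ℂ, ∀ x, (∀ j, x j ∈ S j) → f x = MvPolynomial.eval x q := by
  intro d
  induction d with
  | zero =>
    intro S _ M f _
    exact ⟨MvPolynomial.C (f ![]), fun x _ => by simp [Subsingleton.elim x ![]]⟩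
  | succ d ih =>
    intro S hS M f hf
    obtain ⟨T, hTS, hT⟩ := (hS 0).exists_subset_card_eq (M + 1)
    have hq : ∀ t ∈ T, ∃ q : MvPolynomial (Fin d) ℂ,
        ∀ y, (∀ j, y j ∈ S j.succ) → f (Fin.cons t y) = MvPolynomial.eval y q := by
      intro t ht
      refine ih (fun j => S j.succ) (fun j => hS _) M (fun y => f (Fin.cons t y)) fun i y hy => ?_
      obtain ⟨p, hp, hpe⟩ := hf i.succ (Fin.cons t y) (Fin.cases (hTS ht) hy)
      refine ⟨p, hp, fun z hz => ?_⟩
      change f (Fin.cons t (Function.update y i z)) = _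
      rw [← hpe z hz, Fin.cons_update]
    choose! q hq using hq
    refine ⟨∑ t ∈ T, Polynomial.eval₂ MvPolynomial.C (MvPolynomial.X 0) (Lagrange.basis T id t) *
      MvPolynomial.rename Fin.succ (q t), fun x hx => ?_⟩
    obtain ⟨p, hp, hpe⟩ := hf 0 x hx
    have hdeg : p.degree < T.card := by
      rw [hT]
      exact lt_of_le_of_lt Polynomial.degree_le_natDegree (by exact_mod_cast Nat.lt_succ_of_le hp)
    have hval : ∀ t ∈ T, p.eval t = MvPolynomial.eval (fun j => x j.succ) (q t) := by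
      intro t ht
      rw [← hq t ht _ fun j => hx _, ← hpe t (hTS ht)]
      exact congrArg f (funext (Fin.cases (by simp) fun j => by simp))
    have h0 := hpe (x 0) (hx 0)
    rw [Function.update_eq_self,
      Lagrange.eq_interpolate (s := T) (v := id) (Set.injOn_id _) hdeg] at h0
    rw [h0, map_sum, Lagrange.interpolate_apply, Polynomial.eval_finsetSum]
    refine Finset.sum_congr rfl fun t ht => ?_
    have hb : MvPolynomial.eval x (Polynomial.eval₂ MvPolynomial.C (MvPolynomial.X 0)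
        (Lagrange.basis T id t)) = (Lagrange.basis T id t).eval (x 0) := by
      rw [Polynomial.hom_eval₂, MvPolynomial.eval_X]
      have : (MvPolynomial.eval x).comp MvPolynomial.C = RingHom.id ℂ :=
        RingHom.ext fun c => MvPolynomial.eval_C c
      rw [this, Polynomial.eval₂_id]
    rw [map_mul, hb, MvPolynomial.eval_rename, Polynomial.eval_mul, Polynomial.eval_C, id_eq,
      hval t ht, mul_comm]
    rfl

/-- Growth of a polynomial along a line. -/
lemma exists_bound_line {σ : Type*} (q : MvPolynomial σ ℂ) (p v : σ → ℂ) :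
    ∃ C : ℝ, ∀ t : ℂ, ‖MvPolynomial.eval (fun j => p j + t * v j) q‖ ≤
      C * max 1 ‖t‖ ^ q.totalDegree := by
  refine ⟨∑ a ∈ q.support, ‖q.coeff a‖ * ∏ j ∈ a.support, (‖p j‖ + ‖v j‖) ^ a j, fun t => ?_⟩
  rw [MvPolynomial.eval_eq, Finset.sum_mul]
  refine (norm_sum_le _ _).trans (Finset.sum_le_sum fun a ha => ?_)
  rw [norm_mul, norm_prod, mul_assoc]
  refine mul_le_mul_of_nonneg_left ?_ (norm_nonneg _)
  have hb : ∀ j, ‖p j + t * v j‖ ≤ (‖p j‖ + ‖v j‖) * max 1 ‖t‖ := fun j => by
    refine (norm_add_le _ _).trans ?_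
    rw [norm_mul, add_mul]
    refine add_le_add (le_mul_of_one_le_right (norm_nonneg _) (le_max_left _ _)) ?_
    rw [mul_comm]
    exact mul_le_mul_of_nonneg_left (le_max_right _ _) (norm_nonneg _)
  calc ∏ j ∈ a.support, ‖(p j + t * v j) ^ a j‖
      ≤ ∏ j ∈ a.support, (((‖p j‖ + ‖v j‖) * max 1 ‖t‖) ^ a j) :=
        Finset.prod_le_prod (fun j _ => norm_nonneg _) fun j _ => by
          rw [norm_pow]; exact pow_le_pow_left₀ (norm_nonneg _) (hb j) _
    _ = (∏ j ∈ a.support, (‖p j‖ + ‖v j‖) ^ a j) * max 1 ‖t‖ ^ (∑ j ∈ a.support, a j) := by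
        simp only [mul_pow, Finset.prod_mul_distrib, Finset.prod_pow_eq_pow_sum]
    _ ≤ _ := mul_le_mul_of_nonneg_left
        (pow_le_pow_right₀ (le_max_left _ _) (MvPolynomial.le_totalDegree ha))
        (Finset.prod_nonneg fun j _ => by positivity)

end Groth.ZetaAn
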