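import Groth.Agent.ZetaAn.PtsPullback
import Groth.Prelude.Def_AnEps
import Mathlib.CategoryTheory.Functor.Flat
import Mathlib.CategoryTheory.Sites.Continuous

/-! The comparison functor from the small étale site to the classical site of complex points
preserves finite limits. -/

set_option autoImplicit false
set_option linter.style.haveILetI false

open CategoryTheory AlgebraicGeometry Topology TopologicalSpace Limits

namespace Groth.ZetaAn

open An

section

variable {P X Y S : Scheme.{0}} [P.Over An.SC] [X.Over An.SC] [Y.Over An.SC] [S.Over An.SC]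

lemma isHomeomorph_of_isPullback {a : P ⟶ X} {b : P ⟶ Y} {f : X ⟶ S} {g : Y ⟶ S}
    [a.IsOver SC] [b.IsOver SC] [f.IsOver SC] [g.IsOver SC] (h : IsPullback a b f g) :
    IsHomeomorph (fun z : Pts P => (⟨(Pts.map a z, Pts.map b z), Subtype.ext (by
      show (z.1 ≫ a) ≫ f = (z.1 ≫ b) ≫ g
      rw [Category.assoc, Category.assoc, h.w])⟩ :
        {q : Pts X × Pts Y // Pts.map f q.1 = Pts.map g q.2})) := by
  haveI : h.isoPullback.hom.IsOver SC := ⟨by
    show h.isoPullback.hom ≫ pullback.fst f g ≫ X ↘ SC = P ↘ SC
    rw [IsPullback.isoPullback_hom_fst_assoc]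
    exact comp_over a SC⟩
  haveI : h.isoPullback.inv.IsOver SC := ⟨by
    rw [Iso.inv_comp_eq]
    exact (comp_over h.isoPullback.hom SC).symm⟩
  let e : Pts P ≃ₜ Pts (pullback f g) :=
    { toFun := Pts.map h.isoPullback.hom
      invFun := Pts.map h.isoPullback.inv
      left_inv := fun z => Subtype.ext (by
        show (z.1 ≫ _) ≫ _ = z.1
        rw [Category.assoc, Iso.hom_inv_id, Category.comp_id])
      right_inv := fun z => Subtype.ext (by
        show (z.1 ≫ _) ≫ _ = z.1
        rw [Category.assoc, Iso.inv_hom_id, Category.comp_id])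
      continuous_toFun := Pts.continuous_map _
      continuous_invFun := Pts.continuous_map _ }
  convert (isHomeomorph_pullback f g).comp e.isHomeomorph using 1
  funext z
  refine Subtype.ext (Prod.ext (Subtype.ext ?_) (Subtype.ext ?_))
  · show z.1 ≫ a = (z.1 ≫ h.isoPullback.hom) ≫ pullback.fst f g
    rw [Category.assoc, IsPullback.isoPullback_hom_fst]
  · show z.1 ≫ b = (z.1 ≫ h.isoPullback.hom) ≫ pullback.snd f g
    rw [Category.assoc, IsPullback.isoPullback_hom_snd]

end

/-- A square of the classical site whose underlying square of spaces is cartesian is cartesian. -/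
lemma clIsPullback {T : Type} [TopologicalSpace T] {P A B C : Cl T} {a : P ⟶ A} {b : P ⟶ B}
    {f : A ⟶ C} {g : B ⟶ C} (w : a ≫ f = b ≫ g)
    (h : IsHomeomorph (fun z : P.E => (⟨(a.toFun z, b.toFun z),
      congrFun (congrArg Cl.Hom.toFun w) z⟩ :
        {q : A.E × B.E // f.toFun q.1 = g.toFun q.2}))) :
    IsPullback a b f g := by
  set e := h.homeomorph with he
  have hlift : ∀ (s : PullbackCone f g) (x : s.pt.E),
      f.toFun (s.fst.toFun x) = g.toFun (s.snd.toFun x) := fun s x =>
    congrFun (congrArg Cl.Hom.toFun s.condition) x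
  have key : ∀ (s : PullbackCone f g) (x : s.pt.E),
      a.toFun (e.symm ⟨(s.fst.toFun x, s.snd.toFun x), hlift s x⟩) = s.fst.toFun x ∧
      b.toFun (e.symm ⟨(s.fst.toFun x, s.snd.toFun x), hlift s x⟩) = s.snd.toFun x := fun s x => by
    have h1 := congrArg Subtype.val (e.apply_symm_apply ⟨(s.fst.toFun x, s.snd.toFun x), hlift s x⟩)
    exact ⟨congrArg Prod.fst h1, congrArg Prod.snd h1⟩
  refine IsPullback.mk ⟨w⟩ ⟨PullbackCone.IsLimit.mk w (fun s => ⟨fun x => e.symm ⟨_, hlift s x⟩,
    e.symm.continuous.comp ((s.fst.continuous.prodMk s.snd.continuous).subtype_mk (hlift s)), fun x => ?_⟩)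
    ?_ ?_ ?_⟩
  · rw [← a.over, (key s x).1, s.fst.over]
  · intro s; exact Cl.hom_ext (funext fun x => (key s x).1)
  · intro s; exact Cl.hom_ext (funext fun x => (key s x).2)
  · intro s m hm1 hm2
    refine Cl.hom_ext (funext fun x => ?_)
    apply e.injective
    rw [Homeomorph.apply_symm_apply]
    refine Subtype.ext (Prod.ext ?_ ?_)
    · exact congrFun (congrArg Cl.Hom.toFun hm1) x
    · exact congrFun (congrArg Cl.Hom.toFun hm2) x

variable (X : Scheme.{0}) [X.Over An.SC] [LocallyOfFiniteType (X ↘ An.SC)] [Fact An.EtaleLH]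

set_option backward.isDefEq.respectTransparency.types false in
lemma eps_preservesTerminal : PreservesLimitsOfShape (Discrete PEmpty.{1}) (eps X) := by
  haveI : PreservesLimit (Functor.empty.{0} X.Etale) (eps X) := ?_
  · exact preservesLimitsOfShape_pempty_of_preservesTerminal (eps X)
  exact preservesLimit_of_preserves_limit_cone (EtCore.topIsTerminal X)
    ((isLimitMapConeEmptyConeEquiv (eps X) (EtCoh.top X)).symm
      ((Cl.selfIsTerminal (Pts X)).ofIso (epsTopIso X).symm))

set_option backward.isDefEq.respectTransparency.types false in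
lemma eps_map_isPullback {P A B C : X.Etale} {a : P ⟶ A} {b : P ⟶ B} {f : A ⟶ C} {g : B ⟶ C}
    (h : IsPullback a b f g) :
    IsPullback ((eps X).map a) ((eps X).map b) ((eps X).map f) ((eps X).map g) := by
  have h' : IsPullback a.left b.left f.left g.left :=
    h.map (Scheme.Etale.forget X ⋙ Over.forget X)
  exact clIsPullback ((h.toCommSq.map (eps X)).w)
    (isHomeomorph_of_isPullback (P := P.left) (X := A.left) (Y := B.left) (S := C.left) h')

lemma eps_preservesPullbacks : PreservesLimitsOfShape WalkingCospan (eps X) :=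
  ⟨fun {K} => by
    have : PreservesLimit (cospan (K.map WalkingCospan.Hom.inl) (K.map WalkingCospan.Hom.inr)) (eps X) :=
      preservesLimit_of_preserves_limit_cone (pullbackIsPullback _ _)
        ((isLimitMapConePullbackConeEquiv (eps X) _).symm
          (eps_map_isPullback X (IsPullback.of_hasPullback _ _)).isLimit)
    exact preservesLimit_of_iso_diagram _ (diagramIsoCospan K).symm⟩

set_option backward.isDefEq.respectTransparency.types false in
theorem eps_preservesFiniteLimits : PreservesFiniteLimits (eps X) :=
  have := eps_preservesTerminal X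
  have := eps_preservesPullbacks X
  preservesFiniteLimits_of_preservesTerminal_and_pullbacks (eps X)

theorem eps_flat : RepresentablyFlat (eps X) :=
  have := eps_preservesFiniteLimits X
  flat_of_preservesFiniteLimits (eps X)

end Groth.ZetaAn
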