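import Groth.Agent.ZetaAn.SCVGerms
import Mathlib.Analysis.Calculus.FDeriv.Mul
import Mathlib.Analysis.Calculus.Deriv.Comp

/-! Directional derivatives of germs of differentiable functions of several complex variables. -/

set_option autoImplicit false
set_option linter.style.haveILetI false

open Filter Topology Metric Set

namespace Groth.SCV

variable {E : Type} [NormedAddCommGroup E] [NormedSpace ℂ E] [FiniteDimensional ℂ E]

theorem eventually_differentiableAt_fderiv {f : E → ℂ} (hf : ∀ᶠ z in 𝓝 0, DifferentiableAt ℂ f z)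
    (v : E) : ∀ᶠ z in 𝓝 (0 : E), DifferentiableAt ℂ (fun z => fderiv ℂ f z v) z := by
  obtain ⟨R, hR, hfd, M, hM⟩ := exists_ball_bounded hf
  set r' : ℝ := R / (2 * (‖v‖ + 1))
  have hr' : 0 < r' := by positivity
  set D : Set E := ball 0 (R / 2)
  let g : E × ℂ → ℂ := fun z => f (z.1 + z.2 • v)
  have hmaps : ∀ z ∈ D ×ˢ ball (0 : ℂ) r', z.1 + z.2 • v ∈ ball (0 : E) R := by
    rintro ⟨y, t⟩ ⟨hy, ht⟩
    rw [mem_ball_zero_iff] at *
    have h1 : ‖t • v‖ ≤ r' * (‖v‖ + 1) := by
      rw [norm_smul]; exact mul_le_mul ht.le (le_add_of_nonneg_right zero_le_one) (norm_nonneg _) hr'.le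
    have h2 : r' * (‖v‖ + 1) = R / 2 := by
      simp only [r']; field_simp
    show ‖y + t • v‖ < R
    linarith [norm_add_le y (t • v)]
  have hg : DifferentiableOn ℂ g (D ×ˢ ball 0 r') :=
    hfd.comp (differentiableOn_fst.add (differentiableOn_snd.smul_const v)) hmaps
  have hgM : ∀ z ∈ D ×ˢ ball (0 : ℂ) r', ‖g z‖ ≤ M := fun z hz => hM _ (hmaps z hz)
  have hr : 0 < r' / 2 := by positivity
  have hrr : r' / 2 < r' := by linarith
  have key : ∀ y ∈ D, fderiv ℂ f y v = cCoeff (r' / 2) g 1 y := by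
    intro y hy
    have hyR : y ∈ ball (0 : E) R := ball_subset_ball (by linarith) hy
    set q : ℂ → ℂ := fun t => cQuot (r' / 2) 2 g (y, t)
    have hq : DifferentiableAt ℂ q 0 :=
      differentiableAt_slice (g := cQuot (r' / 2) 2 g) isOpen_ball
        (differentiableOn_cQuot hr hrr isOpen_ball hg hgM 2) hy (mem_ball_self hr')
    have h1 : HasDerivAt (fun t => cCoeff (r' / 2) g 0 y + cCoeff (r' / 2) g 1 y * t + t ^ 2 * q t)
        (cCoeff (r' / 2) g 1 y) 0 := by
      simpa [Pi.add_def, Pi.mul_def] using! ((((hasDerivAt_id (0 : ℂ)).const_mul (cCoeff (r' / 2) g 1 y)).const_add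
        (cCoeff (r' / 2) g 0 y)).add ((hasDerivAt_pow 2 (0 : ℂ)).mul hq.hasDerivAt))
    have h2 : HasDerivAt (fun t : ℂ => f (y + t • v)) (fderiv ℂ f y v) 0 := by
      have hd : HasDerivAt (fun t : ℂ => y + t • v) v 0 := by
        simpa using ((hasDerivAt_id (0 : ℂ)).smul_const v).const_add y
      have hf' : HasFDerivAt f (fderiv ℂ f y) (y + (0 : ℂ) • v) := by
        simpa using (hfd.differentiableAt (isOpen_ball.mem_nhds hyR)).hasFDerivAt
      exact hf'.comp_hasDerivAt 0 hd
    refine h2.unique (h1.congr_of_eventuallyEq ?_)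
    refine eventually_of_mem (ball_mem_nhds _ hr') fun t ht => ?_
    have h := cQuot_identity hr hrr isOpen_ball hg 2 (z := (y, t)) ⟨hy, ht⟩
    simp only [Finset.sum_range_succ, Finset.sum_range_zero, zero_add, pow_zero, mul_one, pow_one] at h
    exact h
  refine eventually_of_mem (ball_mem_nhds (0 : E) (by positivity : (0 : ℝ) < R / 2)) fun y hy => ?_
  exact ((differentiableOn_cCoeff hr hrr isOpen_ball hg hgM 1).differentiableAt
    (isOpen_ball.mem_nhds hy)).congr_of_eventuallyEq
    (eventually_of_mem (isOpen_ball.mem_nhds hy) key)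

/-- The derivative of germs in the direction `v`. -/
noncomputable def dGerm (v : E) : germO E →+ germO E :=
  AddMonoidHom.mk'
    (fun g => mk (fun z => fderiv ℂ (exists_mk g).choose z v)
      (eventually_differentiableAt_fderiv (exists_mk g).choose_spec.choose v))
    fun g h => by
      obtain ⟨hgd, hg⟩ := (exists_mk g).choose_spec
      obtain ⟨hhd, hh⟩ := (exists_mk h).choose_spec
      obtain ⟨hsd, hs⟩ := (exists_mk (g + h)).choose_spec
      refine Subtype.ext (Filter.Germ.coe_eq.2 ?_)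
      have heq : (exists_mk (g + h)).choose =ᶠ[𝓝 0] (exists_mk g).choose + (exists_mk h).choose := by
        have := congrArg Subtype.val hs
        conv_lhs at this => rw [hg, hh]
        exact (Filter.Germ.coe_eq.1 this).symm
      filter_upwards [heq.fderiv (𝕜 := ℂ), hgd, hhd] with z hz h1 h2
      simp only [hz, fderiv_add h1 h2, ContinuousLinearMap.add_apply, Pi.add_apply]

lemma dGerm_mk (v : E) (f : E → ℂ) (hf : ∀ᶠ z in 𝓝 0, DifferentiableAt ℂ f z) :
    dGerm v (mk f hf) = mk (fun z => fderiv ℂ f z v) (eventually_differentiableAt_fderiv hf v) := by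
  obtain ⟨hgd, hg⟩ := (exists_mk (mk f hf)).choose_spec
  show mk (fun z => fderiv ℂ (exists_mk (mk f hf)).choose z v)
    (eventually_differentiableAt_fderiv hgd v) = _
  exact mk_eq_mk.2 (((mk_eq_mk.1 hg).symm.fderiv (𝕜 := ℂ)).mono fun z hz =>
    congrArg (fun L : E →L[ℂ] ℂ => L v) hz)

lemma dGerm_mul (v : E) (g h : germO E) :
    dGerm v (g * h) = g * dGerm v h + h * dGerm v g := by
  obtain ⟨f, hf, rfl⟩ := exists_mk g
  obtain ⟨f', hf', rfl⟩ := exists_mk h
  rw [show mk f hf * mk f' hf' = mk (f * f') ((hf.and hf').mono fun z hz => hz.1.mul hz.2) from rfl,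
    dGerm_mk, dGerm_mk, dGerm_mk]
  refine Subtype.ext (Filter.Germ.coe_eq.2 ?_)
  filter_upwards [hf, hf'] with z h1 h2
  simp [fderiv_mul h1 h2]

lemma dGerm_const (v : E) (a : ℂ) : dGerm v (const a) = 0 := by
  rw [show const a = mk (fun _ : E => a) (Eventually.of_forall fun _ => differentiableAt_const a) from rfl,
    dGerm_mk, mk_eq_zero]
  exact Eventually.of_forall fun z => by simp

end Groth.SCV
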