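import Groth.Agent.ZetaAn.GermRegular
import Groth.Agent.ZetaAn.SCVDeriv

/-! Polynomials as germs of holomorphic functions; the kernel of a chart. -/

set_option autoImplicit false
set_option linter.style.haveILetI false
set_option backward.isDefEq.respectTransparency false

open CategoryTheory AlgebraicGeometry Topology TopologicalSpace Filter

namespace Groth.ZetaAn

open An

variable {n : ℕ}

/-- Polynomials as germs at `0`, after moving `c` to the origin. -/
noncomputable def polyGerm (c : Fin n → ℂ) : MvPolynomial (Fin n) ℂ →+* SCV.germO (Fin n → ℂ) :=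
  MvPolynomial.eval₂Hom SCV.const fun i =>
    SCV.lin (ContinuousLinearMap.proj (R := ℂ) (φ := fun _ : Fin n => ℂ) i) + SCV.const (c i)

lemma polyGerm_eq_mk (c : Fin n → ℂ) (p : MvPolynomial (Fin n) ℂ) :
    polyGerm c p = SCV.mk (fun z => MvPolynomial.eval (z + c) p)
      (Eventually.of_forall fun z => differentiable_eval_shift p c z) := by
  induction p using MvPolynomial.induction_on with
  | C a => simp [polyGerm, SCV.const]
  | add p q hp hq =>
    rw [map_add, hp, hq]
    exact Subtype.ext (Filter.Germ.coe_eq.2 (Eventually.of_forall fun z => by simp))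
  | mul_X p i hp =>
    rw [map_mul, hp]
    simp only [polyGerm, MvPolynomial.eval₂Hom_X', map_mul, MvPolynomial.eval_X]
    exact Subtype.ext (Filter.Germ.coe_eq.2 (Eventually.of_forall fun z => by simp))

lemma value_polyGerm (c : Fin n → ℂ) (p : MvPolynomial (Fin n) ℂ) :
    SCV.value (polyGerm c p) = MvPolynomial.eval c p := by
  rw [polyGerm_eq_mk, SCV.value_mk, zero_add]

/-- The partial derivative of germs. -/
noncomputable abbrev dCoord (j : Fin n) : SCV.germO (Fin n → ℂ) →+ SCV.germO (Fin n → ℂ) :=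
  SCV.dGerm (Pi.single j 1)

lemma dCoord_polyGerm (c : Fin n → ℂ) (j : Fin n) (p : MvPolynomial (Fin n) ℂ) :
    dCoord j (polyGerm c p) = polyGerm c (MvPolynomial.pderiv j p) := by
  induction p using MvPolynomial.induction_on with
  | C a =>
    rw [MvPolynomial.pderiv_C, map_zero]
    simp [polyGerm, SCV.dGerm_const]
  | add p q hp hq => rw [map_add, map_add, hp, hq, map_add, map_add]
  | mul_X p i hp =>
    have hX : dCoord j (polyGerm c (MvPolynomial.X i)) =
        polyGerm c (MvPolynomial.pderiv j (MvPolynomial.X i)) := by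
      rw [MvPolynomial.pderiv_X, polyGerm, MvPolynomial.eval₂Hom_X', map_add, SCV.dGerm_const,
        add_zero, SCV.lin, SCV.dGerm_mk]
      by_cases h : i = j
      · subst h
        rw [Pi.single_eq_same, map_one]
        exact Subtype.ext (Filter.Germ.coe_eq.2 (Eventually.of_forall fun z => by
          simp [ContinuousLinearMap.fderiv]))
      · rw [Pi.single_eq_of_ne h, map_zero, SCV.mk_eq_zero]
        exact Eventually.of_forall fun z => by simp [ContinuousLinearMap.fderiv, h]
    rw [map_mul, SCV.dGerm_mul, hX, hp, MvPolynomial.pderiv_mul, map_add, map_mul, map_mul]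
    ring

lemma ker_value_eq_map (c : Fin n → ℂ) :
    RingHom.ker (SCV.value (E := Fin n → ℂ)) =
      (RingHom.ker (MvPolynomial.eval c)).map (polyGerm c) := by
  refine le_antisymm ?_ (Ideal.map_le_iff_le_comap.2 fun p hp => ?_)
  · rw [SCV.ker_value_eq_span, Ideal.span_le]
    rintro _ ⟨L, rfl⟩
    have h : SCV.lin L = polyGerm c (∑ i : Fin n, MvPolynomial.C (L (Pi.single i 1)) *
        (MvPolynomial.X i - MvPolynomial.C (c i))) := by
      rw [polyGerm_eq_mk]
      refine Subtype.ext (Filter.Germ.coe_eq.2 (Eventually.of_forall fun z => ?_))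
      conv_lhs => rw [pi_eq_sum_univ' z]
      simp [map_sum, mul_comm]
    rw [SetLike.mem_coe, h]
    refine Ideal.mem_map_of_mem _ ?_
    simp [RingHom.mem_ker]
  · rw [Ideal.mem_comap, RingHom.mem_ker, value_polyGerm]
    exact hp

lemma exists_polyGerm_sub_mem (c : Fin n → ℂ) (k : ℕ) (b : SCV.germO (Fin n → ℂ)) :
    ∃ p, b - polyGerm c p ∈ RingHom.ker (SCV.value (E := Fin n → ℂ)) ^ k := by
  induction k with
  | zero => exact ⟨0, by simp⟩
  | succ k ih =>
    obtain ⟨p, hp⟩ := ih
    suffices h : ∀ g ∈ RingHom.ker (SCV.value (E := Fin n → ℂ)) ^ k,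
        ∃ q, g - polyGerm c q ∈ RingHom.ker (SCV.value (E := Fin n → ℂ)) ^ (k + 1) by
      obtain ⟨q, hq⟩ := h _ hp
      exact ⟨p + q, by rw [map_add, ← sub_sub]; exact hq⟩
    intro g hg
    rw [ker_value_eq_map c, ← Ideal.map_pow] at hg
    suffices h : ∃ q ∈ RingHom.ker (MvPolynomial.eval c) ^ k,
        g - polyGerm c q ∈ RingHom.ker (SCV.value (E := Fin n → ℂ)) ^ (k + 1) by
      obtain ⟨q, -, hq⟩ := h
      exact ⟨q, hq⟩
    induction hg using Submodule.span_induction with
    | mem g hg => obtain ⟨q, hq, rfl⟩ := hg; exact ⟨q, hq, by rw [sub_self]; exact zero_mem _⟩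
    | zero => exact ⟨0, zero_mem _, by simp⟩
    | add g g' _ _ ihg ihg' =>
      obtain ⟨q, hq, h⟩ := ihg
      obtain ⟨q', hq', h'⟩ := ihg'
      exact ⟨q + q', add_mem hq hq', by rw [map_add, add_sub_add_comm]; exact add_mem h h'⟩
    | smul r g _ ih =>
      obtain ⟨q, hq, h⟩ := ih
      refine ⟨MvPolynomial.C (SCV.value r) * q, Ideal.mul_mem_left _ _ hq, ?_⟩
      have h1 : r - SCV.const (SCV.value r) ∈ RingHom.ker (SCV.value (E := Fin n → ℂ)) := by
        rw [RingHom.mem_ker, map_sub]; exact sub_eq_zero.2 rfl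
      have h2 : polyGerm c q ∈ RingHom.ker (SCV.value (E := Fin n → ℂ)) ^ k := by
        rw [ker_value_eq_map c, ← Ideal.map_pow]; exact Ideal.mem_map_of_mem _ hq
      have : r • g - polyGerm c (MvPolynomial.C (SCV.value r) * q) =
          r * (g - polyGerm c q) + (r - SCV.const (SCV.value r)) * polyGerm c q := by
        rw [smul_eq_mul, map_mul, show polyGerm c (MvPolynomial.C (SCV.value r)) =
          SCV.const (SCV.value r) by simp [polyGerm]]
        ring
      rw [this]
      refine add_mem (Ideal.mul_mem_left _ _ h) ?_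
      rw [pow_succ']
      exact Ideal.mul_mem_mul h1 h2

variable {X : Scheme.{0}} [X.Over An.SC] [LocallyOfFiniteType (X ↘ SC)] {W : X.Opens} {x : Pts X}
  (hx : x.pt ∈ W) (s : Fin n → Γ(X, W)) (hW : IsAffineOpen W) (hs : Generates s)

omit [LocallyOfFiniteType (X ↘ SC)] in
lemma chartHom_polyGerm (p : MvPolynomial (Fin n) ℂ) :
    letI := algSec W
    chartHom hx s hW hs (polyGerm (fun i => x.ev W hx (s i)) p) =
      phiAn x (X.presheaf.germ W x.pt hx (MvPolynomial.aeval s p)) := by
  letI := algSec W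
  apply toGerm_injective x
  rw [toGerm_chartHom, toGerm_phiAn, polyGerm_eq_mk, psi_mk]
  refine Filter.Germ.coe_eq.2 (eventually_of_mem ((Pts.isOpen_preimage_pt W).mem_nhds hx) fun y hy => ?_)
  rw [evExt_of_mem _ hy, ← evAlgHom_apply, algHom_eq_of_gens hs (evAlgHom W y hy) p]
  have hz : coord s x hx y + (fun i => x.ev W hx (s i)) = fun i => evAlgHom W y hy (s i) := by
    funext i; simp [coord, show y.pt ∈ W from hy, evAlgHom_apply]
  simp only [Function.comp_apply, hz, MvPolynomial.aeval_X]

variable [IsReduced X]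

/-- The kernel of a chart is generated by the equations of the chart. -/
theorem ker_chartHom :
    letI := algSec W
    RingHom.ker (chartHom hx s hW hs) =
      (RingHom.ker (MvPolynomial.aeval (R := ℂ) s)).map (polyGerm fun i => x.ev W hx (s i)) := by
  letI := algSec W
  haveI := isLocalRing_germO (Fin n → ℂ)
  haveI := SCV.isNoetherianRing_germO (Fin n → ℂ)
  set c : Fin n → ℂ := fun i => x.ev W hx (s i)
  set π : MvPolynomial (Fin n) ℂ →ₐ[ℂ] Γ(X, W) := MvPolynomial.aeval s
  set K := (RingHom.ker π).map (polyGerm c)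
  set m := RingHom.ker (SCV.value (E := Fin n → ℂ))
  refine le_antisymm (fun g hg => ?_) (Ideal.map_le_iff_le_comap.2 fun p hp => ?_)
  swap
  · rw [Ideal.mem_comap, RingHom.mem_ker, chartHom_polyGerm hx s hW hs p,
      show MvPolynomial.aeval s p = 0 from hp, map_zero, map_zero]
  suffices hk : ∀ k, g ∈ K ⊔ m ^ k by
    have h0 : Submodule.Quotient.mk (p := K) g ∈ (⊥ : Submodule (SCV.germO (Fin n → ℂ))
        (SCV.germO (Fin n → ℂ) ⧸ K)) := by
      rw [← Ideal.iInf_pow_smul_eq_bot_of_isLocalRing (M := SCV.germO (Fin n → ℂ) ⧸ K) m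
        (RingHom.ker_ne_top _)]
      refine (Submodule.mem_iInf _).2 fun k => ?_
      obtain ⟨a, ha, b, hb, rfl⟩ := Submodule.mem_sup.1 (hk k)
      have : Submodule.Quotient.mk (p := K) (a + b) =
          b • Submodule.Quotient.mk (p := K) (1 : SCV.germO (Fin n → ℂ)) := by
        rw [← Submodule.Quotient.mk_smul, Submodule.Quotient.eq, smul_eq_mul, mul_one, add_sub_cancel_right]
        exact ha
      rw [this]
      exact Submodule.smul_mem_smul hb Submodule.mem_top
    rwa [Submodule.mem_bot, Submodule.Quotient.mk_eq_zero] at h0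
  intro k
  obtain ⟨p, hp⟩ := exists_polyGerm_sub_mem c k g
  -- the class of `p` lies in the power of the maximal ideal of the algebraic local ring
  have hχ : ∀ b ∈ m ^ k, chartHom hx s hW hs b ∈ maxAn x ^ k := by
    have hle : m.map (chartHom hx s hW hs) ≤ maxAn x := Ideal.map_le_iff_le_comap.2 fun b hb => by
      rw [Ideal.mem_comap, maxAn_eq_ker, RingHom.mem_ker, valueAn_chartHom]
      exact hb
    intro b hb
    exact Ideal.pow_right_mono hle k (Ideal.map_pow (chartHom hx s hW hs) m k ▸ Ideal.mem_map_of_mem _ hb)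
  have h1 : phiAn x (X.presheaf.germ W x.pt hx (π p)) ∈ maxAn x ^ k := by
    rw [← chartHom_polyGerm hx s hW hs p]
    have := neg_mem (hχ _ hp)
    rwa [map_sub, RingHom.mem_ker.1 hg, zero_sub, neg_neg] at this
  have h2 := mem_pow_of_phiAn_mem x k _ h1
  letI : Algebra Γ(X, W) (X.presheaf.stalk x.pt) := (X.presheaf.germ W x.pt hx).hom.toAlgebra
  haveI : IsLocalization.AtPrime (X.presheaf.stalk x.pt) (hW.primeIdealOf ⟨x.pt, hx⟩).asIdeal :=
    hW.isLocalization_stalk ⟨x.pt, hx⟩
  rw [← IsLocalization.AtPrime.map_eq_maximalIdeal (hW.primeIdealOf ⟨x.pt, hx⟩).asIdeal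
      (X.presheaf.stalk x.pt), ← Ideal.map_pow, ← ker_evAlgHom hW hx] at h2
  obtain ⟨σ, hσ, hσp⟩ := (IsLocalization.algebraMap_mem_map_algebraMap_iff
    (hW.primeIdealOf ⟨x.pt, hx⟩).asIdeal.primeCompl (X.presheaf.stalk x.pt) _ (π p)).1 h2
  have hsurj : Function.Surjective π := hs
  obtain ⟨σ', rfl⟩ := hsurj σ
  have hMe : RingHom.ker (MvPolynomial.eval c) = (RingHom.ker (evAlgHom W x hx)).comap π.toRingHom := by
    ext q
    simp only [RingHom.mem_ker, Ideal.mem_comap, AlgHom.toRingHom_eq_coe, RingHom.coe_coe, π,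
      algHom_eq_of_gens hs (evAlgHom W x hx) q, MvPolynomial.aeval_X]
    rfl
  have hq : π (σ' * p) ∈ ((RingHom.ker (MvPolynomial.eval c)) ^ k).map π.toRingHom := by
    rw [Ideal.map_pow, hMe, Ideal.map_comap_of_surjective π.toRingHom hsurj, map_mul]
    exact hσp
  obtain ⟨q, hqM, hq⟩ := (Ideal.mem_map_iff_of_surjective π.toRingHom hsurj).1 hq
  have hu : IsUnit (polyGerm c σ') := by
    refine isUnit_germO_of_value_ne_zero ?_
    rw [value_polyGerm]
    intro h0
    apply hσ
    rw [← ker_evAlgHom hW hx]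
    exact (hMe.le h0 :)
  have hmem : polyGerm c σ' * polyGerm c p ∈ K ⊔ m ^ k := by
    rw [← map_mul, show σ' * p = (σ' * p - q) + q by ring, map_add]
    refine Submodule.add_mem_sup (Ideal.mem_map_of_mem _ ?_) ?_
    · rw [RingHom.mem_ker, map_sub]; exact sub_eq_zero.2 hq.symm
    · simp only [m]
      rw [ker_value_eq_map c, ← Ideal.map_pow]
      exact Ideal.mem_map_of_mem _ hqM
  rw [Ideal.unit_mul_mem_iff_mem _ hu] at hmem
  have := add_mem (Submodule.mem_sup_right hp : g - polyGerm c p ∈ K ⊔ m ^ k) hmem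
  simpa using this

end Groth.ZetaAn
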