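import Groth.Agent.ZetaAn.HolAffineSpace
import Groth.Agent.ZetaAn.StalkProps
import Groth.Agent.ZetaAn.SCVDeriv
import Mathlib.RingTheory.RegularLocalRing.Polynomial

/-! The ring of germs of holomorphic functions on ℂⁿ is a regular local ring. -/

set_option autoImplicit false
set_option linter.style.haveILetI false
set_option backward.isDefEq.respectTransparency false

open CategoryTheory AlgebraicGeometry Topology TopologicalSpace Filter

namespace Groth.ZetaAn

open An

lemma isLocalRing_germO (E : Type) [NormedAddCommGroup E] [NormedSpace ℂ E] :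
    IsLocalRing (SCV.germO E) := by
  haveI : Nontrivial (SCV.germO E) := RingHom.domain_nontrivial (SCV.value (E := E))
  refine IsLocalRing.of_isUnit_or_isUnit_one_sub_self fun a => ?_
  by_cases ha : SCV.value a = 0
  · exact Or.inr (isUnit_germO_of_value_ne_zero
      (by rw [map_sub, map_one, ha, sub_zero]; exact one_ne_zero))
  · exact Or.inl (isUnit_germO_of_value_ne_zero ha)

lemma maximalIdeal_germO (E : Type) [NormedAddCommGroup E] [NormedSpace ℂ E]
    [IsLocalRing (SCV.germO E)] :
    IsLocalRing.maximalIdeal (SCV.germO E) = RingHom.ker (SCV.value (E := E)) := by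
  refine (IsLocalRing.maximalIdeal.isMaximal _).eq_of_le (RingHom.ker_ne_top _) fun b hb => ?_
  by_contra h
  exact hb (isUnit_germO_of_value_ne_zero h)

lemma generates_affineSpace (n : ℕ) :
    Generates (W := (⊤ : (𝔸(Fin n; An.SC)).Opens)) (fun i : Fin n => AffineSpace.coord An.SC i) := by
  letI := algSec (⊤ : (𝔸(Fin n; An.SC)).Opens)
  intro a
  obtain ⟨p, hp⟩ := generators_affineSpace n a
  refine ⟨p, Eq.trans ?_ hp⟩
  have h : ((MvPolynomial.aeval (R := ℂ) fun i : Fin n => (AffineSpace.coord An.SC i :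
      Γ(𝔸(Fin n; An.SC), ⊤))).toRingHom : MvPolynomial (Fin n) ℂ →+* Γ(𝔸(Fin n; An.SC), ⊤)) =
      MvPolynomial.eval₂Hom (strHom (𝔸(Fin n; An.SC))) (fun i => AffineSpace.coord An.SC i) := by
    refine MvPolynomial.ringHom_ext (fun c => ?_) (fun i => ?_)
    · simp [RingHom.algebraMap_toAlgebra]
    · simp
  exact RingHom.congr_fun h p

lemma isRegularRing_gamma_affineSpace (n : ℕ) :
    IsRegularRing Γ(𝔸(Fin n; An.SC), ⊤) ∧ _root_.IsReduced Γ(𝔸(Fin n; An.SC), ⊤) := by
  let θ : MvPolynomial (Fin n) ℂ →+* Γ(𝔸(Fin n; An.SC), ⊤) :=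
    MvPolynomial.eval₂Hom (strHom (𝔸(Fin n; An.SC))) (fun i => AffineSpace.coord An.SC i)
  have hθ : Function.Bijective θ := by
    refine ⟨?_, generators_affineSpace n⟩
    rw [injective_iff_map_eq_zero]
    intro p hp
    refine MvPolynomial.funext fun z => ?_
    obtain ⟨y, rfl⟩ := (isHomeomorph_coordMap n).surjective z
    rw [map_zero]
    have h : (evTopHom y).comp θ = MvPolynomial.eval (coordMap n y) := by
      refine MvPolynomial.ringHom_ext (fun c => ?_) (fun i => ?_)
      · simp [θ]
        exact evTop_strHom y c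
      · simp [θ, coordMap]
        rfl
    rw [← h, RingHom.comp_apply, hp, map_zero]
  exact ⟨IsRegularRing.of_ringEquiv (RingEquiv.ofBijective θ hθ),
    isReduced_of_injective (RingEquiv.ofBijective θ hθ).symm.toRingHom
      (RingEquiv.ofBijective θ hθ).symm.injective⟩

theorem isRegularLocalRing_germO (n : ℕ) : IsRegularLocalRing (SCV.germO (Fin n → ℂ)) := by
  let X := 𝔸(Fin n; An.SC)
  obtain ⟨hreg, hred⟩ := isRegularRing_gamma_affineSpace n
  haveI : IsReduced X := by
    haveI : IsReduced (Spec Γ(X, ⊤)) := (affine_isReduced_iff _).2 hred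
    exact isReduced_of_isOpenImmersion X.isoSpec.hom
  obtain ⟨x, hx⟩ := (isHomeomorph_coordMap n).surjective 0
  let s : Fin n → Γ(X, ⊤) := fun i => AffineSpace.coord An.SC i
  have hgen : Generates s := generates_affineSpace n
  have hcoord : coord s x (Opens.mem_top _) = coordMap n := by
    funext y i
    have h0 : x.evTop (AffineSpace.coord An.SC i) = 0 := congrFun hx i
    simp [coord, coordMap, s, h0]
  let e : SCV.germO (Fin n → ℂ) →+* anStalk x :=
    chartHom (Opens.mem_top _) s (isAffineOpen_top X) hgen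
  have he : Function.Bijective e := by
    refine ⟨?_, chartHom_surjective (Opens.mem_top _) s (isAffineOpen_top X) hgen⟩
    rw [injective_iff_map_eq_zero]
    intro g hg
    obtain ⟨F, hF, rfl⟩ := SCV.exists_mk g
    have h := congrArg (toGerm x) hg
    rw [toGerm_chartHom, psi_mk, map_zero] at h
    have h' : ∀ᶠ y in 𝓝 x, F (coordMap n y) = 0 := by
      filter_upwards [Filter.Germ.coe_eq.1 h] with y hy
      rw [← hcoord]; exact hy
    rw [← eventually_map (P := fun z => F z = 0), show Filter.map (coordMap n) (𝓝 x) = 𝓝 0 from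
      hx ▸ (isHomeomorph_coordMap n).homeomorph.map_nhds_eq x] at h'
    exact SCV.mk_eq_zero.2 h'
  have hst : IsRegularLocalRing (X.presheaf.stalk x.pt) := by
    letI : Algebra Γ(X, ⊤) (X.presheaf.stalk x.pt) :=
      (X.presheaf.germ ⊤ x.pt trivial).hom.toAlgebra
    haveI := (isAffineOpen_top X).isLocalization_stalk ⟨x.pt, trivial⟩
    exact IsRegularLocalRing.of_ringEquiv (IsLocalization.algEquiv
      ((isAffineOpen_top X).primeIdealOf ⟨x.pt, trivial⟩).asIdeal.primeCompl
      (Localization.AtPrime ((isAffineOpen_top X).primeIdealOf ⟨x.pt, trivial⟩).asIdeal)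
      (X.presheaf.stalk x.pt)).toRingEquiv
  haveI := (isRegularLocalRing_anStalk_iff x).1 hst
  exact IsRegularLocalRing.of_ringEquiv (RingEquiv.ofBijective e he).symm

end Groth.ZetaAn
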