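import Groth.Agent.ZetaAn.GrowthTrace
import Mathlib.RingTheory.Filtration
import Mathlib.RingTheory.Ideal.GoingUp
import Mathlib.RingTheory.Ideal.MinimalPrime.Noetherian

/-! An element of a finitely generated reduced ℂ-algebra vanishing to high order at a character
(in the sense of growth on nearby characters) lies in a high power of its maximal ideal. -/

set_option autoImplicit false
set_option linter.style.haveILetI false

open Filter Topology

namespace Groth.ZetaAn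

variable {R : Type} [CommRing R] [Algebra ℂ R] [Algebra.FiniteType ℂ R]

theorem exists_growth_exponent_of_isDomain [IsDomain R] (φ : R →ₐ[ℂ] ℂ) {k : ℕ} (t : Fin k → R)
    (ht : Ideal.span (Set.range t) = RingHom.ker φ) (n : ℕ) :
    ∃ N : ℕ, ∀ f ∈ bigO φ (fun ψ => gauge t ψ ^ N),
      ∃ s : R, φ s ≠ 0 ∧ s * f ∈ RingHom.ker φ ^ n := by
  classical
  obtain ⟨d, g, hg, hgfin⟩ := exists_finite_inj_algHom_of_fg ℂ R
  have hi : g.toRingHom.IsIntegral := hgfin.to_isIntegral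
  letI : Algebra (MvPolynomial (Fin d) ℂ) R := g.toRingHom.toAlgebra
  haveI : Module.Finite (MvPolynomial (Fin d) ℂ) R := hgfin
  have halg : algebraMap (MvPolynomial (Fin d) ℂ) R = g.toRingHom := rfl
  haveI : FaithfulSMul (MvPolynomial (Fin d) ℂ) R :=
    (faithfulSMul_iff_algebraMap_injective _ _).2 hg
  haveI : IsNoetherianRing R := Algebra.FiniteType.isNoetherianRing ℂ R
  haveI : Algebra.IsIntegral (MvPolynomial (Fin d) ℂ) R := ⟨hi⟩
  set y₀ : Fin d → ℂ := fun j => φ (g (MvPolynomial.X j))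
  set ρ : (R →ₐ[ℂ] ℂ) → ℝ := fun ψ => ∑ j, ‖ψ (g (MvPolynomial.X j)) - y₀ j‖
  have hρ : ∀ ψ, 0 ≤ ρ ψ := fun ψ => Finset.sum_nonneg fun _ _ => norm_nonneg _
  set 𝔫 : Ideal (MvPolynomial (Fin d) ℂ) := RingHom.ker (MvPolynomial.eval y₀)
  haveI h𝔫 : 𝔫.IsMaximal := RingHom.ker_isMaximal_of_surjective _ fun c => ⟨MvPolynomial.C c, by simp⟩
  set I : Ideal R := 𝔫.map (algebraMap _ R) with hI
  have hover : Over' g y₀ φ := fun _ => rfl
  have hIle : ∀ ψ : R →ₐ[ℂ] ℂ, Over' g y₀ ψ → I ≤ RingHom.ker ψ := by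
    intro ψ hψ
    rw [hI, Ideal.map_le_iff_le_comap]
    intro p hp
    exact (over_apply g hψ p).trans hp
  -- on the fibre the generators of `𝔫` are bounded by `ρ`
  have hIO : ∀ ψ₁ : R →ₐ[ℂ] ℂ, Over' g y₀ ψ₁ → I ≤ bigO ψ₁ ρ := by
    intro ψ₁ hψ₁
    have key : ∀ p, algebraMap _ R (p - MvPolynomial.C (MvPolynomial.eval y₀ p)) ∈ bigO ψ₁ ρ := by
      intro p
      induction p using MvPolynomial.induction_on with
      | C a => simp
      | add p q hp hq =>
        convert Ideal.add_mem _ hp hq using 1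
        rw [← map_add (algebraMap _ R)]
        congr 1
        simp only [map_add]; ring
      | mul_X p j hp =>
        have hX : algebraMap _ R (MvPolynomial.X j - MvPolynomial.C (y₀ j)) ∈ bigO ψ₁ ρ := by
          refine ⟨1, zero_le_one, Eventually.of_forall fun ψ => ?_⟩
          rw [one_mul, abs_of_nonneg (hρ ψ), halg]
          simp only [AlgHom.toRingHom_eq_coe, RingHom.coe_coe, map_sub]
          rw [show g (MvPolynomial.C (y₀ j)) = algebraMap ℂ R (y₀ j) from g.commutes _, AlgHom.commutes]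
          exact Finset.single_le_sum (f := fun j => ‖ψ (g (MvPolynomial.X j)) - y₀ j‖)
            (fun _ _ => norm_nonneg _) (Finset.mem_univ j)
        convert Ideal.add_mem _ (Ideal.mul_mem_right (algebraMap _ R (MvPolynomial.X j)) _ hp)
          (Ideal.mul_mem_left _ (algebraMap _ R (MvPolynomial.C (MvPolynomial.eval y₀ p))) hX) using 1
        rw [← map_mul, ← map_mul, ← map_add]
        congr 1
        simp only [map_mul, MvPolynomial.eval_X]; ring
    rw [hI, Ideal.map_le_iff_le_comap]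
    intro p hp
    have := key p
    rwa [RingHom.mem_ker.1 hp, map_zero, sub_zero] at this
  obtain ⟨e, he⟩ := Ideal.exists_radical_pow_le_of_fg I (IsNoetherian.noetherian _)
  have he' : I.radical ^ (e + 1) ≤ I := (Ideal.pow_le_pow_right (Nat.le_succ e)).trans he
  -- separating elements
  have hfin := finite_over g halg hi y₀
  have hsep : ∀ ψ₁ : R →ₐ[ℂ] ℂ, Over' g y₀ ψ₁ → ∃ v : R, ψ₁ v = 1 ∧
      ∀ u, ψ₁ u = 0 → (u * v) ^ (e + 1) ∈ I := by
    intro ψ₁ hψ₁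
    have hb : ∀ ψ : R →ₐ[ℂ] ℂ, ∃ b : R, ψ₁ b = 0 ∧ (ψ ≠ ψ₁ → ψ b = 1) := by
      intro ψ
      by_cases h : ψ = ψ₁
      · exact ⟨0, map_zero _, fun h' => absurd h h'⟩
      obtain ⟨a, ha⟩ := DFunLike.exists_ne h
      exact ⟨algebraMap ℂ R (ψ a - ψ₁ a)⁻¹ * (a - algebraMap ℂ R (ψ₁ a)),
        by simp, fun _ => by simp [sub_ne_zero.2 ha]⟩
    choose b hb0 hb1 using hb
    refine ⟨∏ ψ ∈ hfin.toFinset, (1 - b ψ), by simp [map_prod, hb0], fun u hu => he' ?_⟩
    refine Ideal.pow_mem_pow ?_ _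
    rw [Ideal.radical_eq_sInf, Ideal.mem_sInf]
    rintro Q ⟨hQI, hQp⟩
    haveI := hQp
    haveI : Q.IsMaximal := by
      refine Ideal.isMaximal_of_isIntegral_of_isMaximal_comap (R := MvPolynomial (Fin d) ℂ) Q ?_
      have hle : 𝔫 ≤ Q.comap (algebraMap _ R) := Ideal.map_le_iff_le_comap.1 hQI
      rw [← h𝔫.eq_of_le (Ideal.IsPrime.ne_top inferInstance) hle]
      exact h𝔫
    obtain ⟨ψ, hψ⟩ := exists_algHom_ker_eq Q
    have hψo : Over' g y₀ ψ := by
      intro j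
      have h1 : g (MvPolynomial.X j - MvPolynomial.C (y₀ j)) ∈ RingHom.ker ψ := by
        rw [hψ]
        exact hQI (Ideal.mem_map_of_mem (algebraMap _ R) (by simp [𝔫, RingHom.mem_ker]))
      rw [RingHom.mem_ker, map_sub, show g (MvPolynomial.C (y₀ j)) = algebraMap ℂ R (y₀ j) from
        g.commutes _, map_sub, AlgHom.commutes, sub_eq_zero] at h1
      exact h1
    rw [← hψ, RingHom.mem_ker, map_mul, map_prod]
    rcases eq_or_ne ψ ψ₁ with h | h
    · rw [h, hu, zero_mul]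
    · exact mul_eq_zero_of_right _ (Finset.prod_eq_zero (hfin.mem_toFinset.2 hψo) (by simp [hb1 ψ h]))
  have hloc : ∀ ψ₁ : R →ₐ[ℂ] ℂ, Over' g y₀ ψ₁ → ∀ u, ψ₁ u = 0 → u ^ (e + 1) ∈ bigO ψ₁ ρ := by
    intro ψ₁ hψ₁ u hu
    obtain ⟨v, hv1, hv⟩ := hsep ψ₁ hψ₁
    obtain ⟨C, hC, hev⟩ := hIO ψ₁ hψ₁ (hv u hu)
    have hvev : ∀ᶠ ψ in evNhds ψ₁, (1 / 2 : ℝ) ≤ ‖ψ v‖ :=
      ((tendsto_evNhds ψ₁ v).norm.eventually (lt_mem_nhds (by rw [hv1]; norm_num))).mono fun _ h => h.le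
    refine ⟨2 ^ (e + 1) * C, by positivity, (hev.and hvev).mono fun ψ h => ?_⟩
    rw [map_pow, map_mul, mul_pow, norm_mul] at h
    rw [map_pow, norm_pow, mul_assoc]
    have h2 : (1 / 2 : ℝ) ^ (e + 1) ≤ ‖(ψ v) ^ (e + 1)‖ := by
      rw [norm_pow]; exact pow_le_pow_left₀ (by norm_num) h.2 _
    have h3 : ‖ψ u‖ ^ (e + 1) * (1 / 2 : ℝ) ^ (e + 1) ≤ C * |ρ ψ| :=
      le_trans (by rw [← norm_pow]; exact mul_le_mul_of_nonneg_left h2 (norm_nonneg _)) h.1
    rw [one_div, inv_pow, ← div_eq_mul_inv, div_le_iff₀ (by positivity)] at h3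
    linarith
  obtain ⟨T, hTnd, hTb⟩ := exists_trace g halg hg hi
  obtain ⟨G, hGspan⟩ := (Module.Finite.fg_top (R := MvPolynomial (Fin d) ℂ) (M := R))
  let TG : R →ₗ[MvPolynomial (Fin d) ℂ] ({r // r ∈ G} → MvPolynomial (Fin d) ℂ) :=
    LinearMap.pi fun r => T.comp (LinearMap.mulRight _ r.1)
  have hTG : Function.Injective TG := by
    rw [← LinearMap.ker_eq_bot, LinearMap.ker_eq_bot']
    intro b hb
    by_contra hb0
    obtain ⟨r, hr⟩ := hTnd b hb0
    have : (T.comp (LinearMap.mulLeft _ b)) = 0 := by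
      refine LinearMap.ext_on hGspan fun x hx => ?_
      exact congrFun hb ⟨x, hx⟩
    exact hr (LinearMap.congr_fun this r)
  obtain ⟨k₀, hk₀⟩ := 𝔫.exists_pow_inf_eq_pow_smul (LinearMap.range TG)
  set M := n + k₀
  obtain ⟨v, hv1, hv⟩ := hsep φ hover
  refine ⟨(e + 1) * M, fun f hf => ⟨v ^ ((e + 1) * M), by simp [hv1], ?_⟩⟩
  set b := v ^ ((e + 1) * M) * f
  have hb : ∀ ψ₁ : R →ₐ[ℂ] ℂ, Over' g y₀ ψ₁ → b ∈ bigO ψ₁ (fun ψ => ρ ψ ^ M) := by
    intro ψ₁ hψ₁
    by_cases hψφ : ψ₁ = φ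
    · subst hψφ
      refine Ideal.mul_mem_left _ _ ?_
      obtain ⟨C, hC, hfC⟩ := hf
      obtain ⟨D, hD, hD'⟩ := gauge_pow_le ψ₁ t ρ (e + 1) (Nat.succ_pos _) fun i =>
        hloc ψ₁ hψ₁ (t i) (RingHom.mem_ker.1 (ht ▸ Ideal.subset_span ⟨i, rfl⟩))
      refine ⟨C * D ^ M, by positivity, (hfC.and hD').mono fun ψ h => h.1.trans ?_⟩
      rw [abs_pow, abs_of_nonneg (gauge_nonneg t ψ), pow_mul, abs_pow, mul_assoc, ← mul_pow]
      exact mul_le_mul_of_nonneg_left (pow_le_pow_left₀ (by have := gauge_nonneg t ψ; positivity) h.2 M) hC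
    · refine Ideal.mul_mem_right _ _ ?_
      rw [pow_mul]
      refine bigO_pow_le ψ₁ ρ M (Ideal.pow_mem_pow (hloc ψ₁ hψ₁ v ?_) _)
      -- `v` vanishes at the other points of the fibre
      have h1 := hIle ψ₁ hψ₁
      by_contra hne
      obtain ⟨u, hu0, hu1⟩ : ∃ u : R, φ u = 0 ∧ ψ₁ u ≠ 0 := by
        obtain ⟨a, ha⟩ := DFunLike.exists_ne hψφ
        exact ⟨a - algebraMap ℂ R (φ a), by simp, by simpa [sub_eq_zero] using ha⟩
      have h2 := h1 (hv u hu0)
      rw [RingHom.mem_ker, map_pow, pow_eq_zero_iff (Nat.succ_ne_zero e), map_mul] at h2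
      exact (mul_ne_zero hu1 hne) h2
  obtain ⟨δ, hδ, C, hC⟩ := exists_bound_of_fibre g halg hi y₀ b M hb
  have hTmem : ∀ r, T (b * r) ∈ 𝔫 ^ M := by
    intro r
    obtain ⟨δ', hδ', C', hC'⟩ := exists_bound_of_fibre g halg hi y₀ r 0
      (fun ψ₁ _ => by simp [bigO_one])
    obtain ⟨D, hD, hDb⟩ := hTb (b * r)
    refine mem_pow_span_of_bound _ _ _ (D * (C * max C' 0)) ?_
    have : ∀ᶠ y in 𝓝 y₀, (∑ j, ‖y j - y₀ j‖) < min δ δ' := by
      have hc : Continuous fun y : Fin d → ℂ => ∑ j, ‖y j - y₀ j‖ := by fun_prop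
      exact hc.continuousAt.eventually (gt_mem_nhds (by simp [hδ, hδ']))
    refine this.mono fun y hy => ?_
    refine (hDb y (C * max C' 0 * (∑ j, ‖y j - y₀ j‖) ^ M) ?_).trans (le_of_eq (by ring))
    intro ψ hψ
    have hρeq : (∑ j, ‖ψ (g (MvPolynomial.X j)) - y₀ j‖) = ∑ j, ‖y j - y₀ j‖ :=
      Finset.sum_congr rfl fun j _ => by rw [hψ j]
    have h1 := hC ψ (by rw [hρeq]; exact hy.trans_le (min_le_left _ _))
    have h2 := hC' ψ (by rw [hρeq]; exact hy.trans_le (min_le_right _ _))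
    rw [hρeq] at h1
    rw [pow_zero, mul_one] at h2
    rw [map_mul, norm_mul]
    calc ‖ψ b‖ * ‖ψ r‖ ≤ (C * (∑ j, ‖y j - y₀ j‖) ^ M) * max C' 0 :=
          mul_le_mul h1 (h2.trans (le_max_left _ _)) (norm_nonneg _) ((norm_nonneg _).trans h1)
      _ = _ := by ring
  have hmem : TG b ∈ 𝔫 ^ M • (⊤ : Submodule _ _) ⊓ LinearMap.range TG := by
    refine ⟨?_, ⟨b, rfl⟩⟩
    rw [← Finset.univ_sum_single (TG b)]
    refine Submodule.sum_mem _ fun r _ => ?_
    have : Pi.single r (TG b r) = (TG b r) •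
        (Pi.single r 1 : {r // r ∈ G} → MvPolynomial (Fin d) ℂ) := by
      ext s; rcases eq_or_ne s r with h | h <;> simp [h]
    rw [this]
    exact Submodule.smul_mem_smul (hTmem r.1) Submodule.mem_top
  rw [hk₀ M (Nat.le_add_left _ _), Nat.add_sub_cancel] at hmem
  have hle : 𝔫 ^ n • (𝔫 ^ k₀ • (⊤ : Submodule _ _) ⊓ LinearMap.range TG) ≤
      Submodule.map TG (𝔫 ^ n • ⊤) := by
    rw [Submodule.map_smul'', Submodule.map_top]
    exact Submodule.smul_mono le_rfl inf_le_right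
  obtain ⟨b', hb', hbb⟩ := hle hmem
  rw [hTG hbb, Ideal.smul_top_eq_map, Ideal.map_pow] at hb'
  replace hb' : b ∈ I ^ n := hb'
  exact Ideal.pow_right_mono (hIle φ hover) n hb'

omit [Algebra.FiniteType ℂ R] in
lemma bigO_gauge_pow_mono (φ : R →ₐ[ℂ] ℂ) {k : ℕ} (t : Fin k → R) (ht : ∀ i, φ (t i) = 0)
    {N N' : ℕ} (h : N ≤ N') :
    bigO φ (fun ψ => gauge t ψ ^ N') ≤ bigO φ (fun ψ => gauge t ψ ^ N) := by
  rintro f ⟨C, hC, hf⟩
  have h1 : Tendsto (gauge t) (evNhds φ) (𝓝 0) := by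
    have := tendsto_finsetSum Finset.univ fun i (_ : i ∈ Finset.univ) => (tendsto_evNhds φ (t i)).norm
    simp only [ht, norm_zero, Finset.sum_const_zero] at this
    exact this
  refine ⟨C, hC, (hf.and (h1.eventually (gt_mem_nhds zero_lt_one))).mono fun ψ h2 => h2.1.trans ?_⟩
  rw [abs_pow, abs_pow, abs_of_nonneg (gauge_nonneg t ψ)]
  exact mul_le_mul_of_nonneg_left (pow_le_pow_of_le_one (gauge_nonneg t ψ) h2.2.le h) hC

/-- **Linear Izumi-type bound.** For a reduced finitely generated ℂ-algebra, an element which is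
`O(dist ^ N)` at a character, `N` large, lies in the `n`-th power of the maximal ideal locally. -/
theorem exists_growth_exponent [IsReduced R] (φ : R →ₐ[ℂ] ℂ) {k : ℕ} (t : Fin k → R)
    (ht : Ideal.span (Set.range t) = RingHom.ker φ) (n : ℕ) :
    ∃ N : ℕ, ∀ f ∈ bigO φ (fun ψ => gauge t ψ ^ N),
      ∃ s : R, φ s ≠ 0 ∧ s * f ∈ RingHom.ker φ ^ n := by
  classical
  haveI : IsNoetherianRing R := Algebra.FiniteType.isNoetherianRing ℂ R
  haveI : Fintype (minimalPrimes R) := (minimalPrimes.finite_of_isNoetherianRing R).fintype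
  let ι : R →ₗ[R] ((p : minimalPrimes R) → R ⧸ p.1) :=
    LinearMap.pi fun p => Submodule.mkQ (p.1 : Ideal R)
  have hι : Function.Injective ι := by
    rw [← LinearMap.ker_eq_bot, LinearMap.ker_eq_bot']
    intro r hr
    have h1 : r ∈ sInf (minimalPrimes R) := by
      rw [Ideal.mem_sInf]
      exact fun {p} hp => (Submodule.Quotient.mk_eq_zero _).1 (congrFun hr ⟨p, hp⟩)
    rw [show sInf (minimalPrimes R) = nilradical R from Ideal.sInf_minimalPrimes,
      nilradical_eq_zero] at h1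
    exact h1
  obtain ⟨k₀, hk₀⟩ := (RingHom.ker φ).exists_pow_inf_eq_pow_smul (LinearMap.range ι)
  have hp : ∀ p : minimalPrimes R, ∃ N : ℕ, ∀ f ∈ bigO φ (fun ψ => gauge t ψ ^ N),
      ∃ s : R, φ s ≠ 0 ∧ s * f ∈ RingHom.ker φ ^ (n + k₀) ⊔ p.1 := by
    intro p
    by_cases hle : p.1 ≤ RingHom.ker φ
    · haveI : p.1.IsPrime := p.2.1.1
      haveI : Algebra.FiniteType ℂ (R ⧸ p.1) :=
        Algebra.FiniteType.of_surjective (Ideal.Quotient.mkₐ ℂ p.1) Ideal.Quotient.mk_surjective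
      let φ' : R ⧸ p.1 →ₐ[ℂ] ℂ := Ideal.Quotient.liftₐ p.1 φ fun a ha => hle ha
      have hker : RingHom.ker φ' = (RingHom.ker φ).map (Ideal.Quotient.mk p.1) := by
        refine le_antisymm (fun a ha => ?_) (Ideal.map_le_iff_le_comap.2 fun a ha => ?_)
        · obtain ⟨a, rfl⟩ := Ideal.Quotient.mk_surjective a
          exact Ideal.mem_map_of_mem _ (show φ a = 0 from ha)
        · exact ha
      obtain ⟨N, hN⟩ := exists_growth_exponent_of_isDomain φ' (fun i => Ideal.Quotient.mk p.1 (t i))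
        (by rw [hker, ← ht, Ideal.map_span, ← Set.range_comp]; rfl) (n + k₀)
      refine ⟨N, fun f hf => ?_⟩
      obtain ⟨C, hC, hfC⟩ := hf
      have htend : Tendsto (fun ψ : R ⧸ p.1 →ₐ[ℂ] ℂ => ψ.comp (Ideal.Quotient.mkₐ ℂ p.1))
          (evNhds φ') (evNhds φ) :=
        tendsto_comap_iff.2 (tendsto_pi_nhds.2 fun r => tendsto_evNhds φ' _)
      obtain ⟨s, hs, hsf⟩ := hN (Ideal.Quotient.mk p.1 f)
        ⟨C, hC, (htend.eventually hfC).mono fun ψ h => h⟩
      obtain ⟨s, rfl⟩ := Ideal.Quotient.mk_surjective s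
      refine ⟨s, hs, ?_⟩
      rw [hker, ← Ideal.map_pow, ← map_mul, Ideal.mem_map_iff_of_surjective _ Ideal.Quotient.mk_surjective] at hsf
      obtain ⟨a, ha, hae⟩ := hsf
      rw [← add_sub_cancel a (s * f)]
      exact Submodule.add_mem_sup ha (Ideal.Quotient.eq.1 hae.symm)
    · obtain ⟨s, hs, hs'⟩ := SetLike.not_le_iff_exists.1 hle
      exact ⟨0, fun f _ => ⟨s, hs', Submodule.mem_sup_right (p.1.mul_mem_right f hs)⟩⟩
  choose N hN using hp
  have ht0 : ∀ i, φ (t i) = 0 := fun i => RingHom.mem_ker.1 (ht ▸ Ideal.subset_span ⟨i, rfl⟩)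
  refine ⟨∑ p, N p, fun f hf => ?_⟩
  choose s hs hsf using fun p =>
    hN p f (bigO_gauge_pow_mono φ t ht0 (Finset.single_le_sum (fun _ _ => Nat.zero_le _) (Finset.mem_univ p)) hf)
  refine ⟨∏ p, s p, by rw [map_prod, Finset.prod_ne_zero_iff]; exact fun p _ => hs p, ?_⟩
  have hmem : ι ((∏ p, s p) * f) ∈ RingHom.ker φ ^ (n + k₀) • (⊤ : Submodule R _) ⊓ LinearMap.range ι := by
    refine ⟨?_, ⟨_, rfl⟩⟩
    rw [← Finset.univ_sum_single (ι ((∏ p, s p) * f))]
    refine Submodule.sum_mem _ fun p _ => ?_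
    have h1 : (∏ q, s q) * f ∈ RingHom.ker φ ^ (n + k₀) ⊔ p.1 := by
      rw [← Finset.mul_prod_erase Finset.univ s (Finset.mem_univ p), mul_comm (s p), mul_assoc]
      exact Ideal.mul_mem_left _ _ (hsf p)
    obtain ⟨a, ha, c, hc, hac⟩ := Submodule.mem_sup.1 h1
    have h2 : ι ((∏ q, s q) * f) p = a • (1 : R ⧸ p.1) := by
      show Submodule.Quotient.mk _ = _
      rw [← hac, Submodule.Quotient.mk_add, (Submodule.Quotient.mk_eq_zero _).2 hc, add_zero,
        Algebra.smul_def, mul_one]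
      rfl
    have : Pi.single p (ι ((∏ q, s q) * f) p) =
        a • (Pi.single p 1 : (q : minimalPrimes R) → R ⧸ q.1) := by
      rw [h2, Pi.single_smul]
    rw [this]
    exact Submodule.smul_mem_smul ha Submodule.mem_top
  rw [hk₀ _ (Nat.le_add_left _ _), Nat.add_sub_cancel] at hmem
  have hle : RingHom.ker φ ^ n • (RingHom.ker φ ^ k₀ • (⊤ : Submodule R _) ⊓ LinearMap.range ι) ≤
      Submodule.map ι (RingHom.ker φ ^ n • ⊤) := by
    rw [Submodule.map_smul'', Submodule.map_top]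
    exact Submodule.smul_mono le_rfl inf_le_right
  obtain ⟨b', hb', hbb⟩ := hle hmem
  rw [hι hbb] at hb'
  simpa using hb'

end Groth.ZetaAn
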