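import Groth.Agent.ZetaAn.NormalizationPts
import Mathlib.RingTheory.Finiteness.Ideal
import Mathlib.RingTheory.MvPolynomial.Ideal
import Mathlib.Topology.MetricSpace.Sequences
import Mathlib.Algebra.Order.Chebyshev

/-! Growth conditions of elements of a finitely generated ℂ-algebra near a character. -/

set_option autoImplicit false
set_option linter.style.haveILetI false

open Filter Topology

namespace Groth.ZetaAn

variable {R : Type} [CommRing R] [Algebra ℂ R]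

/-- The neighbourhood filter of a character for pointwise convergence. -/
noncomputable def evNhds (φ : R →ₐ[ℂ] ℂ) : Filter (R →ₐ[ℂ] ℂ) := comap (fun ψ => (ψ : R → ℂ)) (𝓝 (φ : R → ℂ))

lemma tendsto_evNhds (φ : R →ₐ[ℂ] ℂ) (r : R) :
    Tendsto (fun ψ : R →ₐ[ℂ] ℂ => ψ r) (evNhds φ) (𝓝 (φ r)) :=
  ((continuous_apply r).tendsto _).comp tendsto_comap

lemma eventually_norm_le_evNhds (φ : R →ₐ[ℂ] ℂ) (r : R) :
    ∀ᶠ ψ in evNhds φ, ‖ψ r‖ ≤ ‖φ r‖ + 1 :=
  ((tendsto_evNhds φ r).norm.eventually (gt_mem_nhds (lt_add_one _))).mono fun _ h => h.le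

lemma algHom_eq_of_gens {k : ℕ} {σ : MvPolynomial (Fin k) ℂ →ₐ[ℂ] R} (hσ : Function.Surjective σ)
    (ψ : R →ₐ[ℂ] ℂ) (p : MvPolynomial (Fin k) ℂ) :
    ψ (σ p) = MvPolynomial.eval (fun i => ψ (σ (MvPolynomial.X i))) p := by
  have : ψ.comp σ = MvPolynomial.aeval (fun i => ψ (σ (MvPolynomial.X i))) :=
    MvPolynomial.algHom_ext fun i => by simp
  simpa using DFunLike.congr_fun this p

/-- A filter converges to a character as soon as it does on generators. -/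
lemma tendsto_evNhds_iff {k : ℕ} {σ : MvPolynomial (Fin k) ℂ →ₐ[ℂ] R} (hσ : Function.Surjective σ)
    {α : Type*} {l : Filter α} (u : α → (R →ₐ[ℂ] ℂ)) (φ : R →ₐ[ℂ] ℂ) :
    Tendsto u l (evNhds φ) ↔
      Tendsto (fun a i => u a (σ (MvPolynomial.X i))) l (𝓝 fun i => φ (σ (MvPolynomial.X i))) := by
  refine ⟨fun h => tendsto_pi_nhds.2 fun i => (tendsto_evNhds φ _).comp h, fun h => ?_⟩
  refine tendsto_comap_iff.2 (tendsto_pi_nhds.2 fun r => ?_)
  obtain ⟨p, rfl⟩ := hσ r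
  rw [algHom_eq_of_gens hσ φ p]
  exact (((MvPolynomial.continuous_eval p).tendsto _).comp h).congr fun a =>
    (algHom_eq_of_gens hσ (u a) p).symm

/-- Elements bounded by a multiple of `ρ` near `φ`. -/
noncomputable def bigO (φ : R →ₐ[ℂ] ℂ) (ρ : (R →ₐ[ℂ] ℂ) → ℝ) : Ideal R where
  carrier := {r | ∃ C : ℝ, 0 ≤ C ∧ ∀ᶠ ψ in evNhds φ, ‖ψ r‖ ≤ C * |ρ ψ|}
  zero_mem' := ⟨0, le_rfl, Eventually.of_forall fun ψ => by simp⟩
  add_mem' := by
    rintro a b ⟨C, hC, ha⟩ ⟨D, hD, hb⟩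
    refine ⟨C + D, add_nonneg hC hD, (ha.and hb).mono fun ψ h => ?_⟩
    rw [map_add, add_mul]
    exact (norm_add_le _ _).trans (add_le_add h.1 h.2)
  smul_mem' := by
    rintro c a ⟨C, hC, ha⟩
    refine ⟨(‖φ c‖ + 1) * C, by positivity, (ha.and (eventually_norm_le_evNhds φ c)).mono fun ψ h => ?_⟩
    rw [smul_eq_mul, map_mul, norm_mul, mul_assoc]
    exact mul_le_mul h.2 h.1 (norm_nonneg _) (by positivity)

lemma mem_bigO {φ : R →ₐ[ℂ] ℂ} {ρ : (R →ₐ[ℂ] ℂ) → ℝ} {r : R} :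
    r ∈ bigO φ ρ ↔ ∃ C : ℝ, 0 ≤ C ∧ ∀ᶠ ψ in evNhds φ, ‖ψ r‖ ≤ C * |ρ ψ| := Iff.rfl

lemma bigO_one (φ : R →ₐ[ℂ] ℂ) : bigO φ (fun _ => 1) = ⊤ :=
  (Ideal.eq_top_iff_one _).2 ⟨1, zero_le_one, Eventually.of_forall fun ψ => by simp⟩

lemma bigO_mul_le (φ : R →ₐ[ℂ] ℂ) (ρ σ : (R →ₐ[ℂ] ℂ) → ℝ) :
    bigO φ ρ * bigO φ σ ≤ bigO φ (fun ψ => ρ ψ * σ ψ) := by
  rw [Ideal.mul_le]
  rintro a ⟨C, hC, ha⟩ b ⟨D, hD, hb⟩
  refine ⟨C * D, mul_nonneg hC hD, (ha.and hb).mono fun ψ h => ?_⟩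
  rw [map_mul, norm_mul, abs_mul, mul_mul_mul_comm]
  exact mul_le_mul h.1 h.2 (norm_nonneg _) (mul_nonneg hC (abs_nonneg _))

lemma bigO_pow_le (φ : R →ₐ[ℂ] ℂ) (ρ : (R →ₐ[ℂ] ℂ) → ℝ) (k : ℕ) :
    bigO φ ρ ^ k ≤ bigO φ (fun ψ => ρ ψ ^ k) := by
  induction k with
  | zero => simp [bigO_one]
  | succ k ih =>
    rw [pow_succ]
    refine ((Ideal.mul_mono ih le_rfl).trans (bigO_mul_le φ _ _)).trans (le_of_eq ?_)
    simp only [pow_succ]

/-- Sum of absolute values of finitely many elements. -/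
noncomputable def gauge {k : ℕ} (t : Fin k → R) (ψ : R →ₐ[ℂ] ℂ) : ℝ := ∑ i, ‖ψ (t i)‖

lemma gauge_nonneg {k : ℕ} (t : Fin k → R) (ψ : R →ₐ[ℂ] ℂ) : 0 ≤ gauge t ψ :=
  Finset.sum_nonneg fun _ _ => norm_nonneg _

lemma span_le_bigO_gauge (φ : R →ₐ[ℂ] ℂ) {k : ℕ} (t : Fin k → R) :
    Ideal.span (Set.range t) ≤ bigO φ (gauge t) := by
  rw [Ideal.span_le]
  rintro _ ⟨i, rfl⟩
  refine ⟨1, zero_le_one, Eventually.of_forall fun ψ => ?_⟩
  rw [one_mul, abs_of_nonneg (gauge_nonneg t ψ)]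
  exact Finset.single_le_sum (f := fun i => ‖ψ (t i)‖) (fun _ _ => norm_nonneg _) (Finset.mem_univ i)

/-- If every `t i ^ e` is bounded by a multiple of `ρ`, then so is `(gauge t) ^ e`. -/
lemma gauge_pow_le (φ : R →ₐ[ℂ] ℂ) {k : ℕ} (t : Fin k → R) (ρ : (R →ₐ[ℂ] ℂ) → ℝ) (e : ℕ) (he : 0 < e)
    (h : ∀ i, t i ^ e ∈ bigO φ ρ) :
    ∃ C : ℝ, 0 ≤ C ∧ ∀ᶠ ψ in evNhds φ, gauge t ψ ^ e ≤ C * |ρ ψ| := by
  choose C hC hev using h
  obtain ⟨e, rfl⟩ := Nat.exists_eq_add_one.2 he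
  refine ⟨(k : ℝ) ^ e * ∑ i, C i, mul_nonneg (by positivity) (Finset.sum_nonneg fun i _ => hC i),
    (eventually_all.2 hev).mono fun ψ h => ?_⟩
  refine (pow_sum_le_card_mul_sum_pow (fun i _ => norm_nonneg (ψ (t i))) e).trans ?_
  rw [Finset.card_univ, Fintype.card_fin, mul_assoc, Finset.sum_mul]
  refine mul_le_mul_of_nonneg_left (Finset.sum_le_sum fun i _ => ?_) (by positivity)
  simpa [map_pow, norm_pow] using h i

/-- A polynomial which is `O(‖y - y₀‖ ^ m)` at `y₀` lies in the `m`-th power of its maximal ideal. -/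
lemma mem_pow_span_of_bound {d : ℕ} (q : MvPolynomial (Fin d) ℂ) (y₀ : Fin d → ℂ) (m : ℕ)
    (C : ℝ) (h : ∀ᶠ y in 𝓝 y₀, ‖MvPolynomial.eval y q‖ ≤ C * (∑ j, ‖y j - y₀ j‖) ^ m) :
    q ∈ (RingHom.ker (MvPolynomial.eval y₀)) ^ m := by
  classical
  set T : MvPolynomial (Fin d) ℂ →ₐ[ℂ] MvPolynomial (Fin d) ℂ :=
    MvPolynomial.aeval fun j => MvPolynomial.X j + MvPolynomial.C (y₀ j)
  set T' : MvPolynomial (Fin d) ℂ →ₐ[ℂ] MvPolynomial (Fin d) ℂ :=
    MvPolynomial.aeval fun j => MvPolynomial.X j - MvPolynomial.C (y₀ j)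
  have hTT : T'.comp T = AlgHom.id ℂ _ := MvPolynomial.algHom_ext fun j => by simp [T, T']
  set q' := T q with hq'
  have hev : ∀ v, MvPolynomial.eval v q' = MvPolynomial.eval (fun j => v j + y₀ j) q := by
    intro v
    have : (MvPolynomial.aeval (R := ℂ) v).comp T = MvPolynomial.aeval fun j => v j + y₀ j :=
      MvPolynomial.algHom_ext fun j => by simp [T]
    exact DFunLike.congr_fun this q
  suffices hmem : q' ∈ MvPolynomial.idealOfVars (Fin d) ℂ ^ m by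
    have h1 : q = T' q' := (DFunLike.congr_fun hTT q).symm
    rw [h1]
    have h2 : (MvPolynomial.idealOfVars (Fin d) ℂ).map T' ≤ RingHom.ker (MvPolynomial.eval y₀) := by
      rw [Ideal.map_le_iff_le_comap, MvPolynomial.idealOfVars, Ideal.span_le]
      rintro _ ⟨j, rfl⟩
      simp [T', RingHom.mem_ker]
    refine Ideal.pow_right_mono h2 m ?_
    rw [← Ideal.map_pow]
    exact Ideal.mem_map_of_mem _ hmem
  rw [MvPolynomial.mem_pow_idealOfVars_iff]
  intro x hx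
  by_contra hlt
  push Not at hlt
  have hne : MvPolynomial.homogeneousComponent x.degree q' ≠ 0 := by
    intro h0
    have := congrArg (MvPolynomial.coeff x) h0
    rw [MvPolynomial.coeff_homogeneousComponent, if_pos rfl, MvPolynomial.coeff_zero] at this
    exact MvPolynomial.mem_support_iff.1 hx this
  obtain ⟨v, hv⟩ : ∃ v, MvPolynomial.eval v (MvPolynomial.homogeneousComponent x.degree q') ≠ 0 := by
    by_contra hcon
    push Not at hcon
    exact hne (MvPolynomial.funext fun v => by simpa using hcon v)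
  let Q : Polynomial ℂ := MvPolynomial.aeval (fun j => Polynomial.C (v j) * Polynomial.X) q'
  have hQ : ∀ t, Q.eval t = MvPolynomial.eval (fun j => v j * t) q' := by
    intro t
    have : (Polynomial.aeval t).comp (MvPolynomial.aeval
        fun j => Polynomial.C (v j) * Polynomial.X) = MvPolynomial.aeval fun j => v j * t :=
      MvPolynomial.algHom_ext fun j => by simp
    exact DFunLike.congr_fun this q'
  have hcoef : ∀ l, Q.coeff l = MvPolynomial.eval v (MvPolynomial.homogeneousComponent l q') := by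
    intro l
    simp only [Q]
    conv_lhs => rw [q'.as_sum]
    rw [map_sum, Polynomial.finsetSum_coeff, MvPolynomial.homogeneousComponent_apply, map_sum,
      Finset.sum_filter]
    refine Finset.sum_congr rfl fun z _ => ?_
    rw [MvPolynomial.aeval_monomial, MvPolynomial.eval_monomial]
    have : (z.prod fun j n => (Polynomial.C (v j) * Polynomial.X) ^ n) =
        Polynomial.C (z.prod fun j n => v j ^ n) * Polynomial.X ^ z.degree := by
      simp only [Finsupp.prod, mul_pow, Finset.prod_mul_distrib, ← map_pow, ← map_prod,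
        Finset.prod_pow_eq_pow_sum, Finsupp.degree]
      rfl
    rw [this, Polynomial.algebraMap_eq, ← mul_assoc, ← map_mul, Polynomial.coeff_C_mul_X_pow]
    simp [eq_comm]
  have hQbound : ∀ᶠ t : ℂ in 𝓝 0, ‖Q.eval t‖ ≤ (C * (∑ j, ‖v j‖) ^ m) * ‖t‖ ^ m := by
    have ht : Tendsto (fun t : ℂ => fun j => v j * t + y₀ j) (𝓝 0) (𝓝 y₀) := by
      have hc : Continuous fun t : ℂ => fun j => v j * t + y₀ j := by fun_prop
      simpa using hc.tendsto 0
    refine (ht.eventually h).mono fun t ht => ?_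
    rw [hQ, hev]
    refine ht.trans (le_of_eq ?_)
    simp only [add_sub_cancel_right, norm_mul, ← Finset.sum_mul, mul_pow]
    ring
  have key : ∀ l, l < m → Q.coeff l = 0 := by
    intro l
    induction l using Nat.strong_induction_on with
    | _ l ih =>
      intro hl
      obtain ⟨S, hS⟩ : Polynomial.X ^ l ∣ Q :=
        Polynomial.X_pow_dvd_iff.2 fun d hd => ih d hd (hd.trans hl)
      rw [hS, Polynomial.coeff_X_pow_mul', if_pos le_rfl, Nat.sub_self,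
        Polynomial.coeff_zero_eq_eval_zero]
      have h1 : Tendsto (fun t => ‖S.eval t‖) (𝓝[≠] (0 : ℂ)) (𝓝 ‖S.eval 0‖) :=
        ((S.continuous.tendsto 0).mono_left nhdsWithin_le_nhds).norm
      have h2 : Tendsto (fun t : ℂ => (C * (∑ j, ‖v j‖) ^ m) * ‖t‖ ^ (m - l)) (𝓝[≠] (0 : ℂ)) (𝓝 0) := by
        have hc : Continuous fun t : ℂ => (C * (∑ j, ‖v j‖) ^ m) * ‖t‖ ^ (m - l) := by fun_prop
        have h3 := (hc.tendsto 0).mono_left (nhdsWithin_le_nhds (s := {0}ᶜ))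
        simpa [Nat.sub_ne_zero_of_lt hl] using h3
      refine norm_le_zero_iff.1 (le_of_tendsto_of_tendsto h1 h2 ?_)
      filter_upwards [hQbound.filter_mono nhdsWithin_le_nhds, self_mem_nhdsWithin] with t ht ht0
      rw [hS, Polynomial.eval_mul, Polynomial.eval_pow, Polynomial.eval_X, norm_mul, norm_pow] at ht
      have htp : 0 < ‖t‖ := norm_pos_iff.2 ht0
      have h4 : ‖t‖ ^ l * ‖S.eval t‖ ≤
          ‖t‖ ^ l * ((C * (∑ j, ‖v j‖) ^ m) * ‖t‖ ^ (m - l)) := by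
        refine ht.trans (le_of_eq ?_)
        rw [show ‖t‖ ^ m = ‖t‖ ^ l * ‖t‖ ^ (m - l) by rw [← pow_add, Nat.add_sub_cancel' hl.le]]
        ring
      exact le_of_mul_le_mul_left h4 (by positivity)
  exact hv ((hcoef _).symm.trans (key _ hlt))

end Groth.ZetaAn
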