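import Groth.Agent.ZetaAn.GrowthBasic
import Mathlib.RingTheory.Trace.Basic
import Mathlib.RingTheory.Localization.Finiteness
import Mathlib.RingTheory.Localization.LocalizationLocalization
import Mathlib.RingTheory.Localization.FractionRing
import Mathlib.FieldTheory.Minpoly.IsIntegrallyClosed

/-! Finite ℂ-domains over a polynomial ring: characters over a base point and the bounded trace. -/

set_option autoImplicit false
set_option linter.style.haveILetI false

open Filter Topology

namespace Groth.ZetaAn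

variable {R : Type} [CommRing R] [Algebra ℂ R] [IsDomain R] [Algebra.FiniteType ℂ R] {d : ℕ}
  (g : MvPolynomial (Fin d) ℂ →ₐ[ℂ] R)

/-- `ψ` lies over the point `y` of affine space. -/
def Over' (y : Fin d → ℂ) (ψ : R →ₐ[ℂ] ℂ) : Prop := ∀ j, ψ (g (MvPolynomial.X j)) = y j

omit [IsDomain R] [Algebra.FiniteType ℂ R] in
lemma over_apply {y : Fin d → ℂ} {ψ : R →ₐ[ℂ] ℂ} (h : Over' g y ψ) (p : MvPolynomial (Fin d) ℂ) :
    ψ (g p) = MvPolynomial.eval y p := by
  have : ψ.comp g = MvPolynomial.aeval y := MvPolynomial.algHom_ext fun j => by simpa using h j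
  exact DFunLike.congr_fun this p

omit [IsDomain R] [Algebra.FiniteType ℂ R] in
lemma over_root {y : Fin d → ℂ} {ψ : R →ₐ[ℂ] ℂ} (h : Over' g y ψ) (b : R)
    (F : Polynomial (MvPolynomial (Fin d) ℂ)) (hF : F.eval₂ g.toRingHom b = 0) :
    (F.map (MvPolynomial.eval y)).IsRoot (ψ b) := by
  have h1 : (ψ : R →+* ℂ).comp g.toRingHom = MvPolynomial.eval y :=
    RingHom.ext fun p => over_apply g h p
  have h2 := congrArg (ψ : R →+* ℂ) hF
  rw [map_zero, Polynomial.hom_eval₂, h1] at h2
  rw [Polynomial.IsRoot, Polynomial.eval_map]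
  exact h2

variable [Algebra (MvPolynomial (Fin d) ℂ) R]
  (halg : algebraMap (MvPolynomial (Fin d) ℂ) R = g.toRingHom) (hg : Function.Injective g)
  (hi : g.toRingHom.IsIntegral)

include halg hg hi

/-- Every root of the specialised minimal polynomial is the value of a character over the point. -/
lemma exists_over_eq_root (y : Fin d → ℂ) (b : R) (r : ℂ)
    (hr : ((minpoly (MvPolynomial (Fin d) ℂ) b).map (MvPolynomial.eval y)).IsRoot r) :
    ∃ ψ : R →ₐ[ℂ] ℂ, Over' g y ψ ∧ ψ b = r := by
  classical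
  set P := MvPolynomial (Fin d) ℂ
  haveI : IsScalarTower ℂ P R :=
    IsScalarTower.of_algebraMap_eq fun c => by rw [halg]; exact (g.commutes c).symm
  haveI : FaithfulSMul P R :=
    (faithfulSMul_iff_algebraMap_injective _ _).2 (by rw [halg]; exact hg)
  have hi' : (algebraMap P R).IsIntegral := halg ▸ hi
  have hint : IsIntegral P b := hi' b
  rw [Polynomial.IsRoot, Polynomial.eval_map] at hr
  let ρ₀ : Algebra.adjoin P ({b} : Set R) →+* ℂ :=
    (AdjoinRoot.lift (MvPolynomial.eval y) r hr).comp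
      (minpoly.equivAdjoin hint).symm.toAlgHom.toRingHom
  have hρP : ∀ p : P, ρ₀ (algebraMap P _ p) = MvPolynomial.eval y p := fun p => by
    simp [ρ₀]
    exact AdjoinRoot.lift_of _
  let ρ : Algebra.adjoin P ({b} : Set R) →ₐ[ℂ] ℂ :=
    { ρ₀ with
      commutes' := fun c => by
        have := hρP (algebraMap ℂ P c)
        rw [← IsScalarTower.algebraMap_apply] at this
        refine this.trans ?_
        exact MvPolynomial.eval_C c }
  have hint' : ((Algebra.adjoin P ({b} : Set R)).val.restrictScalars ℂ).toRingHom.IsIntegral :=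
    RingHom.IsIntegral.tower_top (algebraMap P (Algebra.adjoin P ({b} : Set R)))
      (algebraMap (Algebra.adjoin P ({b} : Set R)) R) hi'
  obtain ⟨ψ, hψ⟩ := exists_lift_of_isIntegral
    ((Algebra.adjoin P ({b} : Set R)).val.restrictScalars ℂ) Subtype.val_injective hint' ρ
  refine ⟨ψ, fun j => ?_, ?_⟩
  · have := DFunLike.congr_fun hψ (algebraMap P _ (MvPolynomial.X j))
    change ψ (algebraMap P R (MvPolynomial.X j)) = ρ₀ _ at this
    rw [halg] at this
    exact this.trans ((hρP _).trans (MvPolynomial.eval_X _))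
  · have := DFunLike.congr_fun hψ ⟨b, Algebra.self_mem_adjoin_singleton P b⟩
    change ψ b = ρ₀ _ at this
    rw [this]
    have h2 : (minpoly.equivAdjoin hint).symm ⟨b, Algebra.self_mem_adjoin_singleton P b⟩ =
        AdjoinRoot.root _ := by
      rw [AlgEquiv.symm_apply_eq]
      refine Subtype.ext ?_
      simp [AdjoinRoot.Minpoly.toAdjoin]
    change AdjoinRoot.lift _ r hr ((minpoly.equivAdjoin hint).symm _) = r
    rw [h2, AdjoinRoot.lift_root]

omit hg in
lemma finite_over (y : Fin d → ℂ) : {ψ : R →ₐ[ℂ] ℂ | Over' g y ψ}.Finite := by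
  obtain ⟨N, σ, hσ⟩ :=
    (Algebra.FiniteType.iff_quotient_mvPolynomial'' (R := ℂ) (S := R)).1 inferInstance
  have hi' : (algebraMap (MvPolynomial (Fin d) ℂ) R).IsIntegral := halg ▸ hi
  refine Set.Finite.of_finite_image (f := fun ψ : R →ₐ[ℂ] ℂ => fun i => ψ (σ (MvPolynomial.X i))) ?_ ?_
  · refine (Set.Finite.pi' (t := fun i => {z | ((minpoly (MvPolynomial (Fin d) ℂ) (σ (MvPolynomial.X i))).map
        (MvPolynomial.eval y)).IsRoot z}) fun i => ?_).subset ?_
    · exact Polynomial.finite_setOfPred_isRoot ((minpoly.monic (hi' _)).map _).ne_zero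
    · rintro _ ⟨ψ, hψ, rfl⟩ i
      exact over_root g hψ _ _ (by rw [← halg]; exact minpoly.aeval _ _)
  · intro ψ _ ψ' _ h
    refine AlgHom.ext fun a => ?_
    obtain ⟨p, rfl⟩ := hσ a
    rw [algHom_eq_of_gens hσ ψ, algHom_eq_of_gens hσ ψ']
    exact congrArg (fun v => MvPolynomial.eval v p) h

omit hg in
/-- A local bound at every character over `y₀` is a bound over a neighbourhood of `y₀`. -/
lemma exists_bound_of_fibre (y₀ : Fin d → ℂ) (b : R) (M : ℕ)
    (h : ∀ ψ₁ : R →ₐ[ℂ] ℂ, Over' g y₀ ψ₁ →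
      b ∈ bigO ψ₁ (fun ψ => (∑ j, ‖ψ (g (MvPolynomial.X j)) - y₀ j‖) ^ M)) :
    ∃ δ > 0, ∃ C : ℝ, ∀ ψ : R →ₐ[ℂ] ℂ, (∑ j, ‖ψ (g (MvPolynomial.X j)) - y₀ j‖) < δ →
      ‖ψ b‖ ≤ C * (∑ j, ‖ψ (g (MvPolynomial.X j)) - y₀ j‖) ^ M := by
  obtain ⟨N, σ, hσ⟩ :=
    (Algebra.FiniteType.iff_quotient_mvPolynomial'' (R := ℂ) (S := R)).1 inferInstance
  have hi' : (algebraMap (MvPolynomial (Fin d) ℂ) R).IsIntegral := halg ▸ hi
  by_contra hcon
  push Not at hcon
  choose ψ hψy hψb using fun k : ℕ => hcon (1 / ((k : ℝ) + 1)) (by positivity) k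
  set ρ : (R →ₐ[ℂ] ℂ) → ℝ := fun ψ => ∑ j, ‖ψ (g (MvPolynomial.X j)) - y₀ j‖
  set y : ℕ → Fin d → ℂ := fun k j => ψ k (g (MvPolynomial.X j))
  have hylim : Tendsto y atTop (𝓝 y₀) := by
    refine tendsto_pi_nhds.2 fun j => ?_
    refine tendsto_iff_norm_sub_tendsto_zero.2 (squeeze_zero (fun _ => norm_nonneg _)
      (fun k => le_trans ?_ (hψy k).le) tendsto_one_div_add_atTop_nhds_zero_nat)
    exact Finset.single_le_sum (f := fun j => ‖ψ k (g (MvPolynomial.X j)) - y₀ j‖)
      (fun _ _ => norm_nonneg _) (Finset.mem_univ j)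
  set F : Fin N → Polynomial (MvPolynomial (Fin d) ℂ) :=
    fun i => minpoly (MvPolynomial (Fin d) ℂ) (σ (MvPolynomial.X i))
  have hbdd : ∀ i, ∃ C, ∀ k, ‖ψ k (σ (MvPolynomial.X i))‖ ≤ C := by
    intro i
    have hc : Continuous fun z => 1 + ∑ l ∈ Finset.range (F i).natDegree,
        ‖MvPolynomial.eval z ((F i).coeff l)‖ := continuous_const.add
      (continuous_finsetSum _ fun l _ => (MvPolynomial.continuous_eval _).norm)
    obtain ⟨C, hC⟩ := ((hc.tendsto y₀).comp hylim).bddAbove_range
    refine ⟨C, fun k => le_trans ?_ (hC ⟨k, rfl⟩)⟩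
    have := norm_root_le ((minpoly.monic (hi' (σ (MvPolynomial.X i)))).map _)
      (over_root g (y := y k) (fun j => rfl) _ _ (by rw [← halg]; exact minpoly.aeval _ _) :
        ((F i).map (MvPolynomial.eval (y k))).IsRoot (ψ k (σ (MvPolynomial.X i))))
    rw [(minpoly.monic (hi' _)).natDegree_map] at this
    simpa only [Polynomial.coeff_map, Function.comp_apply] using this
  choose C hC using hbdd
  obtain ⟨w, -, u, hu, hw⟩ :=
    (isCompact_univ_pi fun i => isCompact_closedBall (0 : ℂ) (C i)).tendsto_subseq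
      (x := fun k i => ψ k (σ (MvPolynomial.X i))) (fun k i _ => by simpa using hC i k)
  have hlim : ∀ p : MvPolynomial (Fin N) ℂ,
      Tendsto (fun k => ψ (u k) (σ p)) atTop (𝓝 (MvPolynomial.eval w p)) := fun p =>
    (((MvPolynomial.continuous_eval p).tendsto w).comp hw).congr fun k =>
      (algHom_eq_of_gens hσ (ψ (u k)) p).symm
  have hker : ∀ p, σ p = 0 → MvPolynomial.eval w p = 0 := fun p hp =>
    tendsto_nhds_unique (hlim p) (by simp [hp])
  let ψ₁ : R →ₐ[ℂ] ℂ := (Ideal.Quotient.liftₐ (RingHom.ker σ) (MvPolynomial.aeval w)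
    (fun p hp => by simpa using hker p hp)).comp
      (Ideal.quotientKerAlgEquivOfSurjective hσ).symm.toAlgHom
  have hψ₁ : ∀ p, ψ₁ (σ p) = MvPolynomial.eval w p := by
    intro p
    have : (Ideal.quotientKerAlgEquivOfSurjective hσ).symm (σ p) = Ideal.Quotient.mk _ p := by
      rw [AlgEquiv.symm_apply_eq]; rfl
    simp [ψ₁, this]
  have hto : Tendsto (fun k => ψ (u k)) atTop (evNhds ψ₁) := by
    rw [tendsto_evNhds_iff hσ]
    simp only [hψ₁, MvPolynomial.eval_X]
    exact hw
  have hover : Over' g y₀ ψ₁ := fun j =>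
    tendsto_nhds_unique ((tendsto_evNhds ψ₁ _).comp hto)
      (((continuous_apply j).tendsto y₀).comp (hylim.comp hu.tendsto_atTop))
  obtain ⟨D, -, hD⟩ := h ψ₁ hover
  obtain ⟨k, hk, hkD⟩ := ((hto.eventually hD).and
    ((tendsto_natCast_atTop_atTop.comp hu.tendsto_atTop).eventually (eventually_ge_atTop D))).exists
  have h1 := hψb (u k)
  rw [abs_of_nonneg (by positivity)] at hk
  exact absurd (h1.trans_le hk) (not_lt.2 (mul_le_mul_of_nonneg_right hkD (by positivity)))

/-- The trace form of a finite ℂ-domain over a polynomial ring, with its bound on values. -/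
lemma exists_trace [Module.Finite (MvPolynomial (Fin d) ℂ) R] :
    ∃ T : R →ₗ[MvPolynomial (Fin d) ℂ] MvPolynomial (Fin d) ℂ,
      (∀ b, b ≠ 0 → ∃ r, T (b * r) ≠ 0) ∧
      ∀ b, ∃ D : ℝ, 0 ≤ D ∧ ∀ (y : Fin d → ℂ) (B : ℝ), (∀ ψ : R →ₐ[ℂ] ℂ, Over' g y ψ → ‖ψ b‖ ≤ B) →
        ‖MvPolynomial.eval y (T b)‖ ≤ D * B := by
  classical
  set P := MvPolynomial (Fin d) ℂ
  haveI : FaithfulSMul P R :=
    (faithfulSMul_iff_algebraMap_injective _ _).2 (by rw [halg]; exact hg)
  have hi' : (algebraMap P R).IsIntegral := halg ▸ hi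
  letI := FractionRing.liftAlgebra P (FractionRing R)
  haveI : IsScalarTower P (FractionRing P) (FractionRing R) :=
    FractionRing.isScalarTower_liftAlgebra _ _
  have hden : ∀ b : R, b ≠ 0 → ∃ (c : P) (r : R), c ≠ 0 ∧ algebraMap P R c = b * r := by
    intro b hb
    obtain ⟨c, hc, hc0⟩ := Submodule.exists_mem_ne_zero_of_ne_bot
      (Ideal.comap_ne_bot_of_integral_mem (R := P) hb (Ideal.mem_span_singleton_self b) (hi' b))
    obtain ⟨r, hr⟩ := Ideal.mem_span_singleton.1 hc
    exact ⟨c, r, hc0, hr⟩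
  haveI : IsLocalization (Algebra.algebraMapSubmonoid R (nonZeroDivisors P)) (FractionRing R) := by
    have hne : ∀ c : P, c ∈ nonZeroDivisors P → algebraMap P R c ≠ 0 := fun c hc h =>
      nonZeroDivisors.ne_zero hc (FaithfulSMul.algebraMap_injective P R (by rw [h, map_zero]))
    refine (IsLocalization.iff_of_le_of_exists_dvd _ (nonZeroDivisors R) ?_ ?_).2 inferInstance
    · rintro _ ⟨c, hc, rfl⟩
      exact mem_nonZeroDivisors_of_ne_zero (hne c hc)
    · intro b hb
      obtain ⟨c, r, hc0, hc⟩ := hden b (nonZeroDivisors.ne_zero hb)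
      exact ⟨_, ⟨c, mem_nonZeroDivisors_of_ne_zero hc0, rfl⟩, r, hc⟩
  haveI : FiniteDimensional (FractionRing P) (FractionRing R) :=
    Module.Finite.of_isLocalization P R (nonZeroDivisors P)
  set ι := algebraMap P (FractionRing P)
  have hι : Function.Injective ι := IsFractionRing.injective P _
  let t : R → FractionRing P := fun b =>
    Algebra.trace (FractionRing P) (FractionRing R) (algebraMap R (FractionRing R) b)
  let m : R → ℕ := fun b => Module.finrank
    (IntermediateField.adjoin (FractionRing P) {algebraMap R (FractionRing R) b}) (FractionRing R)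
  let q : R → P := fun b => (m b : P) * -(minpoly P b).nextCoeff
  have hq : ∀ b, ι (q b) = t b := by
    intro b
    simp only [t, q]
    rw [trace_eq_finrank_mul_minpoly_nextCoeff,
      minpoly.isIntegrallyClosed_eq_field_fractions (FractionRing P) (FractionRing R) (hi' b),
      Polynomial.nextCoeff_map hι, map_mul, map_natCast, map_neg]
  have hlin : ∀ (p : P) b, t (p • b) = ι p * t b := by
    intro p b
    simp only [t]
    rw [Algebra.smul_def, map_mul, ← IsScalarTower.algebraMap_apply P R (FractionRing R),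
      IsScalarTower.algebraMap_apply P (FractionRing P) (FractionRing R), ← Algebra.smul_def,
      map_smul, smul_eq_mul]
  refine ⟨{ toFun := q, map_add' := fun a b => hι ?_, map_smul' := fun p b => hι ?_ }, ?_, ?_⟩
  · rw [map_add, hq, hq, hq]; simp [t, map_add]
  · rw [hq, hlin, RingHom.id_apply, smul_eq_mul, map_mul, hq]
  · intro b hb
    obtain ⟨c, r, hc0, hr⟩ := hden b hb
    refine ⟨r, fun h0 => hc0 ?_⟩
    have h1 := congrArg ι (show q (b * r) = 0 from h0)
    rw [hq, map_zero, ← hr] at h1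
    simp only [t] at h1
    rw [← IsScalarTower.algebraMap_apply P R (FractionRing R),
      IsScalarTower.algebraMap_apply P (FractionRing P) (FractionRing R),
      Algebra.trace_algebraMap, nsmul_eq_mul, mul_eq_zero] at h1
    refine hι ?_
    rw [map_zero]
    exact h1.resolve_left (by exact_mod_cast Module.finrank_pos.ne')
  · intro b
    set F := minpoly P b
    refine ⟨(m b : ℝ) * F.natDegree, by positivity, fun y B hB => ?_⟩
    show ‖MvPolynomial.eval y ((m b : P) * -F.nextCoeff)‖ ≤ _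
    have hmon : (F.map (MvPolynomial.eval y)).Monic := (minpoly.monic (hi' b)).map _
    have hnext : MvPolynomial.eval y F.nextCoeff = (F.map (MvPolynomial.eval y)).nextCoeff := by
      have hd : (F.map (MvPolynomial.eval y)).natDegree = F.natDegree :=
        (minpoly.monic (hi' b)).natDegree_map _
      simp only [Polynomial.nextCoeff, hd]
      split <;> simp
    rw [map_mul, map_natCast, map_neg, norm_mul, norm_neg, hnext,
      (IsAlgClosed.splits _).nextCoeff_eq_neg_sum_roots_of_monic hmon, norm_neg,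
      Complex.norm_natCast, mul_assoc]
    refine mul_le_mul_of_nonneg_left ?_ (Nat.cast_nonneg _)
    refine (norm_multiset_sum_le _).trans ((Multiset.sum_le_card_nsmul _ B ?_).trans (le_of_eq ?_))
    · intro a ha
      obtain ⟨r, hr, rfl⟩ := Multiset.mem_map.1 ha
      obtain ⟨ψ, hψ, rfl⟩ := exists_over_eq_root g halg hg hi y b r (Polynomial.isRoot_of_mem_roots hr)
      exact hB ψ hψ
    · rw [nsmul_eq_mul, Multiset.card_map, IsAlgClosed.card_roots_eq_natDegree,
        (minpoly.monic (hi' b)).natDegree_map]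

end Groth.ZetaAn
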