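import Groth.Agent.ZetaAn.SlicePoints
import Mathlib

/-! Hypersurface models of finite type domains, with a smooth point for every general homomorphism. -/

set_option autoImplicit false
set_option linter.style.haveILetI false

universe u v w

open Polynomial

namespace Groth.ZetaAn

variable {R : Type u} [CommRing R] {n : ℕ}

/-- Evaluation of a bivariate presentation. -/
noncomputable def evS {L : Type*} [CommRing L] (φ : R →+* L) (pt : Option (Fin n) → L) :
    (MvPolynomial (Fin n) R)[X] →+* L :=
  eval₂RingHom (MvPolynomial.eval₂Hom φ (pt ∘ some)) (pt none)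

lemma evS_optionEquivLeft {L : Type*} [CommRing L] (φ : R →+* L) (pt : Option (Fin n) → L)
    (p : MvPolynomial (Option (Fin n)) R) :
    evS φ pt (MvPolynomial.optionEquivLeft R (Fin n) p) = MvPolynomial.eval₂ φ pt p := by
  induction p using MvPolynomial.induction_on with
  | C a => simp [evS]
  | add p q hp hq => simp [hp, hq]
  | mul_X p i hp => rcases i with _ | i <;> simp [hp, map_mul] <;> simp [evS]

lemma derivative_optionEquivLeft (p : MvPolynomial (Option (Fin n)) R) :
    derivative (MvPolynomial.optionEquivLeft R (Fin n) p) =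
      MvPolynomial.optionEquivLeft R (Fin n) (MvPolynomial.pderiv none p) := by
  induction p using MvPolynomial.induction_on with
  | C a => simp
  | add p q hp hq => simp [hp, hq]
  | mul_X p i hp =>
    rcases i with _ | i
    · simp [derivative_mul, hp, MvPolynomial.pderiv_X_self]
      ring
    · simp [derivative_mul, hp, MvPolynomial.pderiv_X_of_ne]
      try ring

/-- The conclusion of the model theorem. -/
def HasModel (R : Type u) [CommRing R] (A : Type v) [CommRing A] [Algebra R A] (n : ℕ) : Prop :=
  ∃ (f h : MvPolynomial (Option (Fin n)) R) (g : A), g ≠ 0 ∧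
    (∀ (F : Type w) [Field F] (φ : R →+* F) (ω : A →+* F), ω.comp (algebraMap R A) = φ → ω g ≠ 0 →
      ∃ v : Option (Fin n) → F, MvPolynomial.eval₂ φ v f = 0 ∧
        MvPolynomial.eval₂ φ v (MvPolynomial.pderiv none f) ≠ 0 ∧ MvPolynomial.eval₂ φ v h ≠ 0) ∧
    ∀ (F : Type w) [Field F] (φ : R →+* F),
      ∃ Φ : ↥(offZeros (MvPolynomial.map φ f) (MvPolynomial.map φ h)) → (A →+* F),
        Function.Injective Φ ∧ ∀ v, (Φ v).comp (algebraMap R A) = φ

section
variable [IsDomain R] {A : Type v} [CommRing A] [IsDomain A] [Algebra R A] [Algebra.FiniteType R A]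
  {K0 : Type*} [Field K0] [Algebra R K0] [IsFractionRing R K0]
  {K : Type*} [Field K] [Algebra A K] [IsFractionRing A K] [Algebra R K] [Algebra K0 K]
  [IsScalarTower R A K] [IsScalarTower R K0 K]

/-- Elements of the subfield generated by independent elements are fractions of polynomials. -/
lemma exists_fraction {x : Fin n → K} (hx : Function.Injective (MvPolynomial.aeval (R := R) x))
    {y : K} (hy : y ∈ IntermediateField.adjoin K0 (Set.range x)) :
    ∃ p s : MvPolynomial (Fin n) R, MvPolynomial.aeval x s ≠ 0 ∧
      y * MvPolynomial.aeval x s = MvPolynomial.aeval x p := by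
  induction hy using IntermediateField.adjoin_induction with
  | mem z hz =>
    obtain ⟨i, rfl⟩ := hz
    exact ⟨MvPolynomial.X i, 1, by simp, by simp⟩
  | algebraMap c =>
    obtain ⟨a, b, hb, rfl⟩ := IsFractionRing.div_surjective R c
    refine ⟨MvPolynomial.C a, MvPolynomial.C b, ?_, ?_⟩
    · rw [MvPolynomial.aeval_C, IsScalarTower.algebraMap_apply R K0 K]
      exact (_root_.map_ne_zero _).2 (IsFractionRing.to_map_ne_zero_of_mem_nonZeroDivisors hb)
    · have hb' : algebraMap R K0 b ≠ 0 := IsFractionRing.to_map_ne_zero_of_mem_nonZeroDivisors hb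
      rw [MvPolynomial.aeval_C, MvPolynomial.aeval_C, IsScalarTower.algebraMap_apply R K0 K,
        IsScalarTower.algebraMap_apply R K0 K, ← map_mul, div_mul_cancel₀ _ hb']
  | add a b _ _ ha hb =>
    obtain ⟨p, s, hs, he⟩ := ha
    obtain ⟨p', s', hs', he'⟩ := hb
    refine ⟨p * s' + p' * s, s * s', by rw [map_mul]; exact mul_ne_zero hs hs', ?_⟩
    simp only [map_mul, map_add]
    linear_combination (MvPolynomial.aeval x s') * he + (MvPolynomial.aeval x s) * he'
  | inv a _ ha =>
    obtain ⟨p, s, hs, he⟩ := ha
    rcases eq_or_ne a 0 with rfl | ha0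
    · exact ⟨0, 1, by simp, by simp⟩
    refine ⟨s, p, ?_, ?_⟩
    · rw [← he]; exact mul_ne_zero ha0 hs
    · rw [← he, inv_mul_cancel_left₀ ha0]
  | mul a b _ _ ha hb =>
    obtain ⟨p, s, hs, he⟩ := ha
    obtain ⟨p', s', hs', he'⟩ := hb
    refine ⟨p * p', s * s', by rw [map_mul]; exact mul_ne_zero hs hs', ?_⟩
    simp only [map_mul]
    rw [← he, ← he']
    ring

set_option maxHeartbeats 1000000 in
theorem hasModel_of_separable (x : Fin n → K)
    (hx : Function.Injective (MvPolynomial.aeval (R := R) x))
    [FiniteDimensional (IntermediateField.adjoin K0 (Set.range x)) K]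
    [Algebra.IsSeparable (IntermediateField.adjoin K0 (Set.range x)) K] :
    HasModel.{u, v, w} R A n := by
  classical
  set E := IntermediateField.adjoin K0 (Set.range x) with hE
  let j : MvPolynomial (Fin n) R →+* K := (MvPolynomial.aeval (R := R) x).toRingHom
  have hjE : ∀ p, j p ∈ E := by
    intro p
    induction p using MvPolynomial.induction_on with
    | C a =>
      simp only [j, AlgHom.toRingHom_eq_coe, RingHom.coe_coe, MvPolynomial.aeval_C]
      rw [IsScalarTower.algebraMap_apply R K0 K]
      exact E.algebraMap_mem _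
    | add p q hp hq => rw [map_add]; exact add_mem hp hq
    | mul_X p i hp =>
      rw [map_mul]
      exact mul_mem hp (by simpa [j] using IntermediateField.subset_adjoin K0 _ (Set.mem_range_self i))
  let jE : MvPolynomial (Fin n) R →+* E := j.codRestrict E hjE
  have hjEinj : Function.Injective jE := fun a b h => hx (congrArg Subtype.val h)
  obtain ⟨θ₀, hθ₀⟩ := Field.exists_primitive_element E K
  have hint0 : IsIntegral E θ₀ := IsIntegral.of_finite E θ₀
  set μ := minpoly E θ₀
  have hfr : ∀ i, ∃ p s : MvPolynomial (Fin n) R, j s ≠ 0 ∧ (μ.coeff i : K) * j s = j p := fun i =>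
    exists_fraction hx (μ.coeff i).2
  choose P S hS hPS using hfr
  let c : MvPolynomial (Fin n) R := ∏ i ∈ Finset.range μ.natDegree, S i
  have hc : jE c ≠ 0 := fun h => by
    have h' := congrArg Subtype.val h
    change j c = 0 at h'
    rw [map_prod, Finset.prod_eq_zero_iff] at h'
    obtain ⟨i, -, hi⟩ := h'
    exact hS i hi
  have hc' : j c ≠ 0 := fun h => hc (Subtype.ext h)
  have hlift : μ.scaleRoots (jE c) ∈ Polynomial.lifts jE := by
    rw [lifts_iff_coeff_lifts]
    intro i
    rw [coeff_scaleRoots]
    rcases lt_trichotomy i μ.natDegree with hi | rfl | hi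
    · refine ⟨P i * (∏ k ∈ (Finset.range μ.natDegree).erase i, S k) * c ^ (μ.natDegree - i - 1), ?_⟩
      apply Subtype.ext
      change j _ = (μ.coeff i : K) * (j c) ^ (μ.natDegree - i)
      rw [map_mul, map_mul, map_pow, ← hPS i, mul_assoc (μ.coeff i : K) (j (S i)), ← map_mul j (S i),
        Finset.mul_prod_erase _ _ (Finset.mem_range.2 hi), mul_assoc, ← pow_succ',
        Nat.sub_add_cancel (by omega)]
    · refine ⟨1, ?_⟩
      rw [map_one, (minpoly.monic hint0).coeff_natDegree, one_mul, Nat.sub_self, pow_zero]
    · exact ⟨0, by rw [map_zero, coeff_eq_zero_of_natDegree_lt hi, zero_mul]⟩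
  obtain ⟨fS, hfS, hfdeg, hfmon⟩ :=
    lifts_and_natDegree_eq_and_monic hlift ((monic_scaleRoots_iff _).2 (minpoly.monic hint0))
  set θ : K := j c * θ₀ with hθdef
  have hθroot : aeval θ (fS.map jE) = 0 := by
    rw [hfS]
    exact scaleRoots_aeval_eq_zero (r := jE c) (minpoly.aeval E θ₀)
  have hθtop : IntermediateField.adjoin E ({θ} : Set K) = ⊤ := by
    rw [eq_top_iff, ← hθ₀, IntermediateField.adjoin_simple_le_iff]
    have h1 : j c ∈ IntermediateField.adjoin E ({θ} : Set K) :=
      IntermediateField.algebraMap_mem _ (jE c)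
    have := IntermediateField.mul_mem _ (IntermediateField.inv_mem _ h1)
      (IntermediateField.mem_adjoin_simple_self E θ)
    rwa [hθdef, inv_mul_cancel_left₀ hc'] at this
  have hintθ : IsIntegral E θ := IsIntegral.of_finite E θ
  have hfmin : fS.map jE = minpoly E θ := by
    refine eq_of_monic_of_dvd_of_natDegree_le (minpoly.monic hintθ) (hfmon.map _)
      (minpoly.dvd E θ hθroot) ?_
    rw [hfS, natDegree_scaleRoots, ← IntermediateField.adjoin.finrank hintθ, hθtop, ← hθ₀,
      IntermediateField.adjoin.finrank hint0]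
  let pK : Option (Fin n) → K := fun i => i.elim θ x
  let evK : (MvPolynomial (Fin n) R)[X] →+* K := evS (algebraMap R K) pK
  have hevK : ∀ p, evK p = aeval θ (p.map jE) := by
    intro p
    rw [aeval_def, eval₂_map]
    rfl
  have hker : ∀ p, evK p = 0 → fS ∣ p := by
    intro p hp
    rw [hevK] at hp
    have := minpoly.dvd E θ hp
    rw [← hfmin] at this
    exact (map_dvd_map jE hjEinj hfmon).1 this
  have hfrac : ∀ y : K, ∃ (p : (MvPolynomial (Fin n) R)[X]) (s : MvPolynomial (Fin n) R),
      j s ≠ 0 ∧ y * j s = evK p := by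
    intro y
    have hy : y ∈ Algebra.adjoin E ({θ} : Set K) := by
      rw [← IntermediateField.adjoin_simple_toSubalgebra_of_isAlgebraic hintθ.isAlgebraic, hθtop]
      trivial
    induction hy using Algebra.adjoin_induction with
    | mem z hz =>
      rw [Set.mem_singleton_iff.1 hz]
      exact ⟨X, 1, by simp, by rw [map_one, mul_one]; simp [evK, evS, pK]⟩
    | algebraMap e =>
      obtain ⟨p, s, hs, he⟩ := exists_fraction hx e.2
      exact ⟨C p, s, hs, he.trans (by simp [evK, evS, pK]; rfl)⟩
    | add a b _ _ ha hb =>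
      obtain ⟨p, s, hs, he⟩ := ha
      obtain ⟨p', s', hs', he'⟩ := hb
      refine ⟨p * C s' + p' * C s, s * s', by rw [map_mul]; exact mul_ne_zero hs hs', ?_⟩
      have e1 : ∀ t, evK (C t) = j t := fun t => by rw [hevK, map_C, aeval_C]; rfl
      simp only [map_add, map_mul, e1]
      rw [← he, ← he']
      ring
    | mul a b _ _ ha hb =>
      obtain ⟨p, s, hs, he⟩ := ha
      obtain ⟨p', s', hs', he'⟩ := hb
      refine ⟨p * p', s * s', by rw [map_mul]; exact mul_ne_zero hs hs', ?_⟩
      rw [map_mul, map_mul, ← he, ← he']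
      ring
  have e1 : ∀ t, evK (C t) = j t := fun t => by rw [hevK, map_C, aeval_C]; rfl
  obtain ⟨G, hG⟩ := (‹Algebra.FiniteType R A›).out
  choose PG SG hSG hPG using fun y : K => hfrac y
  -- common denominator of the coordinates, in `A`
  obtain ⟨b, hb⟩ := IsLocalization.exist_integer_multiples (nonZeroDivisors A) Finset.univ pK
  choose num hnum using fun i => hb i (Finset.mem_univ i)
  have hb0 : algebraMap A K b ≠ 0 := IsFractionRing.to_map_ne_zero_of_mem_nonZeroDivisors b.2
  let s : MvPolynomial (Fin n) R := (∏ a ∈ G, SG (algebraMap A K a)) * SG (algebraMap A K b)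
  have hs : j s ≠ 0 := by
    rw [map_mul, map_prod]
    exact mul_ne_zero (Finset.prod_ne_zero_iff.2 fun a _ => hSG _) (hSG _)
  let hS' : (MvPolynomial (Fin n) R)[X] := C s * PG (algebraMap A K b)
  have hh'0 : evK hS' ≠ 0 := by
    rw [map_mul, e1, ← hPG]
    exact mul_ne_zero hs (mul_ne_zero hb0 (hSG _))
  have hsepθ : evK (derivative fS) ≠ 0 := by
    rw [hevK, ← derivative_map, hfmin]
    exact (Algebra.IsSeparable.isSeparable E θ).aeval_derivative_ne_zero (minpoly.aeval E θ)
  set y := (evK hS' * evK (derivative fS))⁻¹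
  obtain ⟨b', hb'⟩ := IsLocalization.exist_integer_multiples (nonZeroDivisors A) Finset.univ
    (fun i : Option (Option (Fin n)) => i.elim y pK)
  choose num' hnum' using fun i => hb' i (Finset.mem_univ i)
  refine ⟨(MvPolynomial.optionEquivLeft R (Fin n)).symm fS,
    (MvPolynomial.optionEquivLeft R (Fin n)).symm hS', b'.1, ?_, ?_, ?_⟩
  · exact fun h => (IsFractionRing.to_map_ne_zero_of_mem_nonZeroDivisors (K := K) b'.2)
      (by rw [h, map_zero])
  · intro F _ φ ω hω hωg
    subst hω
    let L := Localization.Away b'.1
    have hu : IsUnit (algebraMap A K b'.1) :=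
      (IsFractionRing.to_map_ne_zero_of_mem_nonZeroDivisors (K := K) b'.2).isUnit
    let lK : L →+* K := IsLocalization.Away.lift b'.1 hu
    let lF : L →+* F := IsLocalization.Away.lift b'.1 (isUnit_iff_ne_zero.2 hωg)
    have hlK : Function.Injective lK := by
      refine IsLocalization.lift_injective_iff (S := L) _ |>.2 fun x y => ⟨fun h => ?_, fun h => ?_⟩
      · have := congrArg lK h
        rwa [IsLocalization.Away.lift_eq, IsLocalization.Away.lift_eq] at this
      · rw [IsFractionRing.injective A K h]
    let q : Option (Option (Fin n)) → L := fun i =>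
      algebraMap A L (num' i) * IsLocalization.Away.invSelf b'.1
    have hq : ∀ i, lK (q i) = i.elim y pK := by
      intro i
      apply mul_left_cancel₀ hu.ne_zero
      conv_rhs => rw [← Algebra.smul_def]
      rw [← hnum' i, map_mul, IsLocalization.Away.lift_eq, ← IsLocalization.Away.lift_eq (S := L) b'.1 hu b'.1,
        mul_left_comm, ← map_mul, IsLocalization.Away.mul_invSelf (S := L), map_one, mul_one]
    let evL : (MvPolynomial (Fin n) R)[X] →+* L :=
      evS ((algebraMap A L).comp (algebraMap R A)) (q ∘ some)
    have hcomp : lK.comp evL = evK := by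
      apply Polynomial.ringHom_ext
      · intro p
        simp only [evL, evK, evS, RingHom.comp_apply, coe_eval₂RingHom, eval₂_C]
        rw [← RingHom.comp_apply, MvPolynomial.comp_eval₂Hom]
        refine congrFun (congrArg DFunLike.coe (MvPolynomial.ringHom_ext (fun r => ?_) fun i => ?_)) p
        · rw [MvPolynomial.eval₂Hom_C, MvPolynomial.eval₂Hom_C, RingHom.comp_apply, RingHom.comp_apply,
            IsLocalization.Away.lift_eq, ← IsScalarTower.algebraMap_apply]
        · rw [MvPolynomial.eval₂Hom_X', MvPolynomial.eval₂Hom_X']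
          exact hq (some (some i))
      · simp only [evL, evK, evS, RingHom.comp_apply, coe_eval₂RingHom, eval₂_X]
        exact hq (some none)
    let evF := lF.comp evL
    refine ⟨fun i => lF (q (some i)), ?_⟩
    have hevF : ∀ p, MvPolynomial.eval₂ (ω.comp (algebraMap R A)) (fun i => lF (q (some i))) p =
        lF (evL (MvPolynomial.optionEquivLeft R (Fin n) p)) := by
      intro p
      rw [evS_optionEquivLeft]
      change MvPolynomial.eval₂Hom _ _ p = lF (MvPolynomial.eval₂Hom _ _ p)
      rw [← RingHom.comp_apply lF, MvPolynomial.comp_eval₂Hom, ← RingHom.comp_assoc,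
        IsLocalization.Away.lift_comp]
      rfl
    rw [hevF, hevF, hevF, ← derivative_optionEquivLeft, AlgEquiv.apply_symm_apply,
      AlgEquiv.apply_symm_apply]
    have hroot : evL fS = 0 := hlK (by
      rw [← RingHom.comp_apply, hcomp, map_zero, hevK]; exact hθroot)
    have hprod : evL hS' * evL (derivative fS) * q none = 1 := hlK (by
      rw [map_mul, map_mul, ← RingHom.comp_apply, ← RingHom.comp_apply, hcomp, hq, map_one]
      exact mul_inv_cancel₀ (mul_ne_zero hh'0 hsepθ))
    have hp' := congrArg lF hprod
    rw [map_mul, map_mul, map_one] at hp'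
    refine ⟨by rw [hroot, map_zero], fun h => ?_, fun h => ?_⟩
    · rw [h, mul_zero, zero_mul] at hp'; exact zero_ne_one hp'
    · rw [h, zero_mul, zero_mul] at hp'; exact zero_ne_one hp'
  · intro F _ φ
    set Z := offZeros (MvPolynomial.map φ ((MvPolynomial.optionEquivLeft R (Fin n)).symm fS))
      (MvPolynomial.map φ ((MvPolynomial.optionEquivLeft R (Fin n)).symm hS'))
    have hZ : ∀ v : ↥Z, evS φ v.1 fS = 0 ∧ evS φ v.1 hS' ≠ 0 := fun v => by
      obtain ⟨h1, h2⟩ := v.2
      rw [MvPolynomial.eval_map, ← evS_optionEquivLeft, AlgEquiv.apply_symm_apply] at h1 h2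
      exact ⟨h1, h2⟩
    let Q := Localization.Away (C s : (MvPolynomial (Fin n) R)[X])
    have hus : IsUnit (evK (C s)) := by rw [e1]; exact hs.isUnit
    let qK : Q →+* K := IsLocalization.Away.lift (C s) hus
    have huv : ∀ v : ↥Z, IsUnit (evS φ v.1 (C s)) := fun v => by
      have := (hZ v).2
      rw [map_mul] at this
      exact (left_ne_zero_of_mul this).isUnit
    let qF : ↥Z → (Q →+* F) := fun v => IsLocalization.Away.lift (C s) (huv v)
    have hkerle : ∀ v, RingHom.ker qK ≤ RingHom.ker (qF v) := by
      intro v z hz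
      obtain ⟨m, a, rfl⟩ : ∃ (m : Submonoid.powers (C s : (MvPolynomial (Fin n) R)[X]))
          (a : (MvPolynomial (Fin n) R)[X]), IsLocalization.mk' Q a m = z := by
        obtain ⟨a, m, h⟩ := IsLocalization.exists_mk'_eq (Submonoid.powers
          (C s : (MvPolynomial (Fin n) R)[X])) z
        exact ⟨m, a, h⟩
      have h1 : evK a = 0 := by
        rw [RingHom.mem_ker] at hz
        have := congrArg qK (IsLocalization.mk'_spec Q a m)
        rwa [map_mul, hz, zero_mul, IsLocalization.Away.lift_eq, eq_comm] at this
      obtain ⟨d, rfl⟩ := hker a h1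
      rw [RingHom.mem_ker]
      have h2 := congrArg (qF v) (IsLocalization.mk'_spec Q (fS * d) m)
      simp only [map_mul, qF, IsLocalization.Away.lift_eq, (hZ v).1, zero_mul, mul_eq_zero] at h2
      refine h2.resolve_right ?_
      obtain ⟨k, hk⟩ := m.2
      simp only [← hk, map_pow]
      exact pow_ne_zero _ (huv v).ne_zero
    -- the image contains `A`
    let B : Subalgebra R K :=
      { qK.range.toSubsemiring with
        algebraMap_mem' := fun r => ⟨algebraMap _ Q (C (MvPolynomial.C r)), by
          rw [IsLocalization.Away.lift_eq, e1]; simp [j]⟩ }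
    have hBmem : ∀ (y : K) (t : MvPolynomial (Fin n) R) (p : (MvPolynomial (Fin n) R)[X]),
        t ∣ s → y * j t = evK p → y ∈ qK.range := by
      rintro y t p ⟨u, hu⟩ he
      refine ⟨algebraMap _ Q (p * C u) * IsLocalization.Away.invSelf (C s), ?_⟩
      apply mul_left_cancel₀ hus.ne_zero
      rw [map_mul qK, mul_left_comm, ← IsLocalization.Away.lift_eq (S := Q) (C s) hus (C s), ← map_mul,
        IsLocalization.Away.mul_invSelf (S := Q), map_one, mul_one, IsLocalization.Away.lift_eq,
        IsLocalization.Away.lift_eq, map_mul, e1, e1, ← he, hu, map_mul]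
      ring
    have hAB : ∀ a : A, algebraMap A K a ∈ B := by
      intro a
      have ha : a ∈ Algebra.adjoin R (G : Set A) := by rw [hG]; trivial
      have hle : Algebra.adjoin R (G : Set A) ≤ B.comap (IsScalarTower.toAlgHom R A K) :=
        Algebra.adjoin_le fun g hg => hBmem _ _ _
          ((Finset.dvd_prod_of_mem (fun a => SG (algebraMap A K a)) hg).trans (Dvd.intro _ rfl))
          (hPG (algebraMap A K g))
      exact hle ha
    let ι : A →+* qK.range := (algebraMap A K).codRestrict qK.range hAB
    let Φ : ↥Z → (A →+* F) := fun v =>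
      (RingHom.liftOfSurjective qK.rangeRestrict qK.rangeRestrict_surjective
        ⟨qF v, by rw [RingHom.ker_rangeRestrict]; exact hkerle v⟩).comp ι
    have hΦval : ∀ v (a : A) (p : (MvPolynomial (Fin n) R)[X]) (t : MvPolynomial (Fin n) R),
        algebraMap A K a * j t = evK p → Φ v a * evS φ v.1 (C t) = evS φ v.1 p := by
      intro v a p t he
      let Ψ := RingHom.liftOfSurjective qK.rangeRestrict qK.rangeRestrict_surjective
        ⟨qF v, by rw [RingHom.ker_rangeRestrict]; exact hkerle v⟩
      have hΨ : ∀ z, Ψ (qK.rangeRestrict z) = qF v z := fun z =>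
        RingHom.liftOfRightInverse_comp_apply _ _ _ _ z
      have hι : ι a * qK.rangeRestrict (algebraMap _ Q (C t)) = qK.rangeRestrict (algebraMap _ Q p) := by
        apply Subtype.ext
        change algebraMap A K a * qK (algebraMap _ Q (C t)) = qK (algebraMap _ Q p)
        rw [IsLocalization.Away.lift_eq, IsLocalization.Away.lift_eq, e1, he]
      have := congrArg Ψ hι
      rw [map_mul, hΨ, hΨ, IsLocalization.Away.lift_eq, IsLocalization.Away.lift_eq] at this
      exact this
    refine ⟨Φ, fun v v' hvv => ?_, fun v => RingHom.ext fun r => ?_⟩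
    · have hbne : ∀ w : ↥Z, Φ w b.1 ≠ 0 := by
        intro w h0
        have := hΦval w b.1 _ _ (hPG (algebraMap A K b))
        rw [h0, zero_mul, eq_comm] at this
        exact (hZ w).2 (by rw [map_mul, this, mul_zero])
      have hcoord : ∀ (w : ↥Z) (i : Option (Fin n)), w.1 i * Φ w b.1 = Φ w (num i) := by
        intro w i
        have hpi : pK i = evK (i.elim X fun k => C (MvPolynomial.X k)) := by
          rcases i with _ | k
          · simp [evK, evS, pK]
          · simp [evK, evS, pK]
        have hwi : w.1 i = evS φ w.1 (i.elim X fun k => C (MvPolynomial.X k)) := by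
          rcases i with _ | k <;> simp [evS]
        have h1 := hΦval w b.1 _ _ (hPG (algebraMap A K b))
        have h2 := hΦval w (num i) ((i.elim X fun k => C (MvPolynomial.X k)) * PG (algebraMap A K b))
          (SG (algebraMap A K b)) (by
            rw [hnum i, Algebra.smul_def, map_mul, ← hPG, ← hpi]; ring)
        rw [map_mul, ← h1, ← hwi, ← mul_assoc] at h2
        have hne : evS φ w.1 (C (SG (algebraMap A K b))) ≠ 0 := by
          have := (hZ w).2
          rw [map_mul, map_mul C, map_mul] at this
          exact right_ne_zero_of_mul (left_ne_zero_of_mul this)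
        exact (mul_right_cancel₀ hne h2).symm
      apply Subtype.ext
      funext i
      have e := hcoord v i
      rw [hvv, ← hcoord v' i] at e
      exact mul_right_cancel₀ (hbne v') e
    · have := hΦval v (algebraMap R A r) (C (MvPolynomial.C r)) 1 (by
        rw [map_one, mul_one, e1, ← IsScalarTower.algebraMap_apply]; simp [j])
      rw [map_one, map_one, mul_one] at this
      rw [RingHom.comp_apply, this]
      simp [evS]

end

/-- Finite type domains over a domain with perfect fraction field have models. -/
theorem exists_hasModel (R : Type u) [CommRing R] [IsDomain R] (A : Type u) [CommRing A] [IsDomain A]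
    [Algebra R A] [FaithfulSMul R A] [Algebra.FiniteType R A] [PerfectField (FractionRing R)] :
    ∃ n : ℕ, Algebra.trdeg R A ≤ n ∧ HasModel.{u, u, w} R A n := by
  haveI : FaithfulSMul R (FractionRing A) := FaithfulSMul.trans R A _
  letI := FractionRing.liftAlgebra R (FractionRing A)
  haveI : Algebra.EssFiniteType R (FractionRing A) := Algebra.EssFiniteType.comp R A _
  haveI : Algebra.EssFiniteType (FractionRing R) (FractionRing A) :=
    Algebra.EssFiniteType.of_comp R _ _
  obtain ⟨s, hs, hsep⟩ :=
    exists_isTranscendenceBasis_and_isSeparable_of_perfectField (FractionRing R) (FractionRing A)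
  let x : Fin s.card → FractionRing A := fun i => (s.equivFin.symm i).1
  have hrange : Set.range x = (s : Set (FractionRing A)) := by
    ext z
    exact ⟨by rintro ⟨i, rfl⟩; exact (s.equivFin.symm i).2, fun hz => ⟨s.equivFin ⟨z, hz⟩, by simp [x]⟩⟩
  have hx : IsTranscendenceBasis (FractionRing R) x := hs.comp_equiv s.equivFin.symm
  rw [← hrange] at hsep
  haveI := hsep
  haveI : Algebra.EssFiniteType (IntermediateField.adjoin (FractionRing R) (Set.range x))
      (FractionRing A) := Algebra.EssFiniteType.of_comp (FractionRing R) _ _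
  haveI : FiniteDimensional (IntermediateField.adjoin (FractionRing R) (Set.range x))
      (FractionRing A) :=
    Algebra.finite_of_essFiniteType_of_isAlgebraic
  have hinj : Function.Injective (MvPolynomial.aeval (R := R) x) :=
    hx.1.restrictScalars (IsFractionRing.injective R (FractionRing R))
  refine ⟨s.card, ?_, hasModel_of_separable (A := A) (K0 := FractionRing R) x hinj⟩
  haveI : Algebra.IsAlgebraic R (FractionRing R) := IsLocalization.isAlgebraic _ (nonZeroDivisors R)
  have h1 := trdeg_le_of_injective (IsScalarTower.toAlgHom R A (FractionRing A))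
    (IsFractionRing.injective A _)
  have h2 := trdeg_add_eq R (FractionRing R) (A := FractionRing A)
  have h3 := hx.lift_cardinalMk_eq_trdeg
  rw [Cardinal.mk_fintype, Fintype.card_fin, Cardinal.lift_natCast, Cardinal.lift_id'] at h3
  rw [trdeg_eq_zero, zero_add, ← h3] at h2
  rwa [← h2] at h1

end Groth.ZetaAn
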