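import Groth.Agent.ZetaAn.CountPts

/-! Finitely generated rings: number of points in finite fields is bounded by the dimension. -/

set_option autoImplicit false
set_option linter.style.haveILetI false

open MvPolynomial nonZeroDivisors TensorProduct

namespace Groth.ZetaAn

universe u v

lemma finiteType_int_of_surjective {A : Type u} [CommRing A] [Algebra.FiniteType ℤ A]
    {B : Type v} [CommRing B] (f : A →+* B) (hf : Function.Surjective f) :
    @Algebra.FiniteType ℤ B _ _ (Ring.toIntAlgebra B) :=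
  Algebra.FiniteType.of_surjective f.toIntAlgHom hf

lemma natCast_le_of_chain {B : Type*} [CommRing B] {r : ℕ} (hr : ringKrullDim B ≤ r)
    (l : LTSeries (PrimeSpectrum B)) : l.length ≤ r := by
  have := le_trans (Order.LTSeries.length_le_krullDim l) hr
  exact_mod_cast this

lemma exists_fin_generators (A : Type u) [CommRing A] [Algebra.FiniteType ℤ A] :
    ∃ (n : ℕ) (a : Fin n → A), Subring.closure (Set.range a) = ⊤ := by
  obtain ⟨n, f, hf⟩ := Algebra.FiniteType.iff_quotient_mvPolynomial''.1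
    (inferInstance : Algebra.FiniteType ℤ A)
  refine ⟨n, fun i => f (X i), eq_top_iff.2 fun x _ => ?_⟩
  obtain ⟨p, rfl⟩ := hf x
  clear * -
  induction p using MvPolynomial.induction_on with
  | C z =>
    rw [show f (C z) = (z : A) by simp]
    exact intCast_mem _ z
  | add p q hp hq => rw [map_add]; exact add_mem hp hq
  | mul_X p i hp => rw [map_mul]; exact mul_mem hp (Subring.subset_closure ⟨i, rfl⟩)

/-- The bound for homomorphisms to finite fields of a given characteristic. -/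
lemma exists_bound_prime (A : Type u) [CommRing A] [Algebra.FiniteType ℤ A] (r : ℕ)
    (hr : ringKrullDim A ≤ r) (p : ℕ) [Fact p.Prime] :
    ∃ c : ℕ, ∀ (F : Type v) [Field F] [Finite F], (p : F) = 0 →
      Finite (A →+* F) ∧ Nat.card (A →+* F) ≤ c * Nat.card F ^ r := by
  classical
  set I : Ideal A := Ideal.span {(p : A)}
  have hfac : ∀ (F : Type v) [Field F], (p : F) = 0 → ∀ φ : A →+* F, ∀ x ∈ I, φ x = 0 := by
    intro F _ hp φ x hx
    obtain ⟨y, rfl⟩ := Ideal.mem_span_singleton.1 hx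
    rw [map_mul, map_natCast, hp, zero_mul]
  rcases subsingleton_or_nontrivial (A ⧸ I) with hsub | hnt
  · refine ⟨0, fun F _ _ hp => finite_and_card_le _ fun s => ?_⟩
    rw [Nat.zero_mul, Nat.le_zero, Finset.card_eq_zero, Finset.eq_empty_iff_forall_notMem]
    intro φ _
    exact one_ne_zero (by rw [← map_one φ, hfac F hp φ 1 (Ideal.Quotient.eq_zero_iff_mem.1 (Subsingleton.elim _ _))] :
      (1 : F) = 0)
  have hp0 : (p : A ⧸ I) = 0 :=
    (map_natCast (Ideal.Quotient.mk I) p).symm.trans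
      (Ideal.Quotient.eq_zero_iff_mem.2 (Ideal.subset_span rfl))
  haveI : CharP (A ⧸ I) p := (CharP.charP_iff_prime_eq_zero Fact.out).2 hp0
  letI : Algebra (ZMod p) (A ⧸ I) := ZMod.algebra _ p
  haveI hft := finiteType_int_of_surjective (Ideal.Quotient.mk I) Ideal.Quotient.mk_surjective
  haveI : Algebra.FiniteType (ZMod p) (A ⧸ I) :=
    Algebra.FiniteType.of_restrictScalars_finiteType ℤ (ZMod p) (A ⧸ I)
  obtain ⟨n, a, ha⟩ := exists_fin_generators (A ⧸ I)
  obtain ⟨s, g, hinj, hint, η, d, c, M, hM, hMK, hrel⟩ := exists_relations (K := ZMod p)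
    (RingHom.id (A ⧸ I))
    (fun {s} q => by
      obtain ⟨q', hq'⟩ := MvPolynomial.map_surjective (σ := Fin s) (Int.castRingHom (ZMod p))
        (ZMod.intCast_surjective) q
      exact ⟨1, q', one_pos, by simp, by simp [hq']⟩)
    (fun z => ⟨1, z, one_pos, by simp, by simp⟩) a
  obtain ⟨l, hl⟩ := exists_chain_of_integral_polynomial g hinj hint
  have hsr : s ≤ r := hl ▸ natCast_le_of_chain
    ((ringKrullDim_quotient_le I).trans hr) l
  refine ⟨∏ j, d j, fun F _ _ hp => ?_⟩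
  obtain ⟨hfin, hcard⟩ := card_ringHom_le η a ha M d c hrel F
  have hMF : (M : F) ≠ 0 := by
    haveI : CharP F p := (CharP.charP_iff_prime_eq_zero Fact.out).2 hp
    rw [Ne, CharP.cast_eq_zero_iff F p]
    rwa [Ne, CharP.cast_eq_zero_iff (ZMod p) p] at hMK
  let e : (A →+* F) → {φ : (A ⧸ I) →+* F // (M : F) ≠ 0} := fun φ =>
    ⟨Ideal.Quotient.lift I φ (hfac F hp φ), hMF⟩
  have he : Function.Injective e := fun φ ψ h => by
    ext x
    exact RingHom.congr_fun (congrArg Subtype.val h) (Ideal.Quotient.mk I x)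
  refine ⟨Finite.of_injective e he, (Nat.card_le_card_of_injective e he).trans (hcard.trans ?_)⟩
  exact Nat.mul_le_mul_left _ (Nat.pow_le_pow_right Nat.card_pos hsr)

/-- The bound away from finitely many characteristics. -/
lemma exists_bound_generic (A : Type u) [CommRing A] [Algebra.FiniteType ℤ A] (r : ℕ)
    (hr : ringKrullDim A ≤ r) :
    ∃ c M : ℕ, 0 < M ∧ ∀ (F : Type v) [Field F] [Finite F], (M : F) ≠ 0 →
      Finite (A →+* F) ∧ Nat.card (A →+* F) * Nat.card F ≤ c * Nat.card F ^ r := by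
  classical
  let Q := ℚ ⊗[ℤ] A
  let π : A →+* Q := (Algebra.TensorProduct.includeRight (R := ℤ) (A := ℚ) (B := A)).toRingHom
  have hsurj : ∀ z : Q, ∃ (m : ℕ) (x : A), 0 < m ∧ (m : ℚ) ≠ 0 ∧ π x = (m : Q) * z := by
    intro z
    obtain ⟨⟨x, ⟨m, hm⟩⟩, hx⟩ :=
      IsLocalizedModule.surj ℤ⁰ (TensorProduct.mk ℤ ℚ A 1) z
    have hm0 : m ≠ 0 := nonZeroDivisors.ne_zero hm
    have hx' : (m : Q) * z = π x := by
      rw [← zsmul_eq_mul]
      exact hx
    refine ⟨m.natAbs, m.sign * x, Int.natAbs_pos.2 hm0, Nat.cast_ne_zero.2 (Int.natAbs_ne_zero.2 hm0), ?_⟩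
    rw [map_mul, map_intCast, ← hx', ← mul_assoc, ← Int.cast_mul, Int.sign_mul_self_eq_natAbs,
      Int.cast_natCast]
  have htors : ∀ x : A, π x = 0 → ∃ m : ℕ, 0 < m ∧ (m : A) * x = 0 := by
    intro x hx
    obtain ⟨⟨m, hm⟩, hmx⟩ := (IsLocalizedModule.eq_zero_iff ℤ⁰ (TensorProduct.mk ℤ ℚ A 1)).1
      (show TensorProduct.mk ℤ ℚ A 1 x = 0 from hx)
    have hm0 : m ≠ 0 := nonZeroDivisors.ne_zero hm
    have hmx' : (m : A) * x = 0 := by rw [← zsmul_eq_mul]; exact hmx
    refine ⟨m.natAbs, Int.natAbs_pos.2 hm0, ?_⟩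
    rw [← Int.cast_natCast, ← Int.sign_mul_self_eq_natAbs, Int.cast_mul, mul_assoc, hmx', mul_zero]
  rcases subsingleton_or_nontrivial Q with hsub | hnt
  · obtain ⟨m, hm, hm1⟩ := htors 1 (Subsingleton.elim _ _)
    refine ⟨0, m, hm, fun F _ _ hmF => ?_⟩
    have : IsEmpty (A →+* F) := ⟨fun φ => hmF (by
      have := congrArg φ hm1
      rwa [mul_one, map_natCast, map_zero] at this)⟩
    simp
    infer_instance
  obtain ⟨n, a, ha⟩ := exists_fin_generators A
  obtain ⟨s, g, hinj, hint, η, d, c, M, hM, hMK, hrel⟩ := exists_relations (K := ℚ) π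
    (fun {s} q => by
      obtain ⟨m, q', hm, hq⟩ := exists_int_smul_eq_map (K := ℚ) (fun x => ⟨x, rfl⟩) q
      exact ⟨m, q', hm, Nat.cast_ne_zero.2 hm.ne', hq⟩) hsurj a
  choose μ hμ hμrel using fun j => htors _ (hrel j)
  obtain ⟨l, hl⟩ := exists_chain_of_integral_polynomial g hinj hint
  -- primes of `Q` are determined by their traces on `A`, none of which is maximal
  have hmono : StrictMono (PrimeSpectrum.comap π) := by
    refine Monotone.strictMono_of_injective (fun P P' h => Ideal.comap_mono h) fun P P' h => ?_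
    apply PrimeSpectrum.ext
    have key : ∀ (P : PrimeSpectrum Q) (z : Q) (m : ℕ) (x : A), (m : ℚ) ≠ 0 → π x = (m : Q) * z →
        (z ∈ P.asIdeal ↔ x ∈ (PrimeSpectrum.comap π P).asIdeal) := by
      intro P z m x hm hx
      rw [PrimeSpectrum.comap_asIdeal, Ideal.mem_comap, hx]
      refine ⟨fun h => P.asIdeal.mul_mem_left _ h, fun h => ?_⟩
      refine (P.isPrime.mem_or_mem h).resolve_left fun hmem => ?_
      refine P.isPrime.ne_top (Ideal.eq_top_of_isUnit_mem _ hmem ?_)
      rw [← map_natCast (algebraMap ℚ Q)]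
      exact (Ne.isUnit hm).map _
    ext z
    obtain ⟨m, x, -, hmK', hx⟩ := hsurj z
    rw [key P z m x hmK' hx, key P' z m x hmK' hx, h]
  let l' := l.map (PrimeSpectrum.comap π) hmono
  obtain ⟨𝔪, h𝔪, hle⟩ := Ideal.exists_le_maximal l'.last.asIdeal l'.last.isPrime.ne_top
  have hne : l'.last < (⟨𝔪, h𝔪.isPrime⟩ : PrimeSpectrum A) := by
    refine lt_of_le_of_ne hle fun h => ?_
    haveI := h𝔪
    letI := Ideal.Quotient.field 𝔪
    haveI hft := finiteType_int_of_surjective (Ideal.Quotient.mk 𝔪) Ideal.Quotient.mk_surjective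
    obtain ⟨p, hp, hp0⟩ := exists_natCast_eq_zero_of_finiteType (A ⧸ 𝔪)
    have h1 : (p : A) ∈ 𝔪 := Ideal.Quotient.eq_zero_iff_mem.1 ((map_natCast _ p).trans hp0)
    have h2 : (p : A) ∈ l'.last.asIdeal := by rw [h]; exact h1
    rw [LTSeries.last_map] at h2
    refine l.last.isPrime.ne_top (Ideal.eq_top_of_isUnit_mem _ h2 ?_)
    rw [map_natCast, ← map_natCast (algebraMap ℚ Q)]
    exact (Ne.isUnit (Nat.cast_ne_zero.2 hp.ne')).map _
  have hsr : s + 1 ≤ r := by
    have := natCast_le_of_chain hr (l'.snoc _ hne)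
    simp only [RelSeries.snoc_length] at this
    rwa [show l'.length = s from hl] at this
  refine ⟨∏ j, d j, M * ∏ j, μ j, mul_pos hM (Finset.prod_pos fun j _ => hμ j),
    fun F _ _ hF => ?_⟩
  have hrel' : ∀ j, ((M * ∏ l, μ l : ℕ) : A) * a j ^ d j +
      ∑ i, aeval η (((∏ l, μ l : ℕ) : MvPolynomial (Fin s) ℤ) * c j i) * a j ^ (i : ℕ) = 0 := by
    intro j
    have h := congrArg (((∏ l ∈ Finset.univ.erase j, μ l : ℕ) : A) * ·) (hμrel j)
    simp only [mul_zero, ← mul_assoc, ← Nat.cast_mul, Finset.prod_erase_mul _ _ (Finset.mem_univ j)] at h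
    rw [← h, mul_add, Finset.mul_sum]
    simp [mul_assoc, mul_left_comm]
  obtain ⟨hfin, hcard⟩ := card_ringHom_le η a ha (M * ∏ l, μ l) d _ hrel' F
  let e : (A →+* F) → {φ : A →+* F // ((M * ∏ l, μ l : ℕ) : F) ≠ 0} := fun φ => ⟨φ, hF⟩
  have he : Function.Injective e := fun φ ψ h => congrArg Subtype.val h
  refine ⟨Finite.of_injective e he, ?_⟩
  calc Nat.card (A →+* F) * Nat.card F
      ≤ (∏ j, d j) * Nat.card F ^ s * Nat.card F :=
        Nat.mul_le_mul_right _ ((Nat.card_le_card_of_injective e he).trans hcard)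
    _ ≤ (∏ j, d j) * Nat.card F ^ r := by
        rw [mul_assoc, ← pow_succ]
        exact Nat.mul_le_mul_left _ (Nat.pow_le_pow_right Nat.card_pos hsr)

/-- Combined bound. -/
theorem exists_ring_bound (A : Type u) [CommRing A] [Algebra.FiniteType ℤ A] (r : ℕ)
    (hr : ringKrullDim A ≤ r) :
    ∃ c M : ℕ, 0 < M ∧ ∀ (F : Type v) [Field F] [Finite F],
      Finite (A →+* F) ∧ Nat.card (A →+* F) ≤ c * Nat.card F ^ r ∧
        ((M : F) ≠ 0 → Nat.card (A →+* F) * Nat.card F ≤ c * Nat.card F ^ r) := by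
  classical
  obtain ⟨c₀, M, hM, h0⟩ := exists_bound_generic.{u, v} A r hr
  have hp : ∀ p : M.primeFactors, ∃ c : ℕ, ∀ (F : Type v) [Field F] [Finite F], (p.1 : F) = 0 →
      Finite (A →+* F) ∧ Nat.card (A →+* F) ≤ c * Nat.card F ^ r := fun p =>
    haveI : Fact p.1.Prime := ⟨Nat.prime_of_mem_primeFactors p.2⟩
    exists_bound_prime A r hr p.1
  choose cp hcp using hp
  refine ⟨c₀ + ∑ p, cp p, M, hM, fun F _ _ => ?_⟩
  by_cases hMF : (M : F) = 0
  · obtain ⟨p, hp⟩ : ∃ p : M.primeFactors, (p.1 : F) = 0 := by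
      haveI := CharP.char_is_prime F (ringChar F)
      have hd : ringChar F ∣ M := (CharP.cast_eq_zero_iff F (ringChar F) M).1 hMF
      exact ⟨⟨ringChar F, Nat.mem_primeFactors.2 ⟨CharP.char_is_prime F (ringChar F), hd, hM.ne'⟩⟩,
        CharP.cast_eq_zero F (ringChar F)⟩
    obtain ⟨hfin, hle⟩ := hcp p F hp
    refine ⟨hfin, hle.trans (Nat.mul_le_mul_right _ ?_), fun h => absurd hMF h⟩
    exact (Finset.single_le_sum (fun q _ => Nat.zero_le (cp q)) (Finset.mem_univ p)).trans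
      (Nat.le_add_left _ _)
  · obtain ⟨hfin, hle⟩ := h0 F hMF
    have hle' : Nat.card (A →+* F) * Nat.card F ≤ (c₀ + ∑ p, cp p) * Nat.card F ^ r :=
      hle.trans (Nat.mul_le_mul_right _ (Nat.le_add_right _ _))
    exact ⟨hfin, (Nat.le_mul_of_pos_right _ Nat.card_pos).trans hle', fun _ => hle'⟩

end Groth.ZetaAn
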