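import Mathlib.Analysis.Complex.CauchyIntegral
import Mathlib.Analysis.Complex.Schwarz
import Mathlib.Analysis.Calculus.ParametricIntervalIntegral
import Mathlib.Analysis.Calculus.SmoothSeries
import Mathlib.Analysis.Calculus.FDeriv.Prod

/-!
Several complex variables: parameter integrals and series of differentiable functions,
and the Cauchy division operator by a power of the last variable.
-/

set_option autoImplicit false
set_option linter.style.haveILetI false

open Filter Topology Metric Set MeasureTheory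

namespace Groth.SCV

variable {E : Type*} [NormedAddCommGroup E] [NormedSpace ℂ E]

lemma norm_fderiv_le_of_bound {f : E → ℂ} {c : E} {R M : ℝ} (hR : 0 < R)
    (hd : DifferentiableOn ℂ f (ball c R)) (hb : ∀ z ∈ ball c R, ‖f z‖ ≤ M) :
    ‖fderiv ℂ f c‖ ≤ 2 * M / R := by
  refine Complex.norm_fderiv_le_div_of_mapsTo_ball hd (fun z hz => ?_) hR
  rw [mem_closedBall, dist_eq_norm]
  linarith [norm_sub_le (f z) (f c), hb z hz, hb c (mem_ball_self hR)]

/-- A uniformly summable series of differentiable functions is differentiable. -/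
theorem differentiableOn_tsum {U : Set E} (hU : IsOpen U) {f : ℕ → E → ℂ} {u : ℕ → ℝ}
    (hu : Summable u) (hd : ∀ m, DifferentiableOn ℂ (f m) U) (hb : ∀ m, ∀ z ∈ U, ‖f m z‖ ≤ u m) :
    DifferentiableOn ℂ (fun z => ∑' m, f m z) U := by
  intro z₀ hz₀
  obtain ⟨R, hR, hRU⟩ := Metric.isOpen_iff.1 hU z₀ hz₀
  have hsub : ∀ x ∈ ball z₀ (R / 2), ball x (R / 2) ⊆ U := fun x hx => by
    refine (ball_subset_ball' ?_).trans hRU
    linarith [mem_ball.1 hx]
  have hs : ball z₀ (R / 2) ⊆ U := (ball_subset_ball (by linarith)).trans hRU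
  refine (HasFDerivAt.differentiableAt (hasFDerivAt_tsum_of_isPreconnected
    (u := fun m => 2 * u m / (R / 2)) (f' := fun m x => fderiv ℂ (f m) x)
    ((hu.mul_left 2).div_const _) isOpen_ball (convex_ball _ _).isPreconnected
    (fun m x hx => ((hd m).differentiableAt (hU.mem_nhds (hs hx))).hasFDerivAt)
    (fun m x hx => norm_fderiv_le_of_bound (by linarith) ((hd m).mono (hsub x hx))
      fun z hz => hb m z (hsub x hx hz))
    (mem_ball_self (by linarith : (0 : ℝ) < R / 2))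
    (Summable.of_norm_bounded hu fun m => hb m z₀ hz₀)
    (mem_ball_self (by linarith)))).differentiableWithinAt

variable [FiniteDimensional ℂ E]

/-- An integral over an interval of a family of differentiable functions is differentiable. -/
theorem differentiableOn_integral {U : Set E} (hU : IsOpen U) {F : E → ℝ → ℂ}
    (hd : ∀ θ, DifferentiableOn ℂ (fun z => F z θ) U) (hc : ∀ z ∈ U, Continuous (F z))
    (hb : ∀ z ∈ U, ∃ M, ∀ᶠ z' in 𝓝 z, ∀ θ, ‖F z' θ‖ ≤ M) :
    DifferentiableOn ℂ (fun z => ∫ θ in (0 : ℝ)..2 * Real.pi, F z θ) U := by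
  intro z₀ hz₀
  obtain ⟨M, hM⟩ := hb z₀ hz₀
  obtain ⟨R, hR, hRU⟩ := Metric.mem_nhds_iff.1 (inter_mem (hU.mem_nhds hz₀) hM)
  have hsub : ∀ x ∈ ball z₀ (R / 2), ball x (R / 2) ⊆ ball z₀ R := fun x hx =>
    ball_subset_ball' (by linarith [mem_ball.1 hx])
  have hs : ball z₀ (R / 2) ⊆ U := fun x hx => (hRU (ball_subset_ball (by linarith) hx)).1
  let b := Module.finBasis ℂ E
  have hmeas : StronglyMeasurable fun θ => fderiv ℂ (fun z => F z θ) z₀ := by
    have hdec : (fun θ => fderiv ℂ (fun z => F z θ) z₀) = fun θ =>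
        ∑ i, (fderiv ℂ (fun z => F z θ) z₀ (b i)) • LinearMap.toContinuousLinearMap (b.coord i) := by
      funext θ
      refine ContinuousLinearMap.ext fun v => ?_
      rw [sum_apply]
      refine (congrArg (fderiv ℂ (fun z => F z θ) z₀) (b.sum_repr v).symm).trans ?_
      rw [map_sum]
      refine Finset.sum_congr rfl fun x _ => ?_
      simp [mul_comm]
    rw [hdec]
    refine Finset.stronglyMeasurable_fun_sum _ fun i _ => StronglyMeasurable.smul_const ?_ _
    have ht : Tendsto (fun m : ℕ => z₀ + ((m : ℂ) + 1)⁻¹ • b i) atTop (𝓝 z₀) := by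
      have h1 : Tendsto (fun m : ℕ => ((m : ℂ) + 1)⁻¹) atTop (𝓝 0) := by
        simpa using tendsto_one_div_add_atTop_nhds_zero_nat (𝕜 := ℂ)
      simpa using (h1.smul_const (b i)).const_add z₀
    obtain ⟨m₀, hm₀⟩ := eventually_atTop.1 (ht.eventually (hU.mem_nhds hz₀))
    refine stronglyMeasurable_of_tendsto atTop (f := fun m θ =>
      (((m + m₀ : ℕ) : ℂ) + 1) • (F (z₀ + (((m + m₀ : ℕ) : ℂ) + 1)⁻¹ • b i) θ - F z₀ θ))
      (fun m => Continuous.stronglyMeasurable (by
        have h1 := hc _ (hm₀ (m + m₀) (Nat.le_add_left _ _))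
        have h2 := hc z₀ hz₀
        fun_prop))
      (tendsto_pi_nhds.2 fun θ => ?_)
    refine ((hd θ).differentiableAt (hU.mem_nhds hz₀)).hasFDerivAt.lim (b i) ?_
    have h2 : Tendsto (fun m : ℕ => ((m + m₀ : ℕ) : ℝ) + 1) atTop atTop :=
      tendsto_atTop_add_const_right _ _ (tendsto_natCast_atTop_atTop.comp (tendsto_add_atTop_nat m₀))
    refine h2.congr fun m => ?_
    rw [← Nat.cast_add_one, ← Nat.cast_add_one, Complex.norm_natCast]
  refine (HasFDerivAt.differentiableAt (intervalIntegral.hasFDerivAt_integral_of_dominated_of_fderiv_le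
    (F' := fun z θ => fderiv ℂ (fun z => F z θ) z) (bound := fun _ => 2 * M / (R / 2))
    (s := ball z₀ (R / 2))
    (ball_mem_nhds _ (by linarith))
    (eventually_of_mem (hU.mem_nhds hz₀) fun z hz => (hc z hz).aestronglyMeasurable)
    ((hc z₀ hz₀).intervalIntegrable _ _)
    hmeas.aestronglyMeasurable
    (ae_of_all _ fun θ _ x hx => norm_fderiv_le_of_bound (by linarith)
      ((hd θ).mono fun z hz => (hRU (hsub x hx hz)).1) fun z hz => (hRU (hsub x hx hz)).2 θ)
    intervalIntegrable_const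
    (ae_of_all _ fun θ _ x hx => ((hd θ).differentiableAt (hU.mem_nhds (hs hx))).hasFDerivAt))).differentiableWithinAt

open Classical in
/-- The coefficient of `w ^ j` in the expansion in the last variable, by Cauchy's formula. -/
noncomputable def cCoeff (r : ℝ) (g : E × ℂ → ℂ) (j : ℕ) (y : E) : ℂ :=
  (2 * Real.pi * Complex.I)⁻¹ • ∮ ζ in C(0, r), g (y, ζ) / ζ ^ (j + 1)

open Classical in
/-- The quotient of `g` by `w ^ k`, by Cauchy's formula, continued outside the circle. -/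
noncomputable def cQuot (r : ℝ) (k : ℕ) (g : E × ℂ → ℂ) (z : E × ℂ) : ℂ :=
  if ‖z.2‖ < r then (2 * Real.pi * Complex.I)⁻¹ • ∮ ζ in C(0, r), g (z.1, ζ) / (ζ ^ k * (ζ - z.2))
  else (g z - ∑ j ∈ Finset.range k, cCoeff r g j z.1 * z.2 ^ j) / z.2 ^ k

section

variable {r r' : ℝ} {D : Set E} {g : E × ℂ → ℂ} {M : ℝ}

omit [FiniteDimensional ℂ E] in
lemma differentiableAt_slice (hD : IsOpen D) (hg : DifferentiableOn ℂ g (D ×ˢ ball 0 r')) {y : E}
    (hy : y ∈ D) {ζ : ℂ} (hζ : ζ ∈ ball (0 : ℂ) r') : DifferentiableAt ℂ (fun ζ => g (y, ζ)) ζ :=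
  (hg.differentiableAt ((hD.prod isOpen_ball).mem_nhds ⟨hy, hζ⟩)).comp ζ
    ((differentiableAt_const y).prodMk differentiableAt_id)

omit [FiniteDimensional ℂ E] in
lemma continuous_circle_slice (hr : 0 < r) (hrr : r < r') (hD : IsOpen D)
    (hg : DifferentiableOn ℂ g (D ×ˢ ball 0 r')) {y : E} (hy : y ∈ D) :
    Continuous fun θ => g (y, circleMap 0 r θ) := by
  refine hg.continuousOn.comp_continuous (continuous_const.prodMk (continuous_circleMap _ _))
    fun θ => ⟨hy, ?_⟩
  rw [mem_ball_zero_iff, norm_circleMap_zero, abs_of_pos hr]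
  exact hrr

/-- Differentiability of a parameter circle integral `∮ g(y,ζ) h(z,ζ)`. -/
lemma differentiableOn_circleIntegral (hr : 0 < r) (hrr : r < r') (hD : IsOpen D)
    (hg : DifferentiableOn ℂ g (D ×ˢ ball 0 r')) (hM : ∀ z ∈ D ×ˢ ball (0 : ℂ) r', ‖g z‖ ≤ M)
    {F : Type*} [NormedAddCommGroup F] [NormedSpace ℂ F] [FiniteDimensional ℂ F] {W : Set F}
    (hW : IsOpen W) (π : F →L[ℂ] E) (hπ : MapsTo π W D) (h : F → ℂ → ℂ)
    (hd : ∀ ζ ∈ sphere (0 : ℂ) r, DifferentiableOn ℂ (fun z => h z ζ) W)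
    (hc : ∀ z ∈ W, ContinuousOn (h z) (sphere 0 r))
    (hb : ∀ z ∈ W, ∃ N, ∀ᶠ z' in 𝓝 z, ∀ ζ ∈ sphere (0 : ℂ) r, ‖h z' ζ‖ ≤ N) :
    DifferentiableOn ℂ (fun z => (2 * Real.pi * Complex.I)⁻¹ • ∮ ζ in C(0, r), g (π z, ζ) * h z ζ) W := by
  have hmem : ∀ θ, circleMap 0 r θ ∈ sphere (0 : ℂ) r := fun θ => circleMap_mem_sphere 0 hr.le θ
  have hball : ∀ θ, circleMap 0 r θ ∈ ball (0 : ℂ) r' := fun θ => by
    rw [mem_ball_zero_iff, norm_circleMap_zero, abs_of_pos hr]; exact hrr
  refine DifferentiableOn.const_smul ?_ (2 * Real.pi * Complex.I : ℂ)⁻¹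
  simp only [circleIntegral, deriv_circleMap, smul_eq_mul]
  refine differentiableOn_integral hW (fun θ => ?_) (fun z hz => ?_) fun z hz => ?_
  · refine (DifferentiableOn.mul ?_ (hd _ (hmem θ))).const_mul _
    refine hg.comp (t := D ×ˢ ball (0 : ℂ) r') (π.differentiable.differentiableOn.prodMk
      (differentiableOn_const (circleMap 0 r θ))) fun z hz => ?_
    exact ⟨hπ hz, hball θ⟩
  · exact ((continuous_circleMap _ _).mul continuous_const).mul
      ((continuous_circle_slice hr hrr hD hg (hπ hz)).mul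
        ((hc z hz).comp_continuous (continuous_circleMap _ _) hmem))
  · obtain ⟨N, hN⟩ := hb z hz
    refine ⟨r * (M * N), ?_⟩
    filter_upwards [hN, hW.mem_nhds hz] with z' hz' hzW θ
    rw [norm_mul, norm_mul, norm_mul, Complex.norm_I, mul_one, norm_circleMap_zero, abs_of_pos hr]
    exact mul_le_mul_of_nonneg_left (mul_le_mul (hM (π z', circleMap 0 r θ) ⟨hπ hzW, hball θ⟩) (hz' _ (hmem θ))
      (norm_nonneg _) ((norm_nonneg _).trans (hM (π z', circleMap 0 r θ) ⟨hπ hzW, hball θ⟩))) hr.le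

lemma differentiableOn_cCoeff (hr : 0 < r) (hrr : r < r') (hD : IsOpen D)
    (hg : DifferentiableOn ℂ g (D ×ˢ ball 0 r')) (hM : ∀ z ∈ D ×ˢ ball (0 : ℂ) r', ‖g z‖ ≤ M) (j : ℕ) :
    DifferentiableOn ℂ (cCoeff r g j) D := by
  have := differentiableOn_circleIntegral hr hrr hD hg hM hD (ContinuousLinearMap.id ℂ E)
    (mapsTo_id D) (fun _ ζ => (ζ ^ (j + 1))⁻¹) (fun ζ _ => differentiableOn_const _)
    (fun z _ => (continuousOn_pow _).inv₀ fun ζ hζ =>
      pow_ne_zero _ (ne_zero_of_mem_sphere hr.ne' ⟨ζ, hζ⟩))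
    (fun z _ => ⟨(r ^ (j + 1))⁻¹, Eventually.of_forall fun _ ζ hζ => by
      rw [norm_inv, norm_pow, mem_sphere_zero_iff_norm.1 hζ]⟩)
  simp only [ContinuousLinearMap.id_apply, ← div_eq_mul_inv] at this
  exact this

omit [NormedSpace ℂ E] [FiniteDimensional ℂ E] in
lemma norm_cCoeff_le (hr : 0 < r) (hrr : r < r') (hM : ∀ z ∈ D ×ˢ ball (0 : ℂ) r', ‖g z‖ ≤ M)
    (j : ℕ) {y : E} (hy : y ∈ D) : ‖cCoeff r g j y‖ ≤ M / r ^ j := by
  refine (circleIntegral.norm_two_pi_i_inv_smul_integral_le_of_norm_le_const hr.le fun ζ hζ => ?_).trans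
    (le_of_eq (b := M / r ^ j) (a := r * (M / r ^ (j + 1))) (by field_simp; ring))
  rw [norm_div, norm_pow, mem_sphere_zero_iff_norm.1 hζ]
  gcongr
  exact hM _ ⟨hy, by rw [mem_ball_zero_iff, mem_sphere_zero_iff_norm.1 hζ]; exact hrr⟩

omit [FiniteDimensional ℂ E] in
/-- The expansion: `g = Σ_{j<k} c_j w^j + w^k Q`. -/
lemma cQuot_identity (hr : 0 < r) (hrr : r < r') (hD : IsOpen D)
    (hg : DifferentiableOn ℂ g (D ×ˢ ball 0 r')) (k : ℕ) {z : E × ℂ} (hz : z ∈ D ×ˢ ball (0 : ℂ) r') :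
    g z = (∑ j ∈ Finset.range k, cCoeff r g j z.1 * z.2 ^ j) + z.2 ^ k * cQuot r k g z := by
  by_cases hw : ‖z.2‖ < r
  · simp only [cQuot, if_pos hw]
    induction k with
    | zero =>
      simp only [Finset.range_zero, Finset.sum_empty, zero_add, pow_zero, one_mul]
      have hwb : z.2 ∈ ball (0 : ℂ) r := mem_ball_zero_iff.2 hw
      have hdiff : DifferentiableOn ℂ (fun ζ => g (z.1, ζ)) (closedBall 0 r) := fun ζ hζ =>
        (differentiableAt_slice hD hg hz.1 (closedBall_subset_ball hrr hζ)).differentiableWithinAt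
      have hc := Complex.two_pi_I_inv_smul_circleIntegral_sub_inv_smul_of_differentiable_on_off_countable
        (s := ∅) countable_empty hwb hdiff.continuousOn (fun ζ hζ =>
          differentiableAt_slice hD hg hz.1 (ball_subset_ball hrr.le hζ.1))
      simp only [smul_eq_mul] at hc ⊢
      refine hc.symm.trans ?_
      congr 1
      refine circleIntegral.integral_congr hr.le fun ζ _ => ?_
      simp [div_eq_inv_mul]
    | succ k ih =>
      have hsph : ∀ ζ ∈ sphere (0 : ℂ) r, ζ ≠ 0 ∧ ζ - z.2 ≠ 0 := fun ζ hζ => by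
        refine ⟨ne_zero_of_mem_sphere hr.ne' ⟨ζ, hζ⟩, fun h0 => ?_⟩
        rw [sub_eq_zero] at h0; rw [← h0, mem_sphere_zero_iff_norm.1 hζ] at hw; exact lt_irrefl _ hw
      have hcont : ContinuousOn (fun ζ => g (z.1, ζ)) (sphere (0 : ℂ) r) := fun ζ hζ =>
        (differentiableAt_slice hD hg hz.1
          (by rw [mem_ball_zero_iff, mem_sphere_zero_iff_norm.1 hζ]; exact hrr)).continuousAt.continuousWithinAt
      have hint1 : CircleIntegrable (fun ζ => g (z.1, ζ) / ζ ^ (k + 1)) 0 r :=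
        (hcont.div (continuousOn_pow _) fun ζ hζ => pow_ne_zero _ (hsph ζ hζ).1).circleIntegrable hr.le
      have hint2 : CircleIntegrable
          (fun ζ => z.2 * (g (z.1, ζ) / (ζ ^ (k + 1) * (ζ - z.2)))) 0 r :=
        (continuousOn_const.mul (hcont.div ((continuousOn_pow _).mul (continuousOn_id.sub continuousOn_const))
          fun ζ hζ => mul_ne_zero (pow_ne_zero _ (hsph ζ hζ).1) (hsph ζ hζ).2)).circleIntegrable hr.le
      have hsplit : (∮ ζ in C(0, r), g (z.1, ζ) / (ζ ^ k * (ζ - z.2))) =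
          (∮ ζ in C(0, r), g (z.1, ζ) / ζ ^ (k + 1)) +
            z.2 * ∮ ζ in C(0, r), g (z.1, ζ) / (ζ ^ (k + 1) * (ζ - z.2)) := by
        rw [← circleIntegral.integral_const_mul, ← circleIntegral.integral_add hint1 hint2]
        refine circleIntegral.integral_congr hr.le fun ζ hζ => ?_
        obtain ⟨h1, h2⟩ := hsph ζ hζ
        field_simp
        ring
      rw [hsplit] at ih
      rw [ih, Finset.sum_range_succ]
      simp only [smul_eq_mul, cCoeff]
      ring
  · simp only [cQuot, if_neg hw]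
    have : z.2 ≠ 0 := fun h0 => hw (by rw [h0, norm_zero]; exact hr)
    field_simp
    ring

lemma differentiableOn_cQuot (hr : 0 < r) (hrr : r < r') (hD : IsOpen D)
    (hg : DifferentiableOn ℂ g (D ×ˢ ball 0 r')) (hM : ∀ z ∈ D ×ˢ ball (0 : ℂ) r', ‖g z‖ ≤ M) (k : ℕ) :
    DifferentiableOn ℂ (cQuot r k g) (D ×ˢ ball 0 r') := by
  intro z hz
  by_cases hw : ‖z.2‖ < r
  · have hW : IsOpen (D ×ˢ ball (0 : ℂ) r) := hD.prod isOpen_ball
    have key := differentiableOn_circleIntegral hr hrr hD hg hM hW (ContinuousLinearMap.fst ℂ E ℂ)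
      (fun x hx => hx.1) (fun x ζ => (ζ ^ k * (ζ - x.2))⁻¹)
      (fun ζ hζ => ((differentiableOn_const _).mul
        ((differentiableOn_const _).sub differentiableOn_snd)).inv fun x hx => by
        have h1 := mem_sphere_zero_iff_norm.1 hζ
        refine mul_ne_zero (pow_ne_zero _ (ne_zero_of_mem_sphere hr.ne' ⟨ζ, hζ⟩)) ?_
        rw [Set.mem_prod, mem_ball_zero_iff] at hx
        intro h0; rw [sub_eq_zero] at h0; rw [← h0, h1] at hx; exact lt_irrefl _ hx.2)
      (fun x hx => ((continuousOn_pow _).mul (continuousOn_id.sub continuousOn_const)).inv₀ fun ζ hζ => by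
        have h1 := mem_sphere_zero_iff_norm.1 hζ
        refine mul_ne_zero (pow_ne_zero _ (ne_zero_of_mem_sphere hr.ne' ⟨ζ, hζ⟩)) ?_
        rw [Set.mem_prod, mem_ball_zero_iff] at hx
        intro h0; change ζ - x.2 = 0 at h0; rw [sub_eq_zero] at h0; rw [← h0, h1] at hx; exact lt_irrefl _ hx.2)
      (fun x hx => by
        rw [Set.mem_prod, mem_ball_zero_iff] at hx
        refine ⟨(r ^ k * ((r - ‖x.2‖) / 2))⁻¹, ?_⟩
        have : ∀ᶠ x' in 𝓝 x, ‖x'.2‖ < (r + ‖x.2‖) / 2 :=
          (continuous_snd.norm.tendsto x).eventually (gt_mem_nhds (by linarith [hx.2]))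
        refine this.mono fun x' hx' ζ hζ => ?_
        rw [norm_inv, norm_mul, norm_pow, mem_sphere_zero_iff_norm.1 hζ]
        have h2 : (r - ‖x.2‖) / 2 ≤ ‖ζ - x'.2‖ := by
          linarith [norm_sub_norm_le ζ x'.2, mem_sphere_zero_iff_norm.1 hζ]
        exact inv_anti₀ (mul_pos (pow_pos hr _) (by linarith [hx.2])) (by gcongr))
    have hz' : z ∈ D ×ˢ ball (0 : ℂ) r := ⟨hz.1, mem_ball_zero_iff.2 hw⟩
    refine ((key.differentiableAt (hW.mem_nhds hz')).congr_of_eventuallyEq ?_).differentiableWithinAt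
    filter_upwards [hW.mem_nhds hz'] with x hx
    simp only [cQuot, if_pos (mem_ball_zero_iff.1 hx.2), ContinuousLinearMap.coe_fst', ← div_eq_mul_inv]
    try rfl
  · have hne : z.2 ≠ 0 := fun h0 => hw (by rw [h0, norm_zero]; exact hr)
    have hU := (hD.prod (isOpen_ball (x := (0 : ℂ)) (ε := r'))).mem_nhds hz
    have hsum : DifferentiableAt ℂ
        (fun x : E × ℂ => ∑ j ∈ Finset.range k, cCoeff r g j x.1 * x.2 ^ j) z :=
      DifferentiableAt.fun_sum fun j _ =>
        (((differentiableOn_cCoeff hr hrr hD hg hM j).differentiableAt (hD.mem_nhds hz.1)).comp z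
          differentiableAt_fst).mul (differentiableAt_snd.pow j)
    refine ((((hg.differentiableAt hU).sub hsum).mul
      ((differentiableAt_snd.pow k).inv (pow_ne_zero _ hne))).congr_of_eventuallyEq ?_).differentiableWithinAt
    filter_upwards [hU, continuous_snd.continuousAt.eventually_ne hne] with x hx hx0
    have h := cQuot_identity hr hrr hD hg k hx
    simp only [Pi.sub_apply, Pi.mul_apply, Pi.inv_apply, Pi.pow_apply]
    rw [h, add_sub_cancel_left]
    field_simp

lemma norm_cQuot_le (hr : 0 < r) (hrr : r < r') (hM : ∀ z ∈ D ×ˢ ball (0 : ℂ) r', ‖g z‖ ≤ M)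
    (hD : IsOpen D) (hg : DifferentiableOn ℂ g (D ×ˢ ball 0 r')) (k : ℕ) {z : E × ℂ}
    (hz : z ∈ D ×ˢ ball (0 : ℂ) r') :
    ‖cQuot r k g z‖ ≤ (2 / r ^ k + (1 + ∑ j ∈ Finset.range k, (r' / r) ^ j) / (r / 2) ^ k) * M := by
  have hM0 : 0 ≤ M := (norm_nonneg _).trans (hM z hz)
  have hS : 0 ≤ (1 + ∑ j ∈ Finset.range k, (r' / r) ^ j) / (r / 2) ^ k :=
    div_nonneg (add_nonneg zero_le_one (Finset.sum_nonneg fun j _ => pow_nonneg (by
      exact div_nonneg (by linarith) hr.le) _)) (by positivity)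
  rw [add_mul]
  by_cases hw : ‖z.2‖ < r / 2
  · refine le_add_of_le_of_nonneg ?_ (mul_nonneg hS hM0)
    rw [cQuot, if_pos (by linarith)]
    refine (circleIntegral.norm_two_pi_i_inv_smul_integral_le_of_norm_le_const hr.le fun ζ hζ => ?_).trans
      (le_of_eq (b := 2 / r ^ k * M) (a := r * (M / (r ^ k * (r / 2)))) (by field_simp))
    rw [norm_div, norm_mul, norm_pow, mem_sphere_zero_iff_norm.1 hζ]
    have h2 : r / 2 ≤ ‖ζ - z.2‖ := by
      linarith [norm_sub_norm_le ζ z.2, mem_sphere_zero_iff_norm.1 hζ]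
    gcongr
    exact hM _ ⟨hz.1, by rw [mem_ball_zero_iff, mem_sphere_zero_iff_norm.1 hζ]; exact hrr⟩
  · push Not at hw
    have hne : z.2 ≠ 0 := fun h0 => by rw [h0, norm_zero] at hw; linarith
    refine le_add_of_nonneg_of_le (by positivity) ?_
    have h := cQuot_identity hr hrr hD hg k hz
    have h' : cQuot r k g z = (g z - ∑ j ∈ Finset.range k, cCoeff r g j z.1 * z.2 ^ j) / z.2 ^ k := by
      rw [h, add_sub_cancel_left]; field_simp
    rw [h', norm_div, norm_pow, div_mul_eq_mul_div]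
    refine div_le_div₀ (mul_nonneg (add_nonneg zero_le_one (Finset.sum_nonneg fun j _ =>
      pow_nonneg (div_nonneg (by linarith) hr.le) _)) hM0) ?_ (by positivity)
      (pow_le_pow_left₀ (by linarith) hw k)
    rw [add_mul, one_mul, Finset.sum_mul]
    refine (norm_sub_le _ _).trans (add_le_add (hM z hz) ((norm_sum_le _ _).trans
      (Finset.sum_le_sum fun j _ => ?_)))
    rw [norm_mul, norm_pow, div_pow, div_mul_eq_mul_div, ← mul_div, mul_comm (r' ^ j)]
    exact mul_le_mul (norm_cCoeff_le hr hrr hM j hz.1)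
      (pow_le_pow_left₀ (norm_nonneg _) (mem_ball_zero_iff.1 hz.2).le j) (by positivity) (by positivity)

end

end Groth.SCV
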