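import Groth.Agent.ZetaAn.SCVCauchy
import Mathlib.Analysis.Analytic.IsolatedZeros
import Mathlib.Analysis.SpecificLimits.Normed

/-! Weierstrass division for differentiable functions of several complex variables, and Hadamard's lemma. -/

set_option autoImplicit false
set_option linter.style.haveILetI false

open Filter Topology Metric Set

namespace Groth.SCV

variable {E : Type*} [NormedAddCommGroup E] [NormedSpace ℂ E] [FiniteDimensional ℂ E]

omit [FiniteDimensional ℂ E] in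
/-- A function differentiable near `0` is differentiable and bounded on a ball around `0`. -/
lemma exists_ball_bounded {f : E → ℂ} (hf : ∀ᶠ z in 𝓝 0, DifferentiableAt ℂ f z) :
    ∃ R > 0, DifferentiableOn ℂ f (ball 0 R) ∧ ∃ M, ∀ z ∈ ball (0 : E) R, ‖f z‖ ≤ M := by
  have h1 : ∀ᶠ z in 𝓝 (0 : E), ‖f z‖ < ‖f 0‖ + 1 :=
    hf.self_of_nhds.continuousAt.norm.eventually (gt_mem_nhds (lt_add_one _))
  obtain ⟨R, hR, hR'⟩ := Metric.mem_nhds_iff.1 (hf.and h1)
  exact ⟨R, hR, fun z hz => (hR' hz).1.differentiableWithinAt, _, fun z hz => (hR' hz).2.le⟩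

lemma coeff_eq_zero_of_eventuallyEq (k : ℕ) : ∀ (c : ℕ → ℂ) (h : ℂ → ℂ), ContinuousAt h 0 →
    (∀ᶠ w in 𝓝[≠] (0 : ℂ), ∑ j ∈ Finset.range k, c j * w ^ j = w ^ k * h w) → ∀ j < k, c j = 0 := by
  induction k with
  | zero => exact fun c h _ _ j hj => absurd hj (Nat.not_lt_zero j)
  | succ k ih =>
    intro c h hh hev
    have h0 : c 0 = 0 := by
      have h1 : Tendsto (fun w : ℂ => ∑ j ∈ Finset.range (k + 1), c j * w ^ j) (𝓝[≠] 0) (𝓝 (c 0)) := by
        have hc : Continuous fun w : ℂ => ∑ j ∈ Finset.range (k + 1), c j * w ^ j := by fun_prop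
        have h3 := (hc.tendsto 0).mono_left (nhdsWithin_le_nhds (s := {0}ᶜ))
        simpa [Finset.sum_range_succ'] using h3
      have h2 : Tendsto (fun w : ℂ => w ^ (k + 1) * h w) (𝓝[≠] 0) (𝓝 0) := by
        have h4 := ((continuous_pow (k + 1)).continuousAt (x := (0 : ℂ))).mul hh
        have h5 := h4.tendsto.mono_left (nhdsWithin_le_nhds (s := {0}ᶜ))
        simpa [Pi.mul_def] using h5
      exact tendsto_nhds_unique h1 (h2.congr' (hev.mono fun w hw => hw.symm))
    have hrest : ∀ j < k, c (j + 1) = 0 := by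
      refine ih (fun j => c (j + 1)) h hh ?_
      filter_upwards [hev, self_mem_nhdsWithin] with w hw hw0
      rw [Finset.sum_range_succ', h0, zero_mul, add_zero] at hw
      refine mul_left_cancel₀ (show w ≠ 0 from hw0) ?_
      rw [Finset.mul_sum, ← mul_assoc, ← pow_succ', ← hw]
      exact Finset.sum_congr rfl fun j _ => by ring
    intro j hj
    rcases j with - | j
    · exact h0
    · exact hrest j (Nat.lt_of_succ_lt_succ hj)

set_option maxHeartbeats 800000 in
/-- **Weierstrass division.** -/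
theorem exists_division {f : E × ℂ → ℂ} (hf : ∀ᶠ z in 𝓝 0, DifferentiableAt ℂ f z)
    (hne : ¬ ∀ᶠ w in 𝓝 (0 : ℂ), f (0, w) = 0) :
    ∃ k : ℕ, ∀ g : E × ℂ → ℂ, (∀ᶠ z in 𝓝 0, DifferentiableAt ℂ g z) →
      ∃ (q : E × ℂ → ℂ) (a : ℕ → E → ℂ), (∀ᶠ z in 𝓝 0, DifferentiableAt ℂ q z) ∧
        (∀ j, ∀ᶠ y in 𝓝 (0 : E), DifferentiableAt ℂ (a j) y) ∧
        ∀ᶠ z in 𝓝 (0 : E × ℂ), g z = q z * f z + ∑ j ∈ Finset.range k, a j z.1 * z.2 ^ j := by
  obtain ⟨R, hR, hfd, M, hM⟩ := exists_ball_bounded hf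
  have hprod : ∀ s : ℝ, s ≤ R → ball (0 : E) s ×ˢ ball (0 : ℂ) s ⊆ ball (0 : E × ℂ) R := by
    intro s hs
    rw [ball_prod_same, Prod.mk_zero_zero]
    exact ball_subset_ball hs
  have han : AnalyticAt ℂ (fun w => f (0, w)) 0 := by
    refine (DifferentiableOn.analyticAt (s := ball 0 R) (fun w hw => ?_) (ball_mem_nhds _ hR))
    exact (differentiableAt_slice (D := ball (0 : E) R) isOpen_ball (hfd.mono (hprod R le_rfl))
      (mem_ball_self hR) hw).differentiableWithinAt
  obtain ⟨k, u, hu, hu0, hfu⟩ := (AnalyticAt.exists_eventuallyEq_pow_smul_nonzero_iff han).2 hne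
  refine ⟨k, fun g hg => ?_⟩
  obtain ⟨Rg, hRg, hgd, Mg, hMg⟩ := exists_ball_bounded hg
  -- first radius: the expansion of `f`
  set r₀ := R / 2
  have hr₀ : 0 < r₀ := by positivity
  have hr₀R : r₀ < R := half_lt_self hR
  set D₀ := ball (0 : E) R
  have hfd₀ : DifferentiableOn ℂ f (D₀ ×ˢ ball 0 R) := hfd.mono (hprod R le_rfl)
  have hM₀ : ∀ z ∈ D₀ ×ˢ ball (0 : ℂ) R, ‖f z‖ ≤ M := fun z hz => hM z (hprod R le_rfl hz)
  set c := cCoeff r₀ f
  set e := cQuot r₀ k f
  have hed : DifferentiableOn ℂ e (D₀ ×ˢ ball 0 R) :=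
    differentiableOn_cQuot hr₀ hr₀R isOpen_ball hfd₀ hM₀ k
  have hcd : ∀ j, DifferentiableOn ℂ (c j) D₀ := differentiableOn_cCoeff hr₀ hr₀R isOpen_ball hfd₀ hM₀
  have hid : ∀ z ∈ D₀ ×ˢ ball (0 : ℂ) R,
      f z = (∑ j ∈ Finset.range k, c j z.1 * z.2 ^ j) + z.2 ^ k * e z := fun z hz =>
    cQuot_identity hr₀ hr₀R isOpen_ball hfd₀ k hz
  have he0w : ContinuousAt (fun w => e ((0 : E), w)) 0 :=
    (differentiableAt_slice isOpen_ball hed (mem_ball_self hR) (mem_ball_self hR)).continuousAt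
  have hev : ∀ᶠ w in 𝓝[≠] (0 : ℂ),
      ∑ j ∈ Finset.range k, c j 0 * w ^ j = w ^ k * (u w - e (0, w)) := by
    filter_upwards [hfu.filter_mono nhdsWithin_le_nhds,
      mem_nhdsWithin_of_mem_nhds (ball_mem_nhds (0 : ℂ) hR)] with w hw hwR
    have h := hid (0, w) ⟨mem_ball_self hR, hwR⟩
    simp only [sub_zero, smul_eq_mul] at hw
    rw [hw] at h
    linear_combination -h
  have hc0 : ∀ j < k, c j 0 = 0 :=
    coeff_eq_zero_of_eventuallyEq k (fun j => c j 0) _ (hu.continuousAt.sub he0w) hev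
  have he00 : e 0 = u 0 := by
    have h1 : ∀ᶠ w in 𝓝[≠] (0 : ℂ), u w = e (0, w) := by
      filter_upwards [hev, self_mem_nhdsWithin] with w hw hw0
      rw [Finset.sum_eq_zero fun j hj => by rw [hc0 j (Finset.mem_range.1 hj), zero_mul]] at hw
      exact sub_eq_zero.1 ((mul_eq_zero.1 hw.symm).resolve_left (pow_ne_zero _ hw0))
    exact (tendsto_nhds_unique (hu.continuousAt.tendsto.mono_left nhdsWithin_le_nhds)
      ((he0w.tendsto.mono_left nhdsWithin_le_nhds).congr' (h1.mono fun w hw => hw.symm))).symm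
  -- second radius
  have heU : ∀ᶠ z in 𝓝 (0 : E × ℂ), ‖u 0‖ / 2 < ‖e z‖ :=
    ((hed.differentiableAt ((isOpen_ball.prod isOpen_ball).mem_nhds
      ⟨mem_ball_self hR, mem_ball_self hR⟩)).continuousAt.norm).eventually
      (lt_mem_nhds (show ‖u 0‖ / 2 < ‖e 0‖ by rw [he00]; linarith [norm_pos_iff.2 hu0]))
  obtain ⟨s, hs, hse⟩ := Metric.mem_nhds_iff.1 heU
  set r' := min (min s R) (min Rg 1)
  have hr' : 0 < r' := lt_min (lt_min hs hR) (lt_min hRg one_pos)
  set r := r' / 2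
  have hr : 0 < r := by positivity
  have hrr : r < r' := half_lt_self hr'
  set K := 2 / r ^ k + (1 + ∑ j ∈ Finset.range k, (r' / r) ^ j) / (r / 2) ^ k
  have hK : 0 ≤ K := by positivity
  set ε := 1 / (2 * (K + 1))
  have hε : 0 < ε := by positivity
  have hεK : ε * K ≤ 1 / 2 := by
    rw [div_mul_eq_mul_div, one_mul, div_le_div_iff₀ (by positivity) (by positivity)]
    linarith
  have hsum : ∀ᶠ y in 𝓝 (0 : E), ∑ j ∈ Finset.range k, ‖c j y‖ < ε * (‖u 0‖ / 2) := by
    have hcont : ContinuousAt (fun y => ∑ j ∈ Finset.range k, ‖c j y‖) 0 := by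
      refine tendsto_finsetSum _ fun j _ => ?_
      exact ((hcd j).differentiableAt (ball_mem_nhds 0 hR)).continuousAt.norm
    refine hcont.eventually (gt_mem_nhds ?_)
    beta_reduce
    rw [Finset.sum_eq_zero fun j hj => by rw [hc0 j (Finset.mem_range.1 hj), norm_zero]]
    exact mul_pos hε (half_pos (norm_pos_iff.2 hu0))
  obtain ⟨δ₀, hδ₀, hδc⟩ := Metric.mem_nhds_iff.1 hsum
  set δ := min δ₀ r'
  have hδ : 0 < δ := lt_min hδ₀ hr'
  set D := ball (0 : E) δ
  set U := D ×ˢ ball (0 : ℂ) r'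
  have hUo : IsOpen U := isOpen_ball.prod isOpen_ball
  have hU0 : (0 : E × ℂ) ∈ U := ⟨mem_ball_self hδ, mem_ball_self hr'⟩
  have hUsub : ∀ {ρ : ℝ}, r' ≤ ρ → U ⊆ ball (0 : E) ρ ×ˢ ball (0 : ℂ) ρ := fun {ρ} h =>
    Set.prod_mono (ball_subset_ball ((min_le_right _ _).trans h)) (ball_subset_ball h)
  have hr's : r' ≤ s := (min_le_left _ _).trans (min_le_left _ _)
  have hr'R : r' ≤ R := (min_le_left _ _).trans (min_le_right _ _)
  have hr'g : r' ≤ Rg := (min_le_right _ _).trans (min_le_left _ _)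
  have heb : ∀ z ∈ U, ‖u 0‖ / 2 < ‖e z‖ := fun z hz => hse (by
    have := hUsub hr's hz
    rwa [ball_prod_same, Prod.mk_zero_zero] at this)
  have hene : ∀ z ∈ U, e z ≠ 0 := fun z hz h0 => by
    have := heb z hz; rw [h0, norm_zero] at this; linarith [norm_nonneg (u 0)]
  set p : E × ℂ → ℂ := fun z => (∑ j ∈ Finset.range k, c j z.1 * z.2 ^ j) / e z
  have hpd : DifferentiableOn ℂ p U := by
    simp only [p, div_eq_mul_inv]
    refine (DifferentiableOn.fun_sum fun j _ => ?_).fun_mul ((hed.mono (hUsub hr'R)).fun_inv hene)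
    exact ((hcd j).comp differentiableOn_fst fun z hz => (hUsub hr'R hz).1).mul
      (differentiableOn_snd.pow j)
  have hpb : ∀ z ∈ U, ‖p z‖ ≤ ε := by
    intro z hz
    rw [norm_div, div_le_iff₀ (by have := heb z hz; linarith [norm_nonneg (u 0)])]
    refine (norm_sum_le _ _).trans (le_trans (Finset.sum_le_sum fun j _ => ?_)
      ((hδc (ball_subset_ball (min_le_left _ _) hz.1)).le.trans
        (mul_le_mul_of_nonneg_left (heb z hz).le hε.le)))
    rw [norm_mul, norm_pow]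
    refine mul_le_of_le_one_right (norm_nonneg _) (pow_le_one₀ (norm_nonneg _) ?_)
    exact (mem_ball_zero_iff.1 hz.2).le.trans ((min_le_right _ _).trans (min_le_right _ _))
  have hgU : DifferentiableOn ℂ g U := hgd.mono fun z hz => by
    have := hUsub hr'g hz
    rwa [ball_prod_same, Prod.mk_zero_zero] at this
  have hgM : ∀ z ∈ U, ‖g z‖ ≤ Mg := fun z hz => hMg z (by
    have := hUsub hr'g hz
    rwa [ball_prod_same, Prod.mk_zero_zero] at this)
  have hMg0 : 0 ≤ Mg := (norm_nonneg _).trans (hgM 0 hU0)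
  -- the iteration
  let H : ℕ → E × ℂ → ℂ := fun m =>
    Nat.rec g (fun _ Hm => fun z => - (p z * cQuot r k Hm z)) m
  have hH : ∀ m, DifferentiableOn ℂ (H m) U ∧ ∀ z ∈ U, ‖H m z‖ ≤ Mg * (1 / 2) ^ m := by
    intro m
    induction m with
    | zero => exact ⟨hgU, fun z hz => by simpa [H] using hgM z hz⟩
    | succ m ih =>
      refine ⟨(hpd.mul (differentiableOn_cQuot hr hrr isOpen_ball ih.1 ih.2 k)).neg, fun z hz => ?_⟩
      show ‖- (p z * cQuot r k (H m) z)‖ ≤ _
      rw [norm_neg, norm_mul, pow_succ, ← mul_assoc]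
      calc ‖p z‖ * ‖cQuot r k (H m) z‖ ≤ ε * (K * (Mg * (1 / 2) ^ m)) :=
            mul_le_mul (hpb z hz) (norm_cQuot_le hr hrr ih.2 isOpen_ball ih.1 k hz) (norm_nonneg _) hε.le
        _ = (ε * K) * (Mg * (1 / 2) ^ m) := by ring
        _ ≤ (1 / 2) * (Mg * (1 / 2) ^ m) := mul_le_mul_of_nonneg_right hεK (by positivity)
        _ = _ := by ring
  have hHsucc : ∀ m z, H (m + 1) z = - (p z * cQuot r k (H m) z) := fun m z => rfl
  set b : ℕ → E → ℂ := fun j y => ∑' m, cCoeff r (H m) j y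
  set S : E × ℂ → ℂ := fun z => ∑' m, cQuot r k (H m) z
  have hsb : ∀ C : ℝ, Summable fun m : ℕ => C * (Mg * (1 / 2 : ℝ) ^ m) := fun C =>
    ((summable_geometric_two).mul_left Mg).mul_left C
  have hSd : DifferentiableOn ℂ S U := differentiableOn_tsum hUo (hsb K)
    (fun m => differentiableOn_cQuot hr hrr isOpen_ball (hH m).1 (hH m).2 k)
    (fun m z hz => norm_cQuot_le hr hrr (hH m).2 isOpen_ball (hH m).1 k hz)
  have hbd : ∀ j, DifferentiableOn ℂ (b j) D := fun j => differentiableOn_tsum isOpen_ball (hsb (r ^ j)⁻¹)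
    (fun m => differentiableOn_cCoeff hr hrr isOpen_ball (hH m).1 (hH m).2 j)
    (fun m y hy => (norm_cCoeff_le hr hrr (hH m).2 j hy).trans (le_of_eq (by ring)))
  refine ⟨fun z => S z / e z, b, ?_, fun j => ?_, ?_⟩
  · filter_upwards [hUo.mem_nhds hU0] with z hz
    simp only [div_eq_mul_inv]
    exact (hSd.differentiableAt (hUo.mem_nhds hz)).fun_mul
      (((hed.mono (hUsub hr'R)).differentiableAt (hUo.mem_nhds hz)).fun_inv (hene z hz))
  · exact (hbd j).eventually_differentiableAt (ball_mem_nhds _ hδ)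
  filter_upwards [hUo.mem_nhds hU0] with z hz
  have hb : ∀ j, HasSum (fun m => cCoeff r (H m) j z.1) (b j z.1) := fun j =>
    (Summable.of_norm_bounded (hsb (r ^ j)⁻¹) fun m =>
      (norm_cCoeff_le hr hrr (hH m).2 j hz.1).trans (le_of_eq (by ring))).hasSum
  have hS : HasSum (fun m => cQuot r k (H m) z) (S z) :=
    (Summable.of_norm_bounded (hsb K) fun m => norm_cQuot_le hr hrr (hH m).2 isOpen_ball (hH m).1 k hz).hasSum
  have hHs : Summable fun m => H m z :=
    Summable.of_norm_bounded ((summable_geometric_two).mul_left Mg) fun m => (hH m).2 z hz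
  have h1 : HasSum (fun m => H m z)
      ((∑ j ∈ Finset.range k, b j z.1 * z.2 ^ j) + z.2 ^ k * S z) := by
    have := (hasSum_sum (s := Finset.range k) fun j _ => (hb j).mul_right (z.2 ^ j)).add (hS.mul_left (z.2 ^ k))
    exact this.congr_fun fun m => cQuot_identity hr hrr isOpen_ball (hH m).1 k hz
  have h2 : HasSum (fun m => H m z) (g z + (- (p z * S z))) := by
    have h3 : HasSum (fun m => H (m + 1) z) (- (p z * S z)) :=
      ((hS.mul_left (p z)).neg).congr_fun fun m => hHsucc m z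
    exact (hasSum_nat_add_iff' 1).1 (by simpa [H] using h3)
  have h3 := h1.unique h2
  have hfz := hid z (hUsub hr'R hz)
  have hez := hene z hz
  simp only [p] at h3
  field_simp at h3 ⊢
  rw [hfz]
  linear_combination -h3

end Groth.SCV
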