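import Groth.Agent.ZetaAn.NormalizationPts
import Mathlib.Topology.IsLocalHomeomorph
import Mathlib.Topology.Algebra.Polynomial

/-! Simple roots of a monic polynomial depend on the coefficients as a local homeomorphism. -/

set_option autoImplicit false
set_option linter.style.haveILetI false

open Polynomial Topology Filter

namespace Groth.ZetaAn

variable {R B : Type*} [CommRing R] [TopologicalSpace B] (ev : B → R →+* ℂ)

lemma continuous_eval₂_pair (hev : ∀ r, Continuous fun b => ev b r) (p : R[X]) :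
    Continuous fun z : B × ℂ => p.eval₂ (ev z.1) z.2 := by
  simp only [eval₂_eq_sum_range]
  exact continuous_finsetSum _ fun i _ =>
    ((hev (p.coeff i)).comp continuous_fst).mul (continuous_snd.pow i)

/-- The simple roots form a space locally homeomorphic to the coefficients. -/
theorem isLocalHomeomorph_roots (hev : ∀ r, Continuous fun b => ev b r) (f q : R[X]) (hf : f.Monic)
    (hder : ∀ (b : B) (t : ℂ), f.eval₂ (ev b) t = 0 → q.eval₂ (ev b) t ≠ 0 →
      (derivative f).eval₂ (ev b) t ≠ 0) :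
    IsLocalHomeomorph (fun z : {z : B × ℂ // f.eval₂ (ev z.1) z.2 = 0 ∧ q.eval₂ (ev z.1) z.2 ≠ 0} =>
      z.1.1) := by
  set Z := {z : B × ℂ // f.eval₂ (ev z.1) z.2 = 0 ∧ q.eval₂ (ev z.1) z.2 ≠ 0}
  set π : Z → B := fun z => z.1.1
  have hπ : Continuous π := continuous_fst.comp continuous_subtype_val
  have hfc := continuous_eval₂_pair ev hev f
  have hqc := continuous_eval₂_pair ev hev q
  have hopen : IsOpenMap π := by
    refine isOpenMap_iff_nhds_le.2 fun z => ?_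
    obtain ⟨⟨b₀, t₀⟩, hz, hqz⟩ := z
    intro S hS
    rw [Filter.mem_map] at hS
    obtain ⟨O, hO, hzO, hOS⟩ : ∃ O : Set (B × ℂ), IsOpen O ∧ (b₀, t₀) ∈ O ∧
        ∀ w : Z, w.1 ∈ O → π w ∈ S := by
      rw [mem_nhds_iff] at hS
      obtain ⟨O', hO'S, hO', hzO'⟩ := hS
      obtain ⟨O, hO, rfl⟩ := isOpen_induced_iff.1 hO'
      exact ⟨O, hO, hzO', fun w hw => hO'S hw⟩
    obtain ⟨B₁, T₁, hB₁, hT₁, hb₁, ht₁, hsub⟩ := isOpen_prod_iff.1
      (hO.inter (isOpen_ne.preimage hqc)) b₀ t₀ ⟨hzO, hqz⟩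
    obtain ⟨ε, hε, hball⟩ := Metric.isOpen_iff.1 hT₁ t₀ ht₁
    rcases Nat.eq_zero_or_pos f.natDegree with hd | hd
    · exfalso
      have h1 : f.eval₂ (ev b₀) t₀ = 1 := by
        rw [hf.natDegree_eq_zero.1 hd, eval₂_one]
      exact one_ne_zero (h1.symm.trans hz)
    have hB₂ : IsOpen {b | ‖f.eval₂ (ev b) t₀‖ < ε ^ f.natDegree} :=
      isOpen_Iio.preimage (hfc.comp (Continuous.prodMk_left t₀)).norm
    refine mem_nhds_iff.2 ⟨B₁ ∩ {b | ‖f.eval₂ (ev b) t₀‖ < ε ^ f.natDegree}, ?_, hB₁.inter hB₂,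
      hb₁, by
        change ‖f.eval₂ (ev b₀) t₀‖ < _
        rw [show f.eval₂ (ev b₀) t₀ = 0 from hz, norm_zero]
        positivity⟩
    rintro b ⟨hb, hb'⟩
    have hm : ((f.map (ev b)).comp (X + C t₀)).Monic := (hf.map _).comp (monic_X_add_C t₀)
      (by rw [natDegree_X_add_C]; exact one_ne_zero)
    have hdeg : ((f.map (ev b)).comp (X + C t₀)).natDegree = f.natDegree := by
      rw [natDegree_comp, natDegree_X_add_C, mul_one, hf.natDegree_map]
    obtain ⟨r, hr, hrle⟩ := exists_root_pow_norm_le hm (hdeg.symm ▸ hd)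
    rw [hdeg, coeff_zero_eq_eval_zero, eval_comp, eval_add, eval_X, eval_C, zero_add, eval_map]
      at hrle
    have hrε : ‖r‖ < ε := lt_of_pow_lt_pow_left₀ _ hε.le (hrle.trans_lt hb')
    have hroot : f.eval₂ (ev b) (r + t₀) = 0 := by
      rwa [IsRoot, eval_comp, eval_add, eval_X, eval_C, eval_map] at hr
    have hmem := hsub (show (b, r + t₀) ∈ B₁ ×ˢ T₁ from ⟨hb, hball (show r + t₀ ∈ Metric.ball t₀ ε by
      rwa [Metric.mem_ball, dist_eq_norm, add_sub_cancel_right])⟩)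
    exact hOS ⟨(b, r + t₀), hroot, hmem.2⟩ hmem.1
  rw [isLocalHomeomorph_iff_isOpenEmbedding_restrict]
  rintro ⟨⟨b₀, t₀⟩, hz, hqz⟩
  let G : B × ℂ × ℂ → ℂ := fun w => ∑ k ∈ Finset.range (f.natDegree + 1),
    ev w.1 (f.coeff k) * ∑ i ∈ Finset.range k, w.2.2 ^ i * w.2.1 ^ (k - 1 - i)
  have hG : Continuous G := continuous_finsetSum _ fun k _ =>
    ((hev (f.coeff k)).comp continuous_fst).mul (continuous_finsetSum _ fun i _ =>
      ((continuous_snd.comp continuous_snd).pow i).mul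
        ((continuous_fst.comp continuous_snd).pow (k - 1 - i)))
  have hfac : ∀ b t t', f.eval₂ (ev b) t' - f.eval₂ (ev b) t = (t' - t) * G (b, t, t') := by
    intro b t t'
    simp only [G, eval₂_eq_sum_range, ← Finset.sum_sub_distrib, Finset.mul_sum]
    refine Finset.sum_congr rfl fun k _ => ?_
    rw [← mul_sub, ← geom_sum₂_mul t' t k]
    simp only [Finset.sum_mul, Finset.mul_sum]
    exact Finset.sum_congr rfl fun i _ => by ring
  have hG0 : G (b₀, t₀, t₀) ≠ 0 := by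
    refine fun h0 => hder b₀ t₀ hz hqz ?_
    rw [eval₂_eq_eval_map, ← derivative_map, derivative_eval,
      sum_over_range' _ (fun n => by simp) (f.natDegree + 1) (by rw [hf.natDegree_map]; omega)]
    rw [← h0]
    refine Finset.sum_congr rfl fun k _ => ?_
    simp only [coeff_map]
    rw [geom_sum₂_self]
    ring
  obtain ⟨B₀, T, hB₀, hT, hb₀, ht₀, hsub⟩ := isOpen_prod_iff.1
    (isOpen_ne.preimage hG) b₀ (t₀, t₀) hG0
  obtain ⟨T₁, T₂, hT₁, hT₂, ht₁, ht₂, hT12⟩ := isOpen_prod_iff.1 hT t₀ t₀ ht₀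
  let N : Set Z := {w | w.1.1 ∈ B₀ ∧ w.1.2 ∈ T₁ ∧ w.1.2 ∈ T₂}
  have hN : IsOpen N := (hB₀.preimage hπ).inter
    ((hT₁.inter hT₂).preimage (continuous_snd.comp continuous_subtype_val))
  refine ⟨N, hN.mem_nhds ⟨hb₀, ht₁, ht₂⟩, ?_⟩
  refine IsOpenEmbedding.of_continuous_injective_isOpenMap (hπ.comp continuous_subtype_val) ?_
    (hopen.comp hN.isOpenMap_subtype_val)
  rintro ⟨⟨⟨b, t⟩, h1, h1'⟩, hb, htT, -⟩ ⟨⟨⟨b', t'⟩, h2, h2'⟩, hb', -, htT'⟩
  intro hbb
  obtain rfl : b = b' := hbb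
  have h3 := hfac b t t'
  rw [show f.eval₂ (ev b) t = 0 from h1, show f.eval₂ (ev b) t' = 0 from h2, sub_self] at h3
  have h4 : G (b, t, t') ≠ 0 := hsub (show (b, t, t') ∈ B₀ ×ˢ T from ⟨hb, hT12 ⟨htT, htT'⟩⟩)
  have h5 : t = t' := (sub_eq_zero.1 ((mul_eq_zero.1 h3.symm).resolve_right h4)).symm
  subst h5
  rfl

end Groth.ZetaAn
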