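import Groth.Agent.ZetaAn.CurvePoints
import Mathlib

/-! A hypersurface through a smooth rational point has many rational points, by slicing. -/

set_option autoImplicit false
set_option linter.style.haveILetI false

open Polynomial
open scoped Polynomial.Bivariate

namespace Groth.ZetaAn

variable {F : Type*} [Field F]

/-- Bidegree bound. -/
def Bd (D : ℕ) (g : F[X][Y]) : Prop := g.natDegree ≤ D ∧ ∀ i, (g.coeff i).natDegree ≤ D

lemma Bd.mono {a b : ℕ} {g : F[X][Y]} (h : Bd a g) (hab : a ≤ b) : Bd b g :=
  ⟨h.1.trans hab, fun i => (h.2 i).trans hab⟩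

lemma Bd.sum {ι : Type*} {a : ℕ} (s : Finset ι) {g : ι → F[X][Y]} (h : ∀ i ∈ s, Bd a (g i)) :
    Bd a (∑ i ∈ s, g i) :=
  ⟨natDegree_sum_le_of_forall_le s g fun i hi => (h i hi).1, fun j => by
    rw [finsetSum_coeff]
    exact natDegree_sum_le_of_forall_le s _ fun i hi => (h i hi).2 j⟩

lemma Bd.const {a : ℕ} (c : F) : Bd a (C (C c) : F[X][Y]) :=
  ⟨by simp, fun i => by rcases i with _ | i <;> simp [coeff_C]⟩

lemma Bd.mul {a b : ℕ} {f g : F[X][Y]} (hf : Bd a f) (hg : Bd b g) : Bd (a + b) (f * g) :=
  ⟨natDegree_mul_le.trans (add_le_add hf.1 hg.1), fun i => by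
    rw [coeff_mul]
    exact natDegree_sum_le_of_forall_le _ _ fun p _ =>
      natDegree_mul_le.trans (add_le_add (hf.2 _) (hg.2 _))⟩

lemma Bd.prod {ι : Type*} (s : Finset ι) {g : ι → F[X][Y]} {e : ι → ℕ}
    (h : ∀ i ∈ s, Bd 1 (g i)) : Bd (∑ i ∈ s, e i) (∏ i ∈ s, g i ^ e i) := by
  classical
  induction s using Finset.induction_on with
  | empty => simpa using Bd.const (F := F) (a := 0) 1
  | insert a s has ih =>
    rw [Finset.sum_insert has, Finset.prod_insert has]
    refine Bd.mul ?_ (ih fun i hi => h i (Finset.mem_insert_of_mem hi))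
    have ha := h a (Finset.mem_insert_self a s)
    induction e a with
    | zero => simpa using Bd.const (F := F) (a := 0) 1
    | succ m ihm => rw [pow_succ]; exact ihm.mul ha

lemma bd_aeval {σ : Type*} {D : ℕ} (f : MvPolynomial σ F) (hf : f.totalDegree ≤ D)
    (g : σ → F[X][Y]) (hg : ∀ i, Bd 1 (g i)) : Bd D (MvPolynomial.aeval g f) := by
  rw [MvPolynomial.aeval_def, MvPolynomial.eval₂_eq]
  refine Bd.sum _ fun d hd => ?_
  have h1 : Bd (∑ i ∈ d.support, d i) (∏ i ∈ d.support, g i ^ d i) := Bd.prod _ fun i _ => hg i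
  rw [show algebraMap F F[X][Y] (MvPolynomial.coeff d f) = C (C (MvPolynomial.coeff d f)) from rfl]
  refine ((Bd.const (a := 0) _).mul h1).mono ?_
  rw [zero_add]
  exact (MvPolynomial.le_totalDegree hd).trans hf

variable {σ : Type*}

lemma derivative_aeval_line [DecidableEq σ] (v : σ → F) (i₀ : σ) (f : MvPolynomial σ F) :
    (derivative (MvPolynomial.aeval (fun i => C (v i) + if i = i₀ then X else 0) f)).eval 0 =
      MvPolynomial.eval v (MvPolynomial.pderiv i₀ f) := by
  have hev : ∀ p : MvPolynomial σ F,
      (MvPolynomial.aeval (fun i => C (v i) + if i = i₀ then X else 0) p : F[X]).eval 0 =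
        MvPolynomial.eval v p := by
    intro p
    induction p using MvPolynomial.induction_on with
    | C a => simp
    | add p q hp hq => simp [hp, hq]
    | mul_X p i hp => rcases eq_or_ne i i₀ with rfl | hi <;> simp [hp, *]
  induction f using MvPolynomial.induction_on with
  | C a => simp
  | add p q hp hq => simp [hp, hq]
  | mul_X p i hp =>
    rcases eq_or_ne i i₀ with rfl | hi
    · simp [derivative_mul, hp, hev, MvPolynomial.pderiv_X_self]
      ring
    · simp [derivative_mul, hp, hev, MvPolynomial.pderiv_X_of_ne hi, hi]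
      try ring

/-- The threshold of the slicing bound. -/
def sliceQ (D : ℕ) : ℕ := curveQ D + 4 * D

/-- Zeros of `f` off `h = 0`. -/
def offZeros {n : ℕ} (f h : MvPolynomial (Option (Fin n)) F) : Set (Option (Fin n) → F) :=
  {v | MvPolynomial.eval v f = 0 ∧ MvPolynomial.eval v h ≠ 0}

theorem pow_le_hypersurface_points [Finite F] {D n : ℕ} (hq : sliceQ D ≤ Nat.card F)
    (f h : MvPolynomial (Option (Fin n)) F) (hf : f.totalDegree ≤ D) (hh : h.totalDegree ≤ D)
    (v₀ : Option (Fin n) → F) (hf0 : MvPolynomial.eval v₀ f = 0)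
    (hf1 : MvPolynomial.eval v₀ (MvPolynomial.pderiv none f) ≠ 0)
    (hh0 : MvPolynomial.eval v₀ h ≠ 0) :
    Nat.card F ^ n ≤ (4 * D + 1) * (offZeros f h).ncard := by
  classical
  cases n with
  | zero =>
    have : 1 ≤ (offZeros f h).ncard := (Set.ncard_pos (Set.toFinite _)).2 ⟨v₀, hf0, hh0⟩
    simp only [pow_zero]
    calc 1 ≤ (offZeros f h).ncard := this
      _ ≤ (4 * D + 1) * (offZeros f h).ncard := Nat.le_mul_of_pos_left _ (by omega)
  | succ r =>
    haveI := Fintype.ofFinite F
    let τ : (Fin r → F) → Option (Fin (r + 1)) → F[X][Y] := fun b i =>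
      i.elim (C (C (v₀ none)) + Y) fun j => C (C (v₀ (some j)) + C ((Fin.cons 1 b : Fin (r + 1) → F) j) * X)
    let pt : (Fin r → F) → F → F → Option (Fin (r + 1)) → F := fun b c t i =>
      i.elim (v₀ none + t) fun j => v₀ (some j) + (Fin.cons 1 b : Fin (r + 1) → F) j * c
    have hτ : ∀ b i, Bd 1 (τ b i) := by
      rintro b (_ | j)
      · exact ⟨by simp [τ], fun i => by rcases i with _ | _ | i <;> simp [τ, coeff_C, coeff_X]⟩
      · refine ⟨by simp [τ, ← map_mul], fun i => ?_⟩
        rcases i with _ | i
        · simp only [τ, Option.elim_some, coeff_C_zero]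
          exact (natDegree_add_le _ _).trans (max_le (by simp) (natDegree_C_mul_le _ _|>.trans natDegree_X_le))
        · simp [τ, coeff_C]
    have hpt : ∀ b c t (p : MvPolynomial (Option (Fin (r + 1))) F),
        aevalAeval c t (MvPolynomial.aeval (τ b) p) = MvPolynomial.eval (pt b c t) p := by
      intro b c t p
      have : (aevalAeval (R := F) c t).comp (MvPolynomial.aeval (τ b)) = MvPolynomial.aeval (pt b c t) := by
        apply MvPolynomial.algHom_ext
        rintro (_ | j) <;> simp [τ, pt]
      exact (DFunLike.congr_fun this p).trans (by rw [← MvPolynomial.coe_aeval_eq_eval]; rfl)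
    have hline : ∀ b (p : MvPolynomial (Option (Fin (r + 1))) F),
        (MvPolynomial.aeval (τ b) p).map (evalRingHom 0) =
          MvPolynomial.aeval (fun i => C (v₀ i) + if i = none then X else 0) p := by
      intro b p
      have : (Polynomial.mapAlgHom (aeval (0 : F))).comp (MvPolynomial.aeval (τ b)) =
          MvPolynomial.aeval (fun i => C (v₀ i) + if i = none then X else 0) := by
        apply MvPolynomial.algHom_ext
        rintro (_ | j) <;> simp [τ]
      rw [← DFunLike.congr_fun this p]
      simp only [AlgHom.comp_apply, coe_mapAlgHom]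
      congr 1
    let Sb : (Fin r → F) → Set F := fun b =>
      {c | ∃ t : F, aevalAeval c t (MvPolynomial.aeval (τ b) f) = 0 ∧
        aevalAeval c t (MvPolynomial.aeval (τ b) h) ≠ 0}
    have hb : ∀ b, Nat.card F ≤ 4 * D * (Sb b \ {0}).ncard := by
      intro b
      have hev0 : ∀ p, ((MvPolynomial.aeval (τ b) p).coeff 0).eval 0 = MvPolynomial.eval v₀ p := by
        intro p
        rw [← coe_evalRingHom, ← coeff_map, hline, coeff_zero_eq_eval_zero]
        induction p using MvPolynomial.induction_on with
        | C a => simp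
        | add p q hp hq => simp [hp, hq]
        | mul_X p i hp => rcases i with _ | i <;> simp [hp]
      have h1 : ((MvPolynomial.aeval (τ b) f).coeff 1).eval 0 ≠ 0 := by
        have e := derivative_aeval_line v₀ none f
        rw [← coeff_zero_eq_eval_zero, coeff_derivative] at e
        rw [← coe_evalRingHom, ← coeff_map, hline]
        intro h0
        apply hf1
        rw [← e, zero_add, h0, zero_mul]
      have hc := card_le_curve_points F (D := D) (le_trans (Nat.le_add_right _ _) hq) _ _
        (bd_aeval f hf _ (hτ b)) (bd_aeval h hh _ (hτ b)) (by rw [hev0, hf0]) h1 (by rw [hev0]; exact hh0)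
      have h2 : (Sb b).ncard ≤ (Sb b \ {0}).ncard + 1 := by
        refine (Set.ncard_le_ncard (t := (Sb b \ {0}) ∪ {0}) (fun c hc => ?_) (Set.toFinite _)).trans
          ((Set.ncard_union_le _ _).trans (by rw [Set.ncard_singleton]))
        by_cases h : c = 0
        · exact Or.inr h
        · exact Or.inl ⟨hc, h⟩
      have h3 : Nat.card F ≤ 2 * D * ((Sb b \ {0}).ncard + 1) := hc.trans (Nat.mul_le_mul le_rfl h2)
      have h4 : 4 * D ≤ Nat.card F := le_trans (Nat.le_add_left _ _) hq
      linarith
    let W := (b : Fin r → F) × ↥(Sb b \ {0})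
    let Φ : W → ↥(offZeros f h) := fun w =>
      ⟨pt w.1 w.2.1 (Classical.choose w.2.2.1), by
        have := Classical.choose_spec w.2.2.1
        rw [hpt, hpt] at this
        exact this⟩
    have hΦ : Function.Injective Φ := by
      rintro ⟨b, c, hc⟩ ⟨b', c', hc'⟩ he
      have he' := congrArg Subtype.val he
      have h0 : c = c' := by simpa [Φ, pt] using congrFun he' (some 0)
      subst h0
      have hbb : b = b' := funext fun j => mul_right_cancel₀ (show c ≠ 0 from hc.2)
        (by simpa [Φ, pt] using congrFun he' (some j.succ))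
      subst hbb
      rfl
    have hcard := Nat.card_le_card_of_injective Φ hΦ
    rw [Nat.card_sigma, Nat.card_coe_set_eq] at hcard
    simp only [Nat.card_coe_set_eq] at hcard
    calc Nat.card F ^ (r + 1) = ∑ _b : Fin r → F, Nat.card F := by
          rw [Finset.sum_const, Finset.card_univ, Fintype.card_fun, Fintype.card_fin,
            ← Nat.card_eq_fintype_card, smul_eq_mul, pow_succ]
      _ ≤ ∑ b : Fin r → F, 4 * D * (Sb b \ {0}).ncard := Finset.sum_le_sum fun b _ => hb b
      _ ≤ (4 * D + 1) * (offZeros f h).ncard := by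
          rw [← Finset.mul_sum]
          exact Nat.mul_le_mul (Nat.le_succ _) hcard

end Groth.ZetaAn
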