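import Groth.Agent.ZetaAn.EtaleLH
import Groth.Agent.ZetaAn.Growth
import Groth.Prelude.Def_AnHol

/-!
Affine charts at a complex point: the section ring as a finitely generated ℂ-algebra whose
characters are the complex points of the chart.
-/

set_option autoImplicit false
set_option linter.style.haveILetI false

open CategoryTheory AlgebraicGeometry Topology TopologicalSpace Filter

namespace Groth.ZetaAn

open An

variable {X : Scheme.{0}} [X.Over An.SC]

/-- The ℂ-algebra structure on the sections over an open. -/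
noncomputable abbrev algSec (W : X.Opens) : Algebra ℂ Γ(X, W) :=
  ((X.presheaf.map (homOfLE le_top : W ⟶ ⊤).op).hom.comp (strHom X)).toAlgebra

lemma ev_algebraMap (W : X.Opens) (y : Pts X) (hy : y.pt ∈ W) (c : ℂ) :
    letI := algSec W
    y.ev W hy (algebraMap ℂ Γ(X, W) c) = c := by
  show y.ev W hy (X.presheaf.map (homOfLE le_top : W ⟶ ⊤).op (strHom X c)) = c
  rw [evTop_res, evTop_strHom]

/-- The character of a point of a chart. -/
noncomputable def evAlgHom (W : X.Opens) (y : Pts X) (hy : y.pt ∈ W) :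
    letI := algSec W
    Γ(X, W) →ₐ[ℂ] ℂ :=
  letI := algSec W
  { evHom y W hy with commutes' := ev_algebraMap W y hy }

lemma evAlgHom_apply (W : X.Opens) (y : Pts X) (hy : y.pt ∈ W) (a : Γ(X, W)) :
    letI := algSec W
    evAlgHom W y hy a = y.ev W hy a := rfl

lemma finiteType_algSec [LocallyOfFiniteType (X ↘ SC)] {W : X.Opens} (hW : IsAffineOpen W) :
    letI := algSec W
    Algebra.FiniteType ℂ Γ(X, W) := by
  letI := algSec W
  have h := (X ↘ SC).finiteType_appLE (isAffineOpen_top SC) hW (by simp)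
  have h2 := h.comp (RingHom.FiniteType.of_surjective _
    (ConcreteCategory.bijective_of_isIso (Scheme.ΓSpecIso (CommRingCat.of ℂ)).inv).2)
  rw [← RingHom.finiteType_algebraMap]
  exact h2

lemma exists_pts_of_algHom {W : X.Opens} (hW : IsAffineOpen W) :
    letI := algSec W
    ∀ φ : Γ(X, W) →ₐ[ℂ] ℂ, ∃ (y : Pts X) (hy : y.pt ∈ W), ∀ a, y.ev W hy a = φ a := by
  letI := algSec W
  intro φ
  let p : Pts SC := ⟨𝟙 SC, by simp⟩
  obtain ⟨y, hy, -, h⟩ := exists_pts_of_hom (X ↘ SC) (isAffineOpen_top SC) hW (by simp) p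
    (Opens.mem_top _) φ.toRingHom (RingHom.ext fun a => by
      obtain ⟨c, rfl⟩ :=
        (ConcreteCategory.bijective_of_isIso (Scheme.ΓSpecIso (CommRingCat.of ℂ)).inv).2 a
      refine (φ.commutes c).trans ?_
      show c = p.evTop ((Scheme.ΓSpecIso (CommRingCat.of ℂ)).inv c)
      rw [evTop_eq]
      simp [p])
  exact ⟨y, hy, h⟩

/-- Characters near the character of `x` are those of points near `x`. -/
lemma eventually_of_evNhds {W : X.Opens} (hW : IsAffineOpen W) {x : Pts X} (hx : x.pt ∈ W)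
    {P : Pts X → Prop} (hP : ∀ᶠ y in 𝓝 x, P y) :
    letI := algSec W
    ∀ᶠ ψ in evNhds (evAlgHom W x hx),
      ∃ (y : Pts X) (hy : y.pt ∈ W), evAlgHom W y hy = ψ ∧ P y := by
  letI := algSec W
  choose y hy hyψ using exists_pts_of_algHom (X := X) hW
  have ht : Tendsto (fun ψ => (⟨y ψ, hy ψ⟩ : {y : Pts X // y.pt ∈ W})) (evNhds (evAlgHom W x hx))
      (𝓝 ⟨x, hx⟩) := by
    rw [(isInducing_ev hW).tendsto_nhds_iff]
    refine tendsto_pi_nhds.2 fun a => ?_
    simp only [Function.comp_apply, hyψ]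
    exact tendsto_evNhds _ a
  refine ((((continuous_subtype_val.tendsto _).comp ht).eventually hP)).mono fun ψ h => ?_
  exact ⟨y ψ, hy ψ, AlgHom.ext fun a => hyψ ψ a, h⟩

lemma ker_evAlgHom {W : X.Opens} (hW : IsAffineOpen W) {x : Pts X} (hx : x.pt ∈ W) :
    letI := algSec W
    RingHom.ker (evAlgHom W x hx) = (hW.primeIdealOf ⟨x.pt, hx⟩).asIdeal := by
  letI := algSec W
  ext a
  have h1 : x.pt ∈ X.basicOpen a ↔ x.ev W hx a ≠ 0 := mem_basicOpen_iff x hx a
  have h2 : x.pt ∈ X.basicOpen a ↔ a ∉ (hW.primeIdealOf ⟨x.pt, hx⟩).asIdeal := by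
    rw [← PrimeSpectrum.mem_basicOpen, ← hW.fromSpec_preimage_basicOpen]
    show _ ↔ hW.fromSpec (hW.primeIdealOf ⟨x.pt, hx⟩) ∈ X.basicOpen a
    rw [hW.fromSpec_primeIdealOf]
  rw [RingHom.mem_ker, evAlgHom_apply]
  exact not_iff_not.1 (h1.symm.trans h2)

lemma exists_affine_chart (x : Pts X) : ∃ W : X.Opens, IsAffineOpen W ∧ x.pt ∈ W := by
  obtain ⟨_, ⟨U', hU, rfl⟩, hxU, -⟩ :=
    (X.isBasis_affineOpens).exists_subset_of_mem_open (Set.mem_univ x.pt) isOpen_univ
  exact ⟨U', hU, hxU⟩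

end Groth.ZetaAn
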